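import Cfsg.Agent.Lib.Char.Ortho
import Mathlib.RingTheory.IntegralClosure.IntegrallyClosed
import Mathlib.RingTheory.Polynomial.RationalRoot
import Mathlib.RingTheory.Finiteness.Finsupp

/-!
# Integrality of central character values, the degree divides the group order
-/

namespace CfsgLib.Char

open Module
open scoped ComplexConjugate

variable {G : Type*} [Group G]

section Rep

variable {V : Type*} [AddCommGroup V] [Module ℂ V] [FiniteDimensional ℂ V]

/-- An element commuting with the image of an irreducible representation is a scalar. -/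
theorem exists_eq_smul_id (ρ : Representation ℂ G V) [ρ.IsIrreducible] (T : V →ₗ[ℂ] V)
    (h : ∀ g, T ∘ₗ ρ g = ρ g ∘ₗ T) : ∃ c : ℂ, T = c • LinearMap.id := by
  obtain ⟨c, hc⟩ := (Representation.IsIrreducible.algebraMap_intertwiningMap_bijective_of_isAlgClosed
    (ρ := ρ)).2 ⟨T, h⟩
  exact ⟨c, (congrArg Representation.IntertwiningMap.toLinearMap hc).symm⟩

variable [Fintype G]

/-- A conjugacy class sum acts as the scalar `|C| χ(g) / χ(1)`, an algebraic integer. -/
theorem classSum_eq_smul (ρ : Representation ℂ G V) [ρ.IsIrreducible] (g : G)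
    [DecidablePred (IsConj g)] :
    ∑ x ∈ Finset.univ.filter (IsConj g), ρ x =
        ((Nat.card {x : G // IsConj g x} : ℂ) * ρ.character g / finrank ℂ V) • LinearMap.id ∧
      IsIntegral ℤ ((Nat.card {x : G // IsConj g x} : ℂ) * ρ.character g / finrank ℂ V) := by
  set T := ∑ x ∈ Finset.univ.filter (IsConj g), ρ x with hT
  obtain ⟨c, hc⟩ := exists_eq_smul_id ρ T fun y => by
    rw [hT, ← Module.End.mul_eq_comp, ← Module.End.mul_eq_comp, Finset.sum_mul, Finset.mul_sum]
    refine Finset.sum_equiv (MulAut.conj y⁻¹).toEquiv (fun x => ?_) fun x _ => ?_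
    · simp only [Finset.mem_filter, Finset.mem_univ, true_and, MulEquiv.coe_toEquiv]
      have e : IsConj x (MulAut.conj y⁻¹ x) := isConj_iff.mpr ⟨y⁻¹, by simp⟩
      exact ⟨fun h => h.trans e, fun h => h.trans e.symm⟩
    · simp [← map_mul, mul_assoc]
  have hn : (finrank ℂ V : ℂ) ≠ 0 := by exact_mod_cast (finrank_pos_of_irreducible ρ).ne'
  have htr : (Nat.card {x : G // IsConj g x} : ℂ) * ρ.character g = c * finrank ℂ V := by
    have h := congrArg (LinearMap.trace ℂ V) hc
    simp only [hT, map_sum, map_smul, LinearMap.trace_id, smul_eq_mul] at h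
    rw [← h, Finset.sum_congr rfl fun x hx => show LinearMap.trace ℂ V (ρ x) = ρ.character g from
      (isClassFunction_iff.mp (isClassFunction_of_isCharacter (isCharacter_char ρ)) g x
        (Finset.mem_filter.mp hx).2).symm]
    rw [Finset.sum_const, nsmul_eq_mul, Nat.card_eq_fintype_card, Fintype.card_subtype]
  have hc' : (Nat.card {x : G // IsConj g x} : ℂ) * ρ.character g / finrank ℂ V = c := by
    rw [htr, mul_div_assoc, div_self hn, mul_one]
  rw [hc']
  refine ⟨hc, ?_⟩
  let L : MonoidAlgebra ℤ G →ₐ[ℤ] Module.End ℂ V := MonoidAlgebra.lift ℤ (Module.End ℂ V) G ρ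
  have hL : L (∑ x ∈ Finset.univ.filter (IsConj g), MonoidAlgebra.of ℤ G x) =
      algebraMap ℂ (Module.End ℂ V) c := by
    simp only [L, map_sum, MonoidAlgebra.lift_of]
    exact hc
  have hint : IsIntegral ℤ (algebraMap ℂ (Module.End ℂ V) c) :=
    hL ▸ (IsIntegral.of_finite ℤ _).map L
  have : Nontrivial V := Module.finrank_pos_iff.mp (finrank_pos_of_irreducible ρ)
  exact (isIntegral_algebraMap_iff (FaithfulSMul.algebraMap_injective ℂ (Module.End ℂ V))).mp hint

end Rep

variable [Fintype G]

/-- `|C| χ(g) / χ(1)` is an algebraic integer. -/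
theorem isIntegral_classSize_mul_div {χ : G → ℂ} (hχ : Cfsg.IsIrrCharacter G χ) (g : G) :
    IsIntegral ℤ ((Nat.card {x : G // IsConj g x} : ℂ) * χ g / χ 1) := by
  classical
  obtain ⟨n, ρ, hirr, rfl⟩ := hχ
  simpa using (classSum_eq_smul ρ g).2

/-- The number of conjugates of `g` is the index of its centralizer. -/
theorem card_isConj_eq_index (g : G) :
    Nat.card {x : G // IsConj g x} = (Subgroup.centralizer ({g} : Set G)).index := by
  have h := card_isConj_mul_card_centralizer g
  rw [← (Subgroup.centralizer ({g} : Set G)).index_mul_card] at h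
  exact Nat.eq_of_mul_eq_mul_right Nat.card_pos h

theorem isIntegral_index_mul_div {χ : G → ℂ} (hχ : Cfsg.IsIrrCharacter G χ) (g : G) :
    IsIntegral ℤ (((Subgroup.centralizer ({g} : Set G)).index : ℂ) * χ g / χ 1) :=
  card_isConj_eq_index g ▸ isIntegral_classSize_mul_div hχ g

omit [Fintype G] in
/-- A rational algebraic integer is an integer. -/
theorem exists_int_of_isIntegral_rat {q : ℚ} (h : IsIntegral ℤ (q : ℂ)) : ∃ z : ℤ, q = z := by
  have h' : IsIntegral ℤ q :=
    (isIntegral_algebraMap_iff (R := ℤ) (FaithfulSMul.algebraMap_injective ℚ ℂ)).mp (by simpa using h)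
  obtain ⟨z, hz⟩ := IsIntegrallyClosed.isIntegral_iff.mp h'
  exact ⟨z, by simpa using hz.symm⟩

omit [Fintype G] in
theorem dvd_of_isIntegral_div {a b : ℕ} (hb : b ≠ 0) (h : IsIntegral ℤ ((a : ℂ) / b)) : b ∣ a := by
  obtain ⟨z, hz⟩ := exists_int_of_isIntegral_rat (q := (a : ℚ) / b) (by simpa using h)
  have : (a : ℤ) = z * b := by
    have h2 : (a : ℚ) = z * b := by rw [← hz]; field_simp
    exact_mod_cast h2
  exact Int.natCast_dvd_natCast.mp ⟨z, by rw [this, mul_comm]⟩

/-- The degree of an irreducible character divides the group order. -/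
theorem degree_dvd_card {χ : G → ℂ} (hχ : Cfsg.IsIrrCharacter G χ) {n : ℕ} (hn : χ 1 = n) :
    n ∣ Nat.card G := by
  classical
  have : Finite (ConjClasses G) := Finite.of_surjective _ ConjClasses.mk_surjective
  have := Fintype.ofFinite (ConjClasses G)
  have hn0 : n ≠ 0 := fun h => irr_one_ne_zero hχ (by simp [hn, h])
  refine dvd_of_isIntegral_div hn0 ?_
  have h1 : ∑ g : G, χ g * conj (χ g) = (Nat.card G : ℂ) := by
    rw [← card_mul_classInner, classInner_irr_self hχ, mul_one]
  rw [← h1, ← Finset.sum_fiberwise Finset.univ ConjClasses.mk, Finset.sum_div]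
  refine IsIntegral.sum _ fun C _ => ?_
  obtain ⟨g, rfl⟩ := ConjClasses.mk_surjective C
  have hset : (Finset.univ.filter fun x => ConjClasses.mk x = ConjClasses.mk g) =
      Finset.univ.filter (IsConj g) := by
    ext x
    simp only [Finset.mem_filter, Finset.mem_univ, true_and, ConjClasses.mk_eq_mk_iff_isConj]
    exact isConj_comm
  have hval : ∀ x ∈ Finset.univ.filter (IsConj g), χ x * conj (χ x) = χ g * conj (χ g) := by
    intro x hx
    rw [isClassFunction_iff.mp (isClassFunction_of_isIrr hχ) g x (Finset.mem_filter.mp hx).2]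
  rw [hset, Finset.sum_congr rfl hval, Finset.sum_const, nsmul_eq_mul]
  have h2 := (isIntegral_classSize_mul_div hχ g).mul
    (show IsIntegral ℤ (conj (χ g)) by
      rw [← char_inv (isCharacter_of_isIrr hχ)]
      exact char_isIntegral (isCharacter_of_isIrr hχ) _)
  rw [Nat.card_eq_fintype_card, Fintype.card_subtype, hn] at h2
  convert h2 using 1
  ring

theorem degree_dvd_card' {V : Type*} [AddCommGroup V] [Module ℂ V] [FiniteDimensional ℂ V]
    (ρ : Representation ℂ G V) [ρ.IsIrreducible] : finrank ℂ V ∣ Nat.card G :=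
  degree_dvd_card (isIrrCharacter_char ρ) ρ.char_one

end CfsgLib.Char
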