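import Cfsg.Agent.Lib.Char.Integral

/-!
# Class algebra constants, commutators, square roots
-/

namespace CfsgLib.Char

open Module
open scoped ComplexConjugate

variable {G : Type*} [Group G] [Fintype G]

/-- `∑_b χ(b x b⁻¹ y) = |G| χ(x) χ(y) / χ(1)`. -/
theorem sum_char_conj_mul {χ : G → ℂ} (hχ : Cfsg.IsIrrCharacter G χ) (x y : G) :
    ∑ b : G, χ (b * x * b⁻¹ * y) = (Nat.card G : ℂ) * χ x * χ y / χ 1 := by
  obtain ⟨n, ρ, hirr, rfl⟩ := hχ
  obtain ⟨c, hc⟩ := exists_eq_smul_id ρ (∑ b : G, ρ (b * x * b⁻¹)) fun g => by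
    rw [← Module.End.mul_eq_comp, ← Module.End.mul_eq_comp, Finset.sum_mul, Finset.mul_sum]
    refine Fintype.sum_equiv (Equiv.mulLeft g⁻¹) _ _ fun b => ?_
    simp [← map_mul, mul_assoc]
  have hn : ρ.character 1 ≠ 0 := irr_one_ne_zero ⟨n, ρ, hirr, rfl⟩
  have h1 : (Nat.card G : ℂ) * ρ.character x = c * ρ.character 1 := by
    have h := congrArg (LinearMap.trace ℂ _) hc
    simp only [map_sum, map_smul, LinearMap.trace_id, smul_eq_mul] at h
    rw [Representation.char_one, ← h]
    rw [Finset.sum_congr rfl fun b _ => show LinearMap.trace ℂ _ (ρ (b * x * b⁻¹)) = ρ.character x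
      from ρ.char_conj x b]
    simp [Nat.card_eq_fintype_card]
  have h2 : ∑ b : G, ρ.character (b * x * b⁻¹ * y) = c * ρ.character y := by
    have h := congrArg (fun T => LinearMap.trace ℂ _ (T * ρ y)) hc
    simp only [Finset.sum_mul, map_sum, ← map_mul, smul_mul_assoc, map_smul, smul_eq_mul] at h
    exact h
  rw [h2, eq_div_iff hn]
  linear_combination -(ρ.character y) * h1

/-- The commutator counting formula. -/
theorem card_commutator_eq (g : G) :
    (Nat.card {p : G × G // g = p.1 * p.2 * p.1⁻¹ * p.2⁻¹} : ℂ) =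
      (Nat.card G : ℂ) * ∑ χ : Cfsg.IrrCharacter G, (χ : G → ℂ) g / (χ : G → ℂ) 1 := by
  classical
  let f : G → ℂ := fun g => (Nat.card {p : G × G // g = p.1 * p.2 * p.1⁻¹ * p.2⁻¹} : ℂ)
  have hf : Cfsg.IsClassFunction G f := fun g c => by
    simp only [f, Nat.cast_inj]
    refine Nat.card_congr (Equiv.subtypeEquiv
      (((Equiv.mulLeft c⁻¹).trans (Equiv.mulRight c)).prodCongr
        ((Equiv.mulLeft c⁻¹).trans (Equiv.mulRight c))) fun p => ?_)
    simp only [Equiv.prodCongr_apply, Prod.map_fst, Prod.map_snd, Equiv.trans_apply,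
      Equiv.coe_mulLeft, Equiv.coe_mulRight]
    constructor
    · intro h
      calc g = c⁻¹ * (c * g * c⁻¹) * c := by group
        _ = _ := by rw [h]; group
    · intro h
      rw [h]; group
  have hval : ∀ χ : Cfsg.IrrCharacter G,
      Cfsg.classInner f χ = (Nat.card G : ℂ) / (χ : G → ℂ) 1 := by
    intro χ
    obtain ⟨n, hn⟩ := exists_degree (isCharacter_of_isIrr χ.2)
    have hn0 : (χ : G → ℂ) 1 ≠ 0 := irr_one_ne_zero χ.2
    have h1 : ∑ x : G, f x * conj ((χ : G → ℂ) x) =
        conj (∑ a : G, ∑ b : G, (χ : G → ℂ) (b * a⁻¹ * b⁻¹ * a)) := by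
      rw [← Fintype.sum_prod_type', map_sum,
        ← Finset.sum_fiberwise Finset.univ (fun p : G × G => p.1 * p.2 * p.1⁻¹ * p.2⁻¹)]
      refine Finset.sum_congr rfl fun x _ => ?_
      rw [Finset.sum_congr rfl fun p hp => show conj ((χ : G → ℂ) (p.2 * p.1⁻¹ * p.2⁻¹ * p.1)) =
          conj ((χ : G → ℂ) x) by
        rw [char_mul_comm' (isCharacter_of_isIrr χ.2) _ p.1, ← mul_assoc, ← mul_assoc,
          (Finset.mem_filter.mp hp).2]]
      simp only [f, Finset.sum_const, nsmul_eq_mul, Nat.card_eq_fintype_card, Fintype.card_subtype]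
      congr 2
      exact congrArg Finset.card (Finset.filter_congr fun p _ => eq_comm)
    simp only [sum_char_conj_mul χ.2] at h1
    rw [← Finset.sum_div] at h1
    simp only [mul_assoc, ← Finset.mul_sum, char_inv (isCharacter_of_isIrr χ.2)] at h1
    simp only [mul_comm (conj ((χ : G → ℂ) _)) ((χ : G → ℂ) _)] at h1
    rw [← card_mul_classInner (χ : G → ℂ), classInner_irr_self χ.2, hn] at h1
    simp only [map_mul, map_div₀, map_natCast, mul_one] at h1
    rw [classInner_def, hn]
    have hG := card_ne_zero' (G := G)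
    rw [hn] at hn0
    field_simp at h1 ⊢
    linear_combination h1
  calc f g = (∑ χ : Cfsg.IrrCharacter G, Cfsg.classInner f χ • (χ : G → ℂ)) g :=
        congrFun (classFun_eq_sum hf) g
    _ = _ := by
      rw [Finset.sum_apply, Finset.mul_sum]
      exact Finset.sum_congr rfl fun χ _ => by rw [Pi.smul_apply, hval, smul_eq_mul]; ring

/-- The class multiplication constant. -/
theorem card_classProduct_eq (a b c : G) :
    (Nat.card {p : G × G // IsConj a p.1 ∧ IsConj b p.2 ∧ p.1 * p.2 = c} : ℂ) =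
      (Nat.card {x : G // IsConj a x} : ℂ) * (Nat.card {x : G // IsConj b x} : ℂ) /
        (Nat.card G : ℂ) * ∑ χ : Cfsg.IrrCharacter G,
          (χ : G → ℂ) a * (χ : G → ℂ) b * conj ((χ : G → ℂ) c) / (χ : G → ℂ) 1 := by
  classical
  let f : G → ℂ := fun c =>
    (Nat.card {p : G × G // IsConj a p.1 ∧ IsConj b p.2 ∧ p.1 * p.2 = c} : ℂ)
  have hf : Cfsg.IsClassFunction G f := fun g d => by
    simp only [f, Nat.cast_inj]
    refine Nat.card_congr (Equiv.subtypeEquiv
      (((Equiv.mulLeft d⁻¹).trans (Equiv.mulRight d)).prodCongr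
        ((Equiv.mulLeft d⁻¹).trans (Equiv.mulRight d))) fun p => ?_)
    simp only [Equiv.prodCongr_apply, Prod.map_fst, Prod.map_snd, Equiv.trans_apply,
      Equiv.coe_mulLeft, Equiv.coe_mulRight]
    have hc : ∀ u x : G, IsConj u x ↔ IsConj u (d⁻¹ * x * d) := fun u x => by
      have e : IsConj x (d⁻¹ * x * d) := isConj_iff.mpr ⟨d⁻¹, by simp⟩
      exact ⟨fun h => h.trans e, fun h => h.trans e.symm⟩
    rw [← hc a p.1, ← hc b p.2]
    refine and_congr_right fun _ => and_congr_right fun _ => ?_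
    constructor
    · intro h
      calc d⁻¹ * p.1 * d * (d⁻¹ * p.2 * d) = d⁻¹ * (p.1 * p.2) * d := by group
        _ = g := by rw [h]; group
    · intro h
      rw [← h]; group
  set A := Finset.univ.filter (IsConj a) with hA
  set B := Finset.univ.filter (IsConj b) with hB
  have hval : ∀ χ : Cfsg.IrrCharacter G, Cfsg.classInner f χ =
      (Nat.card {x : G // IsConj a x} : ℂ) * (Nat.card {x : G // IsConj b x} : ℂ) /
        (Nat.card G : ℂ) * conj ((χ : G → ℂ) a * (χ : G → ℂ) b) / (χ : G → ℂ) 1 := by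
    intro χ
    obtain ⟨n, ρ, hirr, hρ⟩ := χ.2
    have hn : (χ : G → ℂ) 1 = n := by rw [← hρ]; simp
    have h1 : ∑ x : G, f x * conj ((χ : G → ℂ) x) =
        conj (∑ p ∈ A ×ˢ B, (χ : G → ℂ) (p.1 * p.2)) := by
      rw [map_sum, ← Finset.sum_fiberwise (A ×ˢ B) (fun p : G × G => p.1 * p.2)]
      refine Finset.sum_congr rfl fun x _ => ?_
      rw [Finset.sum_congr rfl fun p hp => show conj ((χ : G → ℂ) (p.1 * p.2)) =
          conj ((χ : G → ℂ) x) by rw [(Finset.mem_filter.mp hp).2]]
      simp only [f, Finset.sum_const, nsmul_eq_mul, Nat.card_eq_fintype_card, Fintype.card_subtype]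
      congr 2
      refine congrArg Finset.card (Finset.ext fun p => ?_)
      simp only [A, B, Finset.mem_filter, Finset.mem_univ, Finset.mem_product, true_and, and_assoc]
    have h2 : ∑ p ∈ A ×ˢ B, (χ : G → ℂ) (p.1 * p.2) =
        LinearMap.trace ℂ _ ((∑ x ∈ A, ρ x) * ∑ y ∈ B, ρ y) := by
      rw [← hρ, Finset.sum_mul_sum, ← Finset.sum_product', map_sum]
      simp [Representation.character]
    rw [h2, (classSum_eq_smul ρ a).1, (classSum_eq_smul ρ b).1, ← card_mul_classInner] at h1
    simp only [smul_mul_assoc, mul_smul_comm, map_smul, smul_eq_mul, ← Module.End.one_eq_id,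
      mul_one, LinearMap.trace_one, finrank_fintype_fun_eq_card, Fintype.card_fin, hρ, map_mul,
      map_div₀, map_natCast] at h1
    rw [hn]
    have hG := card_ne_zero' (G := G)
    have hn0 : (n : ℂ) ≠ 0 := hn ▸ irr_one_ne_zero χ.2
    simp only [map_mul]
    field_simp at h1 ⊢
    linear_combination h1
  calc f c = (∑ χ : Cfsg.IrrCharacter G, Cfsg.classInner f χ • (χ : G → ℂ)) c :=
        congrFun (classFun_eq_sum hf) c
    _ = conj ((∑ χ : Cfsg.IrrCharacter G, Cfsg.classInner f χ • (χ : G → ℂ)) c) := by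
        rw [← congrFun (classFun_eq_sum hf) c]
        simp only [f, map_natCast]
    _ = _ := by
      rw [Finset.sum_apply, map_sum, Finset.mul_sum]
      refine Finset.sum_congr rfl fun χ _ => ?_
      rw [Pi.smul_apply, hval, smul_eq_mul]
      simp only [map_mul, map_div₀, map_natCast, Complex.conj_conj,
        char_conj_one (isCharacter_of_isIrr χ.2)]
      ring

/-- The number of square roots. -/
theorem card_sqrt_eq (g : G) :
    (Nat.card {s : G // s * s = g} : ℂ) = ∑ χ : Cfsg.IrrCharacter G,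
      ((Nat.card G : ℂ)⁻¹ * ∑ s : G, (χ : G → ℂ) (s * s)) * (χ : G → ℂ) g := by
  classical
  let f : G → ℂ := fun g => (Nat.card {s : G // s * s = g} : ℂ)
  have hf : Cfsg.IsClassFunction G f := fun g c => by
    simp only [f, Nat.cast_inj]
    refine Nat.card_congr (Equiv.subtypeEquiv ((Equiv.mulLeft c⁻¹).trans (Equiv.mulRight c)) fun s => ?_)
    simp only [Equiv.trans_apply, Equiv.coe_mulLeft, Equiv.coe_mulRight]
    constructor
    · intro h
      calc c⁻¹ * s * c * (c⁻¹ * s * c) = c⁻¹ * (s * s) * c := by group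
        _ = g := by rw [h]; group
    · intro h
      rw [← h]; group
  have hval : ∀ χ : Cfsg.IrrCharacter G,
      Cfsg.classInner f χ = (Nat.card G : ℂ)⁻¹ * ∑ s : G, (χ : G → ℂ) (s * s) := by
    intro χ
    rw [classInner_def]
    congr 1
    calc ∑ x : G, f x * conj ((χ : G → ℂ) x) = ∑ s : G, conj ((χ : G → ℂ) (s * s)) := by
          conv_rhs => rw [← Finset.sum_fiberwise Finset.univ (fun s : G => s * s)]
          refine Finset.sum_congr rfl fun x _ => ?_
          rw [Finset.sum_congr rfl fun s hs => show conj ((χ : G → ℂ) (s * s)) =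
            conj ((χ : G → ℂ) x) by rw [(Finset.mem_filter.mp hs).2]]
          simp [f, Nat.card_eq_fintype_card, Fintype.card_subtype]
      _ = _ := Fintype.sum_equiv (Equiv.inv G) _ _ fun s => by
          rw [← char_inv (isCharacter_of_isIrr χ.2)]; simp
  calc f g = (∑ χ : Cfsg.IrrCharacter G, Cfsg.classInner f χ • (χ : G → ℂ)) g :=
        congrFun (classFun_eq_sum hf) g
    _ = _ := by
      rw [Finset.sum_apply]
      exact Finset.sum_congr rfl fun χ _ => by rw [Pi.smul_apply, hval, smul_eq_mul]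

end CfsgLib.Char
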