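import Cfsg.Agent.Lib.Char.Basic

/-!
# Orthogonality, completeness, decomposition

* `classInner` is sesquilinear; first orthogonality `classInner_irr`;
* `IrrCharacter G` is finite (`Fintype` instance), linearly independent;
* completeness `classFun_eq_sum`; `#Irr = #ConjClasses`;
* every character is an `ℕ`-combination of irreducibles; `⟨χ, χ⟩ = 1` criterion;
* second orthogonality; regular character; `∑ χ(1)² = |G|`;
* characters determine representations up to equivalence;
* generalized characters are the `ℤ`-combinations of irreducibles.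
-/

namespace CfsgLib.Char

open Module
open scoped ComplexConjugate

section Inner

variable {G : Type*} [Group G] [Fintype G] {φ φ₁ φ₂ ψ ψ₁ ψ₂ : G → ℂ}

theorem card_ne_zero' : (Nat.card G : ℂ) ≠ 0 := by exact_mod_cast Nat.card_pos.ne'

theorem classInner_def (φ ψ : G → ℂ) :
    Cfsg.classInner φ ψ = (Nat.card G : ℂ)⁻¹ * ∑ g : G, φ g * conj (ψ g) := rfl

theorem card_mul_classInner (φ ψ : G → ℂ) :
    (Nat.card G : ℂ) * Cfsg.classInner φ ψ = ∑ g : G, φ g * conj (ψ g) := by
  rw [classInner_def, mul_inv_cancel_left₀ card_ne_zero']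

/-- `classInner` is linear in the left argument. -/
noncomputable def innerₗ (ψ : G → ℂ) : (G → ℂ) →ₗ[ℂ] ℂ where
  toFun φ := Cfsg.classInner φ ψ
  map_add' a b := by simp [classInner_def, add_mul, Finset.sum_add_distrib, mul_add]
  map_smul' c a := by
    simp only [classInner_def, Pi.smul_apply, smul_eq_mul, RingHom.id_apply, Finset.mul_sum]
    exact Finset.sum_congr rfl fun g _ => by ring

theorem innerₗ_apply (φ ψ : G → ℂ) : innerₗ ψ φ = Cfsg.classInner φ ψ := rfl

theorem classInner_conj_symm (φ ψ : G → ℂ) :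
    conj (Cfsg.classInner φ ψ) = Cfsg.classInner ψ φ := by
  simp [classInner_def, map_sum, mul_comm]

theorem classInner_zero_left : Cfsg.classInner (0 : G → ℂ) ψ = 0 := (innerₗ ψ).map_zero

theorem classInner_add_left :
    Cfsg.classInner (φ₁ + φ₂) ψ = Cfsg.classInner φ₁ ψ + Cfsg.classInner φ₂ ψ :=
  (innerₗ ψ).map_add φ₁ φ₂

theorem classInner_sub_left :
    Cfsg.classInner (φ₁ - φ₂) ψ = Cfsg.classInner φ₁ ψ - Cfsg.classInner φ₂ ψ :=
  (innerₗ ψ).map_sub φ₁ φ₂

theorem classInner_neg_left : Cfsg.classInner (-φ) ψ = - Cfsg.classInner φ ψ :=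
  (innerₗ ψ).map_neg φ

theorem classInner_smul_left (c : ℂ) :
    Cfsg.classInner (c • φ) ψ = c * Cfsg.classInner φ ψ :=
  (innerₗ ψ).map_smul c φ

theorem classInner_sum_left {ι : Type*} (s : Finset ι) (f : ι → G → ℂ) :
    Cfsg.classInner (∑ i ∈ s, f i) ψ = ∑ i ∈ s, Cfsg.classInner (f i) ψ :=
  map_sum (innerₗ ψ) f s

theorem classInner_zero_right : Cfsg.classInner φ (0 : G → ℂ) = 0 := by
  rw [← classInner_conj_symm, classInner_zero_left, map_zero]

theorem classInner_add_right :
    Cfsg.classInner φ (ψ₁ + ψ₂) = Cfsg.classInner φ ψ₁ + Cfsg.classInner φ ψ₂ := by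
  rw [← classInner_conj_symm, classInner_add_left, map_add, classInner_conj_symm,
    classInner_conj_symm]

theorem classInner_sub_right :
    Cfsg.classInner φ (ψ₁ - ψ₂) = Cfsg.classInner φ ψ₁ - Cfsg.classInner φ ψ₂ := by
  rw [← classInner_conj_symm, classInner_sub_left, map_sub, classInner_conj_symm,
    classInner_conj_symm]

theorem classInner_neg_right : Cfsg.classInner φ (-ψ) = - Cfsg.classInner φ ψ := by
  rw [← classInner_conj_symm, classInner_neg_left, map_neg, classInner_conj_symm]

theorem classInner_smul_right (c : ℂ) :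
    Cfsg.classInner φ (c • ψ) = conj c * Cfsg.classInner φ ψ := by
  rw [← classInner_conj_symm, classInner_smul_left, map_mul, classInner_conj_symm]

theorem classInner_sum_right {ι : Type*} (s : Finset ι) (f : ι → G → ℂ) :
    Cfsg.classInner φ (∑ i ∈ s, f i) = ∑ i ∈ s, Cfsg.classInner φ (f i) := by
  rw [← classInner_conj_symm, classInner_sum_left, map_sum]
  exact Finset.sum_congr rfl fun i _ => classInner_conj_symm _ _

theorem classInner_comp_mulEquiv {H : Type*} [Group H] [Fintype H] (e : H ≃* G) (φ ψ : G → ℂ) :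
    Cfsg.classInner (φ ∘ e) (ψ ∘ e) = Cfsg.classInner φ ψ := by
  rw [classInner_def, classInner_def, Nat.card_congr e.toEquiv]
  congr 1
  exact Fintype.sum_equiv e.toEquiv _ _ fun _ => rfl

/-- `⟨χ_ρ, χ_σ⟩` is the dimension of the space of intertwining maps. -/
theorem classInner_character {V W : Type*} [AddCommGroup V] [Module ℂ V] [FiniteDimensional ℂ V]
    [AddCommGroup W] [Module ℂ W] [FiniteDimensional ℂ W]
    (σ : Representation ℂ G W) (ρ : Representation ℂ G V) :
    Cfsg.classInner σ.character ρ.character = finrank ℂ (Representation.IntertwiningMap ρ σ) := by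
  have := invertibleOfNonzero (card_ne_zero' (G := G))
  rw [← Representation.card_inv_mul_sum_char_mul_char_eq_finrank ρ σ, classInner_def]
  simp [character_inv]

theorem classInner_character_irr {V W : Type*} [AddCommGroup V] [Module ℂ V]
    [FiniteDimensional ℂ V] [AddCommGroup W] [Module ℂ W] [FiniteDimensional ℂ W]
    (σ : Representation ℂ G W) (ρ : Representation ℂ G V) [σ.IsIrreducible] [ρ.IsIrreducible]
    [Decidable (Nonempty (ρ.Equiv σ))] :
    Cfsg.classInner σ.character ρ.character = if Nonempty (ρ.Equiv σ) then 1 else 0 := by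
  have := invertibleOfNonzero (card_ne_zero' (G := G))
  have h := Representation.char_orthonormal σ ρ
  simp only [character_inv] at h
  rw [classInner_def, h]
  congr 1

theorem classInner_char_nat (hφ : Cfsg.IsCharacter G φ) (hψ : Cfsg.IsCharacter G ψ) :
    ∃ m : ℕ, Cfsg.classInner φ ψ = m := by
  obtain ⟨n, ρ, rfl⟩ := hφ
  obtain ⟨m, σ, rfl⟩ := hψ
  exact ⟨_, classInner_character ρ σ⟩

theorem classInner_irr_self (h : Cfsg.IsIrrCharacter G φ) : Cfsg.classInner φ φ = 1 := by
  classical
  obtain ⟨n, ρ, hirr, rfl⟩ := h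
  rw [classInner_character_irr, if_pos ⟨Representation.Equiv.refl ρ⟩]

theorem classInner_irr_ne (hφ : Cfsg.IsIrrCharacter G φ) (hψ : Cfsg.IsIrrCharacter G ψ)
    (hne : φ ≠ ψ) : Cfsg.classInner φ ψ = 0 := by
  classical
  obtain ⟨n, ρ, hirr, rfl⟩ := hφ
  obtain ⟨m, σ, hirr', rfl⟩ := hψ
  rw [classInner_character_irr, if_neg]
  rintro ⟨e⟩
  exact hne (Representation.char_iso e).symm

/-- First orthogonality relation. -/
theorem classInner_irr (hφ : Cfsg.IsIrrCharacter G φ) (hψ : Cfsg.IsIrrCharacter G ψ)
    [Decidable (φ = ψ)] : Cfsg.classInner φ ψ = if φ = ψ then 1 else 0 := by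
  split_ifs with h
  · subst h; exact classInner_irr_self hφ
  · exact classInner_irr_ne hφ hψ h

theorem classInner_irrCharacter [DecidableEq (Cfsg.IrrCharacter G)]
    (χ χ' : Cfsg.IrrCharacter G) :
    Cfsg.classInner (χ : G → ℂ) χ' = if χ = χ' then 1 else 0 := by
  split_ifs with h
  · subst h; exact classInner_irr_self χ.2
  · exact classInner_irr_ne χ.2 χ'.2 fun h' => h (Subtype.ext h')

theorem eq_zero_of_classInner_self_eq_zero (h : Cfsg.classInner φ φ = 0) : φ = 0 := by
  have h1 : ∑ g : G, φ g * conj (φ g) = 0 := by rw [← card_mul_classInner, h, mul_zero]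
  simp only [Complex.mul_conj] at h1
  have h2 : ∑ g : G, Complex.normSq (φ g) = 0 := by exact_mod_cast h1
  funext g
  exact Complex.normSq_eq_zero.mp
    ((Finset.sum_eq_zero_iff_of_nonneg fun x _ => Complex.normSq_nonneg _).mp h2 g
      (Finset.mem_univ g))

theorem classInner_one_right (φ : G → ℂ) :
    Cfsg.classInner φ (fun _ => 1) = (Nat.card G : ℂ)⁻¹ * ∑ g : G, φ g := by
  simp [classInner_def]

end Inner

section Finite

variable {G : Type*} [Group G]

theorem linearIndependent_irr [Finite G] :
    LinearIndependent ℂ (fun χ : Cfsg.IrrCharacter G => (χ : G → ℂ)) := by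
  classical
  have := Fintype.ofFinite G
  rw [linearIndependent_iff']
  intro s c hc i hi
  have h := congrArg (innerₗ (i : G → ℂ)) hc
  simpa [map_sum, map_zero, innerₗ_apply, classInner_irrCharacter, hi] using h

instance instFiniteIrrCharacter [Finite G] : Finite (Cfsg.IrrCharacter G) :=
  linearIndependent_irr.finite

noncomputable instance instFintypeIrrCharacter [Finite G] : Fintype (Cfsg.IrrCharacter G) :=
  Fintype.ofFinite _

/-- The trivial character as an element of `IrrCharacter G`. -/
noncomputable def irrOne : Cfsg.IrrCharacter G := ⟨fun _ => 1, isIrrCharacter_one⟩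

theorem irrOne_apply (g : G) : (irrOne : Cfsg.IrrCharacter G).1 g = 1 := rfl

theorem isClassFunction_iff {θ : G → ℂ} :
    Cfsg.IsClassFunction G θ ↔ ∀ g h : G, IsConj g h → θ g = θ h := by
  constructor
  · intro hθ g h hgh
    obtain ⟨c, rfl⟩ := isConj_iff.mp hgh
    exact (hθ g c).symm
  · exact fun hθ g h => (hθ g _ (isConj_iff.mpr ⟨h, rfl⟩)).symm

theorem classFun_mul_comm {θ : G → ℂ} (h : Cfsg.IsClassFunction G θ) (a b : G) :
    θ (a * b) = θ (b * a) := by
  rw [← h (a * b) b]; group

theorem isClassFunction_sum {ι : Type*} (s : Finset ι) {f : ι → G → ℂ}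
    (h : ∀ i ∈ s, Cfsg.IsClassFunction G (f i)) : Cfsg.IsClassFunction G (∑ i ∈ s, f i) := by
  intro g c
  simp only [Finset.sum_apply]
  exact Finset.sum_congr rfl fun i hi => h i hi g c

theorem isClassFunction_smul {θ : G → ℂ} (h : Cfsg.IsClassFunction G θ) (c : ℂ) :
    Cfsg.IsClassFunction G (c • θ) := fun g x => by simp [h g x]

theorem isClassFunction_add {θ η : G → ℂ} (h : Cfsg.IsClassFunction G θ)
    (h' : Cfsg.IsClassFunction G η) : Cfsg.IsClassFunction G (θ + η) :=
  fun g x => by simp [h g x, h' g x]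

theorem isClassFunction_sub {θ η : G → ℂ} (h : Cfsg.IsClassFunction G θ)
    (h' : Cfsg.IsClassFunction G η) : Cfsg.IsClassFunction G (θ - η) :=
  fun g x => by simp [h g x, h' g x]

theorem isClassFunction_mul {θ η : G → ℂ} (h : Cfsg.IsClassFunction G θ)
    (h' : Cfsg.IsClassFunction G η) : Cfsg.IsClassFunction G (θ * η) :=
  fun g x => by simp [h g x, h' g x]

theorem isClassFunction_const (c : ℂ) : Cfsg.IsClassFunction G (fun _ => c) := fun _ _ => rfl

end Finite

section Complete

variable {G : Type*} [Group G] [Fintype G]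

/-- If a class function is orthogonal to all irreducibles, then its associated group-ring element
acts by zero on every finite-dimensional representation. -/
theorem sum_conj_smul_eq_zero {f : G → ℂ} (hf : Cfsg.IsClassFunction G f)
    (h : ∀ χ : G → ℂ, Cfsg.IsIrrCharacter G χ → Cfsg.classInner χ f = 0) :
    ∀ {V : Type*} [AddCommGroup V] [Module ℂ V] [FiniteDimensional ℂ V]
      (ρ : Representation ℂ G V), (∑ g : G, conj (f g) • ρ g) = 0 := by
  intro V _ _ _ ρ
  induction hn : finrank ℂ V using Nat.strong_induction_on generalizing V with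
  | _ n ih =>
  rcases subsingleton_or_nontrivial V with hV | hV
  · exact LinearMap.ext fun x => Subsingleton.elim _ _
  by_cases hirr : ρ.IsIrreducible
  · let T : Representation.IntertwiningMap ρ ρ :=
      { toLinearMap := ∑ g : G, conj (f g) • ρ g
        isIntertwining' := fun x => by
          rw [← Module.End.mul_eq_comp, ← Module.End.mul_eq_comp, Finset.sum_mul, Finset.mul_sum]
          refine Fintype.sum_equiv (MulAut.conj x⁻¹).toEquiv _ _ fun g => ?_
          simp only [smul_mul_assoc, mul_smul_comm, ← map_mul]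
          simp [hf g x⁻¹, mul_assoc, show f (x⁻¹ * (g * x)) = f g from by
            simpa [mul_assoc] using hf g x⁻¹] }
    obtain ⟨c, hc⟩ := (Representation.IsIrreducible.algebraMap_intertwiningMap_bijective_of_isAlgClosed
      (ρ := ρ)).2 T
    have hT : (∑ g : G, conj (f g) • ρ g) = c • (LinearMap.id : V →ₗ[ℂ] V) := by
      have := congrArg Representation.IntertwiningMap.toLinearMap hc
      exact this.symm
    have htr := congrArg (LinearMap.trace ℂ V) hT
    have h0 : ∑ g : G, conj (f g) * ρ.character g = 0 := by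
      have := h _ (isIrrCharacter_char ρ)
      rw [classInner_def] at this
      rcases mul_eq_zero.mp this with h1 | h1
      · exact absurd (inv_eq_zero.mp h1) card_ne_zero'
      · rw [← h1]; exact Finset.sum_congr rfl fun g _ => mul_comm _ _
    simp only [map_sum, map_smul, smul_eq_mul, LinearMap.trace_id] at htr
    rw [show (∑ g : G, conj (f g) * LinearMap.trace ℂ V (ρ g)) = 0 from h0] at htr
    have hc0 : c = 0 := (mul_eq_zero.mp htr.symm).resolve_right
      (by exact_mod_cast (Module.finrank_pos : 0 < finrank ℂ V).ne')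
    rw [hT, hc0, zero_smul]
  · have hnt : Nontrivial (Subrepresentation ρ) :=
      ⟨⊥, ⊤, fun e => bot_ne_top (congrArg Subrepresentation.toSubmodule e)⟩
    obtain ⟨U, hU⟩ : ∃ U : Subrepresentation ρ, U ≠ ⊥ ∧ U ≠ ⊤ := by
      by_contra hall
      push Not at hall
      exact hirr ⟨fun U => (eq_or_ne U ⊥).imp_right (hall U)⟩
    obtain ⟨U', hUU'⟩ := exists_isCompl U
    have hU' : U' ≠ ⊤ := fun e => hU.1 (by simpa [e] using hUU'.disjoint)
    have key : ∀ W : Subrepresentation ρ, W ≠ ⊤ → ∀ w ∈ W.toSubmodule,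
        (∑ g : G, conj (f g) • ρ g) w = 0 := by
      intro W hW w hw
      have hlt : finrank ℂ W.toSubmodule < n := hn ▸ Submodule.finrank_lt
        (fun e => hW (Subrepresentation.toSubmodule_injective e))
      have := congrArg Subtype.val
        (LinearMap.congr_fun (ih _ hlt W.toRepresentation rfl) ⟨w, hw⟩)
      simpa [LinearMap.sum_apply, Subrepresentation.toRepresentation] using this
    have hsup : U.toSubmodule ⊔ U'.toSubmodule = ⊤ :=
      congrArg Subrepresentation.toSubmodule hUU'.codisjoint.eq_top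
    refine LinearMap.ext fun v => ?_
    obtain ⟨u, hu, u', hu', rfl⟩ := Submodule.mem_sup.mp (hsup ▸ Submodule.mem_top : v ∈ _ ⊔ _)
    rw [map_add, key U hU.2 u hu, key U' hU' u' hu', add_zero, LinearMap.zero_apply]

/-- The right regular representation on functions. -/
noncomputable def funRep : Representation ℂ G (G → ℂ) where
  toFun g := LinearMap.funLeft ℂ ℂ (fun x => x * g)
  map_one' := by ext φ x; simp [LinearMap.funLeft_apply]
  map_mul' g h := by ext φ x; simp [LinearMap.funLeft_apply, mul_assoc]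

theorem classFun_eq_zero {f : G → ℂ} (hf : Cfsg.IsClassFunction G f)
    (h : ∀ χ : G → ℂ, Cfsg.IsIrrCharacter G χ → Cfsg.classInner χ f = 0) : f = 0 := by
  classical
  funext x
  have := congrFun (LinearMap.congr_fun (sum_conj_smul_eq_zero hf h (funRep (G := G)))
    (Pi.single x 1)) 1
  simpa [LinearMap.sum_apply, Finset.sum_apply, funRep, LinearMap.funLeft_apply,
    Pi.single_apply] using this

/-- Completeness: the irreducible characters span the class functions. -/
theorem classFun_eq_sum {f : G → ℂ} (hf : Cfsg.IsClassFunction G f) :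
    f = ∑ χ : Cfsg.IrrCharacter G, Cfsg.classInner f χ • (χ : G → ℂ) := by
  classical
  refine sub_eq_zero.mp (classFun_eq_zero (isClassFunction_sub hf
    (isClassFunction_sum _ fun χ _ => isClassFunction_smul (isClassFunction_of_isIrr χ.2) _))
    fun ψ hψ => ?_)
  rw [← classInner_conj_symm, classInner_sub_left, classInner_sum_left]
  simp only [classInner_smul_left]
  rw [Finset.sum_eq_single (⟨ψ, hψ⟩ : Cfsg.IrrCharacter G)]
  · rw [classInner_irr_self hψ, mul_one, sub_self, map_zero]
  · intro χ _ hne
    rw [classInner_irr_ne χ.2 hψ fun e => hne (Subtype.ext e), mul_zero]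
  · simp

theorem classFun_eq_finsum {f : G → ℂ} (hf : Cfsg.IsClassFunction G f) :
    f = ∑ᶠ χ : Cfsg.IrrCharacter G, Cfsg.classInner f χ • (χ : G → ℂ) := by
  rw [finsum_eq_sum_of_fintype]; exact classFun_eq_sum hf

theorem classFun_ext {f f' : G → ℂ} (hf : Cfsg.IsClassFunction G f)
    (hf' : Cfsg.IsClassFunction G f')
    (h : ∀ χ : G → ℂ, Cfsg.IsIrrCharacter G χ → Cfsg.classInner f χ = Cfsg.classInner f' χ) :
    f = f' := by
  rw [classFun_eq_sum hf, classFun_eq_sum hf']
  exact Finset.sum_congr rfl fun χ _ => by rw [h _ χ.2]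

/-- Parseval. -/
theorem classInner_eq_sum {f f' : G → ℂ} (hf : Cfsg.IsClassFunction G f) :
    Cfsg.classInner f f' =
      ∑ χ : Cfsg.IrrCharacter G, Cfsg.classInner f χ * conj (Cfsg.classInner f' χ) := by
  conv_lhs => rw [classFun_eq_sum hf, classInner_sum_left]
  exact Finset.sum_congr rfl fun χ _ => by rw [classInner_smul_left, classInner_conj_symm]

theorem isCharacter_of_classInner_nat {f : G → ℂ} (hf : Cfsg.IsClassFunction G f)
    (h : ∀ χ : G → ℂ, Cfsg.IsIrrCharacter G χ → ∃ m : ℕ, Cfsg.classInner f χ = m) :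
    Cfsg.IsCharacter G f := by
  rw [classFun_eq_sum hf]
  refine isCharacter_sum _ fun χ _ => ?_
  obtain ⟨m, hm⟩ := h _ χ.2
  rw [hm]
  exact isCharacter_natCast_smul (isCharacter_of_isIrr χ.2) m

/-- Multiplicities of a character. -/
theorem char_decomp {φ : G → ℂ} (hφ : Cfsg.IsCharacter G φ) :
    ∃ m : Cfsg.IrrCharacter G → ℕ, (φ = ∑ χ, (m χ : ℂ) • (χ : G → ℂ)) ∧
      ∀ χ : Cfsg.IrrCharacter G, Cfsg.classInner φ χ = m χ := by
  choose m hm using fun χ : Cfsg.IrrCharacter G =>
    classInner_char_nat hφ (isCharacter_of_isIrr χ.2)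
  refine ⟨m, ?_, hm⟩
  conv_lhs => rw [classFun_eq_sum (isClassFunction_of_isCharacter hφ)]
  simp [hm]

theorem exists_constituent {φ : G → ℂ} (hφ : Cfsg.IsCharacter G φ) (h0 : φ ≠ 0) :
    ∃ χ : G → ℂ, Cfsg.IsIrrCharacter G χ ∧ Cfsg.classInner φ χ ≠ 0 := by
  by_contra h
  push Not at h
  exact h0 (classFun_ext (isClassFunction_of_isCharacter hφ) (isClassFunction_const 0)
    fun χ hχ => by rw [h χ hχ]; exact classInner_zero_left.symm)

theorem irr_of_norm_one {φ : G → ℂ} (hφ : Cfsg.IsCharacter G φ)
    (h : Cfsg.classInner φ φ = 1) : Cfsg.IsIrrCharacter G φ := by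
  classical
  obtain ⟨m, hm, hmi⟩ := char_decomp hφ
  have h2 := classInner_eq_sum (f' := φ) (isClassFunction_of_isCharacter hφ)
  simp only [h, hmi, map_natCast] at h2
  have h3 : ∑ χ, m χ * m χ = 1 := by exact_mod_cast h2.symm
  obtain ⟨χ₀, hχ₀⟩ : ∃ χ₀, m χ₀ ≠ 0 := by
    by_contra hall
    push Not at hall
    simp [hall] at h3
  have hle := Finset.add_sum_erase Finset.univ (fun χ => m χ * m χ) (Finset.mem_univ χ₀)
  rw [h3] at hle
  have h1 : m χ₀ = 1 := by
    have hle1 : m χ₀ * m χ₀ ≤ 1 := by omega
    have := (Nat.le_mul_self (m χ₀)).trans hle1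
    omega
  have hrest : ∀ χ, χ ≠ χ₀ → m χ = 0 := by
    intro χ hne
    have hz : ∑ χ ∈ Finset.univ.erase χ₀, m χ * m χ = 0 := by
      simp only [h1] at hle; omega
    simpa using (Finset.sum_eq_zero_iff.mp hz) χ (by simp [hne])
  rw [hm, Finset.sum_eq_single χ₀ (fun χ _ hne => by simp [hrest χ hne]) (by simp), h1]
  simp [χ₀.2]

theorem irr_iff_norm_one {φ : G → ℂ} :
    Cfsg.IsIrrCharacter G φ ↔ Cfsg.IsCharacter G φ ∧ Cfsg.classInner φ φ = 1 :=
  ⟨fun h => ⟨isCharacter_of_isIrr h, classInner_irr_self h⟩, fun h => irr_of_norm_one h.1 h.2⟩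

/-- A representation is irreducible iff its character is. -/
theorem isIrreducible_of_isIrrCharacter {V : Type*} [AddCommGroup V] [Module ℂ V]
    [FiniteDimensional ℂ V] (ρ : Representation ℂ G V)
    (h : Cfsg.IsIrrCharacter G ρ.character) : ρ.IsIrreducible := by
  have h1 := classInner_irr_self h
  rw [classInner_character] at h1
  have hfr : finrank ℂ (Representation.IntertwiningMap ρ ρ) = 1 := by exact_mod_cast h1
  have hnt : Nontrivial (Subrepresentation ρ) := by
    refine ⟨⊥, ⊤, fun e => irr_ne_zero h (funext fun g => ?_)⟩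
    have hV : Subsingleton V := (Submodule.subsingleton_iff ℂ).mp
      (subsingleton_iff_bot_eq_top.mp (congrArg Subrepresentation.toSubmodule e))
    simp [Representation.character, Subsingleton.elim (ρ g) 0]
  refine ⟨fun U => ?_⟩
  obtain ⟨U', hUU'⟩ := exists_isCompl U
  have hc : IsCompl U.toSubmodule U'.toSubmodule :=
    ⟨disjoint_iff.mpr (congrArg Subrepresentation.toSubmodule hUU'.disjoint.eq_bot),
      codisjoint_iff.mpr (congrArg Subrepresentation.toSubmodule hUU'.codisjoint.eq_top)⟩
  let p : V →ₗ[ℂ] V := U.toSubmodule.subtype ∘ₗ U.toSubmodule.projectionOnto _ hc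
  let P : Representation.IntertwiningMap ρ ρ :=
    { toLinearMap := p
      isIntertwining' := fun g => by
        refine LinearMap.ext fun v => ?_
        obtain ⟨u, u', rfl, -⟩ := Submodule.existsUnique_add_of_isCompl hc v
        have h1 : ρ g u ∈ U.toSubmodule := U.apply_mem_toSubmodule g u.2
        have h2 : ρ g u' ∈ U'.toSubmodule := U'.apply_mem_toSubmodule g u'.2
        simp [p, Submodule.projectionOnto_apply_left hc ⟨_, h1⟩,
          Submodule.projectionOnto_apply_right hc ⟨_, h2⟩] }
  have hid : Representation.IntertwiningMap.id ρ ≠ 0 := fun e => by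
    have := congrArg (fun T : Representation.IntertwiningMap ρ ρ =>
      LinearMap.trace ℂ V T.toLinearMap) e
    simp at this
    exact irr_one_ne_zero h (by simp [this])
  obtain ⟨c, hc'⟩ := (finrank_eq_one_iff_of_nonzero' _ hid).mp hfr P
  have hp : ∀ v, p v = c • v := fun v =>
    (LinearMap.congr_fun (congrArg Representation.IntertwiningMap.toLinearMap hc') v).symm
  rcases eq_or_ne c 0 with hc0 | hc0
  · left
    refine Subrepresentation.toSubmodule_injective ((Submodule.eq_bot_iff _).mpr fun u hu => ?_)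
    simpa [p, hc0, Submodule.projectionOnto_apply_left hc ⟨u, hu⟩] using hp u
  · right
    refine Subrepresentation.toSubmodule_injective (Submodule.eq_top_iff'.mpr fun v => ?_)
    have : p v ∈ U.toSubmodule := Submodule.coe_mem _
    rw [hp] at this
    simpa [hc0] using U.toSubmodule.smul_mem c⁻¹ this

omit [Fintype G] in
theorem card_isConj_mul_card_centralizer (g : G) :
    Nat.card {x : G // IsConj g x} * Nat.card (Subgroup.centralizer ({g} : Set G)) =
      Nat.card G := by
  rw [Subgroup.nat_card_centralizer_nat_card_stabilizer,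
    ← Nat.card_congr (ConjAct.toConjAct (G := G)).toEquiv.symm,
    ← Subgroup.index_mul_card (MulAction.stabilizer (ConjAct G) g), MulAction.index_stabilizer]
  congr 1
  rw [← Nat.card_coe_set_eq]
  exact Nat.card_congr (Equiv.subtypeEquivRight fun x => by
    rw [ConjAct.mem_orbit_conjAct]; exact ⟨IsConj.symm, IsConj.symm⟩)

theorem card_irr_eq_card_conjClasses :
    Nat.card (Cfsg.IrrCharacter G) = Nat.card (ConjClasses G) := by
  classical
  have : Finite (ConjClasses G) := Finite.of_surjective _ ConjClasses.mk_surjective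
  have := Fintype.ofFinite (ConjClasses G)
  let P : (ConjClasses G → ℂ) →ₗ[ℂ] (G → ℂ) := LinearMap.funLeft ℂ ℂ ConjClasses.mk
  have hP : Function.Injective P := LinearMap.funLeft_injective_of_surjective _ _ _
    ConjClasses.mk_surjective
  have hrange : LinearMap.range P =
      Submodule.span ℂ (Set.range fun χ : Cfsg.IrrCharacter G => (χ : G → ℂ)) := by
    apply le_antisymm
    · rintro f ⟨c, rfl⟩
      have hc : Cfsg.IsClassFunction G (P c) := fun g h => by
        simp only [P, LinearMap.funLeft_apply]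
        rw [ConjClasses.mk_eq_mk_iff_isConj.mpr (isConj_iff.mpr ⟨h, rfl⟩ : IsConj g _).symm]
      rw [classFun_eq_sum hc]
      exact Submodule.sum_mem _ fun χ _ => Submodule.smul_mem _ _ (Submodule.subset_span ⟨χ, rfl⟩)
    · rw [Submodule.span_le]
      rintro _ ⟨χ, rfl⟩
      refine ⟨fun C => (χ : G → ℂ) (Quotient.out C), funext fun g => ?_⟩
      simp only [P, LinearMap.funLeft_apply]
      exact isClassFunction_iff.mp (isClassFunction_of_isIrr χ.2) _ _
        (ConjClasses.mk_eq_mk_iff_isConj.mp (Quotient.out_eq _))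
  have h1 := LinearMap.finrank_range_of_inj hP
  rw [hrange, finrank_span_eq_card linearIndependent_irr, Module.finrank_pi] at h1
  simpa [Nat.card_eq_fintype_card] using h1

/-- Second orthogonality relation. -/
theorem second_orthogonality (g h : G) [Decidable (IsConj g h)] :
    ∑ χ : Cfsg.IrrCharacter G, (χ : G → ℂ) g * conj ((χ : G → ℂ) h) =
      if IsConj g h then (Nat.card (Subgroup.centralizer ({g} : Set G)) : ℂ) else 0 := by
  classical
  let d : G → ℂ := fun x => if IsConj x h then 1 else 0
  have hd : Cfsg.IsClassFunction G d := isClassFunction_iff.mpr fun a b hab => by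
    simp only [d]
    exact if_congr ⟨fun e => hab.symm.trans e, fun e => hab.trans e⟩ rfl rfl
  set N : ℕ := Fintype.card {x : G // IsConj x h} with hN
  have hin : ∀ χ : Cfsg.IrrCharacter G, Cfsg.classInner d χ =
      (Nat.card G : ℂ)⁻¹ * N * conj ((χ : G → ℂ) h) := by
    intro χ
    rw [classInner_def, mul_assoc]
    congr 1
    simp only [d, ite_mul, one_mul, zero_mul, ← Finset.sum_filter]
    rw [Finset.sum_congr rfl fun x hx => show conj ((χ : G → ℂ) x) = conj ((χ : G → ℂ) h) by
      rw [isClassFunction_iff.mp (isClassFunction_of_isIrr χ.2) x h (Finset.mem_filter.mp hx).2]]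
    simp [N, Fintype.card_subtype]
  have hg := congrFun (classFun_eq_sum hd) g
  simp only [Finset.sum_apply, Pi.smul_apply, smul_eq_mul, hin, mul_assoc, ← Finset.mul_sum] at hg
  simp only [mul_comm (conj _) _] at hg
  have hN0 : (N : ℂ) ≠ 0 := by
    have : Nonempty {x : G // IsConj x h} := ⟨⟨h, IsConj.refl h⟩⟩
    exact_mod_cast Fintype.card_ne_zero
  split_ifs with hgh
  · have hNc : N * Nat.card (Subgroup.centralizer ({g} : Set G)) = Nat.card G := by
      rw [hN, ← Nat.card_eq_fintype_card]
      refine Eq.trans ?_ (card_isConj_mul_card_centralizer g)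
      congr 1
      exact Nat.card_congr (Equiv.subtypeEquivRight fun x =>
        ⟨fun e => hgh.trans e.symm, fun e => e.symm.trans hgh⟩)
    simp only [d, if_pos hgh] at hg
    rw [← hNc, Nat.cast_mul] at hg
    field_simp at hg
    rw [← hg]
  · simp only [d, if_neg hgh] at hg
    rcases mul_eq_zero.mp hg.symm with h1 | h1
    · exact absurd (inv_eq_zero.mp h1) card_ne_zero'
    · exact (mul_eq_zero.mp h1).resolve_left hN0

theorem isConj_iff_forall_irr (g h : G) :
    IsConj g h ↔ ∀ χ : Cfsg.IrrCharacter G, (χ : G → ℂ) g = (χ : G → ℂ) h := by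
  classical
  refine ⟨fun hgh χ => isClassFunction_iff.mp (isClassFunction_of_isIrr χ.2) g h hgh,
    fun hall => ?_⟩
  by_contra hne
  have h1 := second_orthogonality g h
  rw [if_neg hne, Finset.sum_congr rfl fun χ _ => by rw [← hall χ]] at h1
  have h2 := second_orthogonality g g
  rw [if_pos (IsConj.refl g), h1] at h2
  exact Nat.card_pos.ne' (Nat.cast_eq_zero.mp h2.symm)

theorem sum_degree_mul_apply (g : G) [Decidable (g = 1)] :
    ∑ χ : Cfsg.IrrCharacter G, (χ : G → ℂ) 1 * (χ : G → ℂ) g =
      if g = 1 then (Nat.card G : ℂ) else 0 := by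
  classical
  have h := second_orthogonality g 1
  simp only [fun χ : Cfsg.IrrCharacter G => char_conj_one (isCharacter_of_isIrr χ.2),
    mul_comm ((_ : Cfsg.IrrCharacter G).1 g)] at h
  rw [h]
  by_cases hg : g = 1
  · subst hg
    simp [show Subgroup.centralizer ({1} : Set G) = ⊤ from
      (Subgroup.centralizer_eq_top_iff_subset).mpr (by simp)]
  · rw [if_neg (by rwa [isConj_one_left]), if_neg hg]

theorem sum_degree_sq :
    ∑ χ : Cfsg.IrrCharacter G, (χ : G → ℂ) 1 ^ 2 = (Nat.card G : ℂ) := by
  classical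
  simpa [sq] using sum_degree_mul_apply (1 : G)

end Complete

end CfsgLib.Char
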