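import Cfsg.Agent.Lib.Char.Induced

/-!
# Generalized (virtual) characters
-/

namespace CfsgLib.Char

open scoped ComplexConjugate

section Basic

variable {G : Type*} [Group G] {θ η : G → ℂ}

theorem isGen_of_char (h : Cfsg.IsCharacter G θ) : Cfsg.IsGeneralizedCharacter G θ :=
  ⟨θ, 0, h, isCharacter_zero, (sub_zero θ).symm⟩

theorem isGen_of_irr (h : Cfsg.IsIrrCharacter G θ) : Cfsg.IsGeneralizedCharacter G θ :=
  isGen_of_char (isCharacter_of_isIrr h)

theorem isGen_zero : Cfsg.IsGeneralizedCharacter G (0 : G → ℂ) := isGen_of_char isCharacter_zero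

theorem isGen_one : Cfsg.IsGeneralizedCharacter G (fun _ => 1 : G → ℂ) :=
  isGen_of_char isCharacter_one

theorem isGen_neg (h : Cfsg.IsGeneralizedCharacter G θ) :
    Cfsg.IsGeneralizedCharacter G (-θ) := by
  obtain ⟨a, b, ha, hb, rfl⟩ := h
  exact ⟨b, a, hb, ha, neg_sub a b⟩

theorem isGen_add (h : Cfsg.IsGeneralizedCharacter G θ) (h' : Cfsg.IsGeneralizedCharacter G η) :
    Cfsg.IsGeneralizedCharacter G (θ + η) := by
  obtain ⟨a, b, ha, hb, rfl⟩ := h
  obtain ⟨c, d, hc, hd, rfl⟩ := h'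
  exact ⟨a + c, b + d, isCharacter_add ha hc, isCharacter_add hb hd, by abel⟩

theorem isGen_sub (h : Cfsg.IsGeneralizedCharacter G θ) (h' : Cfsg.IsGeneralizedCharacter G η) :
    Cfsg.IsGeneralizedCharacter G (θ - η) := sub_eq_add_neg θ η ▸ isGen_add h (isGen_neg h')

theorem isGen_intCast_smul (h : Cfsg.IsGeneralizedCharacter G θ) (z : ℤ) :
    Cfsg.IsGeneralizedCharacter G ((z : ℂ) • θ) := by
  obtain ⟨a, b, ha, hb, rfl⟩ := h
  obtain ⟨k, rfl | rfl⟩ := z.eq_nat_or_neg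
  · exact ⟨(k : ℂ) • a, (k : ℂ) • b, isCharacter_natCast_smul ha k,
      isCharacter_natCast_smul hb k, by simp [smul_sub]⟩
  · exact ⟨(k : ℂ) • b, (k : ℂ) • a, isCharacter_natCast_smul hb k,
      isCharacter_natCast_smul ha k, by simp [smul_sub]; abel⟩

theorem isGen_sum {ι : Type*} (s : Finset ι) {f : ι → G → ℂ}
    (h : ∀ i ∈ s, Cfsg.IsGeneralizedCharacter G (f i)) :
    Cfsg.IsGeneralizedCharacter G (∑ i ∈ s, f i) :=
  Finset.sum_induction f (Cfsg.IsGeneralizedCharacter G) (fun _ _ => isGen_add) isGen_zero h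

theorem isGen_mul (h : Cfsg.IsGeneralizedCharacter G θ) (h' : Cfsg.IsGeneralizedCharacter G η) :
    Cfsg.IsGeneralizedCharacter G (θ * η) := by
  obtain ⟨a, b, ha, hb, rfl⟩ := h
  obtain ⟨c, d, hc, hd, rfl⟩ := h'
  exact ⟨a * c + b * d, a * d + b * c, isCharacter_add (isCharacter_mul ha hc)
    (isCharacter_mul hb hd), isCharacter_add (isCharacter_mul ha hd) (isCharacter_mul hb hc),
    by ring⟩

theorem isGen_comp {H : Type*} [Group H] (h : Cfsg.IsGeneralizedCharacter G θ) (f : H →* G) :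
    Cfsg.IsGeneralizedCharacter H (θ ∘ f) := by
  obtain ⟨a, b, ha, hb, rfl⟩ := h
  exact ⟨a ∘ f, b ∘ f, isCharacter_comp ha f, isCharacter_comp hb f, rfl⟩

theorem isGen_res (H : Subgroup G) (h : Cfsg.IsGeneralizedCharacter G θ) :
    Cfsg.IsGeneralizedCharacter H (fun x : H => θ x) := isGen_comp h H.subtype

theorem isClassFunction_of_isGen (h : Cfsg.IsGeneralizedCharacter G θ) :
    Cfsg.IsClassFunction G θ := by
  obtain ⟨a, b, ha, hb, rfl⟩ := h
  exact isClassFunction_sub (isClassFunction_of_isCharacter ha) (isClassFunction_of_isCharacter hb)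

theorem gen_inv [Finite G] (h : Cfsg.IsGeneralizedCharacter G θ) (g : G) :
    θ g⁻¹ = conj (θ g) := by
  obtain ⟨a, b, ha, hb, rfl⟩ := h
  simp [char_inv ha, char_inv hb]

theorem gen_isIntegral [Finite G] (h : Cfsg.IsGeneralizedCharacter G θ) (g : G) :
    IsIntegral ℤ (θ g) := by
  obtain ⟨a, b, ha, hb, rfl⟩ := h
  exact (char_isIntegral ha g).sub (char_isIntegral hb g)

theorem gen_one_int (h : Cfsg.IsGeneralizedCharacter G θ) : ∃ z : ℤ, θ 1 = z := by
  obtain ⟨a, b, ha, hb, rfl⟩ := h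
  obtain ⟨m, hm⟩ := exists_degree ha
  obtain ⟨n, hn⟩ := exists_degree hb
  exact ⟨(m : ℤ) - n, by simp [hm, hn]⟩

end Basic

section Inner

variable {G : Type*} [Group G] [Fintype G] {θ η : G → ℂ}

theorem classInner_gen_int (h : Cfsg.IsGeneralizedCharacter G θ)
    (h' : Cfsg.IsGeneralizedCharacter G η) : ∃ z : ℤ, Cfsg.classInner θ η = z := by
  obtain ⟨a, b, ha, hb, rfl⟩ := h
  obtain ⟨c, d, hc, hd, rfl⟩ := h'
  obtain ⟨n₁, h₁⟩ := classInner_char_nat ha hc
  obtain ⟨n₂, h₂⟩ := classInner_char_nat ha hd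
  obtain ⟨n₃, h₃⟩ := classInner_char_nat hb hc
  obtain ⟨n₄, h₄⟩ := classInner_char_nat hb hd
  exact ⟨(n₁ : ℤ) - n₂ - (n₃ - n₄), by
    simp [classInner_sub_left, classInner_sub_right, h₁, h₂, h₃, h₄]; ring⟩

theorem isGen_of_classInner_int (hθ : Cfsg.IsClassFunction G θ)
    (h : ∀ χ : G → ℂ, Cfsg.IsIrrCharacter G χ → ∃ z : ℤ, Cfsg.classInner θ χ = z) :
    Cfsg.IsGeneralizedCharacter G θ := by
  rw [classFun_eq_sum hθ]
  refine isGen_sum _ fun χ _ => ?_
  obtain ⟨z, hz⟩ := h _ χ.2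
  rw [hz]
  exact isGen_intCast_smul (isGen_of_irr χ.2) z

theorem isGen_indFun (H : Subgroup G) {φ : H → ℂ} (h : Cfsg.IsGeneralizedCharacter H φ) :
    Cfsg.IsGeneralizedCharacter G (Cfsg.indFun H φ) := by
  obtain ⟨a, b, ha, hb, rfl⟩ := h
  exact ⟨_, _, isCharacter_indFun H ha, isCharacter_indFun H hb, indFun_sub H a b⟩

/-- Integral multiplicities of a generalized character. -/
theorem gen_decomp (h : Cfsg.IsGeneralizedCharacter G θ) :
    ∃ m : Cfsg.IrrCharacter G → ℤ, (θ = ∑ χ, (m χ : ℂ) • (χ : G → ℂ)) ∧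
      (∀ χ : Cfsg.IrrCharacter G, Cfsg.classInner θ χ = m χ) ∧
      Cfsg.classInner θ θ = ∑ χ, ((m χ ^ 2 : ℤ) : ℂ) := by
  choose m hm using fun χ : Cfsg.IrrCharacter G => classInner_gen_int h (isGen_of_irr χ.2)
  have hcl := isClassFunction_of_isGen h
  refine ⟨m, ?_, hm, ?_⟩
  · conv_lhs => rw [classFun_eq_sum hcl]
    simp [hm]
  · rw [classInner_eq_sum hcl]
    simp [hm, sq]

/-- A generalized character of norm `1` is `±` an irreducible character. -/
theorem gen_norm_one (h : Cfsg.IsGeneralizedCharacter G θ) (h1 : Cfsg.classInner θ θ = 1) :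
    Cfsg.IsIrrCharacter G θ ∨ Cfsg.IsIrrCharacter G (-θ) := by
  classical
  obtain ⟨m, hm, -, hsq⟩ := gen_decomp h
  rw [h1] at hsq
  have hsq' : ∑ χ, m χ ^ 2 = 1 := by exact_mod_cast hsq.symm
  obtain ⟨χ₀, hχ₀⟩ : ∃ χ₀, m χ₀ ≠ 0 := by
    by_contra hall
    push Not at hall
    simp [hall] at hsq'
  have hle := Finset.add_sum_erase Finset.univ (fun χ => m χ ^ 2) (Finset.mem_univ χ₀)
  rw [hsq'] at hle
  have hnn : 0 ≤ ∑ χ ∈ Finset.univ.erase χ₀, m χ ^ 2 := Finset.sum_nonneg fun _ _ => sq_nonneg _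
  have hpos : 0 < m χ₀ ^ 2 := by positivity
  have h2 : m χ₀ ^ 2 = 1 := by omega
  have hz : ∑ χ ∈ Finset.univ.erase χ₀, m χ ^ 2 = 0 := by omega
  have hrest : ∀ χ, χ ≠ χ₀ → m χ = 0 := fun χ hne => by
    simpa using (Finset.sum_eq_zero_iff_of_nonneg fun _ _ => sq_nonneg _).mp hz χ (by simp [hne])
  rw [hm, Finset.sum_eq_single χ₀ (fun χ _ hne => by simp [hrest χ hne]) (by simp)]
  rcases sq_eq_one_iff.mp h2 with e | e <;> rw [e]
  · left; simpa using χ₀.2
  · right; simpa using χ₀.2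

theorem gen_norm_one_pos (h : Cfsg.IsGeneralizedCharacter G θ) (h1 : Cfsg.classInner θ θ = 1)
    (hpos : 0 < (θ 1).re) : Cfsg.IsIrrCharacter G θ := by
  refine (gen_norm_one h h1).resolve_right fun hneg => ?_
  obtain ⟨n, hn, hn1⟩ := exists_degree_pos hneg
  have : (θ 1).re = -(n : ℝ) := by
    rw [show θ 1 = -(n : ℂ) from neg_eq_iff_eq_neg.mp hn1]; simp
  have : (0 : ℝ) < n := by exact_mod_cast hn
  linarith

end Inner

end CfsgLib.Char
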