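import Cfsg.Agent.Lib.Char.PermChar
import Cfsg.Agent.Lib.Char.Generalized
import Mathlib.GroupTheory.GroupAction.MultipleTransitivity

/-!
# The constituents of the action on pairs of a four fold transitive group

For `G` four fold transitive on `X`, with `f` the number of fixed points and `d` the number of
points moved by `g` and fixed by `g ^ 2`, the functions `f - 1`, `(f² - 3 f + d) / 2` and
`(f² - 3 f + 2 - d) / 2` are irreducible characters.
-/

set_option autoImplicit false

namespace CfsgLib.Char.SmallPerm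

open Finset

variable {G : Type*} [Group G] {X : Type*} [MulAction G X]

section Twisted

variable {E : Type*} [MulAction G E] [MulAction.IsPretransitive G E] [Fintype E] [Nonempty E]
variable [Fintype G]

omit [Fintype E] [Nonempty E] in
theorem card_to_eq (t s : E) :
    Nat.card {g : G // g • t = s} = Nat.card (MulAction.stabilizer G t) := by
  obtain ⟨z, rfl⟩ := MulAction.exists_smul_eq G t s
  exact Nat.card_congr (Equiv.subtypeEquiv (Equiv.mulLeft z⁻¹) fun x => by
    simp only [Equiv.coe_mulLeft, MulAction.mem_stabilizer_iff, mul_smul]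
    exact inv_smul_eq_iff.symm)

omit [Nonempty E] in
theorem card_mul_stabilizer (t : E) :
    Nat.card E * Nat.card (MulAction.stabilizer G t) = Nat.card G := by
  rw [← MulAction.index_stabilizer_of_transitive G t]
  exact Subgroup.index_mul_card _

/-- The average number of points moved to a prescribed position is one. -/
theorem sum_card_twisted (τ : E → E) :
    ∑ g : G, Nat.card {t : E // g • t = τ t} = Nat.card G := by
  classical
  have h1 : ∑ g : G, Nat.card {t : E // g • t = τ t} = ∑ t : E, Nat.card {g : G // g • t = τ t} := by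
    simp only [Nat.card_eq_fintype_card, Fintype.card_subtype, Finset.card_filter]
    exact Finset.sum_comm
  obtain ⟨t₀⟩ := ‹Nonempty E›
  have hc : ∀ t : E, Nat.card {g : G // g • t = τ t} = Nat.card (MulAction.stabilizer G t₀) := by
    intro t
    have h2 := card_mul_stabilizer (G := G) t
    rw [← card_mul_stabilizer (G := G) t₀] at h2
    rw [card_to_eq]
    exact Nat.eq_of_mul_eq_mul_left Nat.card_pos h2
  rw [h1, Finset.sum_congr rfl fun t _ => hc t, Finset.sum_const, smul_eq_mul, Finset.card_univ,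
    ← Nat.card_eq_fintype_card, card_mul_stabilizer]

end Twisted

variable (X) in
/-- The number of fixed points. -/
noncomputable def fx (g : G) : ℕ := Nat.card (MulAction.fixedBy X g)

variable (X) in
/-- The number of points in cycles of length two. -/
noncomputable def dx (g : G) : ℕ := Nat.card {a : X // g • g • a = a ∧ g • a ≠ a}

variable [Finite X] [Fintype G]

/-- Twisting by a permutation of the coordinates. -/
theorem sum_emb {k : ℕ} (hk : k ≤ Nat.card X) [MulAction.IsMultiplyPretransitive G X k]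
    (σ : Equiv.Perm (Fin k)) :
    ∑ g : G, Nat.card {t : Fin k ↪ X // ∀ i, g • t i = t (σ i)} = Nat.card G := by
  classical
  have := Fintype.ofFinite X
  haveI : Nonempty (Fin k ↪ X) :=
    Function.Embedding.nonempty_of_card_le (by rw [Fintype.card_fin, ← Nat.card_eq_fintype_card]; exact hk)
  haveI : MulAction.IsPretransitive G (Fin k ↪ X) :=
    ‹MulAction.IsMultiplyPretransitive G X k›
  rw [← sum_card_twisted (G := G) fun t : Fin k ↪ X => σ.toEmbedding.trans t]
  refine Finset.sum_congr rfl fun g _ => Nat.card_congr (Equiv.subtypeEquivRight fun t => ?_)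
  simp [DFunLike.ext_iff]

omit [Fintype G] in
theorem emb_fixed (k : ℕ) (g : G) :
    Nat.card {t : Fin k ↪ X // ∀ i, g • t i = t ((1 : Equiv.Perm (Fin k)) i)} =
      (fx X g).descFactorial k := by
  classical
  have := Fintype.ofFinite X
  rw [fx, show (Nat.card (MulAction.fixedBy X g)).descFactorial k =
    Nat.card (Fin k ↪ MulAction.fixedBy X g) by
      simp [Nat.card_eq_fintype_card, Fintype.card_embedding_eq]]
  exact Nat.card_congr
    { toFun := fun t => ⟨fun i => ⟨t.1 i, t.2 i⟩, fun i j e => t.1.injective (congrArg Subtype.val e)⟩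
      invFun := fun t => ⟨t.trans (Function.Embedding.subtype _), fun i => (t i).2⟩
      left_inv := fun t => rfl
      right_inv := fun t => rfl }

omit [Finite X] [Fintype G] in
theorem emb_swap (g : G) :
    Nat.card {t : Fin 2 ↪ X // ∀ i, g • t i = t (Equiv.swap (0 : Fin 2) 1 i)} = dx X g := by
  refine Nat.card_congr
    { toFun := fun t => ⟨t.1 0, ?_, ?_⟩
      invFun := fun a => ⟨⟨![a.1, g • a.1], ?_⟩, ?_⟩
      left_inv := ?_
      right_inv := fun a => rfl }
  · have h0 := t.2 0
    have h1 := t.2 1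
    simp only [Equiv.swap_apply_left, Equiv.swap_apply_right] at h0 h1
    rw [h0, h1]
  · have h0 := t.2 0
    simp only [Equiv.swap_apply_left] at h0
    rw [h0]
    exact t.1.injective.ne (by decide)
  · intro i j e
    fin_cases i <;> fin_cases j <;> first | rfl | (exfalso; first | exact a.2.2 e | exact a.2.2 e.symm)
  · intro i
    fin_cases i
    · rfl
    · exact a.2.1
  · intro t
    refine Subtype.ext (DFunLike.ext _ _ fun i => ?_)
    fin_cases i
    · rfl
    · have h0 := t.2 0
      simp only [Equiv.swap_apply_left] at h0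
      exact h0

omit [Fintype G] in
theorem emb_swap_fix (g : G) :
    Nat.card {t : Fin 3 ↪ X // ∀ i, g • t i = t (Equiv.swap (0 : Fin 3) 1 i)} =
      dx X g * fx X g := by
  rw [dx, fx, ← Nat.card_prod]
  refine Nat.card_congr
    { toFun := fun t => (⟨t.1 0, ?_, ?_⟩, ⟨t.1 2, ?_⟩)
      invFun := fun a => ⟨⟨![a.1.1, g • a.1.1, a.2.1], ?_⟩, ?_⟩
      left_inv := ?_
      right_inv := fun a => rfl }
  · have h0 := t.2 0
    have h1 := t.2 1
    simp only [Equiv.swap_apply_left, Equiv.swap_apply_right] at h0 h1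
    rw [h0, h1]
  · have h0 := t.2 0
    simp only [Equiv.swap_apply_left] at h0
    rw [h0]
    exact t.1.injective.ne (by decide)
  · have h2 := t.2 2
    rwa [Equiv.swap_apply_of_ne_of_ne (by decide) (by decide)] at h2
  · obtain ⟨⟨a, ha, ha'⟩, ⟨c, hc⟩⟩ := a
    have hc' : g • c = c := hc
    have h1 : a ≠ c := fun e => ha' (e ▸ hc')
    have h2 : g • a ≠ c := fun e => h1 (smul_left_cancel g (e.trans hc'.symm))
    intro i j e
    fin_cases i <;> fin_cases j <;>
      first | rfl | (exfalso; revert e; simp [ha', ha'.symm, h1, h1.symm, h2, h2.symm])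
  · intro i
    fin_cases i
    · rfl
    · exact a.1.2.1
    · exact a.2.2
  · intro t
    refine Subtype.ext (DFunLike.ext _ _ fun i => ?_)
    fin_cases i
    · rfl
    · have h0 := t.2 0
      simp only [Equiv.swap_apply_left] at h0
      exact h0
    · rfl

omit [Fintype G] in
theorem emb_swap_fix_fix (g : G) :
    Nat.card {t : Fin 4 ↪ X // ∀ i, g • t i = t (Equiv.swap (0 : Fin 4) 1 i)} =
      dx X g * (fx X g).descFactorial 2 := by
  rw [dx, ← emb_fixed, ← Nat.card_prod]
  refine Nat.card_congr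
    { toFun := fun t => (⟨t.1 0, ?_, ?_⟩,
        ⟨⟨![t.1 2, t.1 3], ?_⟩, ?_⟩)
      invFun := fun a => ⟨⟨![a.1.1, g • a.1.1, a.2.1 0, a.2.1 1], ?_⟩, ?_⟩
      left_inv := ?_
      right_inv := ?_ }
  · have h0 := t.2 0
    have h1 := t.2 1
    simp only [Equiv.swap_apply_left, Equiv.swap_apply_right] at h0 h1
    rw [h0, h1]
  · have h0 := t.2 0
    simp only [Equiv.swap_apply_left] at h0
    rw [h0]
    exact t.1.injective.ne (by decide)
  · intro i j e
    fin_cases i <;> fin_cases j <;>
      first | rfl | (exfalso; exact absurd (t.1.injective e) (by decide))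
  · intro i
    fin_cases i
    · have h2 := t.2 2
      rwa [Equiv.swap_apply_of_ne_of_ne (by decide) (by decide)] at h2
    · have h2 := t.2 3
      rwa [Equiv.swap_apply_of_ne_of_ne (by decide) (by decide)] at h2
  · obtain ⟨⟨a, ha, ha'⟩, ⟨c, hc⟩⟩ := a
    have hc' : ∀ i, g • c i = c i := hc
    have h1 : ∀ i, a ≠ c i := fun i e => ha' (e ▸ hc' i)
    have h2 : ∀ i, g • a ≠ c i := fun i e => h1 i (smul_left_cancel g (e.trans (hc' i).symm))
    have h3 : c 0 ≠ c 1 := c.injective.ne (by decide)
    intro i j e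
    fin_cases i <;> fin_cases j <;>
      first | rfl | (exfalso; revert e
                     simp [ha', ha'.symm, h1, (h1 _).symm, h2, (h2 _).symm, h3, h3.symm])
  · intro i
    fin_cases i
    · rfl
    · exact a.1.2.1
    · exact a.2.2 0
    · exact a.2.2 1
  · intro t
    refine Subtype.ext (DFunLike.ext _ _ fun i => ?_)
    fin_cases i
    · rfl
    · have h0 := t.2 0
      simp only [Equiv.swap_apply_left] at h0
      exact h0
    · rfl
    · rfl
  · intro a
    refine Prod.ext rfl (Subtype.ext (DFunLike.ext _ _ fun i => ?_))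
    fin_cases i <;> rfl

omit [Fintype G] in
theorem emb_swap_swap (g : G) :
    Nat.card {t : Fin 4 ↪ X //
        ∀ i, g • t i = t ((Equiv.swap (0 : Fin 4) 1 * Equiv.swap 2 3 : Equiv.Perm (Fin 4)) i)} + 2 * dx X g =
      dx X g * dx X g := by
  classical
  have := Fintype.ofFinite X
  let M := {a : X // g • g • a = a ∧ g • a ≠ a}
  let mv : M → M := fun a => ⟨g • a.1, congrArg (g • ·) a.2.1, fun e => a.2.2 (smul_left_cancel g e)⟩
  have e1 : {t : Fin 4 ↪ X //
      ∀ i, g • t i = t ((Equiv.swap (0 : Fin 4) 1 * Equiv.swap 2 3 : Equiv.Perm (Fin 4)) i)} ≃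
      Σ a : M, {c : M // c ≠ a ∧ c ≠ mv a} := by
    refine
      { toFun := fun t => ⟨⟨t.1 0, ?_, ?_⟩, ⟨⟨t.1 2, ?_, ?_⟩, ?_, ?_⟩⟩
        invFun := fun a => ⟨⟨![a.1.1, g • a.1.1, a.2.1.1, g • a.2.1.1], ?_⟩, ?_⟩
        left_inv := ?_
        right_inv := fun a => rfl }
    · rw [show g • t.1 0 = t.1 1 from t.2 0]; exact t.2 1
    · rw [show g • t.1 0 = t.1 1 from t.2 0]; exact t.1.injective.ne (by decide)
    · rw [show g • t.1 2 = t.1 3 from t.2 2]; exact t.2 3
    · rw [show g • t.1 2 = t.1 3 from t.2 2]; exact t.1.injective.ne (by decide)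
    · exact fun e => absurd (t.1.injective (congrArg Subtype.val e)) (by decide)
    · exact fun e => absurd (t.1.injective ((congrArg Subtype.val e).trans (show g • t.1 0 = t.1 1 from t.2 0))) (by decide)
    · obtain ⟨⟨a, ha, ha'⟩, ⟨⟨c, hc, hc'⟩, hca, hcb⟩⟩ := a
      have h4 : c ≠ a := fun e => hca (Subtype.ext e)
      have h5 : c ≠ g • a := fun e => hcb (Subtype.ext e)
      have h6 : g • c ≠ a := fun e => h5 (by rw [← e, hc])
      have h7 : g • c ≠ g • a := fun e => h4 (smul_left_cancel g e)
      intro i j e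
      fin_cases i <;> fin_cases j <;>
        first | rfl | (exfalso; revert e
                       simp [ha', ha'.symm, hc', hc'.symm, h4, h4.symm, h5, h5.symm, h6, h6.symm, h7,
                         h7.symm])
    · intro i
      fin_cases i
      · rfl
      · exact a.1.2.1
      · rfl
      · exact a.2.1.2.1
    · intro t
      refine Subtype.ext (DFunLike.ext _ _ fun i => ?_)
      fin_cases i
      · rfl
      · exact t.2 0
      · rfl
      · exact t.2 2
  have hfib : ∀ a : M, Nat.card {c : M // c ≠ a ∧ c ≠ mv a} + 2 = Nat.card M := by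
    intro a
    have hne : a ≠ mv a := fun e => a.2.2 (congrArg Subtype.val e).symm
    rw [Nat.card_eq_fintype_card, Nat.card_eq_fintype_card, Fintype.card_subtype,
      show (univ.filter fun c : M => c ≠ a ∧ c ≠ mv a) = univ \ {a, mv a} by ext; simp,
      Finset.card_sdiff_of_subset (Finset.subset_univ _), Finset.card_pair hne, Finset.card_univ]
    have h2 : ({a, mv a} : Finset M).card ≤ Fintype.card M := Finset.card_le_univ _
    rw [Finset.card_pair hne] at h2
    omega
  rw [Nat.card_congr e1, Nat.card_sigma]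
  show _ + 2 * Nat.card M = Nat.card M * Nat.card M
  calc (∑ a : M, Nat.card {c : M // c ≠ a ∧ c ≠ mv a}) + 2 * Nat.card M
      = ∑ a : M, (Nat.card {c : M // c ≠ a ∧ c ≠ mv a} + 2) := by
        rw [Finset.sum_add_distrib, Finset.sum_const, Finset.card_univ, smul_eq_mul,
          ← Nat.card_eq_fintype_card, mul_comm]
    _ = _ := by
        rw [Finset.sum_congr rfl fun a _ => hfib a, Finset.sum_const, Finset.card_univ, smul_eq_mul,
          ← Nat.card_eq_fintype_card]

variable (X) in
/-- `f - 1`. -/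
noncomputable def chi1 (g : G) : ℂ := (fx X g : ℂ) - 1

variable (X) in
/-- The constituent of the action on two element subsets. -/
noncomputable def chi22 (g : G) : ℂ := ((fx X g : ℂ) ^ 2 - 3 * fx X g + dx X g) / 2

variable (X) in
/-- The skew constituent of the action on ordered pairs. -/
noncomputable def chi11 (g : G) : ℂ := ((fx X g : ℂ) ^ 2 - 3 * fx X g + 2 - dx X g) / 2

section Irr

variable [MulAction.IsMultiplyPretransitive G X 4] (hn : 4 ≤ Nat.card X)
include hn

theorem sum_desc {k : ℕ} (hk : k ≤ 4) :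
    ∑ g : G, ((fx X g).descFactorial k : ℂ) = Nat.card G := by
  haveI : MulAction.IsMultiplyPretransitive G X k :=
    MulAction.isMultiplyPretransitive_of_le (G := G) (α := X) hk (by simpa using hn)
  rw [← Nat.cast_sum]
  exact_mod_cast (Finset.sum_congr rfl fun g _ => (emb_fixed k g).symm).trans
    (sum_emb (hk.trans hn) 1)

theorem moments :
    ∑ g : G, (fx X g : ℂ) = Nat.card G ∧
    ∑ g : G, (fx X g : ℂ) ^ 2 = 2 * Nat.card G ∧
    ∑ g : G, (fx X g : ℂ) ^ 3 = 5 * Nat.card G ∧
    ∑ g : G, (fx X g : ℂ) ^ 4 = 15 * Nat.card G ∧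
    ∑ g : G, (dx X g : ℂ) = Nat.card G ∧
    ∑ g : G, (dx X g : ℂ) * fx X g = Nat.card G ∧
    ∑ g : G, (dx X g : ℂ) * (fx X g : ℂ) ^ 2 = 2 * Nat.card G ∧
    ∑ g : G, (dx X g : ℂ) ^ 2 = 3 * Nat.card G := by
  have hk : ∀ k ≤ 4, MulAction.IsMultiplyPretransitive G X k := fun k hk =>
    MulAction.isMultiplyPretransitive_of_le (G := G) (α := X) hk (by simpa using hn)
  have e1 : ∀ m : ℕ, (m : ℂ) = (m.descFactorial 1 : ℂ) := by intro m; simp
  have d2 : ∀ m : ℕ, (m.descFactorial 2 : ℂ) = (m : ℂ) ^ 2 - m := by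
    intro m
    rcases m with _ | m
    · simp
    · simp [Nat.succ_descFactorial_succ]; ring
  have d3 : ∀ m : ℕ, (m.descFactorial 3 : ℂ) = (m : ℂ) ^ 3 - 3 * (m : ℂ) ^ 2 + 2 * m := by
    intro m
    rcases m with _ | _ | m
    · simp
    · simp [Nat.succ_descFactorial_succ]; norm_num
    · simp [Nat.succ_descFactorial_succ]; ring
  have d4 : ∀ m : ℕ, (m.descFactorial 4 : ℂ) =
      (m : ℂ) ^ 4 - 6 * (m : ℂ) ^ 3 + 11 * (m : ℂ) ^ 2 - 6 * m := by
    intro m
    rcases m with _ | _ | _ | m
    · simp
    · simp [Nat.succ_descFactorial_succ]; norm_num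
    · simp [Nat.succ_descFactorial_succ]; norm_num
    · simp [Nat.succ_descFactorial_succ]; ring
  have s1 : ∑ g : G, (fx X g : ℂ) = Nat.card G := by
    rw [Finset.sum_congr rfl fun g _ => e1 (fx X g)]; exact sum_desc hn (by norm_num)
  have s2 : ∑ g : G, (fx X g : ℂ) ^ 2 = 2 * Nat.card G := by
    have h := sum_desc (X := X) (G := G) hn (k := 2) (by norm_num)
    simp only [d2, Finset.sum_sub_distrib] at h
    linear_combination h + s1
  have s3 : ∑ g : G, (fx X g : ℂ) ^ 3 = 5 * Nat.card G := by
    have h := sum_desc (X := X) (G := G) hn (k := 3) (by norm_num)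
    simp only [d3, Finset.sum_add_distrib, Finset.sum_sub_distrib, ← Finset.mul_sum] at h
    linear_combination h + 3 * s2 - 2 * s1
  have s4 : ∑ g : G, (fx X g : ℂ) ^ 4 = 15 * Nat.card G := by
    have h := sum_desc (X := X) (G := G) hn (k := 4) le_rfl
    simp only [d4, Finset.sum_add_distrib, Finset.sum_sub_distrib, ← Finset.mul_sum] at h
    linear_combination h + 6 * s3 - 11 * s2 + 6 * s1
  haveI := hk 2 (by norm_num)
  haveI := hk 3 (by norm_num)
  have t1 : ∑ g : G, (dx X g : ℂ) = Nat.card G := by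
    rw [← Nat.cast_sum]
    exact_mod_cast (Finset.sum_congr rfl fun g _ => (emb_swap g).symm).trans
      (sum_emb (le_trans (by norm_num) hn) _)
  have t2 : ∑ g : G, (dx X g : ℂ) * fx X g = Nat.card G := by
    simp only [← Nat.cast_mul]
    rw [← Nat.cast_sum]
    exact_mod_cast (Finset.sum_congr rfl fun g _ => (emb_swap_fix g).symm).trans
      (sum_emb (le_trans (by norm_num) hn) _)
  have t3 : ∑ g : G, (dx X g : ℂ) * (fx X g : ℂ) ^ 2 = 2 * Nat.card G := by
    have h : ∑ g : G, ((dx X g : ℂ) * ((fx X g).descFactorial 2 : ℂ)) = Nat.card G := by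
      simp only [← Nat.cast_mul]
      rw [← Nat.cast_sum]
      exact_mod_cast (Finset.sum_congr rfl fun g _ => (emb_swap_fix_fix g).symm).trans
        (sum_emb hn _)
    simp only [d2, mul_sub, Finset.sum_sub_distrib] at h
    linear_combination h + t2
  have t4 : ∑ g : G, (dx X g : ℂ) ^ 2 = 3 * Nat.card G := by
    have h : ∑ g : G, ((Nat.card {t : Fin 4 ↪ X //
        ∀ i, g • t i = t ((Equiv.swap (0 : Fin 4) 1 * Equiv.swap 2 3 : Equiv.Perm (Fin 4)) i)} : ℂ) + 2 * dx X g) =
        ∑ g : G, (dx X g : ℂ) ^ 2 := Finset.sum_congr rfl fun g _ => by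
      rw [pow_two]; exact_mod_cast emb_swap_swap (X := X) g
    rw [Finset.sum_add_distrib, ← Nat.cast_sum, sum_emb hn, ← Finset.mul_sum, t1] at h
    linear_combination -h
  exact ⟨s1, s2, s3, s4, t1, t2, t3, t4⟩

theorem norms :
    Cfsg.classInner (chi1 X : G → ℂ) (chi1 X) = 1 ∧
    Cfsg.classInner (chi22 X : G → ℂ) (chi22 X) = 1 ∧
    Cfsg.classInner (chi11 X : G → ℂ) (chi11 X) = 1 := by
  obtain ⟨s1, s2, s3, s4, t1, t2, t3, t4⟩ := moments (G := G) (X := X) hn
  have h1 : ∑ _g : G, (1 : ℂ) = Nat.card G := by simp [Nat.card_eq_fintype_card]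
  refine ⟨?_, ?_, ?_⟩
  all_goals rw [classInner_def, inv_mul_eq_iff_eq_mul₀ card_ne_zero', mul_one]
  · rw [Finset.sum_congr rfl fun g _ => show chi1 X g * (starRingEnd ℂ) (chi1 X g) =
      (fx X g : ℂ) ^ 2 - 2 * fx X g + 1 by
        rw [chi1, map_sub, map_natCast, map_one]; ring]
    simp only [Finset.sum_add_distrib, Finset.sum_sub_distrib, ← Finset.mul_sum, s1, s2, h1]
    ring
  · rw [Finset.sum_congr rfl fun g _ => show chi22 X g * (starRingEnd ℂ) (chi22 X g) =
      ((fx X g : ℂ) ^ 4 - 6 * (fx X g : ℂ) ^ 3 + 9 * (fx X g : ℂ) ^ 2 +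
        2 * ((dx X g : ℂ) * (fx X g : ℂ) ^ 2) - 6 * ((dx X g : ℂ) * fx X g) +
        (dx X g : ℂ) ^ 2) * (1 / 4) by
        rw [chi22]
        simp only [map_div₀, map_add, map_sub, map_mul, map_pow, map_natCast, map_ofNat]
        ring]
    rw [← Finset.sum_mul]
    simp only [Finset.sum_add_distrib, Finset.sum_sub_distrib, ← Finset.mul_sum, s2, s3, s4, t2,
      t3, t4]
    ring
  · rw [Finset.sum_congr rfl fun g _ => show chi11 X g * (starRingEnd ℂ) (chi11 X g) =
      ((fx X g : ℂ) ^ 4 - 6 * (fx X g : ℂ) ^ 3 + 13 * (fx X g : ℂ) ^ 2 - 12 * fx X g + 4 * 1 -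
        2 * ((dx X g : ℂ) * (fx X g : ℂ) ^ 2) + 6 * ((dx X g : ℂ) * fx X g) -
        4 * (dx X g : ℂ) + (dx X g : ℂ) ^ 2) * (1 / 4) by
        rw [chi11]
        simp only [map_div₀, map_add, map_sub, map_mul, map_pow, map_natCast, map_ofNat]
        ring]
    rw [← Finset.sum_mul]
    simp only [Finset.sum_add_distrib, Finset.sum_sub_distrib, ← Finset.mul_sum, s1, s2, s3, s4,
      t1, t2, t3, t4, h1]
    ring

omit hn in
/-- The permutation character on two element subsets. -/
theorem isCharacter_pairs (hn : 4 ≤ Nat.card X) :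
    Cfsg.IsCharacter G (fun g => ((fx X g : ℂ) ^ 2 - fx X g + dx X g) / 2) := by
  classical
  have := Fintype.ofFinite X
  haveI : MulAction.IsMultiplyPretransitive G X 2 :=
    MulAction.isMultiplyPretransitive_of_le (G := G) (α := X) (n := 4) (by norm_num) (by simpa using hn)
  haveI : MulAction.IsPretransitive G (Fin 2 ↪ X) := ‹MulAction.IsMultiplyPretransitive G X 2›
  obtain ⟨t⟩ : Nonempty (Fin 2 ↪ X) := Function.Embedding.nonempty_of_card_le (by
    rw [Fintype.card_fin, ← Nat.card_eq_fintype_card]; omega)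
  set s : Fin 2 ↪ X := (Equiv.swap (0 : Fin 2) 1).toEmbedding.trans t with hs
  have hss : (Equiv.swap (0 : Fin 2) 1).toEmbedding.trans s = t := by
    ext i; simp [hs]
  have hcomm : ∀ (h : G) (u : Fin 2 ↪ X),
      h • ((Equiv.swap (0 : Fin 2) 1).toEmbedding.trans u) =
        (Equiv.swap (0 : Fin 2) 1).toEmbedding.trans (h • u) := fun h u => by ext i; simp
  let H : Subgroup G :=
    { carrier := {h | h • t = t ∨ h • t = s}
      one_mem' := Or.inl (one_smul G t)
      mul_mem' := by
        rintro a b ha (hb | hb)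
        · simpa [Set.mem_setOf_eq, mul_smul, hb] using ha
        · rw [Set.mem_setOf_eq, mul_smul, hb, hs, hcomm]
          rcases ha with ha | ha <;> rw [ha]
          · exact Or.inr rfl
          · exact Or.inl hss
      inv_mem' := by
        rintro a (ha | ha)
        · exact Or.inl (inv_smul_eq_iff.mpr ha.symm)
        · refine Or.inr (inv_smul_eq_iff.mpr ?_)
          rw [hs, hcomm, ha, hss] }
  have hne : s ≠ t := fun e => by
    have := DFunLike.congr_fun e 0
    simp only [hs, Function.Embedding.trans_apply, Equiv.coe_toEmbedding,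
      Equiv.swap_apply_left] at this
    exact absurd (t.injective this) (by decide)
  set c := Nat.card (MulAction.stabilizer G t) with hc
  have hcount : ∀ u : Fin 2 ↪ X, (univ.filter fun h : G => h • t = u).card = c := fun u => by
    rw [← Fintype.card_subtype, ← Nat.card_eq_fintype_card, card_to_eq]
  have hH : Nat.card H = 2 * c := by
    rw [Nat.card_eq_fintype_card,
      Fintype.card_of_subtype (univ.filter fun h : G => h • t = t ∨ h • t = s)
        (fun x => by rw [mem_filter]; exact and_iff_right (mem_univ _)), filter_or,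
      card_union_of_disjoint (disjoint_filter.mpr fun h _ e1 e2 => hne (e2.symm.trans e1)),
      hcount, hcount, two_mul]
  have hchar : Cfsg.IsCharacter G (Cfsg.indFun H fun _ => 1) := isCharacter_indFun _ isCharacter_one
  convert hchar using 1
  funext g
  rw [indFun_apply]
  have hval : ∀ x : G, Cfsg.extendByZero H (fun _ => (1 : ℂ)) (x⁻¹ * g * x) =
      (if g • (x • t) = x • t then (1 : ℂ) else 0) +
        if g • (x • t) = (Equiv.swap (0 : Fin 2) 1).toEmbedding.trans (x • t) then (1 : ℂ) else 0 := by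
    intro x
    rw [extendByZero_eq_dite]
    have h1 : (x⁻¹ * g * x) • t = t ↔ g • (x • t) = x • t := by
      rw [mul_smul, mul_smul]; exact inv_smul_eq_iff
    have h2 : (x⁻¹ * g * x) • t = s ↔
        g • (x • t) = (Equiv.swap (0 : Fin 2) 1).toEmbedding.trans (x • t) := by
      rw [mul_smul, mul_smul, ← hcomm, ← hs]; exact inv_smul_eq_iff
    have hmem : x⁻¹ * g * x ∈ H ↔ ((x⁻¹ * g * x) • t = t ∨ (x⁻¹ * g * x) • t = s) := Iff.rfl
    by_cases e1 : g • (x • t) = x • t
    · have e2 : ¬ g • (x • t) = (Equiv.swap (0 : Fin 2) 1).toEmbedding.trans (x • t) := fun e2 =>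
        hne ((h2.mpr e2).symm.trans (h1.mpr e1))
      rw [dif_pos (hmem.mpr (Or.inl (h1.mpr e1))), if_pos e1, if_neg e2, add_zero]
    · by_cases e2 : g • (x • t) = (Equiv.swap (0 : Fin 2) 1).toEmbedding.trans (x • t)
      · rw [dif_pos (hmem.mpr (Or.inr (h2.mpr e2))), if_neg e1, if_pos e2, zero_add]
      · rw [dif_neg (fun h => (hmem.mp h).elim (fun h => e1 (h1.mp h)) fun h => e2 (h2.mp h)),
          if_neg e1, if_neg e2, add_zero]
  have hfib : ∀ (P : (Fin 2 ↪ X) → Prop) [DecidablePred P],
      ∑ x : G, (if P (x • t) then (1 : ℂ) else 0) = (c : ℂ) * (Nat.card {u // P u} : ℂ) := by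
    intro P _
    rw [← Finset.sum_fiberwise univ fun x : G => x • t, Nat.card_eq_fintype_card,
      Fintype.card_subtype, Finset.card_filter, Nat.cast_sum, Finset.mul_sum]
    refine Finset.sum_congr rfl fun u _ => ?_
    rw [Finset.sum_congr rfl fun x hx => by rw [(mem_filter.mp hx).2], Finset.sum_const, hcount,
      nsmul_eq_mul]
    push_cast
    rfl
  simp only [hval, Finset.sum_add_distrib]
  rw [hfib (fun u => g • u = u),
    hfib (fun u => g • u = (Equiv.swap (0 : Fin 2) 1).toEmbedding.trans u), hH]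
  have e1 : Nat.card {u : Fin 2 ↪ X // g • u = u} = (fx X g).descFactorial 2 := by
    rw [← emb_fixed]
    exact Nat.card_congr (Equiv.subtypeEquivRight fun u => by simp [DFunLike.ext_iff])
  have e2 : Nat.card {u : Fin 2 ↪ X //
      g • u = (Equiv.swap (0 : Fin 2) 1).toEmbedding.trans u} = dx X g := by
    rw [← emb_swap]
    exact Nat.card_congr (Equiv.subtypeEquivRight fun u => by simp [DFunLike.ext_iff])
  rw [e1, e2]
  have hc0 : (c : ℂ) ≠ 0 := Nat.cast_ne_zero.mpr Nat.card_pos.ne'
  rcases Nat.eq_zero_or_pos (fx X g) with h0 | h0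
  · rw [h0]; push_cast; simp; field_simp
  · obtain ⟨m, hm⟩ := Nat.exists_eq_succ_of_ne_zero h0.ne'
    rw [hm]
    simp [Nat.succ_descFactorial_succ]
    field_simp
    ring

/-- The three characters are irreducible. -/
theorem irreducible :
    Cfsg.IsIrrCharacter G (chi1 X) ∧ Cfsg.IsIrrCharacter G (chi22 X) ∧
      Cfsg.IsIrrCharacter G (chi11 X) := by
  have := Fintype.ofFinite X
  haveI : MulAction.IsMultiplyPretransitive G X 1 :=
    MulAction.isMultiplyPretransitive_of_le (G := G) (α := X) (n := 4) (by norm_num) (by simpa using hn)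
  haveI : MulAction.IsPretransitive G X := MulAction.is_one_pretransitive_iff.mp inferInstance
  haveI : Nonempty X := (Nat.card_pos_iff.mp (by omega)).1
  obtain ⟨n1, n22, n11⟩ := norms (G := G) (X := X) hn
  have hf : Cfsg.IsGeneralizedCharacter G (fun g => (fx X g : ℂ)) := isGen_of_char isCharacter_permChar
  have hp : Cfsg.IsGeneralizedCharacter G (fun g => ((fx X g : ℂ) ^ 2 - fx X g + dx X g) / 2) :=
    isGen_of_char (isCharacter_pairs hn)
  have g1 : Cfsg.IsGeneralizedCharacter G (chi1 X) :=
    (isGen_sub hf isGen_one : Cfsg.IsGeneralizedCharacter G ((fun g => (fx X g : ℂ)) - fun _ => 1))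
  have g22 : Cfsg.IsGeneralizedCharacter G (chi22 X) := by
    convert isGen_sub hp hf using 1
    funext g; simp [chi22]; ring
  have g11 : Cfsg.IsGeneralizedCharacter G (chi11 X) := by
    convert isGen_add (isGen_sub (isGen_sub (isGen_sub (isGen_mul hf hf) hf) hp) hf) isGen_one
      using 1
    funext g; simp [chi11]; ring
  have hf1 : fx X (1 : G) = Nat.card X := by
    rw [fx]
    exact Nat.card_congr (Equiv.subtypeUnivEquiv fun a => one_smul G a)
  have hd1 : dx X (1 : G) = 0 := by
    rw [dx, Nat.card_eq_zero]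
    exact Or.inl ⟨fun a => a.2.2 (one_smul G a.1)⟩
  have h4 : (4 : ℝ) ≤ Nat.card X := by exact_mod_cast hn
  refine ⟨gen_norm_one_pos g1 n1 ?_, gen_norm_one_pos g22 n22 ?_, gen_norm_one_pos g11 n11 ?_⟩
  · simp [chi1, hf1, Nat.card_eq_fintype_card] at h4 ⊢; omega
  · simp [chi22, hf1, hd1, pow_two, Nat.card_eq_fintype_card] at h4 ⊢; rify at h4; nlinarith
  · simp [chi11, hf1, hd1, pow_two, Nat.card_eq_fintype_card] at h4 ⊢; rify at h4; nlinarith

end Irr

end CfsgLib.Char.SmallPerm
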