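import Cfsg.Agent.Lib.Char.Integral
import Mathlib.NumberTheory.NumberField.InfinitePlace.Embeddings
import Mathlib.GroupTheory.Sylow
import Mathlib.GroupTheory.Solvable
import Mathlib.GroupTheory.SpecificGroups.Cyclic

/-!
# Burnside's `p^a q^b` theorem
-/

namespace CfsgLib.Char

open Module Polynomial
open scoped ComplexConjugate

/-- An algebraic integer of a number field inside `ℂ` all whose conjugates have absolute value at
most `1` and which itself has absolute value less than `1` is zero. -/
theorem eq_zero_of_conjugates_norm_le_one (K : IntermediateField ℚ ℂ) [FiniteDimensional ℚ K]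
    (a : K) (ha : IsIntegral ℤ a) (hconj : ∀ φ : K →+* ℂ, ‖φ a‖ ≤ 1) (hlt : ‖(a : ℂ)‖ < 1) :
    a = 0 := by
  have : NumberField K := ⟨⟩
  by_contra ha0
  set P := minpoly ℚ a with hP
  have hPint : P = (minpoly ℤ a).map (algebraMap ℤ ℚ) :=
    minpoly.isIntegrallyClosed_eq_field_fractions' ℚ ha
  have hmon : (P.map (algebraMap ℚ ℂ)).Monic := (minpoly.monic ha.tower_top).map _
  have hspl : Splits (P.map (algebraMap ℚ ℂ)) := IsAlgClosed.splits _
  have h1 := hspl.coeff_zero_eq_prod_roots_of_monic hmon
  have hne : P.coeff 0 ≠ 0 := minpoly.coeff_zero_ne_zero ha.tower_top ha0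
  have hroots : ∀ r ∈ (P.map (algebraMap ℚ ℂ)).roots, ‖r‖ ≤ 1 := by
    intro r hr
    have hr' : r ∈ P.rootSet ℂ := by
      rw [rootSet, Finset.mem_coe, Multiset.mem_toFinset]
      exact hr
    rw [hP, ← NumberField.Embeddings.range_eval_eq_rootSet_minpoly K ℂ a] at hr'
    obtain ⟨φ, rfl⟩ := hr'
    exact hconj φ
  have hmem : (a : ℂ) ∈ (P.map (algebraMap ℚ ℂ)).roots := by
    rw [mem_roots hmon.ne_zero, IsRoot.def, eval_map, ← aeval_def]
    exact Polynomial.aeval_algHom_apply K.val a P ▸ by simp [P]
  have hlt' : ‖((P.map (algebraMap ℚ ℂ)).roots).prod‖ < 1 := by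
    obtain ⟨s, hs⟩ := Multiset.exists_cons_of_mem hmem
    rw [hs] at hroots ⊢
    rw [Multiset.prod_cons, norm_mul]
    have hs1 : ‖s.prod‖ ≤ 1 := by
      clear hs
      induction s using Multiset.induction with
      | empty => simp
      | cons x t ih =>
        rw [Multiset.prod_cons, norm_mul]
        exact mul_le_one₀ (hroots x (by simp)) (norm_nonneg _)
          (ih fun r hr => hroots r (by
            rcases Multiset.mem_cons.mp hr with h | h
            · simp [h]
            · simp [h]))
    calc ‖(a : ℂ)‖ * ‖s.prod‖ ≤ ‖(a : ℂ)‖ * 1 :=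
          mul_le_mul_of_nonneg_left hs1 (norm_nonneg _)
      _ < 1 := by rwa [mul_one]
  have hz : ‖(P.map (algebraMap ℚ ℂ)).coeff 0‖ < 1 := by
    rw [h1, norm_mul, norm_pow, norm_neg, norm_one, one_pow, one_mul]
    exact hlt'
  rw [coeff_map, hPint, coeff_map] at hz
  have hz0 : (minpoly ℤ a).coeff 0 ≠ 0 := fun h => hne (by rw [hPint, coeff_map, h, map_zero])
  have : (1 : ℝ) ≤ |(((minpoly ℤ a).coeff 0 : ℤ) : ℝ)| := by
    exact_mod_cast Int.one_le_abs hz0
  simp at hz
  linarith

variable {G : Type*} [Group G] [Fintype G]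

/-- If the degree is coprime to the class size, the value is zero or of maximal absolute value. -/
theorem zero_or_norm_eq {V : Type*} [AddCommGroup V] [Module ℂ V] [FiniteDimensional ℂ V]
    (ρ : Representation ℂ G V) [ρ.IsIrreducible] (g : G)
    (hcop : Nat.Coprime (finrank ℂ V) (Subgroup.centralizer ({g} : Set G)).index) :
    ρ.character g = 0 ∨ ‖ρ.character g‖ = (finrank ℂ V : ℝ) := by
  rcases (norm_character_le ρ g).lt_or_eq with hlt | heq
  · left
    obtain ⟨z, hz, hsum⟩ := exists_roots_char ρ g
    have hn0 : finrank ℂ V ≠ 0 := (finrank_pos_of_irreducible ρ).ne'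
    have hn : (finrank ℂ V : ℂ) ≠ 0 := by exact_mod_cast hn0
    have hint1 := isIntegral_index_mul_div (isIrrCharacter_char ρ) g
    rw [Representation.char_one] at hint1
    have hint : IsIntegral ℤ (ρ.character g / finrank ℂ V) := by
      have hb : (1 : ℤ) = (finrank ℂ V : ℤ) *
            Nat.gcdA (finrank ℂ V) (Subgroup.centralizer ({g} : Set G)).index +
          ((Subgroup.centralizer ({g} : Set G)).index : ℤ) *
            Nat.gcdB (finrank ℂ V) (Subgroup.centralizer ({g} : Set G)).index := by
        have h := Nat.gcd_eq_gcd_ab (finrank ℂ V) (Subgroup.centralizer ({g} : Set G)).index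
        rw [hcop.gcd_eq_one] at h
        exact_mod_cast h
      set u : ℤ := Nat.gcdA (finrank ℂ V) (Subgroup.centralizer ({g} : Set G)).index
      set v : ℤ := Nat.gcdB (finrank ℂ V) (Subgroup.centralizer ({g} : Set G)).index
      have hbc : (1 : ℂ) = (finrank ℂ V : ℂ) * u +
          ((Subgroup.centralizer ({g} : Set G)).index : ℂ) * v := by exact_mod_cast hb
      have : ρ.character g / finrank ℂ V = (u : ℂ) * ρ.character g + (v : ℂ) *
          (((Subgroup.centralizer ({g} : Set G)).index : ℂ) * ρ.character g / finrank ℂ V) := by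
        field_simp
        linear_combination (ρ.character g) * hbc
      rw [this]
      exact ((isIntegral_algebraMap (x := u)).mul (character_isIntegral ρ g)).add
        ((isIntegral_algebraMap (x := v)).mul hint1)
    let K := IntermediateField.adjoin ℚ (Set.range z)
    have : FiniteDimensional ℚ K := IntermediateField.finiteDimensional_adjoin fun x hx => by
      obtain ⟨i, rfl⟩ := hx
      exact IsIntegral.of_pow (orderOf_pos g) (hz i ▸ isIntegral_one)
    let Z : Fin (finrank ℂ V) → K := fun i => ⟨z i, IntermediateField.subset_adjoin ℚ _ ⟨i, rfl⟩⟩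
    let a : K := (∑ i, Z i) / (finrank ℂ V : K)
    have ha : (a : ℂ) = ρ.character g / finrank ℂ V := by simp [a, Z, hsum]
    have h0 : a = 0 := by
      refine eq_zero_of_conjugates_norm_le_one K a ?_ (fun φ => ?_) ?_
      · exact (isIntegral_algebraMap_iff (R := ℤ) (FaithfulSMul.algebraMap_injective K ℂ)).mp
          (show IsIntegral ℤ (a : ℂ) from ha ▸ hint)
      · have hφ : ∀ i, ‖φ (Z i)‖ = 1 := fun i =>
          norm_eq_one_of_pow_eq_one' (orderOf_pos g).ne' (by
            rw [← map_pow, show Z i ^ orderOf g = 1 from Subtype.ext (by simp [Z, hz i]), map_one])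
        rw [map_div₀, map_natCast, norm_div, Complex.norm_natCast, map_sum,
          div_le_one (by exact_mod_cast Nat.pos_of_ne_zero hn0)]
        refine (norm_sum_le _ _).trans_eq ?_
        simp [hφ]
      · rw [ha, norm_div, Complex.norm_natCast, div_lt_one (by exact_mod_cast Nat.pos_of_ne_zero hn0)]
        exact hlt
    have : ρ.character g / finrank ℂ V = 0 := by rw [← ha, h0]; simp
    exact (div_eq_zero_iff.mp this).resolve_right hn
  · exact Or.inr heq

/-- A finite simple group with a non-trivial class of prime power size has prime order. -/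
theorem prime_card_of_class_primePow [IsSimpleGroup G] (p k : ℕ) (hp : p.Prime) (g : G)
    (hg : g ≠ 1) (hclass : (Subgroup.centralizer ({g} : Set G)).index = p ^ k) :
    (Nat.card G).Prime := by
  classical
  by_cases hcomm : ∀ a b : G, a * b = b * a
  · let _ : CommGroup G := { ‹Group G› with mul_comm := hcomm }
    exact IsSimpleGroup.prime_card
  exfalso
  have hk : k ≠ 0 := by
    rintro rfl
    rw [pow_zero, Subgroup.index_eq_one, Subgroup.centralizer_eq_top_iff_subset,
      Set.singleton_subset_iff] at hclass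
    rcases Subgroup.Normal.eq_bot_or_eq_top (inferInstance : (Subgroup.center G).Normal) with h | h
    · exact hg (by simpa [h] using hclass)
    · exact hcomm fun a b => (Subgroup.mem_center_iff.mp (h ▸ Subgroup.mem_top b : b ∈ Subgroup.center G) a)
  have key : ∀ χ : Cfsg.IrrCharacter G, χ ≠ irrOne → ∀ n : ℕ, (χ : G → ℂ) 1 = n → ¬ p ∣ n →
      (χ : G → ℂ) g = 0 := by
    intro χ hne n hn hpn
    obtain ⟨m, ρ, hirr, hρ⟩ := χ.2
    have hfr : finrank ℂ (Fin m → ℂ) = n := by
      have h := congrFun hρ 1
      rw [Representation.char_one, hn] at h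
      exact_mod_cast h
    rw [← congrFun hρ g]
    refine (zero_or_norm_eq ρ g (by
      rw [hclass, hfr]
      exact Nat.Coprime.pow_right _ ((hp.coprime_iff_not_dvd.mpr hpn).symm))).resolve_right
      fun hnorm => ?_
    obtain ⟨ω, hω⟩ := (norm_character_eq_iff ρ g).mp hnorm
    let S : Subgroup G :=
      { carrier := {x | ∀ y, ρ x * ρ y = ρ y * ρ x}
        one_mem' := fun y => by simp
        mul_mem' := fun {a b} ha hb y => by
          rw [map_mul, mul_assoc, hb y, ← mul_assoc, ha y, mul_assoc]
        inv_mem' := fun {a} ha y => by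
          have h1 : ρ a⁻¹ * ρ a = 1 := by rw [← map_mul]; simp
          have h2 : ρ a * ρ a⁻¹ = 1 := by rw [← map_mul]; simp
          calc ρ a⁻¹ * ρ y = ρ a⁻¹ * (ρ y * (ρ a * ρ a⁻¹)) := by rw [h2, mul_one]
            _ = ρ a⁻¹ * ρ a * (ρ y * ρ a⁻¹) := by rw [← mul_assoc (ρ y), ← ha y]; noncomm_ring
            _ = ρ y * ρ a⁻¹ := by rw [h1, one_mul] }
    have hS : S.Normal := ⟨fun x hx c y => by
      have h := hx (c⁻¹ * y * c)
      calc ρ (c * x * c⁻¹) * ρ y = ρ c * (ρ x * ρ (c⁻¹ * y * c)) * ρ c⁻¹ := by
            simp only [← map_mul]; group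
        _ = ρ c * (ρ (c⁻¹ * y * c) * ρ x) * ρ c⁻¹ := by rw [h]
        _ = ρ y * ρ (c * x * c⁻¹) := by simp only [← map_mul]; group⟩
    have hgS : g ∈ S := fun y => by
      rw [hω]
      exact LinearMap.ext fun v => by simp
    have htop : S = ⊤ := (Subgroup.Normal.eq_bot_or_eq_top hS).resolve_left
      fun h => hg (by simpa [h] using hgS)
    have hscal : ∀ x, ∃ c : ℂ, ρ x = c • LinearMap.id := fun x =>
      exists_eq_smul_id ρ (ρ x) fun y => (htop ▸ Subgroup.mem_top x : x ∈ S) y
    have hcom : ∀ a b : G, ρ (a * b) = ρ (b * a) := fun a b => by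
      rw [map_mul, map_mul]
      exact (htop ▸ Subgroup.mem_top a : a ∈ S) b
    rcases Subgroup.Normal.eq_bot_or_eq_top ρ.normal_ker with hker | hker
    · exact hcomm fun a b => ρ.ker_eq_bot_iff.mp hker (hcom a b)
    · have hone : ∀ x, ρ x = LinearMap.id := fun x => MonoidHom.mem_ker.mp (hker ▸ Subgroup.mem_top x)
      have hconst : (χ : G → ℂ) = fun _ => (n : ℂ) := funext fun x => by
        rw [← congrFun hρ x]; simp [Representation.character, hone x, ← hfr]
      have h1 := classInner_irr_self χ.2
      rw [hconst, classInner_def] at h1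
      simp only [map_natCast, Finset.sum_const, Finset.card_univ, nsmul_eq_mul,
        ← Nat.card_eq_fintype_card, inv_mul_cancel_left₀ card_ne_zero'] at h1
      have : n = 1 := Nat.eq_one_of_mul_eq_one_left (by exact_mod_cast h1)
      exact hne (Subtype.ext (by rw [hconst, this]; simp [irrOne]))
  have hsum := sum_degree_mul_apply g
  rw [if_neg hg, ← Finset.add_sum_erase Finset.univ _ (Finset.mem_univ (irrOne (G := G)))] at hsum
  have hint : IsIntegral ℤ ((∑ χ ∈ Finset.univ.erase (irrOne (G := G)),
      (χ : G → ℂ) 1 * (χ : G → ℂ) g) / p) := by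
    rw [Finset.sum_div]
    refine IsIntegral.sum _ fun χ hχ => ?_
    obtain ⟨n, hn⟩ := exists_degree (isCharacter_of_isIrr χ.2)
    by_cases hpn : p ∣ n
    · obtain ⟨c, rfl⟩ := hpn
      have hp0 : (p : ℂ) ≠ 0 := by exact_mod_cast hp.ne_zero
      rw [hn, Nat.cast_mul, mul_assoc, mul_div_cancel_left₀ _ hp0]
      exact (isIntegral_algebraMap (x := (c : ℤ))).mul (char_isIntegral (isCharacter_of_isIrr χ.2) g)
    · rw [key χ (Finset.ne_of_mem_erase hχ) n hn hpn]
      simpa using isIntegral_zero
  have heq : (∑ χ ∈ Finset.univ.erase (irrOne (G := G)),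
      (χ : G → ℂ) 1 * (χ : G → ℂ) g) = -1 := by
    simp only [irrOne_apply] at hsum
    linear_combination hsum
  rw [heq] at hint
  have : IsIntegral ℤ (((1 : ℕ) : ℂ) / p) := by
    convert hint.neg using 1
    rw [Nat.cast_one]; ring
  exact hp.one_lt.ne' (Nat.dvd_one.mp (dvd_of_isIntegral_div hp.ne_zero this))

omit [Fintype G] in
/-- Burnside's `p^a q^b` theorem. -/
theorem isSolvable_of_card_eq_pow_mul_pow [Finite G] {p q : ℕ} (hp : p.Prime) (hq : q.Prime) :
    ∀ {a b : ℕ}, Nat.card G ∣ p ^ a * q ^ b → Group.IsSolvable G := by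
  induction hn : Nat.card G using Nat.strong_induction_on generalizing G with
  | _ n ih =>
  subst hn
  intro a b hcard
  rcases subsingleton_or_nontrivial G with hG | hG
  · infer_instance
  by_cases hs : IsSimpleGroup G
  · obtain ⟨r, hr, hrG⟩ := Nat.exists_prime_and_dvd (n := Nat.card G)
      (by have := Finite.one_lt_card (α := G); omega)
    have := Fact.mk hr
    obtain ⟨P⟩ := (inferInstance : Nonempty (Sylow r G))
    have hPnt : Nontrivial (P : Subgroup G) := by
      rw [← Finite.one_lt_card_iff_nontrivial]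
      exact lt_of_lt_of_le hr.one_lt (Nat.le_of_dvd Nat.card_pos (P.dvd_card_of_dvd_card hrG))
    have := P.isPGroup'.center_nontrivial
    obtain ⟨⟨z, hz⟩, hz1⟩ := exists_ne (1 : Subgroup.center (P : Subgroup G))
    have hle : (P : Subgroup G) ≤ Subgroup.centralizer ({(z : G)} : Set G) := fun x hx => by
      rw [Subgroup.mem_centralizer_singleton_iff]
      exact congrArg Subtype.val (Subgroup.mem_center_iff.mp hz ⟨x, hx⟩)
    have hidx := Subgroup.index_dvd_of_le hle
    have hcop : Nat.Coprime r (Subgroup.centralizer ({(z : G)} : Set G)).index :=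
      hr.coprime_iff_not_dvd.mpr fun h => P.not_dvd_index (h.trans hidx)
    have hdvd : (Subgroup.centralizer ({(z : G)} : Set G)).index ∣ p ^ a * q ^ b :=
      (Subgroup.index_dvd_card _).trans hcard
    have hz' : (z : G) ≠ 1 := fun h => hz1 (Subtype.ext (Subtype.ext h))
    have hprime : (Nat.card G).Prime := by
      have := Fintype.ofFinite G
      rcases (Nat.Prime.dvd_mul hr).mp (hrG.trans hcard) with h | h
      · obtain rfl := (Nat.prime_dvd_prime_iff_eq hr hp).mp (hr.dvd_of_dvd_pow h)
        obtain ⟨k, -, hk⟩ := (Nat.dvd_prime_pow hq).mp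
          (((hcop.pow_left a).symm).dvd_of_dvd_mul_left hdvd)
        exact prime_card_of_class_primePow q k hq _ hz' hk
      · obtain rfl := (Nat.prime_dvd_prime_iff_eq hr hq).mp (hr.dvd_of_dvd_pow h)
        obtain ⟨k, -, hk⟩ := (Nat.dvd_prime_pow hp).mp
          (((hcop.pow_left b).symm).dvd_of_dvd_mul_right hdvd)
        exact prime_card_of_class_primePow p k hp _ hz' hk
    have := Fact.mk hprime
    have := isCyclic_of_prime_card (α := G) rfl
    exact Group.isSolvable_of_comm fun a b => (IsCyclic.commGroup (α := G)).mul_comm a b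
  · obtain ⟨N, hN, hne, hnt⟩ : ∃ N : Subgroup G, N.Normal ∧ N ≠ ⊥ ∧ N ≠ ⊤ := by
      by_contra h
      push Not at h
      exact hs ⟨fun N hN => (eq_or_ne N ⊥).imp_right (h N hN)⟩
    have := hN
    have hmul := N.card_eq_card_quotient_mul_card_subgroup
    have h1 : Nat.card N < Nat.card G :=
      lt_of_le_of_ne N.card_le_card_group fun h => hnt (Subgroup.eq_top_of_card_eq N h)
    have h2 : Nat.card (G ⧸ N) < Nat.card G := by
      have : 1 < Nat.card N := Subgroup.one_lt_card_iff_ne_bot N |>.mpr hne
      rw [hmul]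
      exact lt_mul_of_one_lt_right Nat.card_pos this
    have := ih _ h1 (G := N) rfl ((N.card_subgroup_dvd_card).trans hcard)
    have := ih _ h2 (G := G ⧸ N) rfl ((Subgroup.card_quotient_dvd_card N).trans hcard)
    exact Group.isSolvable_of_ker_le_range N.subtype (QuotientGroup.mk' N) (by simp)

end CfsgLib.Char
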