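import Cfsg.Agent.Lib.Char.Generalized
import Mathlib.GroupTheory.Sylow

/-!
# Induction from normalizers of trivial intersection sets; coherence of equal-degree families
-/

namespace CfsgLib.Char

open scoped ComplexConjugate

variable {G : Type*} [Group G] [Fintype G]

/-- The induced function agrees with a class function supported on a TI set at its nonidentity
elements. -/
theorem indFun_eq_of_TI (H : Subgroup G) (T : Set G)
    (hTI : ∀ g : G, g ∉ H → ∀ t ∈ T, g * t * g⁻¹ ∈ T → t = 1)
    {ψ : H → ℂ} (hψ : Cfsg.IsClassFunction H ψ) (hψT : ∀ x : H, (x : G) ∉ T → ψ x = 0)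
    {t : H} (htT : (t : G) ∈ T) (ht1 : t ≠ 1) : Cfsg.indFun H ψ t = ψ t := by
  classical
  have hval : ∀ x : G, Cfsg.extendByZero H ψ (x⁻¹ * t * x) = if x ∈ H then ψ t else 0 := by
    intro x
    split_ifs with hx
    · have h := extendByZero_conj_mem ψ hψ (H.inv_mem hx) (t : G)
      rw [inv_inv, extendByZero_coe] at h
      exact h
    · by_cases hm : x⁻¹ * t * x ∈ H
      · rw [extendByZero_of_mem ψ hm]
        refine hψT _ fun hT => ht1 ?_
        exact Subtype.ext (hTI x⁻¹ (fun h => hx (by simpa using H.inv_mem h)) t htT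
          (by simpa using hT))
      · exact extendByZero_of_notMem ψ hm
  rw [indFun_apply, Finset.sum_congr rfl fun x _ => hval x, Finset.sum_ite, Finset.sum_const_zero,
    add_zero, Finset.sum_const, nsmul_eq_mul, ← Fintype.card_subtype]
  have hc : (Nat.card H : ℂ) ≠ 0 := card_subgroup_ne_zero H
  have e : Nat.card H = Fintype.card {x // x ∈ H} := Nat.card_eq_fintype_card
  rw [← mul_assoc, ← e, inv_mul_cancel₀ hc, one_mul]

/-- Induction from the normalizer of a TI set is an isometry. -/
theorem classInner_indFun_of_TI (H : Subgroup G) [Fintype H] (T : Set G)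
    (hTI : ∀ g : G, g ∉ H → ∀ t ∈ T, g * t * g⁻¹ ∈ T → t = 1)
    {ψ θ : H → ℂ} (hθ : Cfsg.IsClassFunction H θ) (hψT : ∀ x : H, (x : G) ∉ T → ψ x = 0)
    (hθT : ∀ x : H, (x : G) ∉ T → θ x = 0) (hψ1 : ψ 1 = 0) :
    Cfsg.classInner (Cfsg.indFun H ψ) (Cfsg.indFun H θ) = Cfsg.classInner ψ θ := by
  rw [frobenius_reciprocity H ψ (isClassFunction_indFun H θ), classInner_def, classInner_def]
  congr 1
  refine Finset.sum_congr rfl fun x _ => ?_
  by_cases hxT : (x : G) ∈ T
  · rcases eq_or_ne x 1 with rfl | hx1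
    · simp [hψ1]
    · rw [indFun_eq_of_TI H T hTI hθ hθT hxT hx1]
  · simp [hψT x hxT]

/-- Two irreducible characters describe a generalized character of norm two vanishing at one. -/
theorem gen_norm_two {θ : G → ℂ} (h : Cfsg.IsGeneralizedCharacter G θ)
    (h2 : Cfsg.classInner θ θ = 2) (h0 : θ 1 = 0) :
    ∃ a b : Cfsg.IrrCharacter G, a ≠ b ∧ θ = (a : G → ℂ) - b := by
  classical
  obtain ⟨m, hm, -, hsq⟩ := gen_decomp h
  rw [h2] at hsq
  have hsq' : ∑ χ, m χ ^ 2 = 2 := by exact_mod_cast hsq.symm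
  choose d hd0 hd using fun χ : Cfsg.IrrCharacter G => exists_degree_pos χ.2
  have hdeg : ∑ χ, m χ * (d χ : ℤ) = 0 := by
    have h1 := congrFun hm 1
    simp only [Finset.sum_apply, Pi.smul_apply, smul_eq_mul, hd, h0] at h1
    exact_mod_cast h1.symm
  obtain ⟨a, ha⟩ : ∃ a, 0 < m a := by
    by_contra hall
    push Not at hall
    have hz : ∀ χ, m χ = 0 := fun χ => by
      have h3 := (Finset.sum_eq_zero_iff_of_nonpos fun χ _ =>
        mul_nonpos_of_nonpos_of_nonneg (hall χ) (Nat.cast_nonneg (d χ))).mp hdeg χ (Finset.mem_univ χ)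
      exact (mul_eq_zero.mp h3).resolve_right (by exact_mod_cast (hd0 χ).ne')
    simp [hz] at hsq'
  obtain ⟨b, hb⟩ : ∃ b, m b < 0 := by
    by_contra hall
    push Not at hall
    have h3 := (Finset.sum_eq_zero_iff_of_nonneg fun χ _ =>
      mul_nonneg (hall χ) (Nat.cast_nonneg (d χ))).mp hdeg a (Finset.mem_univ a)
    rcases mul_eq_zero.mp h3 with h4 | h4
    · omega
    · exact (hd0 a).ne' (by exact_mod_cast h4)
  have hab : a ≠ b := fun e => by rw [e] at ha; omega
  have hsplit := Finset.add_sum_erase Finset.univ (fun χ => m χ ^ 2) (Finset.mem_univ a)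
  have hb' : b ∈ Finset.univ.erase a := by simp [hab.symm]
  have hsplit' := Finset.add_sum_erase (Finset.univ.erase a) (fun χ => m χ ^ 2) hb'
  set S := ∑ χ ∈ (Finset.univ.erase a).erase b, m χ ^ 2 with hS
  have hSnn : 0 ≤ S := Finset.sum_nonneg fun _ _ => sq_nonneg _
  have htot : m a ^ 2 + (m b ^ 2 + S) = 2 := by rw [hsplit', hsplit]; exact hsq'
  have hma : m a = 1 := by nlinarith
  have hmb : m b = -1 := by nlinarith
  have hS0 : S = 0 := by
    simp [hma, hmb] at htot
    omega
  have hrest : ∀ χ, χ ≠ a → χ ≠ b → m χ = 0 := fun χ h1 h1' => by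
    simpa using (Finset.sum_eq_zero_iff_of_nonneg fun _ _ => sq_nonneg _).mp hS0 χ
      (by simp [h1, h1'])
  refine ⟨a, b, hab, ?_⟩
  rw [hm, Finset.sum_eq_add a b hab (fun c _ hc => by simp [hrest c hc.1 hc.2]) (by simp) (by simp),
    hma, hmb]
  simp [sub_eq_add_neg]

theorem irr_sub_inner {a b c d : Cfsg.IrrCharacter G} [DecidableEq (Cfsg.IrrCharacter G)] :
    Cfsg.classInner ((a : G → ℂ) - (b : G → ℂ)) ((c : G → ℂ) - (d : G → ℂ)) =
      (if a = c then 1 else 0) - (if a = d then 1 else 0) - (if b = c then 1 else 0) +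
        (if b = d then 1 else 0) := by
  simp only [classInner_sub_left, classInner_sub_right, classInner_irrCharacter]
  ring

/-- The coherence lemma for families with the Gram matrix of differences of equal degree
irreducibles. -/
theorem coherent_of_gram {ι : Type*} [DecidableEq ι] (i₀ : ι) (τ : ι → G → ℂ) (h0 : τ i₀ = 0)
    (hgen : ∀ i, Cfsg.IsGeneralizedCharacter G (τ i)) (hone : ∀ i, τ i 1 = 0)
    (hgram : ∀ i j, i ≠ i₀ → j ≠ i₀ →
      Cfsg.classInner (τ i) (τ j) = if i = j then 2 else 1) :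
    ∃ ε : ℂ, (ε = 1 ∨ ε = -1) ∧ ∃ μ : ι → (G → ℂ), (∀ i, Cfsg.IsIrrCharacter G (μ i)) ∧
      Function.Injective μ ∧ ∀ i, τ i = ε • (μ i - μ i₀) := by
  classical
  by_cases hne : ∀ i, i = i₀
  · exact ⟨1, Or.inl rfl, fun _ => fun _ => 1, fun _ => isIrrCharacter_one,
      fun a b _ => (hne a).trans (hne b).symm, fun i => by rw [hne i, h0]; simp⟩
  push Not at hne
  obtain ⟨i₁, hi₁⟩ := hne
  choose A B hAB hτ using fun i : {i // i ≠ i₀} =>
    gen_norm_two (hgen i.1) (by simpa using hgram i.1 i.1 i.2 i.2) (hone i.1)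
  have hcross : ∀ i j : {i // i ≠ i₀}, i ≠ j →
      (A i = A j ∧ B i ≠ B j) ∨ (B i = B j ∧ A i ≠ A j) := by
    intro i j hij
    have h := hgram i.1 j.1 i.2 j.2
    rw [hτ i, hτ j, irr_sub_inner, if_neg (fun e => hij (Subtype.ext e))] at h
    by_cases h1 : A i = A j <;> by_cases h2 : B i = B j
    · exfalso
      rw [if_pos h1, if_pos h2, if_neg (h2 ▸ hAB i), if_neg fun e => hAB i (h1.trans e.symm)] at h
      norm_num at h
    · exact Or.inl ⟨h1, h2⟩
    · exact Or.inr ⟨h2, h1⟩
    · exfalso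
      rw [if_neg h1, if_neg h2] at h
      split_ifs at h <;> norm_num at h
  have hall : (∀ i j, A i = A j) ∨ (∀ i j, B i = B j) := by
    by_contra hc
    push Not at hc
    obtain ⟨⟨i, j, hij⟩, k, l, hkl⟩ := hc
    have hBij : B i = B j := by
      rcases hcross i j (fun e => hij (by rw [e])) with h | h
      · exact absurd h.1 hij
      · exact h.1
    have hAkl : A k = A l := by
      rcases hcross k l (fun e => hkl (by rw [e])) with h | h
      · exact h.1
      · exact absurd h.1 hkl
    -- every member shares with `i` or with `j`, hence has the same `B`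
    have hB : ∀ m, B m = B i := by
      intro m
      by_contra hm
      have hmi : m ≠ i := fun e => hm (by rw [e])
      have hmj : m ≠ j := fun e => hm (by rw [e, hBij])
      rcases hcross m i hmi with h | h
      · rcases hcross m j hmj with h' | h'
        · exact hij (h.1.symm.trans h'.1)
        · exact hm (h'.1.trans hBij.symm)
      · exact hm h.1
    exact hkl ((hB k).trans (hB l).symm)
  rcases hall with hA | hB
  · refine ⟨-1, Or.inr rfl,
      fun i => if h : i = i₀ then (A ⟨i₁, hi₁⟩ : G → ℂ) else (B ⟨i, h⟩ : G → ℂ), ?_, ?_, ?_⟩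
    · intro i; dsimp only; split_ifs <;> exact Subtype.prop _
    · intro i j e
      simp only at e
      split_ifs at e with h1 h2 h2
      · exact h1.trans h2.symm
      · exact absurd ((hA _ _).trans (Subtype.ext e)) (hAB ⟨j, h2⟩)
      · exact absurd ((hA _ _).trans (Subtype.ext e.symm)) (hAB ⟨i, h1⟩)
      · by_contra hij
        have hij' : (⟨i, h1⟩ : {i // i ≠ i₀}) ≠ ⟨j, h2⟩ := fun q => hij (congrArg Subtype.val q)
        rcases hcross _ _ hij' with h | h
        · exact h.2 (Subtype.ext e)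
        · exact h.2 (hA _ _)
    · intro i
      simp only [dite_true]
      split_ifs with h
      · subst h; simp [h0]
      · rw [hτ ⟨i, h⟩, hA ⟨i, h⟩ ⟨i₁, hi₁⟩]; simp
  · refine ⟨1, Or.inl rfl,
      fun i => if h : i = i₀ then (B ⟨i₁, hi₁⟩ : G → ℂ) else (A ⟨i, h⟩ : G → ℂ), ?_, ?_, ?_⟩
    · intro i; dsimp only; split_ifs <;> exact Subtype.prop _
    · intro i j e
      simp only at e
      split_ifs at e with h1 h2 h2
      · exact h1.trans h2.symm
      · exact absurd ((Subtype.ext e.symm).trans (hB _ _)) (hAB ⟨j, h2⟩)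
      · exact absurd ((Subtype.ext e).trans (hB _ _)) (hAB ⟨i, h1⟩)
      · by_contra hij
        have hij' : (⟨i, h1⟩ : {i // i ≠ i₀}) ≠ ⟨j, h2⟩ := fun q => hij (congrArg Subtype.val q)
        rcases hcross _ _ hij' with h | h
        · exact h.2 (hB _ _)
        · exact h.2 (Subtype.ext e)
    · intro i
      simp only [dite_true]
      split_ifs with h
      · subst h; simp [h0]
      · rw [hτ ⟨i, h⟩, hB ⟨i, h⟩ ⟨i₁, hi₁⟩]; simp

omit [Fintype G] in
/-- In a group with a normal subgroup containing the centralizers of its nonidentity elements, the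
order of the subgroup is prime to its index. -/
theorem coprime_card_index_of_centralizer_le [Finite G] (K : Subgroup G) [K.Normal]
    (hC : ∀ k ∈ K, k ≠ 1 → Subgroup.centralizer ({k} : Set G) ≤ K) :
    Nat.Coprime (Nat.card K) K.index := by
  refine Nat.coprime_of_dvd fun p hp hpK hpi => ?_
  have := Fact.mk hp
  obtain ⟨P⟩ := (inferInstance : Nonempty (Sylow p G))
  by_cases hPK : (P : Subgroup G) ≤ K
  · exact P.not_dvd_index (hpi.trans (Subgroup.index_dvd_of_le hPK))
  obtain ⟨k, hk⟩ := exists_prime_orderOf_dvd_card' (G := K) p hpK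
  -- P normalizes K; a fixed point of P on K other than 1 gives P ≤ K
  let A : MulAction (P : Subgroup G) K :=
    MulAction.compHom K ((MulAut.conjNormal (H := K)).comp (P : Subgroup G).subtype)
  obtain ⟨b, hb, hb1⟩ : ∃ b : K, b ∈ MulAction.fixedPoints (P : Subgroup G) K ∧ (1 : K) ≠ b :=
    P.isPGroup'.exists_fixed_point_of_prime_dvd_card_of_fixed_point K hpK
      (a := 1) fun x => map_one (MulAut.conjNormal (x : G))
  refine hPK fun x hx => hC b b.2 (fun e => hb1 (Subtype.ext e.symm)) ?_
  rw [Subgroup.mem_centralizer_singleton_iff]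
  have h := congrArg Subtype.val (hb ⟨x, hx⟩)
  change x * (b : G) * x⁻¹ = b at h
  exact mul_inv_eq_iff_eq_mul.mp h

end CfsgLib.Char
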