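import Cfsg.Agent.Lib.Char.Induced
import Mathlib.GroupTheory.GroupAction.Quotient
import Mathlib.GroupTheory.GroupAction.MultipleTransitivity

/-!
# Permutation characters
-/

namespace CfsgLib.Char

open scoped ComplexConjugate

variable {G : Type*} [Group G] [Fintype G] {X : Type*} [MulAction G X] [Finite X]

/-- The permutation character of a transitive action is induced from a point stabilizer. -/
theorem permChar_eq_indFun [MulAction.IsPretransitive G X] (x₀ : X) :
    (fun g : G => (Nat.card (MulAction.fixedBy X g) : ℂ)) =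
      Cfsg.indFun (MulAction.stabilizer G x₀) (fun _ => 1) := by
  classical
  funext g
  set H := MulAction.stabilizer G x₀
  have := Fintype.ofFinite X
  have hval : ∀ x : G, Cfsg.extendByZero H (fun _ => 1) (x⁻¹ * g * x) =
      if g • (x • x₀) = x • x₀ then (1 : ℂ) else 0 := by
    intro x
    rw [extendByZero_eq_dite]
    have hiff : x⁻¹ * g * x ∈ H ↔ g • (x • x₀) = x • x₀ := by
      simp only [H, MulAction.mem_stabilizer_iff, mul_smul]
      exact inv_smul_eq_iff
    split_ifs with h1 h2 h2
    · rfl
    · exact absurd (hiff.mp h1) h2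
    · exact absurd (hiff.mpr h2) h1
    · rfl
  have hfib : ∀ y : X, (Finset.univ.filter fun x : G => x • x₀ = y).card = Nat.card H := by
    intro y
    obtain ⟨z, rfl⟩ := MulAction.exists_smul_eq G x₀ y
    rw [← Fintype.card_subtype, ← Nat.card_eq_fintype_card]
    exact Nat.card_congr (Equiv.subtypeEquiv (Equiv.mulLeft z⁻¹) fun x => by
      simp only [H, Equiv.coe_mulLeft, MulAction.mem_stabilizer_iff, mul_smul]
      exact inv_smul_eq_iff.symm)
  rw [indFun_apply, Finset.sum_congr rfl fun x _ => hval x,
    ← Finset.sum_fiberwise Finset.univ (fun x : G => x • x₀)]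
  have : ∀ y : X, (∑ x ∈ Finset.univ.filter (fun x : G => x • x₀ = y),
      if g • (x • x₀) = x • x₀ then (1 : ℂ) else 0) =
        if g • y = y then (Nat.card H : ℂ) else 0 := by
    intro y
    rw [Finset.sum_congr rfl fun x hx => by rw [(Finset.mem_filter.mp hx).2], Finset.sum_const,
      hfib]
    split_ifs <;> simp
  simp only [this, Finset.sum_ite, Finset.sum_const_zero, add_zero, Finset.sum_const, nsmul_eq_mul]
  rw [mul_comm, mul_assoc, mul_inv_cancel₀ (card_subgroup_ne_zero H), mul_one,
    ← Fintype.card_subtype, ← Nat.card_eq_fintype_card]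
  rfl

theorem isCharacter_permChar [MulAction.IsPretransitive G X] [Nonempty X] :
    Cfsg.IsCharacter G (fun g : G => (Nat.card (MulAction.fixedBy X g) : ℂ)) := by
  obtain ⟨x₀⟩ := ‹Nonempty X›
  exact permChar_eq_indFun (G := G) x₀ ▸ isCharacter_indFun _ isCharacter_one

/-- The average number of fixed points is the number of orbits. -/
theorem sum_fixed_eq_card_orbits :
    ∑ g : G, (Nat.card (MulAction.fixedBy X g) : ℂ) =
      (Nat.card G : ℂ) * Nat.card (Quotient (MulAction.orbitRel G X)) := by
  classical
  have := Fintype.ofFinite X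
  have h := MulAction.sum_card_fixedBy_eq_card_orbits_mul_card_group G X
  simp only [Nat.card_eq_fintype_card]
  rw [← Nat.cast_sum, h, Nat.cast_mul, mul_comm]

/-- The norm of a permutation character is the number of orbits on pairs. -/
theorem classInner_permChar :
    Cfsg.classInner (fun g : G => (Nat.card (MulAction.fixedBy X g) : ℂ))
        (fun g : G => (Nat.card (MulAction.fixedBy X g) : ℂ)) =
      Nat.card (Quotient (MulAction.orbitRel G (X × X))) := by
  rw [classInner_def, inv_mul_eq_iff_eq_mul₀ card_ne_zero', ← sum_fixed_eq_card_orbits]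
  refine Finset.sum_congr rfl fun g _ => ?_
  rw [map_natCast, ← Nat.cast_mul, ← Nat.card_prod, Nat.cast_inj]
  refine Nat.card_congr ?_
  exact (Equiv.Set.prod _ _).symm.trans (Equiv.setCongr (by
    ext ⟨a, b⟩; simp [MulAction.mem_fixedBy, Prod.ext_iff]))

/-- A transitive action is doubly transitive iff it has two orbits on pairs. -/
theorem two_orbits_iff [MulAction.IsPretransitive G X] (hX : 2 ≤ Nat.card X) :
    Nat.card (Quotient (MulAction.orbitRel G (X × X))) = 2 ↔
      MulAction.IsMultiplyPretransitive G X 2 := by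
  classical
  have := Fintype.ofFinite X
  obtain ⟨a, b, hab⟩ := Fintype.one_lt_card_iff.mp (Nat.card_eq_fintype_card (α := X) ▸ hX)
  let q : X × X → Quotient (MulAction.orbitRel G (X × X)) := Quotient.mk _
  have hq : ∀ u v, q u = q v ↔ ∃ g : G, g • v = u := fun u v =>
    Quotient.eq''.trans MulAction.orbitRel_apply
  have hne : q (a, a) ≠ q (a, b) := fun e => by
    obtain ⟨g, hg⟩ := (hq _ _).mp e
    simp only [Prod.smul_mk, Prod.mk.injEq] at hg
    exact hab (smul_left_cancel g (hg.1.trans hg.2.symm))
  rw [Nat.card_eq_two_iff, MulAction.is_two_pretransitive_iff]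
  constructor
  · intro h c d e f hcd hef
    obtain ⟨u, v, -, huv⟩ := h
    have hoff : ∀ x y : X, x ≠ y → q (x, y) = q (a, b) := by
      intro x y hxy
      have hdiag : q (x, y) ≠ q (a, a) := fun e' => by
        obtain ⟨g, hg⟩ := (hq _ _).mp e'
        simp only [Prod.smul_mk, Prod.mk.injEq] at hg
        exact hxy (hg.1.symm.trans hg.2)
      have hall : ∀ z, z = u ∨ z = v := fun z => by simpa [← huv] using Set.mem_univ z
      rcases hall (q (x, y)) with h1 | h1 <;> rcases hall (q (a, b)) with h2 | h2 <;>
        rcases hall (q (a, a)) with h3 | h3 <;> simp_all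
    obtain ⟨g, hg⟩ := (hq _ _).mp ((hoff e f hef).trans (hoff c d hcd).symm)
    simp only [Prod.smul_mk, Prod.mk.injEq] at hg
    exact ⟨g, hg⟩
  · intro h
    refine ⟨q (a, a), q (a, b), hne, Set.eq_univ_of_forall fun z => ?_⟩
    obtain ⟨⟨x, y⟩, rfl⟩ := Quotient.mk_surjective z
    show q (x, y) = q (a, a) ∨ q (x, y) ∈ ({q (a, b)} : Set _)
    rcases eq_or_ne x y with rfl | hxy
    · obtain ⟨g, hg⟩ := MulAction.exists_smul_eq G a x
      exact Or.inl ((hq _ _).mpr ⟨g, by simp [hg]⟩)
    · obtain ⟨g, hg1, hg2⟩ := h hab hxy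
      exact Or.inr ((hq _ _).mpr ⟨g, by simp [hg1, hg2]⟩)

/-- `π - 1` is irreducible iff the action is doubly transitive. -/
theorem permChar_sub_one_irr_iff [MulAction.IsPretransitive G X] (hX : 2 ≤ Nat.card X) :
    Cfsg.IsIrrCharacter G (fun g => (Nat.card (MulAction.fixedBy X g) : ℂ) - 1) ↔
      MulAction.IsMultiplyPretransitive G X 2 := by
  classical
  set P : G → ℂ := fun g => (Nat.card (MulAction.fixedBy X g) : ℂ) with hP
  have hne : Nonempty X := (Nat.card_pos_iff.mp (lt_of_lt_of_le two_pos hX)).1
  obtain ⟨x₀⟩ := hne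
  have hPind : P = Cfsg.indFun (MulAction.stabilizer G x₀) (fun _ => 1) := permChar_eq_indFun x₀
  have h1 : Cfsg.classInner P (fun _ => 1) = 1 := hPind ▸ classInner_indFun_one_one _
  have h1' : Cfsg.classInner (fun _ => 1) P = 1 := by rw [← classInner_conj_symm, h1, map_one]
  have h11 : Cfsg.classInner (fun _ : G => (1 : ℂ)) (fun _ => 1) = 1 :=
    classInner_irr_self isIrrCharacter_one
  have heq : (fun g => (Nat.card (MulAction.fixedBy X g) : ℂ) - 1) = P - fun _ => 1 := rfl
  have hchar : Cfsg.IsCharacter G (P - fun _ => 1) := by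
    have hcP : Cfsg.IsCharacter G P := hPind ▸ isCharacter_indFun _ isCharacter_one
    refine isCharacter_of_classInner_nat (isClassFunction_sub
      (isClassFunction_of_isCharacter hcP) (isClassFunction_const 1)) fun χ hχ => ?_
    rw [classInner_sub_left]
    by_cases e : (fun _ => (1 : ℂ)) = χ
    · subst e; exact ⟨0, by rw [h1, h11]; simp⟩
    · rw [classInner_irr_ne isIrrCharacter_one hχ e, sub_zero]
      exact classInner_char_nat hcP (isCharacter_of_isIrr hχ)
  rw [heq, irr_iff_norm_one, and_iff_right hchar, classInner_sub_left, classInner_sub_right,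
    classInner_sub_right, h1, h1', h11, classInner_permChar, ← two_orbits_iff hX]
  constructor
  · intro h
    have : (Nat.card (Quotient (MulAction.orbitRel G (X × X))) : ℂ) = ((2 : ℕ) : ℂ) := by
      push_cast; linear_combination h
    exact_mod_cast this
  · intro h; rw [h]; norm_num

end CfsgLib.Char
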