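import Cfsg.Agent.Lib.Char.BrauerInduction
import Cfsg.Agent.Lib.OddLocal.Basic

/-!
# Characters of defect zero vanish on `p`-singular elements
-/

namespace CfsgLib.Char

open scoped ComplexConjugate

variable {G : Type*} [Group G] [Fintype G]

/-- If `p ^ n` is the exact `p`-part of `|G|` and divides `χ 1`, then the values at elements
centralising a subgroup of order `p ^ a` are divisible by `p ^ a`. -/
theorem isIntegral_div_of_defect_zero {χ : G → ℂ} (hχ : Cfsg.IsIrrCharacter G χ) {p n : ℕ}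
    (hp : p.Prime) (hn : p ^ n ∣ Nat.card G) (hn' : ¬ p ^ (n + 1) ∣ Nat.card G) {d : ℕ}
    (hd : χ 1 = d) (hdvd : p ^ n ∣ d) {v : G} {A : Subgroup G} {a : ℕ}
    (hA : Nat.card A = p ^ a) (hAv : A ≤ Subgroup.centralizer ({v} : Set G)) :
    IsIntegral ℤ (χ v / (p : ℂ) ^ a) := by
  set C := Subgroup.centralizer ({v} : Set G)
  obtain ⟨r, hr⟩ := hn
  have hrp : Nat.Coprime r (p ^ a) :=
    Nat.Coprime.pow_right a ((hp.coprime_iff_not_dvd).mpr fun h =>
      hn' (by rw [hr, pow_succ]; exact Nat.mul_dvd_mul_left _ h)).symm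
  obtain ⟨c, hc⟩ : p ^ a ∣ Nat.card C := hA ▸ Subgroup.card_dvd_of_le hAv
  obtain ⟨d', rfl⟩ := hdvd
  have hd0 : ((p ^ n * d' : ℕ) : ℂ) ≠ 0 := hd ▸ irr_one_ne_zero hχ
  have hy := isIntegral_index_mul_div hχ v
  rw [hd] at hy
  have hcard : C.index * c * p ^ a = p ^ n * r := by
    rw [← hr, ← C.index_mul_card, hc]; ring
  have hc' : (C.index : ℂ) * c * (p : ℂ) ^ a = (p : ℂ) ^ n * r := by exact_mod_cast hcard
  push_cast at hd0 hy
  have hpa : ((p : ℂ) ^ a) ≠ 0 := pow_ne_zero _ (Nat.cast_ne_zero.mpr hp.ne_zero)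
  have h2 : IsIntegral ℤ ((r : ℂ) * χ v / (p : ℂ) ^ a) := by
    have he : (r : ℂ) * χ v / (p : ℂ) ^ a =
        (C.index : ℂ) * χ v / ((p : ℂ) ^ n * d') * ((c * d' : ℕ) : ℂ) := by
      push_cast
      rw [div_mul_eq_mul_div, div_eq_div_iff hpa hd0]
      linear_combination (-(χ v * (d' : ℂ))) * hc'
    rw [he]
    exact hy.mul (isIntegral_natCast _)
  have hb := Nat.gcd_eq_gcd_ab r (p ^ a)
  rw [hrp.gcd_eq_one] at hb
  set u := Nat.gcdA r (p ^ a)
  set w := Nat.gcdB r (p ^ a)
  have hb' : (1 : ℂ) = (r : ℂ) * (u : ℂ) + (p : ℂ) ^ a * (w : ℂ) := by exact_mod_cast hb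
  have he : χ v / (p : ℂ) ^ a = (u : ℂ) * ((r : ℂ) * χ v / (p : ℂ) ^ a) + (w : ℂ) * χ v := by
    field_simp
    linear_combination χ v * hb'
  rw [he]
  exact ((isIntegral_intCast _).mul h2).add
    ((isIntegral_intCast _).mul (char_isIntegral (isCharacter_of_isIrr hχ) v))

/-- A character of `p`-defect zero, cut down to the `p`-regular elements, is a generalized
character. -/
theorem isGen_regular_cut {χ : G → ℂ} (hχ : Cfsg.IsIrrCharacter G χ) {p n : ℕ}
    (hp : p.Prime) (hn : p ^ n ∣ Nat.card G) (hn' : ¬ p ^ (n + 1) ∣ Nat.card G) {d : ℕ}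
    (hd : χ 1 = d) (hdvd : p ^ n ∣ d) :
    Cfsg.IsGeneralizedCharacter G (fun g => if p ∣ orderOf g then 0 else χ g) := by
  classical
  have : Fact p.Prime := ⟨hp⟩
  refine isGen_of_elementary (fun g h => ?_) fun E q hq hE => ?_
  · have he : orderOf (h * g * h⁻¹) = orderOf g := (MulAut.conj h).orderOf_eq g
    simp only [he, isClassFunction_of_isIrr hχ g h]
  have := Fintype.ofFinite E
  have : Group.IsNilpotent E := isNilpotent_of_isElementary hq hE
  let S : Sylow p E := default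
  have hSn : (S : Subgroup E).Normal :=
    ((Group.isNilpotent_of_finite_tfae (G := E)).out 0 3 rfl rfl).mp inferInstance p inferInstance S
  obtain ⟨a, ha⟩ := IsPGroup.iff_card.mp S.2
  obtain ⟨Q, hQ⟩ := Subgroup.exists_left_complement'_of_coprime S.card_coprime_index
  have hQp : ¬ p ∣ Nat.card Q := hQ.index_eq_card ▸ S.not_dvd_index
  have hreg : ∀ v : E, ¬ p ∣ orderOf v ↔ v ∈ Q := by
    intro v
    refine ⟨fun hv => ?_, fun hv h => hQp (h.trans (Subgroup.orderOf_dvd_natCard _ hv))⟩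
    obtain ⟨⟨h, u⟩, huv⟩ := hQ.2 v
    have huv' : (h : E) * (u : E) = v := huv
    obtain ⟨j, -, hj⟩ := (Nat.dvd_prime_pow hp).mp (ha ▸ Subgroup.orderOf_dvd_natCard _ u.2)
    have hcop : (orderOf (h : E)).Coprime (orderOf (u : E)) := by
      rw [hj]
      exact Nat.Coprime.pow_right j ((hp.coprime_iff_not_dvd).mpr fun hh =>
        hQp (hh.trans (Subgroup.orderOf_dvd_natCard _ h.2))).symm
    have hcomm : Commute (h : E) (u : E) := OddLocal.commute_of_coprime_orderOf _ _ hcop
    have ho := hcomm.orderOf_mul_eq_mul_orderOf_of_coprime hcop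
    rw [huv', hj] at ho
    rcases Nat.eq_zero_or_pos j with rfl | hj0
    · rw [pow_zero, orderOf_eq_one_iff] at hj
      rw [← huv', hj, mul_one]; exact h.2
    · exact absurd (ho ▸ Dvd.dvd.mul_left (dvd_pow_self p hj0.ne') _) hv
  have hresE := isCharacter_res E (isCharacter_of_isIrr hχ)
  refine isGen_of_classInner_int (fun g h => ?_) fun φ hφ => ?_
  · have he : orderOf (((h * g * h⁻¹ : E)) : G) = orderOf (g : G) :=
      (MulAut.conj (h : G)).orderOf_eq (g : G)
    simp only [he]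
    rw [Subgroup.coe_mul, Subgroup.coe_mul, Subgroup.coe_inv, isClassFunction_of_isIrr hχ]
  have := Fintype.ofFinite Q
  obtain ⟨k, hk⟩ := classInner_char_nat (isCharacter_res Q hresE)
    (isCharacter_res Q (isCharacter_of_isIrr hφ))
  have hsum : ∑ g : E, (if p ∣ orderOf (g : G) then 0 else χ g) * conj (φ g) =
      ∑ v : Q, χ ((v : E) : G) * conj (φ v) := by
    rw [← Finset.sum_subtype (Finset.univ.filter fun g : E => g ∈ Q) (fun g => by simp)
      (fun g => χ (g : G) * conj (φ g)), Finset.sum_filter]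
    refine Finset.sum_congr rfl fun g _ => ?_
    rw [Subgroup.orderOf_coe]
    by_cases hg : g ∈ Q
    · rw [if_neg ((hreg g).mpr hg), if_pos hg]
    · rw [if_pos (not_not.mp fun h => hg ((hreg g).mp h)), if_neg hg, zero_mul]
  have hk' : ∑ v : Q, χ ((v : E) : G) * conj (φ v) = (Nat.card Q : ℂ) * k := by
    rw [← hk, card_mul_classInner]
  have hint : IsIntegral ℤ (((Nat.card Q * k : ℕ) : ℂ) / ((p ^ a : ℕ) : ℂ)) := by
    push_cast
    rw [← hk', Finset.sum_div]
    refine IsIntegral.sum _ fun v _ => ?_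
    rw [mul_div_right_comm]
    refine IsIntegral.mul (isIntegral_div_of_defect_zero hχ hp hn hn' hd hdvd
      (A := (S : Subgroup E).map E.subtype) ?_ ?_) ?_
    · rw [Subgroup.card_map_of_injective E.subtype_injective]; exact ha
    · rintro _ ⟨s, hs, rfl⟩
      refine Subgroup.mem_centralizer_singleton_iff.mpr (congrArg (fun z : E => (z : G))
        (OddLocal.commute_of_coprime_orderOf s (v : E) ?_))
      obtain ⟨j, -, hj⟩ := (Nat.dvd_prime_pow hp).mp (ha ▸ Subgroup.orderOf_dvd_natCard _ hs)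
      rw [hj]
      exact Nat.Coprime.pow_left j ((hp.coprime_iff_not_dvd).mpr fun hh =>
        hQp (hh.trans (Subgroup.orderOf_dvd_natCard _ v.2)))
    · exact char_inv (isCharacter_of_isIrr hφ) (v : E) ▸ char_isIntegral (isCharacter_of_isIrr hφ) _
  obtain ⟨t, ht⟩ := ((Nat.Coprime.pow_left a ((hp.coprime_iff_not_dvd).mpr hQp))).dvd_of_dvd_mul_left
    (dvd_of_isIntegral_div (pow_ne_zero _ hp.ne_zero) hint)
  refine ⟨t, ?_⟩
  rw [classInner_def, hsum, hk', ht]
  have hE : Nat.card E = Nat.card Q * p ^ a := by rw [← hQ.card_mul_card, ha]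
  rw [hE]
  have hQ0 : (Nat.card Q : ℂ) ≠ 0 := by exact_mod_cast Nat.card_pos.ne'
  have hp0 : (p : ℂ) ≠ 0 := Nat.cast_ne_zero.mpr hp.ne_zero
  push_cast
  field_simp

/-- A character of `p`-defect zero vanishes at all `p`-singular elements. -/
theorem vanish_of_defect_zero {χ : G → ℂ} (hχ : Cfsg.IsIrrCharacter G χ) {p n : ℕ}
    (hp : p.Prime) (hn : p ^ n ∣ Nat.card G) (hn' : ¬ p ^ (n + 1) ∣ Nat.card G) {d : ℕ}
    (hd : χ 1 = d) (hdvd : p ^ n ∣ d) {x : G} (hx : p ∣ orderOf x) : χ x = 0 := by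
  classical
  obtain ⟨m, hm⟩ := classInner_gen_int (isGen_regular_cut hχ hp hn hn' hd hdvd) (isGen_of_irr hχ)
  set s := ∑ g : G, if p ∣ orderOf g then (0 : ℝ) else Complex.normSq (χ g) with hs
  set t := ∑ g : G, if p ∣ orderOf g then Complex.normSq (χ g) else (0 : ℝ) with ht
  have htot : s + t = (Nat.card G : ℝ) := by
    have h1 := card_mul_classInner χ χ
    rw [classInner_irr_self hχ, mul_one,
      Finset.sum_congr rfl fun g _ => Complex.mul_conj (χ g)] at h1
    have h2 : (Nat.card G : ℝ) = ∑ g : G, Complex.normSq (χ g) := by exact_mod_cast h1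
    rw [h2, hs, ht, ← Finset.sum_add_distrib]
    exact Finset.sum_congr rfl fun g _ => by split_ifs <;> simp
  have hsm : (Nat.card G : ℝ) * m = s := by
    have h1 := card_mul_classInner (fun g => if p ∣ orderOf g then 0 else χ g) χ
    rw [hm, Finset.sum_congr rfl (g := fun g => ((if p ∣ orderOf g then (0 : ℝ)
      else Complex.normSq (χ g) : ℝ) : ℂ)) fun g _ => by
        split_ifs <;> simp [Complex.mul_conj]] at h1
    rw [hs]
    exact_mod_cast h1
  have hspos : 0 < s := by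
    refine Finset.sum_pos' (fun g _ => by split_ifs <;> simp [Complex.normSq_nonneg])
      ⟨1, Finset.mem_univ _, ?_⟩
    rw [orderOf_one, if_neg (fun h => hp.one_lt.ne' (Nat.dvd_one.mp h))]
    exact Complex.normSq_pos.mpr (irr_one_ne_zero hχ)
  have htnn : 0 ≤ t := Finset.sum_nonneg fun g _ => by split_ifs <;> simp [Complex.normSq_nonneg]
  have hG : (0 : ℝ) < Nat.card G := by exact_mod_cast Nat.card_pos
  have hm1 : m = 1 := by
    have h1 : (0 : ℝ) < m := pos_of_mul_pos_right (hsm.symm ▸ hspos) hG.le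
    have h2 : (m : ℝ) ≤ 1 := by nlinarith
    have h1' : 0 < m := by exact_mod_cast h1
    have h2' : m ≤ 1 := by exact_mod_cast h2
    omega
  have ht0 : t = 0 := by rw [hm1, Int.cast_one, mul_one] at hsm; linarith
  have h := (Finset.sum_eq_zero_iff_of_nonneg fun g _ => by
    split_ifs <;> simp [Complex.normSq_nonneg]).mp ht0 x (Finset.mem_univ x)
  rw [if_pos hx] at h
  exact Complex.normSq_eq_zero.mp h

end CfsgLib.Char
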