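import Cfsg.Agent.Lib.Char.PermChar
import Cfsg.Agent.Lib.Char.Generalized
import Cfsg.Agent.S0869
import Mathlib.GroupTheory.Sylow

/-!
# Hyperelementary subgroups and permutation characters

* `permChar_eq_sum`: a permutation character is the sum over the orbits of `1` induced from
  stabilisers;
* `indFun_one_mul_indFun_one`: products of permutation characters of coset spaces;
* `exists_hyp_not_dvd`, `exists_hyp_combination`: an integer prime to `p` is an integral
  combination of permutation characters on cosets of `p`-hyperelementary subgroups.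
-/

namespace CfsgLib.Char

open scoped ComplexConjugate

/-- A cyclic normal `p'`-subgroup with `p`-power index. -/
def IsHyperelementary (p : ℕ) (H : Type*) [Group H] : Prop :=
  ∃ C : Subgroup H, C.Normal ∧ IsCyclic C ∧ Nat.Coprime (Nat.card C) p ∧ ∃ k : ℕ, C.index = p ^ k

theorem isHyperelementary_subgroup {p : ℕ} (hp : p.Prime) {H : Type*} [Group H] [Finite H]
    (h : IsHyperelementary p H) (T : Subgroup H) : IsHyperelementary p T := by
  obtain ⟨C, hn, hcyc, hcop, k, hk⟩ := h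
  let f : C.subgroupOf T →* C :=
    { toFun := fun x => ⟨((x : T) : H), x.2⟩, map_one' := rfl, map_mul' := fun _ _ => rfl }
  have hf : Function.Injective f := fun a b e =>
    Subtype.ext (Subtype.ext (congrArg (fun z : C => (z : H)) e))
  refine ⟨C.subgroupOf T, inferInstance, isCyclic_of_injective f hf, ?_, ?_⟩
  · exact Nat.Coprime.coprime_dvd_left (Subgroup.card_dvd_of_injective f hf) hcop
  · obtain ⟨j, -, hj⟩ := (Nat.dvd_prime_pow hp).mp (hk ▸ Subgroup.relIndex_dvd_index_of_normal C T)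
    exact ⟨j, hj⟩

theorem isHyperelementary_iff {p : ℕ} {G : Type*} [Group G] (H : Subgroup G) :
    IsHyperelementary p H ↔ ∃ C : Subgroup G, C ≤ H ∧ H ≤ Subgroup.normalizer (C : Set G) ∧
      IsCyclic C ∧ Nat.Coprime (Nat.card C) p ∧ ∃ k : ℕ, C.relIndex H = p ^ k := by
  constructor
  · rintro ⟨C, hn, hcyc, hcop, k, hk⟩
    let e := C.equivMapOfInjective H.subtype H.subtype_injective
    refine ⟨C.map H.subtype, Subgroup.map_subtype_le C, ?_, e.isCyclic.mp hcyc,
      Nat.card_congr e.toEquiv ▸ hcop, k, ?_⟩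
    · intro x hx
      rw [Subgroup.mem_normalizer_iff]
      intro y
      constructor
      · rintro ⟨c, hc, rfl⟩
        exact ⟨⟨x, hx⟩ * c * ⟨x, hx⟩⁻¹, hn.conj_mem c hc _, rfl⟩
      · rintro ⟨c, hc, hcy⟩
        refine ⟨⟨x, hx⟩⁻¹ * c * ⟨x, hx⟩, hn.conj_mem' c hc _, ?_⟩
        have hcy' : (c : G) = x * y * x⁻¹ := hcy
        show x⁻¹ * (c : G) * x = y
        rw [hcy']
        group
    · rw [Subgroup.relIndex, Subgroup.subgroupOf,
        Subgroup.comap_map_eq_self_of_injective H.subtype_injective, hk]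
  · rintro ⟨C, hle, hnor, hcyc, hcop, k, hk⟩
    let e := Subgroup.subgroupOfEquivOfLe hle
    refine ⟨C.subgroupOf H, (Subgroup.normal_subgroupOf_iff_le_normalizer hle).mpr hnor,
      e.isCyclic.mpr hcyc, (Nat.card_congr e.toEquiv).symm ▸ hcop, k, hk⟩

section Perm

variable {G : Type*} [Group G] [Fintype G]

/-- A permutation character decomposes along the orbits. -/
theorem permChar_eq_sum {X : Type*} [MulAction G X] [Finite X]
    [Fintype (Quotient (MulAction.orbitRel G X))] (φ : Quotient (MulAction.orbitRel G X) → X)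
    (hφ : ∀ ω, Quotient.mk'' (φ ω) = ω) :
    (fun g : G => (Nat.card (MulAction.fixedBy X g) : ℂ)) =
      ∑ ω, Cfsg.indFun (MulAction.stabilizer G (φ ω)) (fun _ => 1) := by
  classical
  funext g
  rw [Finset.sum_apply]
  have h : ∀ ω, Cfsg.indFun (MulAction.stabilizer G (φ ω)) (fun _ => 1) g =
      (Nat.card {x : X // g • x = x ∧ Quotient.mk'' x = ω} : ℂ) := by
    intro ω
    have hst : MulAction.stabilizer G (⟨φ ω, MulAction.mem_orbit_self _⟩ : MulAction.orbit G (φ ω)) =
        MulAction.stabilizer G (φ ω) := by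
      ext x
      simp [MulAction.mem_stabilizer_iff, Subtype.ext_iff]
    rw [← hst, ← permChar_eq_indFun (G := G), Nat.cast_inj]
    exact Nat.card_congr
      { toFun := fun y => ⟨y.1.1, congrArg Subtype.val y.2,
          (Quotient.eq''.mpr (MulAction.orbitRel_apply.mpr y.1.2)).trans (hφ ω)⟩
        invFun := fun x => ⟨⟨x.1, MulAction.orbitRel_apply.mp
          (Quotient.eq''.mp (x.2.2.trans (hφ ω).symm))⟩, Subtype.ext x.2.1⟩
        left_inv := fun y => rfl
        right_inv := fun x => rfl }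
  rw [Finset.sum_congr rfl fun ω _ => h ω, ← Nat.cast_sum, Nat.cast_inj, ← Nat.card_sigma]
  exact Nat.card_congr
    { toFun := fun x => ⟨Quotient.mk'' x.1, x.1, x.2, rfl⟩
      invFun := fun y => ⟨y.2.1, y.2.2.1⟩
      left_inv := fun x => rfl
      right_inv := fun ⟨ω, x, hx, e⟩ => by subst e; rfl }

theorem indFun_one_eq_fixedBy (H : Subgroup G) :
    Cfsg.indFun H (fun _ => 1) = fun g => (Nat.card (MulAction.fixedBy (G ⧸ H) g) : ℂ) := by
  rw [permChar_eq_indFun ((1 : G) : G ⧸ H), MulAction.stabilizer_quotient]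

/-- Mackey's formula for two permutation characters. -/
theorem indFun_one_mul_indFun_one (H K : Subgroup G) [Fintype (Subgroup G)] :
    ∃ a : Subgroup G → ℕ, (∀ U, a U ≠ 0 → U ≤ H) ∧
      Cfsg.indFun H (fun _ => 1) * Cfsg.indFun K (fun _ => 1) =
        ∑ U : Subgroup G, (a U : ℂ) • Cfsg.indFun U (fun _ => 1) := by
  classical
  have := Fintype.ofFinite (Quotient (MulAction.orbitRel G ((G ⧸ H) × (G ⧸ K))))
  have hφ : ∀ ω : Quotient (MulAction.orbitRel G ((G ⧸ H) × (G ⧸ K))),
      ∃ x : (G ⧸ H) × (G ⧸ K), Quotient.mk'' x = ω ∧ x.1 = ((1 : G) : G ⧸ H) := by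
    intro ω
    induction ω using Quotient.inductionOn' with
    | _ x =>
      obtain ⟨a, ha⟩ := QuotientGroup.mk_surjective x.1
      refine ⟨a⁻¹ • x, Quotient.eq''.mpr (MulAction.orbitRel_apply.mpr ⟨a⁻¹, rfl⟩), ?_⟩
      rw [Prod.smul_fst, ← ha, MulAction.Quotient.smul_mk, smul_eq_mul, inv_mul_cancel]
  choose φ hφ1 hφ2 using hφ
  refine ⟨fun U => (Finset.univ.filter fun ω => MulAction.stabilizer G (φ ω) = U).card,
    fun U hU => ?_, ?_⟩
  · obtain ⟨ω, hω⟩ := Finset.card_ne_zero.mp hU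
    intro g hg
    rw [← (Finset.mem_filter.mp hω).2] at hg
    have h1 := congrArg Prod.fst (MulAction.mem_stabilizer_iff.mp hg)
    rw [Prod.smul_fst, hφ2, MulAction.Quotient.smul_mk, smul_eq_mul, mul_one] at h1
    simpa using QuotientGroup.eq.mp h1
  · have hmul : Cfsg.indFun H (fun _ => 1) * Cfsg.indFun K (fun _ => 1) =
        fun g => (Nat.card (MulAction.fixedBy ((G ⧸ H) × (G ⧸ K)) g) : ℂ) := by
      funext g
      rw [Pi.mul_apply, indFun_one_eq_fixedBy, indFun_one_eq_fixedBy, ← Nat.cast_mul,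
        ← Nat.card_prod, Nat.cast_inj]
      exact (Nat.card_congr ((Equiv.setCongr (by
        ext ⟨a, b⟩; simp [MulAction.mem_fixedBy, Prod.ext_iff])).trans
          (Equiv.Set.prod _ _))).symm
    rw [hmul, permChar_eq_sum φ hφ1,
      ← Finset.sum_fiberwise Finset.univ (fun ω => MulAction.stabilizer G (φ ω))]
    refine Finset.sum_congr rfl fun U _ => ?_
    rw [Finset.sum_congr rfl fun ω hω => by rw [(Finset.mem_filter.mp hω).2], Finset.sum_const,
      Nat.cast_smul_eq_nsmul ℂ]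

end Perm

section Values

variable {G : Type*} [Group G] [Fintype G]

omit [Fintype G] in
/-- Splitting an element into a `p`-part and a `p'`-part, as powers. -/
theorem exists_pPart_split [Finite G] {p : ℕ} (hp : p.Prime) (x : G) :
    ∃ u c : G, x = u * c ∧ u ∈ Subgroup.zpowers x ∧ c ∈ Subgroup.zpowers x ∧
      (∃ k : ℕ, orderOf u = p ^ k) ∧ Nat.Coprime (orderOf c) p := by
  obtain ⟨a, b, hb, hab⟩ := Nat.exists_eq_pow_mul_and_not_dvd (orderOf_pos x).ne' p hp.ne_one
  have hcop : Nat.Coprime (p ^ a) b :=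
    Nat.Coprime.pow_left a ((hp.coprime_iff_not_dvd).mpr hb)
  have hcop' := Nat.gcd_eq_gcd_ab (p ^ a) b
  rw [hcop.gcd_eq_one] at hcop'
  refine ⟨x ^ ((b : ℤ) * Nat.gcdB (p ^ a) b), x ^ (((p ^ a : ℕ) : ℤ) * Nat.gcdA (p ^ a) b), ?_,
    Subgroup.zpow_mem _ (Subgroup.mem_zpowers x) _, Subgroup.zpow_mem _ (Subgroup.mem_zpowers x) _,
    ?_, ?_⟩
  · rw [← zpow_add, add_comm, ← hcop', Nat.cast_one, zpow_one]
  · have h : (x ^ ((b : ℤ) * Nat.gcdB (p ^ a) b)) ^ (p ^ a) = 1 := by
      rw [← zpow_natCast, ← zpow_mul, mul_right_comm, zpow_mul, ← Nat.cast_mul, zpow_natCast,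
        mul_comm b, ← hab, pow_orderOf_eq_one, one_zpow]
    obtain ⟨j, -, hj⟩ := (Nat.dvd_prime_pow hp).mp (orderOf_dvd_of_pow_eq_one h)
    exact ⟨j, hj⟩
  · have h : (x ^ (((p ^ a : ℕ) : ℤ) * Nat.gcdA (p ^ a) b)) ^ b = 1 := by
      rw [← zpow_natCast, ← zpow_mul, mul_right_comm, zpow_mul, ← Nat.cast_mul, zpow_natCast,
        ← hab, pow_orderOf_eq_one, one_zpow]
    exact Nat.Coprime.coprime_dvd_left (orderOf_dvd_of_pow_eq_one h)
      ((hp.coprime_iff_not_dvd).mpr hb).symm

omit [Fintype G] in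
theorem mem_of_coprime_index [Finite G] {p k : ℕ} {C : Subgroup G} [C.Normal]
    (hk : C.index = p ^ k) {z : G} (hz : Nat.Coprime (orderOf z) p) : z ∈ C := by
  rw [← QuotientGroup.eq_one_iff, ← orderOf_eq_one_iff]
  refine Nat.eq_one_of_dvd_coprimes (Nat.Coprime.pow_right k hz)
    (orderOf_map_dvd (QuotientGroup.mk' C) z) ?_
  rw [← hk, Subgroup.index]
  exact orderOf_dvd_natCard _

/-- For every element some hyperelementary permutation character is prime to `p` there. -/
theorem exists_hyp_not_dvd (x : G) {p : ℕ} (hp : p.Prime) :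
    ∃ H : Subgroup G, IsHyperelementary p H ∧
      ∃ n : ℕ, Cfsg.indFun H (fun _ => 1) x = (n : ℂ) ∧ ¬ p ∣ n := by
  classical
  have : Fact p.Prime := ⟨hp⟩
  obtain ⟨u, c, hx, hu, hc, ⟨a, hua⟩, hcc⟩ := exists_pPart_split hp x
  have hcomm : Commute u c := by
    obtain ⟨i, rfl⟩ := Subgroup.mem_zpowers_iff.mp hu
    obtain ⟨j, rfl⟩ := Subgroup.mem_zpowers_iff.mp hc
    exact (Commute.refl x).zpow_zpow i j
  set C := Subgroup.zpowers c with hC
  set N := Subgroup.normalizer (C : Set G) with hN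
  have hCN : C ≤ N := Subgroup.le_normalizer
  have huN : u ∈ N := by
    have hcent : u ∈ Subgroup.centralizer (C : Set G) :=
      Subgroup.mem_centralizer_iff.mpr fun y hy => by
        obtain ⟨j, rfl⟩ := Subgroup.mem_zpowers_iff.mp hy
        exact ((hcomm.zpow_right j).eq).symm
    exact Subgroup.centralizer_le_normalizer _ hcent
  have hCcop : Nat.Coprime (Nat.card C) p := by rw [hC, Nat.card_zpowers]; exact hcc
  -- a Sylow subgroup of the normaliser containing the `p`-part
  have huP : IsPGroup p (Subgroup.zpowers (⟨u, huN⟩ : N)) :=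
    IsPGroup.of_card (n := a) (by rw [Nat.card_zpowers, Subgroup.orderOf_mk, hua])
  obtain ⟨P, hP⟩ := huP.exists_le_sylow
  let C' := C.subgroupOf N
  have hC'n : C'.Normal := Subgroup.normal_in_normalizer
  let H' : Subgroup N := C' ⊔ P
  let H : Subgroup G := H'.map N.subtype
  have hsub : ∀ w : N, (w : G) ∈ H ↔ w ∈ H' := fun w =>
    Subgroup.mem_map_iff_mem (f := N.subtype) N.subtype_injective
  obtain ⟨k, hk⟩ : ∃ k : ℕ, C'.relIndex H' = p ^ k := by
    obtain ⟨j, hj⟩ := IsPGroup.iff_card.mp P.2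
    have hd : C'.relIndex H' ∣ p ^ j := by
      rw [show H' = (P : Subgroup N) ⊔ C' from sup_comm _ _, Subgroup.relIndex_sup_right, ← hj]
      exact Subgroup.relIndex_dvd_card _ _
    obtain ⟨k, -, hk⟩ := (Nat.dvd_prime_pow hp).mp hd
    exact ⟨k, hk⟩
  have hCH : C ≤ H := fun y hy => (hsub ⟨y, hCN hy⟩).mpr
    ((le_sup_left : C' ≤ H') (Subgroup.mem_subgroupOf.mpr hy))
  have hHN : H ≤ N := Subgroup.map_subtype_le H'
  have hrel : C.relIndex H = p ^ k := by
    rw [← hk, ← Subgroup.relIndex_subgroupOf hHN]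
    congr 1
    exact Subgroup.comap_map_eq_self_of_injective N.subtype_injective H'
  refine ⟨H, (isHyperelementary_iff H).mpr ⟨C, hCH, hHN, inferInstance, hCcop, k, hrel⟩,
    Nat.card (MulAction.fixedBy (G ⧸ H) x), congrFun (indFun_one_eq_fixedBy H) x, ?_⟩
  -- fixed points lie in `N / H` and are the fixed points of the `p`-part
  let ι : N ⧸ H' → G ⧸ H := Quotient.map' (fun n : N => (n : G)) fun m n hmn => by
    rw [QuotientGroup.leftRel_apply] at hmn ⊢
    exact (hsub _).mpr hmn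
  have hι : ∀ n : N, ι (n : N ⧸ H') = ((n : G) : G ⧸ H) := fun _ => rfl
  have hinj : Function.Injective ι := by
    rintro ⟨m⟩ ⟨n⟩ e
    refine QuotientGroup.eq.mpr ?_
    have e' : ((m : G) : G ⧸ H) = ((n : G) : G ⧸ H) := e
    exact (hsub _).mp (QuotientGroup.eq.mp e')
  have hfix : ∀ n : N, x • ι (n : N ⧸ H') = ι ((⟨u, huN⟩ : N) • (n : N ⧸ H')) := by
    intro n
    rw [hι, MulAction.Quotient.smul_mk, MulAction.Quotient.smul_mk, hι, QuotientGroup.eq, hx,
      smul_eq_mul, smul_eq_mul, Subgroup.coe_mul]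
    have h1 : (n : G)⁻¹ * c⁻¹ * (n : G) ∈ C := by
      have := (Subgroup.mem_normalizer_iff.mp (N.inv_mem n.2) c⁻¹).mp
        (C.inv_mem (Subgroup.mem_zpowers c))
      rwa [inv_inv] at this
    convert hCH h1 using 1
    group
  have hsurj : ∀ q : G ⧸ H, x • q = q → ∃ r, ι r = q := by
    intro q hq
    obtain ⟨g, rfl⟩ := QuotientGroup.mk_surjective q
    have hg : g⁻¹ * x * g ∈ H := by
      rw [MulAction.Quotient.smul_mk, smul_eq_mul, eq_comm, QuotientGroup.eq, ← mul_assoc] at hq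
      exact hq
    have hcg : g⁻¹ * c * g ∈ C := by
      have hcH : g⁻¹ * c * g ∈ H := by
        obtain ⟨j, hj⟩ := Subgroup.mem_zpowers_iff.mp hc
        rw [← hj]
        have := H.zpow_mem hg j
        rwa [show g⁻¹ * x * g = g⁻¹ * x * g⁻¹⁻¹ by rw [inv_inv], conj_zpow, inv_inv] at this
      have hn : (C.subgroupOf H).Normal :=
        (Subgroup.normal_subgroupOf_iff_le_normalizer hCH).mpr hHN
      have hmem := mem_of_coprime_index (C := C.subgroupOf H) hrel
        (z := ⟨_, hcH⟩) (by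
          rw [Subgroup.orderOf_mk]
          have he : g⁻¹ * c * g = MulAut.conj g⁻¹ c := by simp
          rw [he, MulEquiv.orderOf_eq]
          exact hcc)
      exact Subgroup.mem_subgroupOf.mp hmem
    have hgN : g ∈ N := by
      have hle : C.map (MulAut.conj g⁻¹).toMonoidHom ≤ C := by
        rw [hC, MonoidHom.map_zpowers, Subgroup.zpowers_le]
        simpa using hcg
      have heq := Subgroup.eq_of_le_of_card_ge hle (le_of_eq
        (Subgroup.card_map_of_injective (MulAut.conj g⁻¹).injective).symm)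
      rw [← N.inv_mem_iff, hN, Subgroup.mem_normalizer_iff]
      intro y
      conv_rhs => rw [← heq, ← MulAut.conj_apply]
      exact (Subgroup.mem_map_iff_mem (f := (MulAut.conj g⁻¹).toMonoidHom)
        (MulAut.conj g⁻¹).injective).symm
    exact ⟨((⟨g, hgN⟩ : N) : N ⧸ H'), rfl⟩
  have hU : IsPGroup p (Subgroup.zpowers (⟨u, huN⟩ : N)) := huP
  have hcard : Nat.card (MulAction.fixedBy (G ⧸ H) x) =
      Nat.card (MulAction.fixedPoints (Subgroup.zpowers (⟨u, huN⟩ : N)) (N ⧸ H')) := by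
    refine (Nat.card_eq_of_bijective
      (fun r : MulAction.fixedPoints (Subgroup.zpowers (⟨u, huN⟩ : N)) (N ⧸ H') =>
        (⟨ι r.1, ?_⟩ : MulAction.fixedBy (G ⧸ H) x)) ⟨?_, ?_⟩).symm
    · obtain ⟨n, hn⟩ := QuotientGroup.mk_surjective r.1
      show x • ι r.1 = ι r.1
      rw [← hn, hfix n, hn]
      exact congrArg ι (r.2 ⟨⟨u, huN⟩, Subgroup.mem_zpowers _⟩)
    · exact fun r s e => Subtype.ext (hinj (congrArg Subtype.val e))
    · rintro ⟨q, hq⟩
      obtain ⟨r, rfl⟩ := hsurj q hq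
      obtain ⟨n, rfl⟩ := QuotientGroup.mk_surjective r
      have hst : (⟨u, huN⟩ : N) ∈ MulAction.stabilizer N (n : N ⧸ H') :=
        hinj ((hfix n).symm.trans hq)
      exact ⟨⟨(n : N ⧸ H'), fun z => Subgroup.zpowers_le.mpr hst z.2⟩, rfl⟩
  rw [hcard]
  intro hdvd
  have hmod := hU.card_modEq_card_fixedPoints (N ⧸ H')
  have hpY : p ∣ Nat.card (N ⧸ H') := (hmod.dvd_iff dvd_rfl).mpr hdvd
  exact P.not_dvd_index (hpY.trans (Subgroup.index_dvd_of_le (le_sup_right : (P : Subgroup N) ≤ H')))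

/-- An integer prime to `p` as a combination of hyperelementary permutation characters. -/
theorem exists_hyp_combination [Fintype (Subgroup G)] {p : ℕ} (hp : p.Prime) :
    ∃ (m : ℤ) (a : Subgroup G → ℤ), ¬ (p : ℤ) ∣ m ∧
      (∀ H, a H ≠ 0 → IsHyperelementary p H) ∧
      (fun _ : G => (m : ℂ)) = ∑ H : Subgroup G, (a H : ℂ) • Cfsg.indFun H (fun _ => 1) := by
  classical
  let R : AddSubgroup (G → ℤ) :=
    { carrier := {f | ∃ a : Subgroup G → ℤ, (∀ H, a H ≠ 0 → IsHyperelementary p H) ∧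
        (fun g => (f g : ℂ)) = ∑ H : Subgroup G, (a H : ℂ) • Cfsg.indFun H (fun _ => 1)}
      zero_mem' := ⟨0, fun H h => absurd rfl h, by funext g; simp⟩
      add_mem' := fun {f f'} ⟨a, ha, ef⟩ ⟨b, hb, eg⟩ => ⟨a + b, fun H h => by
          rcases eq_or_ne (a H) 0 with e | e
          · exact hb H (by simpa [e] using h)
          · exact ha H e, by
          funext g
          have e1 := congrFun ef g
          have e2 := congrFun eg g
          simp only [Finset.sum_apply, Pi.smul_apply, smul_eq_mul, Pi.add_apply, Int.cast_add,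
            add_mul, Finset.sum_add_distrib] at e1 e2 ⊢
          rw [e1, e2]⟩
      neg_mem' := fun {f} ⟨a, ha, ef⟩ => ⟨-a, fun H h => ha H (by simpa using h), by
          funext g
          have e1 := congrFun ef g
          simp only [Finset.sum_apply, Pi.smul_apply, smul_eq_mul, Pi.neg_apply, Int.cast_neg,
            neg_mul, Finset.sum_neg_distrib] at e1 ⊢
          rw [e1]⟩ }
  have hmul : ∀ f ∈ R, ∀ f' ∈ R, f * f' ∈ R := by
    rintro f ⟨a, ha, ef⟩ f' ⟨b, hb, eg⟩
    choose c hc hce using fun H K : Subgroup G => indFun_one_mul_indFun_one H K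
    refine ⟨fun U => ∑ H, ∑ K, a H * b K * (c H K U : ℤ), fun U hU => ?_, ?_⟩
    · obtain ⟨H, -, hH⟩ := Finset.exists_ne_zero_of_sum_ne_zero hU
      obtain ⟨K, -, hK⟩ := Finset.exists_ne_zero_of_sum_ne_zero hH
      simp only [ne_eq, mul_eq_zero, Nat.cast_eq_zero, not_or] at hK
      have hle := hc H K U hK.2
      have h1 := isHyperelementary_subgroup hp (ha H hK.1.1) (U.subgroupOf H)
      obtain ⟨C, hn, hcy, hco, k, hk⟩ := h1
      let e := Subgroup.subgroupOfEquivOfLe hle
      refine ⟨C.map e.toMonoidHom, hn.map _ e.surjective,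
        (C.equivMapOfInjective e.toMonoidHom e.injective).isCyclic.mp hcy, ?_, k, ?_⟩
      · rw [Subgroup.card_map_of_injective e.injective]; exact hco
      · exact (Subgroup.index_map_equiv C e).trans hk
    · funext g
      have e1 := congrFun ef g
      have e2 := congrFun eg g
      have e3 := fun H K => congrFun (hce H K) g
      simp only [Finset.sum_apply, Pi.smul_apply, smul_eq_mul, Pi.mul_apply, Int.cast_mul] at e1 e2 e3 ⊢
      rw [e1, e2, Finset.sum_mul_sum]
      simp only [Int.cast_sum, Int.cast_mul, Int.cast_natCast, Finset.sum_mul]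
      conv_rhs => rw [Finset.sum_comm]
      refine Finset.sum_congr rfl fun H _ => ?_
      conv_rhs => rw [Finset.sum_comm]
      refine Finset.sum_congr rfl fun K _ => ?_
      rw [mul_mul_mul_comm, e3, Finset.mul_sum]
      exact Finset.sum_congr rfl fun U _ => by ring
  -- enlarge by the multiples of `p`
  let R' : AddSubgroup (G → ℤ) := R ⊔ (nsmulAddMonoidHom (α := G → ℤ) p).range
  have hmul' : ∀ f ∈ R', ∀ f' ∈ R', f * f' ∈ R' := by
    intro f hf f' hf'
    obtain ⟨r, hr, q, ⟨v, rfl⟩, rfl⟩ := AddSubgroup.mem_sup.mp hf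
    obtain ⟨r', hr', q', ⟨v', rfl⟩, rfl⟩ := AddSubgroup.mem_sup.mp hf'
    refine AddSubgroup.mem_sup.mpr ⟨r * r', hmul r hr r' hr', _,
      ⟨r * v' + v * r' + v * (p • v'), rfl⟩, ?_⟩
    funext g
    simp only [nsmulAddMonoidHom_apply, Pi.add_apply, Pi.mul_apply, Pi.smul_apply, nsmul_eq_mul]
    ring
  have hRx : ∀ x : G, ∃ f ∈ R, ¬ (p : ℤ) ∣ f x := by
    intro x
    obtain ⟨H, hH, n, hn, hnp⟩ := exists_hyp_not_dvd x hp
    refine ⟨fun g => (Nat.card (MulAction.fixedBy (G ⧸ H) g) : ℤ), ⟨Pi.single H 1,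
      fun K hK => ?_, ?_⟩, ?_⟩
    · rcases eq_or_ne K H with rfl | hne
      · exact hH
      · exact absurd (by simp [hne]) hK
    · rw [Finset.sum_eq_single H (fun K _ hne => by simp [hne]) (by simp), indFun_one_eq_fixedBy]
      funext g
      simp
    · have h2 := congrFun (indFun_one_eq_fixedBy H) x
      rw [hn] at h2
      have : n = Nat.card (MulAction.fixedBy (G ⧸ H) x) := by exact_mod_cast h2
      show ¬ (p : ℤ) ∣ (Nat.card (MulAction.fixedBy (G ⧸ H) x) : ℤ)
      rw [← this]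
      exact_mod_cast hnp
  have hone : (1 : G → ℤ) ∈ R' := by
    by_contra h1
    obtain ⟨x, q, hq, hdiv⟩ := Cfsg.Agent.S0869.result R' hmul' h1
    rcases eq_or_ne q p with rfl | hne
    · obtain ⟨f, hf, hnd⟩ := hRx x
      exact hnd (hdiv f (AddSubgroup.mem_sup_left hf))
    · have := hdiv _ (AddSubgroup.mem_sup_right (S := R) ⟨1, rfl⟩)
      simp only [nsmulAddMonoidHom_apply, Pi.smul_apply, Pi.one_apply, nsmul_eq_mul, mul_one] at this
      exact hne ((Nat.prime_dvd_prime_iff_eq hq hp).mp (by exact_mod_cast this))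
  obtain ⟨r, hr, q, ⟨v, rfl⟩, hrv⟩ := AddSubgroup.mem_sup.mp hone
  -- a constant in the ring generated by `r`
  have hpoly : ∀ s : Finset G, ∃ f ∈ R, ∀ x,
      ∏ y ∈ s, (r x - r y) = f x + ∏ y ∈ s, (- r y) := by
    intro s
    induction s using Finset.induction with
    | empty => exact ⟨0, R.zero_mem, by simp⟩
    | insert a s has ih =>
      obtain ⟨f, hf, e⟩ := ih
      refine ⟨r * f + (∏ y ∈ s, (- r y)) • r - (r a) • f,
        R.sub_mem (R.add_mem (hmul r hr f hf) (AddSubgroup.zsmul_mem R hr _))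
          (AddSubgroup.zsmul_mem R hf _), fun x => ?_⟩
      rw [Finset.prod_insert has, Finset.prod_insert has, e x]
      simp only [Pi.sub_apply, Pi.add_apply, Pi.mul_apply, Pi.smul_apply, smul_eq_mul]
      ring
  obtain ⟨f, hf, hfe⟩ := hpoly Finset.univ
  obtain ⟨a, ha, hae⟩ := R.neg_mem hf
  refine ⟨∏ y : G, (- r y), a, ?_, ha, ?_⟩
  · rw [(Nat.prime_iff_prime_int.mp hp).dvd_finsetProd_iff]
    rintro ⟨y, -, hy⟩
    have h2 := congrFun hrv y
    simp only [nsmulAddMonoidHom_apply, Pi.add_apply, Pi.smul_apply, Pi.one_apply,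
      nsmul_eq_mul] at h2
    have : (p : ℤ) ∣ 1 := h2 ▸ dvd_add (dvd_neg.mp hy) (Dvd.intro _ rfl)
    exact hp.one_lt.ne' (by exact_mod_cast Int.eq_one_of_dvd_one (Int.natCast_nonneg p) this)
  · rw [← hae]
    funext x
    have h0 : ∏ y : G, (r x - r y) = 0 := Finset.prod_eq_zero (Finset.mem_univ x) (sub_self _)
    rw [hfe x] at h0
    simp only [Pi.neg_apply]
    rw [← neg_eq_of_add_eq_zero_right h0]

end Values

end CfsgLib.Char
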