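import Cfsg.Agent.Lib.Char.Ortho

/-!
# Induced functions

`extendByZero`/`indFun` API: linearity, class function, value at `1`, Frobenius reciprocity,
transitivity, projection formula, the induced function of a character is a character.
-/

namespace CfsgLib.Char

open Module
open scoped ComplexConjugate

section Extend

variable {G : Type*} [Group G] {H : Subgroup G} (θ : H → ℂ)

theorem extendByZero_coe (h : H) : Cfsg.extendByZero H θ (h : G) = θ h :=
  Subtype.val_injective.extend_apply θ 0 h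

theorem extendByZero_of_mem {g : G} (hg : g ∈ H) : Cfsg.extendByZero H θ g = θ ⟨g, hg⟩ :=
  extendByZero_coe θ ⟨g, hg⟩

theorem extendByZero_of_notMem {g : G} (hg : g ∉ H) : Cfsg.extendByZero H θ g = 0 :=
  Function.extend_apply' _ _ _ fun ⟨a, ha⟩ => hg (ha ▸ a.2)

theorem extendByZero_eq_dite (g : G) [Decidable (g ∈ H)] :
    Cfsg.extendByZero H θ g = if hg : g ∈ H then θ ⟨g, hg⟩ else 0 := by
  split_ifs with hg
  · exact extendByZero_of_mem θ hg
  · exact extendByZero_of_notMem θ hg

theorem extendByZero_conj_mem (hθ : Cfsg.IsClassFunction H θ) {h : G} (hh : h ∈ H) (g : G) :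
    Cfsg.extendByZero H θ (h * g * h⁻¹) = Cfsg.extendByZero H θ g := by
  by_cases hg : g ∈ H
  · rw [extendByZero_of_mem θ hg, extendByZero_of_mem θ (H.mul_mem (H.mul_mem hh hg) (H.inv_mem hh))]
    exact hθ ⟨g, hg⟩ ⟨h, hh⟩
  · rw [extendByZero_of_notMem θ hg, extendByZero_of_notMem θ]
    rwa [H.mul_mem_cancel_right (H.inv_mem hh), H.mul_mem_cancel_left hh]

theorem sum_extendByZero [Fintype G] [Fintype H] (f : G → ℂ) :
    ∑ g : G, Cfsg.extendByZero H θ g * f g = ∑ h : H, θ h * f h := by
  classical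
  rw [← Finset.sum_subset (Finset.subset_univ
    ((Finset.univ : Finset H).map ⟨Subtype.val, Subtype.val_injective⟩))]
  · rw [Finset.sum_map]
    exact Finset.sum_congr rfl fun h _ => by simp [extendByZero_coe]
  · intro g _ hg
    rw [extendByZero_of_notMem θ, zero_mul]
    exact fun hgH => hg (Finset.mem_map.mpr ⟨⟨g, hgH⟩, Finset.mem_univ _, rfl⟩)

end Extend

variable {G : Type*} [Group G] [Fintype G] (H : Subgroup G)

theorem indFun_apply (θ : H → ℂ) (g : G) :
    Cfsg.indFun H θ g =
      (Nat.card H : ℂ)⁻¹ * ∑ x : G, Cfsg.extendByZero H θ (x⁻¹ * g * x) := rfl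

theorem card_subgroup_ne_zero : (Nat.card H : ℂ) ≠ 0 := by exact_mod_cast Nat.card_pos.ne'

/-- Induction as a linear map. -/
noncomputable def indₗ : (H → ℂ) →ₗ[ℂ] (G → ℂ) where
  toFun := Cfsg.indFun H
  map_add' θ η := by
    funext g
    simp only [indFun_apply, Pi.add_apply, ← mul_add, ← Finset.sum_add_distrib]
    congr 1
    refine Finset.sum_congr rfl fun x _ => ?_
    by_cases hx : x⁻¹ * g * x ∈ H
    · simp [extendByZero_of_mem _ hx]
    · simp [extendByZero_of_notMem _ hx]
  map_smul' c θ := by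
    funext g
    simp only [indFun_apply, Pi.smul_apply, smul_eq_mul, RingHom.id_apply, Finset.mul_sum]
    refine Finset.sum_congr rfl fun x _ => ?_
    by_cases hx : x⁻¹ * g * x ∈ H
    · simp [extendByZero_of_mem _ hx]; ring
    · simp [extendByZero_of_notMem _ hx]

theorem indFun_zero : Cfsg.indFun H (0 : H → ℂ) = 0 := (indₗ H).map_zero

theorem indFun_add (θ η : H → ℂ) :
    Cfsg.indFun H (θ + η) = Cfsg.indFun H θ + Cfsg.indFun H η := (indₗ H).map_add θ η

theorem indFun_sub (θ η : H → ℂ) :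
    Cfsg.indFun H (θ - η) = Cfsg.indFun H θ - Cfsg.indFun H η := (indₗ H).map_sub θ η

theorem indFun_neg (θ : H → ℂ) : Cfsg.indFun H (-θ) = - Cfsg.indFun H θ := (indₗ H).map_neg θ

theorem indFun_smul (c : ℂ) (θ : H → ℂ) : Cfsg.indFun H (c • θ) = c • Cfsg.indFun H θ :=
  (indₗ H).map_smul c θ

theorem indFun_sum {ι : Type*} (s : Finset ι) (f : ι → H → ℂ) :
    Cfsg.indFun H (∑ i ∈ s, f i) = ∑ i ∈ s, Cfsg.indFun H (f i) := map_sum (indₗ H) f s

theorem isClassFunction_indFun (θ : H → ℂ) : Cfsg.IsClassFunction G (Cfsg.indFun H θ) := by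
  intro g c
  simp only [indFun_apply]
  congr 1
  refine Fintype.sum_equiv (Equiv.mulLeft c⁻¹) _ _ fun x => ?_
  simp only [Equiv.coe_mulLeft]
  congr 1
  group

theorem indFun_one (θ : H → ℂ) : Cfsg.indFun H θ 1 = (H.index : ℂ) * θ 1 := by
  simp only [indFun_apply, mul_one, inv_mul_cancel, extendByZero_of_mem _ H.one_mem,
    Finset.sum_const, Finset.card_univ, nsmul_eq_mul]
  rw [← Nat.card_eq_fintype_card, ← H.index_mul_card, Nat.cast_mul]
  rw [show (⟨1, H.one_mem⟩ : H) = 1 from rfl]
  field_simp [card_subgroup_ne_zero H]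

theorem indFun_eq_zero_of_forall {θ : H → ℂ} {g : G}
    (h : ∀ x : G, (hx : x⁻¹ * g * x ∈ H) → θ ⟨_, hx⟩ = 0) : Cfsg.indFun H θ g = 0 := by
  rw [indFun_apply, Finset.sum_eq_zero, mul_zero]
  intro x _
  by_cases hx : x⁻¹ * g * x ∈ H
  · rw [extendByZero_of_mem _ hx, h x hx]
  · exact extendByZero_of_notMem _ hx

/-- Frobenius reciprocity. -/
theorem frobenius_reciprocity [Fintype H] (θ : H → ℂ) {χ : G → ℂ}
    (hχ : Cfsg.IsClassFunction G χ) :
    Cfsg.classInner (Cfsg.indFun H θ) χ = Cfsg.classInner θ (fun h : H => χ h) := by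
  have hsum : ∀ x : G, ∑ g : G, Cfsg.extendByZero H θ (x⁻¹ * g * x) * conj (χ g) =
      ∑ h : H, θ h * conj (χ h) := by
    intro x
    rw [← sum_extendByZero θ fun g => conj (χ g)]
    refine Fintype.sum_equiv (MulAut.conj x⁻¹).toEquiv _ _ fun g => ?_
    have : χ (x⁻¹ * g * x) = χ g := by simpa using hχ g x⁻¹
    simp [this]
  simp only [classInner_def, indFun_apply, mul_assoc, Finset.sum_mul, ← Finset.mul_sum]
  rw [Finset.sum_comm]
  simp only [mul_assoc] at hsum
  have hG : (Fintype.card G : ℂ) ≠ 0 := by exact_mod_cast Fintype.card_ne_zero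
  simp only [hsum, Finset.sum_const, Finset.card_univ, nsmul_eq_mul, Nat.card_eq_fintype_card]
  field_simp

theorem frobenius_reciprocity' [Fintype H] (θ : H → ℂ) {χ : G → ℂ}
    (hχ : Cfsg.IsClassFunction G χ) :
    Cfsg.classInner χ (Cfsg.indFun H θ) = Cfsg.classInner (fun h : H => χ h) θ := by
  rw [← classInner_conj_symm, frobenius_reciprocity H θ hχ, classInner_conj_symm]

/-- The function induced from a character is a character. -/
theorem isCharacter_indFun {θ : H → ℂ} (hθ : Cfsg.IsCharacter H θ) :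
    Cfsg.IsCharacter G (Cfsg.indFun H θ) := by
  have := Fintype.ofFinite H
  refine isCharacter_of_classInner_nat (isClassFunction_indFun H θ) fun χ hχ => ?_
  rw [frobenius_reciprocity H θ (isClassFunction_of_isIrr hχ)]
  exact classInner_char_nat hθ (isCharacter_res H (isCharacter_of_isIrr hχ))

/-- Projection formula. -/
theorem indFun_mul (θ : H → ℂ) {χ : G → ℂ} (hχ : Cfsg.IsClassFunction G χ) :
    Cfsg.indFun H θ * χ = Cfsg.indFun H (θ * fun h : H => χ h) := by
  funext g
  simp only [Pi.mul_apply, indFun_apply, mul_assoc, Finset.sum_mul]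
  congr 1
  refine Finset.sum_congr rfl fun x _ => ?_
  by_cases hx : x⁻¹ * g * x ∈ H
  · have : χ (x⁻¹ * g * x) = χ g := by simpa using hχ g x⁻¹
    simp only [← mul_assoc, extendByZero_of_mem _ hx, Pi.mul_apply, this]
  · simp only [← mul_assoc, extendByZero_of_notMem _ hx, zero_mul]

theorem indFun_conj (θ : H → ℂ) (g : G) :
    conj (Cfsg.indFun H θ g) = Cfsg.indFun H (fun h => conj (θ h)) g := by
  simp only [indFun_apply, map_mul, map_inv₀, map_natCast, map_sum]
  congr 1
  refine Finset.sum_congr rfl fun x _ => ?_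
  by_cases hx : x⁻¹ * g * x ∈ H
  · simp [extendByZero_of_mem _ hx]
  · simp [extendByZero_of_notMem _ hx]

omit [Fintype G] in
/-- The sum over conjugates, in a form adapted to intermediate groups. -/
theorem extendByZero_indFun {K : Subgroup G} [Fintype K] (hHK : H ≤ K) (θ : H → ℂ) (y : G) :
    Cfsg.extendByZero K (Cfsg.indFun (H.subgroupOf K)
        (fun x => θ ⟨(x : K), Subgroup.mem_subgroupOf.mp x.2⟩)) y =
      (Nat.card H : ℂ)⁻¹ * ∑ k : K, Cfsg.extendByZero H θ ((k : G)⁻¹ * y * k) := by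
  have hc : Nat.card (H.subgroupOf K) = Nat.card H :=
    Nat.card_congr (Subgroup.subgroupOfEquivOfLe hHK).toEquiv
  by_cases hy : y ∈ K
  · rw [extendByZero_of_mem _ hy, indFun_apply, hc]
    congr 1
    refine Finset.sum_congr rfl fun k _ => ?_
    by_cases hk : (k : G)⁻¹ * y * k ∈ H
    · have hk' : k⁻¹ * ⟨y, hy⟩ * k ∈ H.subgroupOf K := by
        simpa [Subgroup.mem_subgroupOf] using hk
      rw [extendByZero_of_mem _ hk, extendByZero_of_mem _ hk']
      rfl
    · have hk' : k⁻¹ * ⟨y, hy⟩ * k ∉ H.subgroupOf K := by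
        simpa [Subgroup.mem_subgroupOf] using hk
      rw [extendByZero_of_notMem _ hk, extendByZero_of_notMem _ hk']
  · rw [extendByZero_of_notMem _ hy, Finset.sum_eq_zero, mul_zero]
    intro k _
    refine extendByZero_of_notMem _ fun hk => hy ?_
    simpa [mul_assoc] using K.mul_mem (K.mul_mem k.2 (hHK hk)) (K.inv_mem k.2)

/-- Transitivity of induction. -/
theorem indFun_trans {K : Subgroup G} [Fintype K] (hHK : H ≤ K) (θ : H → ℂ) :
    Cfsg.indFun K (Cfsg.indFun (H.subgroupOf K)
        (fun x => θ ⟨(x : K), Subgroup.mem_subgroupOf.mp x.2⟩)) = Cfsg.indFun H θ := by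
  funext g
  have hk : ∀ k : K, ∑ x : G, Cfsg.extendByZero H θ ((k : G)⁻¹ * (x⁻¹ * g * x) * k) =
      ∑ x : G, Cfsg.extendByZero H θ (x⁻¹ * g * x) := by
    intro k
    refine Fintype.sum_equiv (Equiv.mulRight (k : G)) _ _ fun x => ?_
    simp only [Equiv.coe_mulRight, mul_inv_rev]
    group
  simp only [indFun_apply K, indFun_apply H, extendByZero_indFun H hHK, ← Finset.mul_sum]
  rw [Finset.sum_comm]
  simp only [hk, Finset.sum_const, Finset.card_univ, nsmul_eq_mul, ← Nat.card_eq_fintype_card]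
  field_simp [card_subgroup_ne_zero K]

/-- Inducing from the whole group does nothing. -/
theorem indFun_top {θ : G → ℂ} (hθ : Cfsg.IsClassFunction G θ) :
    Cfsg.indFun (⊤ : Subgroup G) (fun x => θ x) = θ := by
  funext g
  have : ∀ x : G, Cfsg.extendByZero (⊤ : Subgroup G) (fun x => θ x) (x⁻¹ * g * x) = θ g :=
    fun x => by rw [extendByZero_of_mem _ (Subgroup.mem_top _)]; simpa using hθ g x⁻¹
  simp only [indFun_apply, this, Subgroup.card_top, Finset.sum_const, Finset.card_univ,
    nsmul_eq_mul, ← Nat.card_eq_fintype_card]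
  field_simp [card_ne_zero' (G := G)]

/-- The principal character is a constituent of the permutation character exactly once. -/
theorem classInner_indFun_one_one :
    Cfsg.classInner (Cfsg.indFun H fun _ => 1) (fun _ => 1) = 1 := by
  have := Fintype.ofFinite H
  rw [frobenius_reciprocity H _ (isClassFunction_const 1)]
  exact classInner_irr_self isIrrCharacter_one

end CfsgLib.Char
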