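import Cfsg.Agent.Lib.Char.Ortho

/-!
# Irreducible characters of a direct product
-/

namespace CfsgLib.Char

open scoped ComplexConjugate

variable {G H : Type*} [Group G] [Group H] [Fintype G] [Fintype H]

theorem classInner_prod (φ φ' : G → ℂ) (ψ ψ' : H → ℂ) :
    Cfsg.classInner (fun x : G × H => φ x.1 * ψ x.2) (fun x : G × H => φ' x.1 * ψ' x.2) =
      Cfsg.classInner φ φ' * Cfsg.classInner ψ ψ' := by
  simp only [classInner_def, Nat.card_prod, Nat.cast_mul, mul_inv, Fintype.sum_prod_type]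
  rw [mul_mul_mul_comm ((Nat.card G : ℂ))⁻¹, Finset.sum_mul_sum]
  congr 1
  refine Finset.sum_congr rfl fun a _ => Finset.sum_congr rfl fun b _ => ?_
  simp only [map_mul]
  ring

theorem isIrr_prod {φ : G → ℂ} {ψ : H → ℂ} (hφ : Cfsg.IsIrrCharacter G φ)
    (hψ : Cfsg.IsIrrCharacter H ψ) :
    Cfsg.IsIrrCharacter (G × H) (fun x => φ x.1 * ψ x.2) := by
  refine irr_of_norm_one (isCharacter_mul
    (isCharacter_comp (isCharacter_of_isIrr hφ) (MonoidHom.fst G H))
    (isCharacter_comp (isCharacter_of_isIrr hψ) (MonoidHom.snd G H))) ?_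
  show Cfsg.classInner (fun x : G × H => φ x.1 * ψ x.2) (fun x : G × H => φ x.1 * ψ x.2) = 1
  rw [classInner_prod, classInner_irr_self hφ, classInner_irr_self hψ, one_mul]

theorem isIrr_prod_iff (θ : G × H → ℂ) :
    Cfsg.IsIrrCharacter (G × H) θ ↔ ∃ (φ : G → ℂ) (ψ : H → ℂ), Cfsg.IsIrrCharacter G φ ∧
      Cfsg.IsIrrCharacter H ψ ∧ θ = fun x => φ x.1 * ψ x.2 := by
  classical
  refine ⟨fun hθ => ?_, fun ⟨φ, ψ, hφ, hψ, e⟩ => e ▸ isIrr_prod hφ hψ⟩
  by_contra hall
  push Not at hall
  have horth : ∀ φ ψ, Cfsg.IsIrrCharacter G φ → Cfsg.IsIrrCharacter H ψ →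
      ∑ g : G, ∑ h : H, θ (g, h) * conj (ψ h) * conj (φ g) = 0 := by
    intro φ ψ hφ hψ
    have h := classInner_irr_ne hθ (isIrr_prod hφ hψ) (hall φ ψ hφ hψ)
    have h2 := card_mul_classInner θ (fun x : G × H => φ x.1 * ψ x.2)
    rw [h, mul_zero, Fintype.sum_prod_type] at h2
    rw [h2]
    exact Finset.sum_congr rfl fun g _ => Finset.sum_congr rfl fun k _ => by rw [map_mul]; ring
  have hcl := isClassFunction_of_isIrr hθ
  refine irr_ne_zero hθ (funext fun x => ?_)
  have hrow : ∀ g, (fun h => θ (g, h)) = 0 := by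
    intro g
    refine classFun_ext (fun a c => ?_) (isClassFunction_const 0) fun ψ hψ => ?_
    · simpa using hcl (g, a) (1, c)
    rw [classInner_zero_left]
    have hf : (fun g => Cfsg.classInner (fun h => θ (g, h)) ψ) = 0 := by
      refine classFun_ext (fun a c => ?_) (isClassFunction_const 0) fun φ hφ => ?_
      · simp only [classInner_def]
        congr 1
        refine Finset.sum_congr rfl fun h _ => ?_
        have := hcl (a, h) (c, 1)
        simp only [Prod.mk_mul_mk, Prod.inv_mk, inv_one, one_mul, mul_one] at this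
        rw [this]
      · rw [classInner_zero_left]
        simp only [classInner_def, mul_assoc, Finset.sum_mul, ← Finset.mul_sum]
        have h1 := horth φ ψ hφ hψ
        simp only [mul_assoc] at h1
        rw [h1, mul_zero, mul_zero]
    exact congrFun hf g
  exact congrFun (hrow x.1) x.2

end CfsgLib.Char
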