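import Cfsg.Agent.Lib.Char.BrauerInduction
import Cfsg.Agent.Lib.Char.Product
import Cfsg.Agent.Lib.OddLocal.Basic

/-!
# Sections of `π`-elements

For coprime `m`, `n` with `|G| ∣ m * n`: `piPart m n x` is the factor of `x` of order dividing `n`.

* `isIntegral_classInner_of_elementary`: Brauer's criterion for algebraic-integer coefficients;
* `isIntegral_classInner_section`: `n` times the indicator of a section has such coefficients;
* `exists_normal_complement_of_fusion`: the Brauer–Suzuki normal complement criterion.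
-/

namespace CfsgLib.Char

open scoped ComplexConjugate

section PiPart

variable {G H : Type*} [Group G] [Group H]

/-- The factor of order dividing `n`, when the order divides `m * n`. -/
def piPart (m n : ℕ) (x : G) : G := x ^ ((m : ℤ) * Nat.gcdA m n)

theorem map_piPart (f : G →* H) (m n : ℕ) (x : G) : f (piPart m n x) = piPart m n (f x) :=
  map_zpow f x _

theorem piPart_mem {A : Subgroup G} {x : G} (hx : x ∈ A) (m n : ℕ) : piPart m n x ∈ A :=
  A.zpow_mem hx _

theorem piPart_conj (m n : ℕ) (a x : G) : piPart m n (a * x * a⁻¹) = a * piPart m n x * a⁻¹ :=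
  conj_zpow

variable {m n : ℕ}

theorem piPart_pow_eq_one {x : G} (hx : x ^ (m * n) = 1) : piPart m n x ^ n = 1 := by
  rw [piPart, ← zpow_natCast, ← zpow_mul, mul_right_comm, zpow_mul, ← Nat.cast_mul, zpow_natCast,
    hx, one_zpow]

theorem piPart_eq_of_mul (hcop : Nat.Coprime m n) {u v : G} (hc : Commute u v) (hu : u ^ m = 1)
    (hv : v ^ n = 1) : piPart m n (u * v) = v := by
  have hb := Nat.gcd_eq_gcd_ab m n
  rw [hcop.gcd_eq_one] at hb
  rw [piPart, hc.mul_zpow, zpow_mul, zpow_natCast, hu, one_zpow, one_mul,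
    show (m : ℤ) * Nat.gcdA m n = 1 + (n : ℤ) * (-Nat.gcdB m n) by push_cast at hb ⊢; linarith,
    zpow_add, zpow_one, zpow_mul, zpow_natCast, hv, one_zpow, mul_one]

theorem piPart_eq_self (hcop : Nat.Coprime m n) {v : G} (hv : v ^ n = 1) : piPart m n v = v := by
  have := piPart_eq_of_mul hcop (Commute.one_left v) (one_pow m) hv
  rwa [one_mul] at this

theorem piPart_compl_pow_eq_one (hcop : Nat.Coprime m n) {x : G} (hx : x ^ (m * n) = 1) :
    (x * (piPart m n x)⁻¹) ^ m = 1 := by
  have hb := Nat.gcd_eq_gcd_ab m n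
  rw [hcop.gcd_eq_one] at hb
  have h1 : x * (piPart m n x)⁻¹ = x ^ ((n : ℤ) * Nat.gcdB m n) := by
    rw [piPart, ← zpow_neg]
    nth_rewrite 1 [← zpow_one x]
    rw [← zpow_add]
    congr 1
    push_cast at hb
    linarith
  rw [h1, ← zpow_natCast, ← zpow_mul, mul_right_comm, ← Nat.cast_mul, zpow_mul, zpow_natCast,
    mul_comm n, hx, one_zpow]

theorem commute_piPart (x : G) (m n : ℕ) : Commute (x * (piPart m n x)⁻¹) (piPart m n x) := by
  have h : Commute x (piPart m n x) := (Commute.refl x).zpow_right _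
  exact h.mul_left ((Commute.refl _).inv_left)

theorem pow_eq_one_of_dvd [Finite G] (h : Nat.card G ∣ m * n) (x : G) : x ^ (m * n) = 1 := by
  obtain ⟨k, hk⟩ := h
  rw [hk, pow_mul, pow_card_eq_one', one_pow]

theorem orderOf_dvd_iff_coprime [Finite G] (hcop : Nat.Coprime m n) (h : Nat.card G ∣ m * n)
    (v : G) : v ^ n = 1 ↔ Nat.Coprime (orderOf v) m :=
  ⟨fun hv => Nat.Coprime.coprime_dvd_left (orderOf_dvd_of_pow_eq_one hv) hcop.symm,
    fun hv => orderOf_dvd_iff_pow_eq_one.mp
      (hv.dvd_of_dvd_mul_left ((orderOf_dvd_natCard v).trans h))⟩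

theorem pow_mul_eq_one_of_nilpotent [Finite G] [Group.IsNilpotent G] (hcop : Nat.Coprime m n)
    (h : Nat.card G ∣ m * n) {x y : G} (hx : x ^ n = 1) (hy : y ^ n = 1) : (x * y) ^ n = 1 := by
  obtain ⟨e⟩ := (Group.isNilpotent_of_finite_tfae (G := G)).out 0 4 rfl rfl |>.mp ‹_›
  refine e.symm.injective ?_
  rw [map_pow, map_one, map_mul]
  funext p P
  have hpp : Fact ((p : ℕ)).Prime := ⟨Nat.prime_of_mem_primeFactors p.2⟩
  show (e.symm x p P * e.symm y p P) ^ n = 1
  have hcomp : ∀ z : G, z ^ n = 1 → (e.symm z p P) ^ n = 1 := fun z hz => by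
    show (e.symm z ^ n) p P = 1
    rw [← map_pow, hz, map_one]; rfl
  by_cases hpn : (p : ℕ) ∣ n
  · set z := e.symm x p P * e.symm y p P
    obtain ⟨i, hi⟩ := IsPGroup.iff_orderOf.1 P.isPGroup' z
    refine orderOf_dvd_iff_pow_eq_one.mp ?_
    have hd : orderOf z ∣ m * n := ((Subgroup.orderOf_coe z).symm ▸
      orderOf_dvd_natCard ((z : G))).trans h
    rw [hi] at hd ⊢
    exact (Nat.Coprime.pow_left i ((hpp.out.coprime_iff_not_dvd).mpr fun hpm =>
      hpp.out.not_dvd_one (hcop ▸ Nat.dvd_gcd hpm hpn))).dvd_of_dvd_mul_left hd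
  · have hone : ∀ w : P, w ^ n = 1 → w = 1 := by
      intro w hw
      obtain ⟨i, hi⟩ := IsPGroup.iff_orderOf.1 P.isPGroup' w
      refine orderOf_eq_one_iff.mp (Nat.eq_one_of_dvd_coprimes ?_ dvd_rfl (orderOf_dvd_of_pow_eq_one hw))
      rw [hi]
      exact Nat.Coprime.pow_left i ((hpp.out.coprime_iff_not_dvd).mpr hpn)
    rw [hone _ (hcomp x hx), hone _ (hcomp y hy), one_mul, one_pow]

/-- The subgroup of the elements with `v ^ n = 1` in a nilpotent group. -/
def piSubgroup [Finite G] [Group.IsNilpotent G] (hcop : Nat.Coprime m n)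
    (h : Nat.card G ∣ m * n) : Subgroup G where
  carrier := {x | x ^ n = 1}
  one_mem' := one_pow n
  mul_mem' := pow_mul_eq_one_of_nilpotent hcop h
  inv_mem' := fun {x} (hx : x ^ n = 1) => show x⁻¹ ^ n = 1 by rw [inv_pow, hx, inv_one]

theorem card_piSubgroup_dvd [Finite G] [Group.IsNilpotent G] (hcop : Nat.Coprime m n)
    (h : Nat.card G ∣ m * n) : Nat.card (piSubgroup hcop h) ∣ n := by
  refine Nat.Coprime.dvd_of_dvd_mul_left (Nat.coprime_of_dvd fun q hq h1 h2 => ?_)
    ((Subgroup.card_subgroup_dvd_card _).trans h)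
  have : Fact q.Prime := ⟨hq⟩
  obtain ⟨⟨x, hx⟩, ho⟩ := exists_prime_orderOf_dvd_card' q h1
  rw [Subgroup.orderOf_mk] at ho
  exact hq.not_dvd_one (hcop ▸ Nat.dvd_gcd h2 (ho ▸ orderOf_dvd_of_pow_eq_one hx))

/-- A nilpotent group is the product of its two coprime parts. -/
noncomputable def piEquiv [Finite G] [Group.IsNilpotent G] (hcop : Nat.Coprime m n)
    (h : Nat.card G ∣ m * n) :
    piSubgroup hcop.symm (mul_comm m n ▸ h) × piSubgroup hcop h ≃* G :=
  MulEquiv.ofBijective
    (MonoidHom.noncommCoprod (piSubgroup hcop.symm (mul_comm m n ▸ h)).subtype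
      (piSubgroup hcop h).subtype fun u v => OddLocal.commute_of_coprime_orderOf _ _
        (Nat.Coprime.coprime_dvd_left (orderOf_dvd_of_pow_eq_one u.2)
          (Nat.Coprime.coprime_dvd_right (orderOf_dvd_of_pow_eq_one v.2) hcop)))
    ⟨by
      refine (injective_iff_map_eq_one _).mpr fun ⟨u, v⟩ huv => ?_
      have huv' : (u : G) * (v : G) = 1 := huv
      have hv : (v : G) = 1 := by
        rw [← piPart_eq_of_mul hcop (OddLocal.commute_of_coprime_orderOf _ _
          (Nat.Coprime.coprime_dvd_left (orderOf_dvd_of_pow_eq_one u.2)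
            (Nat.Coprime.coprime_dvd_right (orderOf_dvd_of_pow_eq_one v.2) hcop))) u.2 v.2, huv']
        exact piPart_eq_self hcop (one_pow n)
      rw [hv, mul_one] at huv'
      exact Prod.ext (Subtype.ext huv') (Subtype.ext hv),
    fun x => ⟨(⟨_, piPart_compl_pow_eq_one hcop (pow_eq_one_of_dvd h x)⟩,
      ⟨_, piPart_pow_eq_one (pow_eq_one_of_dvd h x)⟩), inv_mul_cancel_right x _⟩⟩

theorem piEquiv_apply [Finite G] [Group.IsNilpotent G] (hcop : Nat.Coprime m n)
    (h : Nat.card G ∣ m * n)
    (uv : piSubgroup hcop.symm (mul_comm m n ▸ h) × piSubgroup hcop h) :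
    piEquiv hcop h uv = (uv.1 : G) * (uv.2 : G) := rfl

theorem piPart_piEquiv [Finite G] [Group.IsNilpotent G] (hcop : Nat.Coprime m n)
    (h : Nat.card G ∣ m * n)
    (uv : piSubgroup hcop.symm (mul_comm m n ▸ h) × piSubgroup hcop h) :
    piPart m n (piEquiv hcop h uv) = (uv.2 : G) :=
  piPart_eq_of_mul hcop (OddLocal.commute_of_coprime_orderOf _ _
    (Nat.Coprime.coprime_dvd_left (orderOf_dvd_of_pow_eq_one uv.1.2)
      (Nat.Coprime.coprime_dvd_right (orderOf_dvd_of_pow_eq_one uv.2.2) hcop))) uv.1.2 uv.2.2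

/-- In a nilpotent group taking the `n`-part is a homomorphism. -/
theorem piPart_mul [Finite G] [Group.IsNilpotent G] (hcop : Nat.Coprime m n)
    (h : Nat.card G ∣ m * n) (x y : G) :
    piPart m n (x * y) = piPart m n x * piPart m n y := by
  obtain ⟨a, rfl⟩ := (piEquiv hcop h).surjective x
  obtain ⟨b, rfl⟩ := (piEquiv hcop h).surjective y
  rw [← map_mul, piPart_piEquiv, piPart_piEquiv, piPart_piEquiv]
  rfl

end PiPart

section Integral

variable {G : Type*} [Group G] [Fintype G]

/-- Brauer's criterion with algebraic-integer coefficients. -/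
theorem isIntegral_classInner_of_elementary {θ : G → ℂ} (hθ : Cfsg.IsClassFunction G θ)
    (h : ∀ (E : Subgroup G) [Fintype E] (p : ℕ), p.Prime → Cfsg.IsElementary p E →
      ∀ φ : E → ℂ, Cfsg.IsIrrCharacter E φ →
        IsIntegral ℤ (Cfsg.classInner (fun e : E => θ e) φ))
    {χ : G → ℂ} (hχ : Cfsg.IsCharacter G χ) : IsIntegral ℤ (Cfsg.classInner θ χ) := by
  let V : AddSubgroup (G → ℂ) :=
    { carrier := {f | ∀ χ, Cfsg.IsCharacter G χ → IsIntegral ℤ (Cfsg.classInner (f * θ) χ)}
      zero_mem' := fun χ _ => by rw [zero_mul, classInner_zero_left]; exact isIntegral_zero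
      add_mem' := fun {a b} ha hb χ hχ => by
        rw [add_mul, classInner_add_left]; exact (ha χ hχ).add (hb χ hχ)
      neg_mem' := fun {a} ha χ hχ => by
        rw [neg_mul, classInner_neg_left]; exact (ha χ hχ).neg }
  have hle : linSpan G ≤ V := by
    rw [linSpan, AddSubgroup.closure_le]
    rintro _ ⟨E, lam, ⟨p, hp, hE⟩, rfl⟩ χ hχ
    have := Fintype.ofFinite E
    rw [indFun_mul E _ hθ, frobenius_reciprocity E _ (isClassFunction_of_isCharacter hχ)]
    have hsw : Cfsg.classInner ((fun e => (lam e : ℂ)) * fun e : E => θ e) (fun e : E => χ e) =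
        Cfsg.classInner (fun e : E => θ e)
          ((fun e => conj (lam e : ℂ)) * fun e : E => χ e) := by
      simp only [classInner_def, Pi.mul_apply, map_mul, Complex.conj_conj]
      congr 1
      exact Finset.sum_congr rfl fun e _ => by ring
    rw [hsw]
    obtain ⟨c, hc, -⟩ := char_decomp (isCharacter_mul
      (isCharacter_conj (isCharacter_of_isIrr (isIrrCharacter_units_hom lam))) (isCharacter_res E hχ))
    rw [hc, classInner_sum_right]
    refine IsIntegral.sum _ fun φ _ => ?_
    rw [classInner_smul_right, map_natCast]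
    exact (isIntegral_natCast _).mul (h E p hp hE φ φ.2)
  have h1 := hle one_mem_linSpan χ hχ
  rwa [show (fun _ : G => (1 : ℂ)) * θ = θ from funext fun g => one_mul _] at h1

variable {m n : ℕ}

/-- `n` times the indicator of a section is an algebraic-integer combination of irreducibles. -/
theorem isIntegral_classInner_section (hcard : Nat.card G = m * n) (hcop : Nat.Coprime m n) (g : G)
    [DecidablePred fun x : G => IsConj (piPart m n x) g] {χ : G → ℂ} (hχ : Cfsg.IsCharacter G χ) :
    IsIntegral ℤ (Cfsg.classInner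
      (fun x => if IsConj (piPart m n x) g then (n : ℂ) else 0) χ) := by
  classical
  refine isIntegral_classInner_of_elementary (fun x a => ?_) (fun E _ p hp hE φ hφ => ?_) hχ
  · have e : IsConj (piPart m n (a * x * a⁻¹)) g ↔ IsConj (piPart m n x) g := by
      rw [piPart_conj]
      have hc : IsConj (piPart m n x) (a * piPart m n x * a⁻¹) := isConj_iff.mpr ⟨a, rfl⟩
      exact ⟨fun h => hc.trans h, fun h => hc.symm.trans h⟩
    simp only [e]
  have := isNilpotent_of_isElementary hp hE
  have hd : Nat.card E ∣ m * n := hcard ▸ Subgroup.card_subgroup_dvd_card E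
  set A := piSubgroup hcop.symm (mul_comm m n ▸ hd)
  set B := piSubgroup hcop hd
  let e : A × B ≃* E := piEquiv hcop hd
  have := Fintype.ofFinite A
  have := Fintype.ofFinite B
  obtain ⟨α, β, hα, hβ, hab⟩ := (isIrr_prod_iff (φ ∘ e)).mp (CharNormal.isIrr_comp_mulEquiv hφ e)
  have hval : Cfsg.classInner (fun x : E => if IsConj (piPart m n (x : G)) g then (n : ℂ) else 0) φ =
      (Nat.card E : ℂ)⁻¹ * ((∑ u : A, conj (α u)) *
        ∑ v : B, (if IsConj ((v : E) : G) g then (n : ℂ) else 0) * conj (β v)) := by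
    rw [classInner_def, ← Fintype.sum_equiv e.toEquiv _ _ fun _ => rfl, Fintype.sum_prod_type,
      Finset.sum_mul_sum]
    congr 1
    refine Finset.sum_congr rfl fun u _ => Finset.sum_congr rfl fun v _ => ?_
    have h1 : piPart m n ((e (u, v) : E) : G) = ((v : E) : G) := by
      rw [← Subgroup.coe_subtype, ← map_piPart, piPart_piEquiv]
    have h2 : φ (e (u, v)) = α u * β v := congrFun hab (u, v)
    rw [MulEquiv.toEquiv_eq_coe, MulEquiv.coe_toEquiv,
      if_congr (iff_of_eq (congrArg (IsConj · g) h1)) rfl rfl, h2, map_mul]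
    ring
  rw [hval]
  obtain ⟨k, hk⟩ := classInner_char_nat (isCharacter_of_isIrr hα) (isCharacter_one (G := A))
  have hA : ∑ u : A, conj (α u) = (Nat.card A : ℂ) * k := by
    have h1 := congrArg conj (card_mul_classInner α (fun _ : A => (1 : ℂ)))
    simp only [map_one, mul_one, map_mul, map_natCast, hk, map_sum] at h1
    exact h1.symm
  obtain ⟨t, ht⟩ := card_piSubgroup_dvd hcop hd
  have hE' : Nat.card E = Nat.card A * Nat.card B := by
    rw [← Nat.card_congr e.toEquiv, Nat.card_prod]
  have hAne : (Nat.card A : ℂ) ≠ 0 := by exact_mod_cast Nat.card_pos.ne'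
  have hBne : (Nat.card B : ℂ) ≠ 0 := by exact_mod_cast Nat.card_pos.ne'
  have hn : (n : ℂ) = (Nat.card B : ℂ) * t := by exact_mod_cast ht
  have hsum : (∑ v : B, (if IsConj ((v : E) : G) g then (n : ℂ) else 0) * conj (β v)) =
      (n : ℂ) * ∑ v ∈ Finset.univ.filter (fun v : B => IsConj ((v : E) : G) g), conj (β v) := by
    rw [Finset.mul_sum, Finset.sum_filter]
    exact Finset.sum_congr rfl fun v _ => by split_ifs <;> simp
  rw [hA, hE', hsum, hn]
  set S := ∑ v ∈ Finset.univ.filter (fun v : B => IsConj ((v : E) : G) g), conj (β v)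
  rw [show ((Nat.card A * Nat.card B : ℕ) : ℂ)⁻¹ *
      ((Nat.card A : ℂ) * k * ((Nat.card B : ℂ) * t * S)) = (k : ℂ) * t * S by
    push_cast; field_simp]
  refine ((isIntegral_natCast k).mul (isIntegral_natCast t)).mul (IsIntegral.sum _ fun v _ => ?_)
  rw [← char_inv (isCharacter_of_isIrr hβ)]
  exact char_isIntegral (isCharacter_of_isIrr hβ) _

/-- The number of elements of a section is divisible by `m`. -/
theorem dvd_card_section (hcard : Nat.card G = m * n) (hcop : Nat.Coprime m n) (g : G) :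
    m ∣ Nat.card {x : G // IsConj (piPart m n x) g} := by
  classical
  have hm0 : m ≠ 0 := fun h => Nat.card_pos.ne' (hcard.trans (by rw [h, zero_mul]) : Nat.card G = 0)
  have hn0 : (n : ℂ) ≠ 0 := by
    exact_mod_cast fun h : n = 0 => Nat.card_pos.ne' (hcard.trans (by rw [h, mul_zero]) : Nat.card G = 0)
  have h := isIntegral_classInner_section hcard hcop g (isCharacter_one (G := G))
  have he : Cfsg.classInner (fun x => if IsConj (piPart m n x) g then (n : ℂ) else 0) (fun _ => 1) =
      ((Nat.card {x : G // IsConj (piPart m n x) g} : ℕ) : ℂ) / (m : ℂ) := by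
    rw [classInner_def]
    simp only [map_one, mul_one, Finset.sum_ite, Finset.sum_const_zero, add_zero, Finset.sum_const,
      nsmul_eq_mul, hcard, Nat.cast_mul, ← Fintype.card_subtype, ← Nat.card_eq_fintype_card]
    field_simp
  rw [he] at h
  exact dvd_of_isIntegral_div hm0 h

end Integral

end CfsgLib.Char
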