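import Cfsg.Agent.Lib.Char.Ortho
import Mathlib.LinearAlgebra.Determinant
import Cfsg.Prelude.Def_CharExt

/-!
# Representations with equal characters are equivalent; determinantal character
-/

namespace CfsgLib.Char

open Module

variable {G : Type*} [Group G]

section Glue

variable {V : Type*} [AddCommGroup V] [Module ℂ V] {ρ : Representation ℂ G V}

theorem isCompl_toSubmodule {U U' : Subrepresentation ρ} (h : IsCompl U U') :
    IsCompl U.toSubmodule U'.toSubmodule :=
  ⟨disjoint_iff.mpr (congrArg Subrepresentation.toSubmodule h.disjoint.eq_bot),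
    codisjoint_iff.mpr (congrArg Subrepresentation.toSubmodule h.codisjoint.eq_top)⟩

/-- A complementary pair of subrepresentations splits the representation. -/
noncomputable def prodEquivOfCompl {U U' : Subrepresentation ρ} (h : IsCompl U U') :
    (U.toRepresentation.prod U'.toRepresentation).Equiv ρ :=
  Representation.Equiv.mk (Submodule.prodEquivOfIsCompl _ _ (isCompl_toSubmodule h)) fun g => by
    refine LinearMap.ext fun x => ?_
    show ((U.toRepresentation g x.1 : V)) + (U'.toRepresentation g x.2 : V) = ρ g ((x.1 : V) + x.2)
    rw [map_add]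
    rfl

/-- Componentwise equivalence. -/
noncomputable def prodEquiv {W₁ W₂ W₁' W₂' : Type*} [AddCommGroup W₁] [Module ℂ W₁]
    [AddCommGroup W₂] [Module ℂ W₂] [AddCommGroup W₁'] [Module ℂ W₁'] [AddCommGroup W₂']
    [Module ℂ W₂'] {a : Representation ℂ G W₁} {b : Representation ℂ G W₂}
    {a' : Representation ℂ G W₁'} {b' : Representation ℂ G W₂'} (e : a.Equiv a') (f : b.Equiv b') :
    (a.prod b).Equiv (a'.prod b') :=
  Representation.Equiv.mk (e.toLinearEquiv.prodCongr f.toLinearEquiv) fun g => by
    refine LinearMap.ext fun x => ?_
    exact Prod.ext (LinearMap.congr_fun (e.toIntertwiningMap.isIntertwining' g) x.1)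
      (LinearMap.congr_fun (f.toIntertwiningMap.isIntertwining' g) x.2)

/-- The range of an injective intertwining map is equivalent to the source. -/
noncomputable def equivRange {W : Type*} [AddCommGroup W] [Module ℂ W]
    {σ : Representation ℂ G W} (f : Representation.IntertwiningMap σ ρ)
    (hf : Function.Injective f.toLinearMap) : σ.Equiv f.range.toRepresentation :=
  Representation.Equiv.mk (LinearEquiv.ofInjective f.toLinearMap hf) fun g =>
    LinearMap.ext fun v => Subtype.ext (LinearMap.congr_fun (f.isIntertwining' g) v)

theorem character_compl [FiniteDimensional ℂ V] {U U' : Subrepresentation ρ} (h : IsCompl U U') :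
    ρ.character = U.toRepresentation.character + U'.toRepresentation.character := by
  rw [← Representation.char_iso (prodEquivOfCompl h)]
  exact funext fun g => LinearMap.trace_prodMap' (U.toRepresentation g) (U'.toRepresentation g)

/-- Every nonzero representation contains an irreducible one. -/
theorem exists_irreducible_sub [FiniteDimensional ℂ V] [Nontrivial V] :
    ∃ U : Subrepresentation ρ, U.toRepresentation.IsIrreducible := by
  classical
  have hex : ∃ k, ∃ U : Subrepresentation ρ, U.toSubmodule ≠ ⊥ ∧ finrank ℂ U.toSubmodule = k :=
    ⟨_, ⊤, (bot_ne_top (α := Submodule ℂ V)).symm, rfl⟩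
  obtain ⟨U, hU, hk⟩ := Nat.find_spec hex
  refine ⟨U, { exists_pair_ne := ⟨⊥, ⊤, fun e => hU ?_⟩, eq_bot_or_eq_top := fun W => ?_ }⟩
  · have h : (⊥ : Submodule ℂ U.toSubmodule) = ⊤ := congrArg Subrepresentation.toSubmodule e
    refine (Submodule.eq_bot_iff _).mpr fun x hx => ?_
    have : (⟨x, hx⟩ : U.toSubmodule) ∈ (⊥ : Submodule ℂ U.toSubmodule) := h ▸ Submodule.mem_top
    simpa using this
  · let W' : Subrepresentation ρ := ⟨W.toSubmodule.map U.toSubmodule.subtype, by
      rintro g _ ⟨w, hw, rfl⟩
      exact ⟨U.toRepresentation g w, W.apply_mem_toSubmodule g hw, rfl⟩⟩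
    rcases eq_or_ne W.toSubmodule ⊥ with hW | hW
    · exact Or.inl (Subrepresentation.toSubmodule_injective hW)
    · right
      refine Subrepresentation.toSubmodule_injective ?_
      have h1 : finrank ℂ W'.toSubmodule = finrank ℂ W.toSubmodule :=
        (Submodule.equivMapOfInjective _ U.toSubmodule.injective_subtype _).finrank_eq.symm
      have hne : W'.toSubmodule ≠ ⊥ := fun e => hW (Submodule.map_injective_of_injective
        U.toSubmodule.injective_subtype (e.trans (Submodule.map_bot _).symm))
      have h2 := Nat.find_min' hex ⟨W', hne, h1⟩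
      exact Submodule.eq_top_of_finrank_eq (le_antisymm (Submodule.finrank_le _) (hk ▸ h2))

end Glue

/-- Representations with the same character are equivalent. -/
theorem nonempty_equiv_of_character_eq [Finite G] :
    ∀ {V W : Type*} [AddCommGroup V] [Module ℂ V] [FiniteDimensional ℂ V] [AddCommGroup W]
      [Module ℂ W] [FiniteDimensional ℂ W] (ρ : Representation ℂ G V) (σ : Representation ℂ G W),
      ρ.character = σ.character → Nonempty (ρ.Equiv σ) := by
  intro V W _ _ _ _ _ _ ρ σ h
  classical
  have := Fintype.ofFinite G
  induction hn : finrank ℂ V using Nat.strong_induction_on generalizing V W with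
  | _ n ih =>
  have hdim : finrank ℂ V = finrank ℂ W := by
    have := congrFun h 1
    simpa using this
  rcases subsingleton_or_nontrivial V with hV | hV
  · have hW : Subsingleton W := by
      rw [← Module.finrank_zero_iff (R := ℂ)]
      exact hdim ▸ Module.finrank_zero_of_subsingleton
    exact ⟨Representation.Equiv.mk (LinearEquiv.ofLinearMap 0 0 (LinearMap.ext fun _ => Subsingleton.elim _ _)
      (LinearMap.ext fun _ => Subsingleton.elim _ _))
      fun g => LinearMap.ext fun _ => Subsingleton.elim _ _⟩
  obtain ⟨U, hU⟩ := exists_irreducible_sub (ρ := ρ)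
  obtain ⟨U', hUU'⟩ := exists_isCompl U
  let i : Representation.IntertwiningMap U.toRepresentation ρ :=
    ⟨U.toSubmodule.subtype, fun g => LinearMap.ext fun v => rfl⟩
  have hUpos := finrank_pos_of_irreducible U.toRepresentation
  have hi : i ≠ 0 := fun e => by
    have : U.toSubmodule.subtype = 0 := congrArg Representation.IntertwiningMap.toLinearMap e
    have : Subsingleton U.toSubmodule := ⟨fun a b => Subtype.ext (by
      rw [← Submodule.subtype_apply, this, ← Submodule.subtype_apply (x := b), this]; rfl)⟩
    exact hUpos.ne' Module.finrank_zero_of_subsingleton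
  obtain ⟨f, hf⟩ : ∃ f : Representation.IntertwiningMap U.toRepresentation σ, f ≠ 0 := by
    by_contra hall
    push Not at hall
    have : Subsingleton (Representation.IntertwiningMap U.toRepresentation σ) :=
      ⟨fun a b => (hall a).trans (hall b).symm⟩
    have h0 : Cfsg.classInner ρ.character U.toRepresentation.character = 0 := by
      rw [h, classInner_character]
      simp [Module.finrank_zero_of_subsingleton]
    rw [classInner_character, Nat.cast_eq_zero] at h0
    have := Module.finrank_zero_iff.mp h0
    exact hi (Subsingleton.elim _ _)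
  have hinj : Function.Injective f.toLinearMap :=
    (Representation.IsIrreducible.injective_or_eq_zero f).resolve_right hf
  obtain ⟨Z', hZ⟩ := exists_isCompl f.range
  have e1 := equivRange f hinj
  have hchar : U'.toRepresentation.character = Z'.toRepresentation.character := by
    have h1 := character_compl hUU'
    rw [h, character_compl hZ, ← Representation.char_iso e1] at h1
    exact (add_left_cancel h1).symm
  have hlt : finrank ℂ U'.toSubmodule < n := by
    have := Submodule.finrank_add_eq_of_isCompl (isCompl_toSubmodule hUU')
    omega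
  obtain ⟨e2⟩ := ih _ hlt U'.toRepresentation Z'.toRepresentation hchar rfl
  exact ⟨(prodEquivOfCompl hUU').symm.trans ((prodEquiv e1 e2).trans (prodEquivOfCompl hZ))⟩

/-- `detChar` is computed by any representation affording the character. -/
theorem detChar_eq [Finite G] {n : ℕ} (ρ : Representation ℂ G (Fin n → ℂ)) (g : G) :
    Cfsg.detChar ρ.character g = LinearMap.det (ρ g) := by
  have h : Cfsg.IsCharacter G ρ.character := ⟨n, ρ, rfl⟩
  rw [Cfsg.detChar, dif_pos h]
  set σ := Classical.choose (Classical.choose_spec h)
  have hσ : σ.character = ρ.character := Classical.choose_spec (Classical.choose_spec h)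
  obtain ⟨e⟩ := nonempty_equiv_of_character_eq σ ρ hσ
  rw [← e.conj_apply_self g, LinearEquiv.conj_apply]
  exact (LinearMap.det_conj _ e.toLinearEquiv).symm

/-- The determinant of a representation as a homomorphism. -/
noncomputable def detHom {V : Type*} [AddCommGroup V] [Module ℂ V] (ρ : Representation ℂ G V) :
    G →* ℂˣ := (LinearMap.det.comp ρ).toHomUnits

theorem detHom_apply {V : Type*} [AddCommGroup V] [Module ℂ V] (ρ : Representation ℂ G V) (g : G) :
    (detHom ρ g : ℂ) = LinearMap.det (ρ g) := rfl

theorem detChar_eq_detHom [Finite G] {n : ℕ} (ρ : Representation ℂ G (Fin n → ℂ)) :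
    Cfsg.detChar ρ.character = fun g => (detHom ρ g : ℂ) := funext (detChar_eq ρ)

end CfsgLib.Char
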