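import Cfsg.Agent.Lib.Char.ProjExt
import Cfsg.Agent.Lib.Char.Equiv
import Cfsg.Agent.Lib.CharNormal.Gallagher

/-!
# Extension theorems for invariant characters of normal subgroups
-/

namespace CfsgLib.Char

open scoped ComplexConjugate

variable {G : Type*} [Group G]

/-- Linear characters as functions. -/
noncomputable def linFun : (G →* ℂˣ) →* (G → ℂ) where
  toFun f g := f g
  map_one' := rfl
  map_mul' _ _ := rfl

theorem linFun_apply (f : G →* ℂˣ) (g : G) : linFun f g = (f g : ℂ) := rfl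

theorem linFun_injective : Function.Injective (linFun (G := G)) :=
  fun _ _ h => MonoidHom.ext fun g => Units.ext (congrFun h g)

theorem orderOf_linFun (f : G →* ℂˣ) : orderOf (linFun f) = orderOf f :=
  orderOf_injective linFun linFun_injective f

theorem isCharacter_linFun (f : G →* ℂˣ) : Cfsg.IsCharacter G (linFun f) ∧ linFun f 1 = 1 :=
  ⟨isCharacter_of_isIrr (isIrrCharacter_units_hom f), by simp [linFun_apply]⟩

/-- Twist a representation by a linear character. -/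
noncomputable def twist {n : ℕ} (σ : Representation ℂ G (Fin n → ℂ)) (f : G →* ℂˣ) :
    Representation ℂ G (Fin n → ℂ) where
  toFun g := (f g : ℂ) • σ g
  map_one' := by simp
  map_mul' a b := by rw [map_mul, map_mul, Units.val_mul, smul_mul_smul_comm]

theorem twist_character {n : ℕ} (σ : Representation ℂ G (Fin n → ℂ)) (f : G →* ℂˣ) :
    (twist σ f).character = σ.character * linFun f := funext fun g => by
  simp [Representation.character, twist, linFun_apply, mul_comm]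

theorem detHom_twist {n : ℕ} (σ : Representation ℂ G (Fin n → ℂ)) (f : G →* ℂˣ) :
    detHom (twist σ f) = f ^ n * detHom σ := MonoidHom.ext fun g => Units.ext (by
  simp [detHom_apply, twist, LinearMap.det_smul])

theorem exists_linHom {μ : G → ℂ} (hμ : Cfsg.IsCharacter G μ) (h1 : μ 1 = 1) :
    ∃ f : G →* ℂˣ, linFun f = μ := ⟨linearHom hμ h1, rfl⟩

section Normal

variable (N : Subgroup G) [hN : N.Normal]

theorem exists_rep_of_invariant {ϑ : N → ℂ} (hϑ : Cfsg.IsIrrCharacter N ϑ)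
    (hinv : ∀ (g : G) (n : N), ϑ ⟨g * n * g⁻¹, hN.conj_mem (n : G) n.2 g⟩ = ϑ n) :
    ∃ (d : ℕ) (ρ : Representation ℂ N (Fin d → ℂ)), ρ.IsIrreducible ∧ ρ.character = ϑ ∧
      (∀ (g : G) (n : N), ρ.character (MulAut.conjNormal g n) = ρ.character n) ∧ ϑ 1 = (d : ℂ) := by
  obtain ⟨d, ρ, hirr, rfl⟩ := hϑ
  refine ⟨d, ρ, hirr, rfl, fun g n => ?_, by simp⟩
  rw [← hinv g n]
  congr 1

variable [Finite G]

/-- An extension of the character to an intermediate group gives an extension of the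
representation. -/
theorem exists_rep_extends {d : ℕ} (ρ : Representation ℂ N (Fin d → ℂ)) (P : Subgroup G)
    (hNP : N ≤ P) {η : P → ℂ} (hη : Cfsg.IsCharacter P η)
    (hext : ∀ n : N, η ⟨n, hNP n.2⟩ = ρ.character n) :
    ∃ σ : Representation ℂ P (Fin d → ℂ), ∀ n : N, σ ⟨n, hNP n.2⟩ = ρ n := by
  obtain ⟨d', σ, rfl⟩ := hη
  let σN : Representation ℂ N (Fin d' → ℂ) := σ.comp (Subgroup.inclusion hNP)
  obtain ⟨e⟩ := nonempty_equiv_of_character_eq σN ρ (funext fun n => hext n)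
  exact ⟨transport σ e.toLinearEquiv, fun n => e.conj_apply_self n⟩

omit [Finite G] in
/-- Weight from a power of the determinant that is trivial on `N`. -/
theorem hasWeight_of_det_pow {d k : ℕ} (ρ : Representation ℂ N (Fin d → ℂ))
    (h : ∀ n : N, LinearMap.det (ρ n) ^ k = 1) : HasWeight N ρ (d * k : ℕ) := by
  let D : projExt N ρ →* ℂˣ :=
    (Units.map (LinearMap.det : Module.End ℂ (Fin d → ℂ) →* ℂ)).comp
      ((MonoidHom.snd _ _).comp (projExt N ρ).subtype)
  refine ⟨D ^ k, fun n => Units.ext ?_, fun z => Units.ext ?_⟩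
  · show LinearMap.det (ρ n) ^ k = 1
    exact h n
  · show LinearMap.det (algebraMap ℂ (Module.End ℂ (Fin d → ℂ)) (z : ℂ)) ^ k = _
    simp [Algebra.algebraMap_eq_smul_one, LinearMap.det_smul, ← pow_mul]
    norm_cast

theorem exists_char_extension {d : ℕ} (ρ : Representation ℂ N (Fin d → ℂ)) [ρ.IsIrreducible]
    (hinv : ∀ (g : G) (n : N), ρ.character (MulAut.conjNormal g n) = ρ.character n)
    (h : HasWeight N ρ 1) :
    ∃ χ : G → ℂ, Cfsg.IsIrrCharacter G χ ∧ ∀ n : N, χ n = ρ.character n := by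
  obtain ⟨σ, hσ⟩ := exists_extension hinv h
  exact ⟨_, isIrr_of_extends σ hσ⟩

/-- Invariant characters extend across cyclic quotients. -/
theorem extend_of_cyclic (hcyc : IsCyclic (G ⧸ N)) {ϑ : N → ℂ} (hϑ : Cfsg.IsIrrCharacter N ϑ)
    (hinv : ∀ (g : G) (n : N), ϑ ⟨g * n * g⁻¹, hN.conj_mem (n : G) n.2 g⟩ = ϑ n) :
    ∃ χ : G → ℂ, Cfsg.IsIrrCharacter G χ ∧ ∀ n : N, χ n = ϑ n := by
  obtain ⟨d, ρ, hirr, rfl, hinv', -⟩ := exists_rep_of_invariant N hϑ hinv
  obtain ⟨σ, hσ⟩ := hasWeight_one_of_cyclic hcyc hinv'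
  exact ⟨_, isIrr_of_extends σ hσ⟩

/-- Extension from local extensions. -/
theorem extend_of_local {ϑ : N → ℂ} (hϑ : Cfsg.IsIrrCharacter N ϑ)
    (hinv : ∀ (g : G) (n : N), ϑ ⟨g * n * g⁻¹, hN.conj_mem (n : G) n.2 g⟩ = ϑ n)
    (hloc : ∀ p : ℕ, p.Prime → p ∣ N.index → ∃ (P : Subgroup G) (hNP : N ≤ P) (η : P → ℂ),
      ¬ p ∣ P.index ∧ Cfsg.IsCharacter P η ∧ ∀ n : N, η ⟨(n : G), hNP n.2⟩ = ϑ n) :
    ∃ χ : G → ℂ, Cfsg.IsIrrCharacter G χ ∧ ∀ n : N, χ n = ϑ n := by
  obtain ⟨d, ρ, hirr, rfl, hinv', -⟩ := exists_rep_of_invariant N hϑ hinv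
  refine exists_char_extension N ρ hinv' (hasWeight_one_of_primes Subgroup.index_ne_zero_of_finite
    (hasWeight_index_self hinv') fun p hp hpm => ?_)
  obtain ⟨P, hNP, η, hP, hη, hext⟩ := hloc p hp hpm
  obtain ⟨σ, hσ⟩ := exists_rep_extends N ρ P hNP hη hext
  exact ⟨P.index, hP, hasWeight_index hinv' P hNP σ hσ⟩

/-- Gallagher: coprime degree and extendible determinant imply extendibility. -/
theorem extend_iff_det {ϑ : N → ℂ} (hϑ : Cfsg.IsIrrCharacter N ϑ)
    (hinv : ∀ (g : G) (n : N), ϑ ⟨g * n * g⁻¹, hN.conj_mem (n : G) n.2 g⟩ = ϑ n)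
    {d : ℕ} (hd : ϑ 1 = d) (hcop : Nat.Coprime N.index d) :
    (∃ χ : G → ℂ, Cfsg.IsIrrCharacter G χ ∧ (∀ n : N, χ n = ϑ n)) ↔
      ∃ μ : G → ℂ, Cfsg.IsCharacter G μ ∧ μ 1 = 1 ∧ ∀ n : N, μ n = Cfsg.detChar ϑ n := by
  constructor
  · rintro ⟨χ, ⟨k, σ, -, rfl⟩, hext⟩
    refine ⟨linFun (detHom σ), (isCharacter_linFun _).1, (isCharacter_linFun _).2, fun n => ?_⟩
    let σN : Representation ℂ N (Fin k → ℂ) := σ.comp N.subtype
    have : σN.character = ϑ := funext hext
    rw [← this, detChar_eq]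
    rfl
  · rintro ⟨μ, hμ, hμ1, hμN⟩
    obtain ⟨d', ρ, hirr, rfl, hinv', hd'⟩ := exists_rep_of_invariant N hϑ hinv
    obtain rfl : d' = d := by exact_mod_cast hd'.symm.trans hd
    obtain ⟨f, rfl⟩ := exists_linHom hμ hμ1
    refine exists_char_extension N ρ hinv' ?_
    have h1 := hasWeight_degree (ρ := ρ) f fun n => by
      rw [← detChar_eq, ← hμN n]; rfl
    have h2 := (hasWeight_index_self hinv').gcd h1
    rw [hcop.gcd_eq_one] at h2
    exact_mod_cast h2

theorem pow_index_eq_one_of_trivial {f : G →* ℂˣ} (hf : ∀ n : N, f n = 1) : f ^ N.index = 1 :=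
  MonoidHom.ext fun g => by
    rw [MonoidHom.pow_apply, ← map_pow, MonoidHom.one_apply]
    exact hf ⟨_, N.pow_index_mem g⟩

theorem orderOf_dvd_of_restrict {f : G →* ℂˣ} {l : N → ℂ} (h : ∀ n : N, linFun f n = l n) :
    orderOf l ∣ orderOf f := by
  have : l = linFun (f.comp N.subtype) := funext fun n => (h n).symm
  rw [this, orderOf_linFun]
  exact orderOf_map_dvd (MonoidHom.compHom' N.subtype) f

/-- A linear character extends if it does so locally at the primes dividing its order. -/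
theorem extend_linear_of_local {lam : N → ℂ} (hlam : Cfsg.IsCharacter N lam ∧ lam 1 = 1)
    (hinv : ∀ (g : G) (n : N), lam ⟨g * n * g⁻¹, hN.conj_mem (n : G) n.2 g⟩ = lam n)
    (hloc : ∀ p : ℕ, p.Prime → p ∣ orderOf lam → p ∣ N.index →
      ∃ (H : Subgroup G) (hNH : N ≤ H) (ν : H → ℂ),
      ¬ p ∣ H.index ∧ Cfsg.IsCharacter H ν ∧ ∀ n : N, ν ⟨(n : G), hNH n.2⟩ = lam n) :
    ∃ f : G →* ℂˣ, ∀ n : N, linFun f n = lam n := by
  obtain ⟨d, ρ, hirr, hρ, hinv', hd⟩ :=
    exists_rep_of_invariant N (isIrr_of_linear hlam.1 hlam.2) hinv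
  obtain rfl : d = 1 := by rw [hlam.2] at hd; exact_mod_cast hd.symm
  have hdet : ∀ n : N, LinearMap.det (ρ n) = lam n := fun n => by
    rw [← congrFun hρ n, ← LinearMap.det_toMatrix (Pi.basisFun ℂ (Fin 1)),
      Matrix.det_fin_one, Representation.character,
      LinearMap.trace_eq_matrix_trace ℂ (Pi.basisFun ℂ (Fin 1))]
    simp [Matrix.trace]
  have hw : HasWeight N ρ (orderOf lam : ℕ) := by
    have := hasWeight_of_det_pow N ρ (k := orderOf lam) fun n => by
      rw [hdet]; exact congrFun (pow_orderOf_eq_one lam) n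
    rwa [one_mul] at this
  have ho : 0 < orderOf lam := by
    obtain ⟨l, rfl⟩ := exists_linHom hlam.1 hlam.2
    rw [orderOf_linFun]
    exact IsOfFinOrder.orderOf_pos (isOfFinOrder_iff_pow_eq_one.mpr
      ⟨Nat.card N, Nat.card_pos, MonoidHom.ext fun n => by
        rw [MonoidHom.pow_apply, ← map_pow, pow_card_eq_one', map_one]; rfl⟩)
  obtain ⟨σ, hσ⟩ := exists_extension hinv' (hasWeight_one_of_primes ho.ne' hw fun p hp hpo => by
    by_cases hpi : p ∣ N.index
    · obtain ⟨H, hNH, ν, hH, hν, hext⟩ := hloc p hp hpo hpi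
      obtain ⟨σ, hσ⟩ := exists_rep_extends N ρ H hNH hν fun n => by rw [hext n, hρ]
      exact ⟨H.index, hH, hasWeight_index hinv' H hNH σ hσ⟩
    · exact ⟨N.index, hpi, hasWeight_index_self hinv'⟩)
  exact ⟨detHom σ, fun n => by rw [linFun_apply, detHom_apply, hσ n, hdet]⟩

/-- The canonical extension of a linear character of coprime order. -/
theorem canonical_linear_extension {lam : N → ℂ} (hlam : Cfsg.IsCharacter N lam ∧ lam 1 = 1)
    (hinv : ∀ (g : G) (n : N), lam ⟨g * n * g⁻¹, hN.conj_mem (n : G) n.2 g⟩ = lam n)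
    (hcop : Nat.Coprime N.index (orderOf lam)) :
    ∃ f : G →* ℂˣ, ((∀ n : N, linFun f n = lam n) ∧ orderOf f = orderOf lam) ∧
      ∀ f' : G →* ℂˣ, (∀ n : N, linFun f' n = lam n) → Nat.Coprime N.index (orderOf f') → f' = f := by
  obtain ⟨f₁, hf₁⟩ := extend_linear_of_local N hlam hinv fun p hp h1 h2 =>
    (Nat.Prime.not_coprime_iff_dvd.mpr ⟨p, hp, h2, h1⟩ hcop).elim
  obtain ⟨v, hv⟩ : ∃ v : ℕ, lam ^ (N.index * v) = lam := by
    obtain ⟨v, -, hv⟩ := Nat.exists_mul_mod_eq_of_coprime 1 hcop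
      (orderOf_pos_iff.mpr (by
        obtain ⟨l, rfl⟩ := exists_linHom hlam.1 hlam.2
        exact linFun.isOfFinOrder (isOfFinOrder_iff_pow_eq_one.mpr
          ⟨Nat.card N, Nat.card_pos, MonoidHom.ext fun n => by
            rw [MonoidHom.pow_apply, ← map_pow, pow_card_eq_one', map_one]; rfl⟩))).ne'
    exact ⟨v, by rw [← pow_mod_orderOf, hv, pow_mod_orderOf, pow_one]⟩
  have hf : ∀ n : N, linFun (f₁ ^ (N.index * v)) n = lam n := fun n => by
    rw [linFun_apply, MonoidHom.pow_apply, Units.val_pow_eq_pow_val, ← linFun_apply, hf₁ n]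
    exact congrFun hv n
  have hord : orderOf (f₁ ^ (N.index * v)) = orderOf lam := by
    refine Nat.dvd_antisymm (orderOf_dvd_of_pow_eq_one ?_) (orderOf_dvd_of_restrict N hf)
    refine MonoidHom.ext fun g => ?_
    have h1 : ((f₁ ^ orderOf lam) ^ N.index) g = 1 := by
      refine DFunLike.congr_fun (pow_index_eq_one_of_trivial N fun n => Units.ext ?_) g
      rw [MonoidHom.pow_apply, Units.val_pow_eq_pow_val, ← linFun_apply, hf₁ n]
      exact congrFun (pow_orderOf_eq_one lam) n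
    simp only [MonoidHom.pow_apply, MonoidHom.one_apply, ← pow_mul] at h1 ⊢
    rw [show N.index * v * orderOf lam = orderOf lam * N.index * v by ring, pow_mul, h1, one_pow]
  refine ⟨_, ⟨hf, hord⟩, fun f' hf' hcop' => ?_⟩
  set f := f₁ ^ (N.index * v)
  have h1 : (f' * f⁻¹) ^ N.index = 1 := pow_index_eq_one_of_trivial N fun n => by
    rw [MonoidHom.mul_apply, MonoidHom.inv_apply, mul_inv_eq_one]
    exact Units.ext ((hf' n).trans (hf n).symm)
  have h2 : (f' * f⁻¹) ^ (orderOf f' * orderOf f) = 1 := by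
    refine MonoidHom.ext fun g => ?_
    have a1 : f' g ^ orderOf f' = 1 := by
      rw [← MonoidHom.pow_apply, pow_orderOf_eq_one f']; rfl
    have a2 : f g ^ orderOf f = 1 := by
      rw [← MonoidHom.pow_apply, pow_orderOf_eq_one f]; rfl
    simp only [MonoidHom.pow_apply, MonoidHom.mul_apply, MonoidHom.inv_apply, MonoidHom.one_apply]
    rw [mul_pow, inv_pow, pow_mul, a1, one_pow, mul_comm (orderOf f'), pow_mul, a2, one_pow,
      inv_one, mul_one]
  have h3 : Nat.Coprime N.index (orderOf f' * orderOf f) := hcop'.mul_right (hord ▸ hcop)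
  exact mul_inv_eq_one.mp (orderOf_eq_one_iff.mp (Nat.eq_one_of_dvd_coprimes h3
    (orderOf_dvd_of_pow_eq_one h1) (orderOf_dvd_of_pow_eq_one h2)))

omit [Finite G] in
theorem det_invariant [Finite N] {ϑ : N → ℂ} (hϑ : Cfsg.IsCharacter N ϑ)
    (hinv : ∀ (g : G) (n : N), ϑ ⟨g * n * g⁻¹, hN.conj_mem (n : G) n.2 g⟩ = ϑ n)
    (g : G) (n : N) :
    Cfsg.detChar ϑ ⟨g * n * g⁻¹, hN.conj_mem (n : G) n.2 g⟩ = Cfsg.detChar ϑ n := by
  obtain ⟨d, ρ, rfl⟩ := hϑ
  let ρ' : Representation ℂ N (Fin d → ℂ) := ρ.comp (MulAut.conjNormal (H := N) g).toMonoidHom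
  have h : ρ'.character = ρ.character := funext fun m => hinv g m
  conv_rhs => rw [← h, detChar_eq]
  rw [detChar_eq]
  rfl

/-- Extensions with prescribed determinant. -/
theorem existsUnique_ext_det [Fintype G] {ϑ : N → ℂ} (hϑ : Cfsg.IsIrrCharacter N ϑ) {d : ℕ}
    (hd : ϑ 1 = d) (hcop : Nat.Coprime N.index d)
    (hext : ∃ η : G → ℂ, Cfsg.IsIrrCharacter G η ∧ (∀ n : N, η n = ϑ n))
    {μ : G → ℂ} (hμ : Cfsg.IsCharacter G μ ∧ μ 1 = 1) (hμN : ∀ n : N, μ n = Cfsg.detChar ϑ n) :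
    ∃! χ : G → ℂ, Cfsg.IsIrrCharacter G χ ∧ (∀ n : N, χ n = ϑ n) ∧ Cfsg.detChar χ = μ := by
  have := Fintype.ofFinite N
  obtain ⟨η, ⟨k, σ, hσirr, rfl⟩, hη⟩ := hext
  obtain rfl : k = d := by
    have h := hη 1
    rw [OneMemClass.coe_one, Representation.char_one, hd] at h
    simpa using h
  obtain ⟨f, rfl⟩ := exists_linHom hμ.1 hμ.2
  set e := f * (detHom σ)⁻¹ with he
  have hfe : f = e * detHom σ := (inv_mul_cancel_right f (detHom σ)).symm
  have heN : ∀ n : N, e n = 1 := fun n => by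
    rw [he, MonoidHom.mul_apply, MonoidHom.inv_apply, mul_inv_eq_one]
    refine Units.ext ?_
    let σN : Representation ℂ N (Fin k → ℂ) := σ.comp N.subtype
    have : σN.character = ϑ := funext hη
    rw [← linFun_apply, hμN n, ← this, detChar_eq]
    rfl
  have hem := pow_index_eq_one_of_trivial N heN
  obtain ⟨v, -, hv⟩ := Nat.exists_mul_mod_eq_of_coprime 1 hcop.symm Subgroup.index_ne_zero_of_finite
  have hroot : ∀ x : G →* ℂˣ, x ^ N.index = 1 → x ^ (k * v) = x := fun x hx =>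
    ((pow_eq_pow_mod (k * v) hx).trans (congrArg (x ^ ·) hv)).trans
      ((pow_eq_pow_mod 1 hx).symm.trans (pow_one x))
  have hchar : ∀ l : G →* ℂˣ, (∀ n : N, l n = 1) →
      Cfsg.IsIrrCharacter G (twist σ l).character ∧ (∀ n : N, (twist σ l).character n = ϑ n) := by
    intro l hl
    refine ⟨?_, fun n => by rw [twist_character, Pi.mul_apply, hη n, linFun_apply, hl n]; simp⟩
    rw [twist_character]
    exact CfsgLib.CharNormal.isIrr_mul_linear ⟨k, σ, hσirr, rfl⟩ (isCharacter_linFun l).1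
      (isCharacter_linFun l).2
  refine ⟨(twist σ (e ^ v)).character,
    ⟨(hchar _ fun n => by simp [heN n]).1, (hchar _ fun n => by simp [heN n]).2, ?_⟩, ?_⟩
  · rw [detChar_eq_detHom, detHom_twist]
    have h1 : (e ^ v) ^ k = e :=
      ((pow_mul e v k).symm.trans (congrArg (e ^ ·) (mul_comm v k))).trans (hroot e hem)
    rw [h1, ← hfe]
    rfl
  · rintro χ ⟨hχ, hχN, hχdet⟩
    obtain ⟨lam, hl, hl1, hlN, rfl⟩ := CfsgLib.CharNormal.exists_linear_eq_mul_of_extensions N
      (isCharacter_char σ) (isCharacter_of_isIrr hχ) (by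
        rw [show (fun n : N => σ.character n) = ϑ from funext hη]; exact hϑ)
      fun n => (hχN n).trans (hη n).symm
    obtain ⟨l, rfl⟩ := exists_linHom hl hl1
    rw [← twist_character] at hχdet ⊢
    rw [detChar_eq_detHom, detHom_twist, hfe] at hχdet
    have h1 : l ^ k * detHom σ = e * detHom σ := linFun_injective hχdet
    have h2 : l ^ k = e := mul_right_cancel h1
    have h3 : e ^ v = l := ((congrArg (· ^ v) h2).symm.trans (pow_mul l k v).symm).trans
      (hroot l (pow_index_eq_one_of_trivial N fun n => Units.ext (hlN n n.2)))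
    rw [h3]

end Normal

end CfsgLib.Char
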