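import Cfsg.Agent.Lib.Char.Induced
import Mathlib.GroupTheory.Abelianization.Finite
import Mathlib.GroupTheory.FiniteAbelian.Duality
import Mathlib.Analysis.Complex.Polynomial.Basic
import Mathlib.RingTheory.RootsOfUnity.AlgebraicallyClosed

/-!
# Linear characters, abelian groups, constituents
-/

namespace CfsgLib.Char

open scoped ComplexConjugate

variable {G : Type*} [Group G] [Fintype G]

/-- In an abelian group all irreducible characters are linear. -/
theorem irr_one_eq_one_of_comm (hcomm : ∀ a b : G, a * b = b * a) {χ : G → ℂ}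
    (hχ : Cfsg.IsIrrCharacter G χ) : χ 1 = 1 := by
  obtain ⟨n, ρ, hirr, rfl⟩ := hχ
  have : IsMulCommutative G := ⟨⟨hcomm⟩⟩
  rw [Representation.char_one, Representation.IsIrreducible.finrank_eq_one_of_isMulCommutative ρ,
    Nat.cast_one]

/-- All irreducible characters linear iff abelian. -/
theorem comm_iff_forall_linear :
    (∀ a b : G, a * b = b * a) ↔ ∀ χ : Cfsg.IrrCharacter G, (χ : G → ℂ) 1 = 1 := by
  classical
  refine ⟨fun h χ => irr_one_eq_one_of_comm h χ.2, fun h a b => ?_⟩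
  have hval : ∀ χ : Cfsg.IrrCharacter G, (χ : G → ℂ) (a * b * a⁻¹ * b⁻¹) = 1 := fun χ => by
    have hu := linearHom (isCharacter_of_isIrr χ.2) (h χ)
    have hm := linear_map_mul (isCharacter_of_isIrr χ.2) (h χ)
    have h1 : ∀ x, (χ : G → ℂ) x * (χ : G → ℂ) x⁻¹ = 1 := fun x => by
      rw [← hm, mul_inv_cancel, h χ]
    rw [hm, hm, hm]
    linear_combination (χ : G → ℂ) b * (χ : G → ℂ) b⁻¹ * h1 a + h1 b
  have hs := sum_degree_mul_apply (a * b * a⁻¹ * b⁻¹)
  simp only [h, hval, mul_one, Finset.sum_const, Finset.card_univ, nsmul_eq_mul] at hs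
  have : Nonempty (Cfsg.IrrCharacter G) := ⟨irrOne⟩
  have hk : Fintype.card (Cfsg.IrrCharacter G) ≠ 0 := Fintype.card_ne_zero
  by_contra hne
  rw [if_neg] at hs
  · exact hk (by exact_mod_cast hs)
  · intro h1
    refine hne ?_
    calc a * b = (a * b * a⁻¹ * b⁻¹) * (b * a) := by group
      _ = b * a := by rw [h1, one_mul]

/-- The number of linear characters. -/
theorem card_linear :
    Nat.card {χ : Cfsg.IrrCharacter G // (χ : G → ℂ) 1 = 1} = (commutator G).index := by
  have : HasEnoughRootsOfUnity ℂ (Monoid.exponent (Abelianization G)) := by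
    have : NeZero (Monoid.exponent (Abelianization G) : ℂ) :=
      ⟨by exact_mod_cast Monoid.exponent_ne_zero_of_finite⟩
    infer_instance
  let e : {χ : Cfsg.IrrCharacter G // (χ : G → ℂ) 1 = 1} ≃ (G →* ℂˣ) :=
    { toFun := fun χ => linearHom (isCharacter_of_isIrr χ.1.2) χ.2
      invFun := fun f => ⟨⟨fun g => (f g : ℂ), isIrrCharacter_units_hom f⟩, by simp⟩
      left_inv := fun χ => rfl
      right_inv := fun f => MonoidHom.ext fun g => Units.ext rfl }
  rw [Nat.card_congr e, Nat.card_congr Abelianization.lift]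
  obtain ⟨φ⟩ := CommGroup.monoidHom_mulEquiv_of_hasEnoughRootsOfUnity (Abelianization G) ℂ
  rw [Nat.card_congr φ.toEquiv, Subgroup.index]
  rfl

/-- A constituent has degree at most that of the character. -/
theorem constituent_degree_le {φ χ : G → ℂ} (hφ : Cfsg.IsCharacter G φ)
    (hχ : Cfsg.IsIrrCharacter G χ) (h : Cfsg.classInner φ χ ≠ 0) : (χ 1).re ≤ (φ 1).re := by
  classical
  obtain ⟨m, hm, hmi⟩ := char_decomp hφ
  have hm0 : m ⟨χ, hχ⟩ ≠ 0 := fun h0 => h (by rw [hmi ⟨χ, hχ⟩, h0, Nat.cast_zero])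
  rw [hm]
  simp only [Finset.sum_apply, Pi.smul_apply, smul_eq_mul, Complex.re_sum, Complex.mul_re,
    Complex.natCast_im, zero_mul, sub_zero, Complex.natCast_re]
  have hnn : ∀ ψ : Cfsg.IrrCharacter G, 0 ≤ ((ψ : G → ℂ) 1).re := fun ψ => by
    obtain ⟨n, hn⟩ := exists_degree (isCharacter_of_isIrr ψ.2)
    simp [hn]
  refine le_trans ?_ (Finset.single_le_sum (fun ψ _ => mul_nonneg (Nat.cast_nonneg _) (hnn ψ))
    (Finset.mem_univ (⟨χ, hχ⟩ : Cfsg.IrrCharacter G)))
  exact le_mul_of_one_le_left (hnn ⟨χ, hχ⟩) (by exact_mod_cast Nat.pos_of_ne_zero hm0)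

/-- The degree is at most the index of any abelian subgroup. -/
theorem degree_le_index_of_comm {χ : G → ℂ} (hχ : Cfsg.IsIrrCharacter G χ) (A : Subgroup G)
    (hA : ∀ a ∈ A, ∀ b ∈ A, a * b = b * a) : (χ 1).re ≤ (A.index : ℝ) := by
  have := Fintype.ofFinite A
  have hA' : ∀ a b : A, a * b = b * a := fun a b => Subtype.ext (hA a a.2 b b.2)
  have hres := isCharacter_res A (isCharacter_of_isIrr hχ)
  obtain ⟨lam, hlam, hne⟩ := exists_constituent hres fun h =>
    irr_one_ne_zero hχ (by simpa using congrFun h 1)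
  have hne' : Cfsg.classInner (Cfsg.indFun A lam) χ ≠ 0 := by
    rw [frobenius_reciprocity A lam (isClassFunction_of_isIrr hχ), ← classInner_conj_symm]
    exact (map_ne_zero _).mpr hne
  refine (constituent_degree_le (isCharacter_indFun A (isCharacter_of_isIrr hlam)) hχ hne').trans_eq ?_
  rw [indFun_one, irr_one_eq_one_of_comm hA' hlam]
  simp

end CfsgLib.Char
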