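import Cfsg.Agent.Lib.Char.Integral
import Mathlib.GroupTheory.Transfer
import Mathlib.LinearAlgebra.GeneralLinearGroup.Basic

/-!
# Extending invariant irreducible representations from normal subgroups

For an irreducible representation `ρ` of a normal subgroup `N` whose character is invariant we
build the central extension `projExt N ρ` of `G` by `ℂˣ` (pairs `(g, A)` with `A` realising the
conjugation by `g`).  `ρ` extends to `G` iff this extension has a retraction to the scalars trivial
on `N`; `HasWeight N ρ k` says that there is such a homomorphism acting on scalars as `z ↦ z ^ k`.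
The weights form a subgroup of `ℤ`; an extension to `P ≥ N` gives weight `[G : P]` by transfer.
-/

namespace CfsgLib.Char

open scoped ComplexConjugate

variable {G : Type*} [Group G] (N : Subgroup G) [N.Normal] {d : ℕ}
  (ρ : Representation ℂ N (Fin d → ℂ))

/-- The central extension attached to `ρ`. -/
def projExt : Subgroup (G × (Module.End ℂ (Fin d → ℂ))ˣ) where
  carrier := {p | ∀ n : N, p.2 * ρ.toHomUnits n = ρ.toHomUnits (MulAut.conjNormal p.1 n) * p.2}
  one_mem' n := by simp
  mul_mem' {p q} hp hq n := by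
    simp only [Prod.fst_mul, Prod.snd_mul, map_mul, MulAut.mul_apply]
    rw [mul_assoc, hq n, ← mul_assoc, hp _, mul_assoc]
  inv_mem' {p} hp n := by
    simp only [Prod.fst_inv, Prod.snd_inv, map_inv]
    have h := hp ((MulAut.conjNormal p.1)⁻¹ n)
    rw [MulAut.inv_apply, MulEquiv.apply_symm_apply] at h
    rw [MulAut.inv_apply, inv_mul_eq_iff_eq_mul, ← mul_assoc, h, mul_assoc, mul_inv_cancel, mul_one]

/-- Projection of the extension to `G`. -/
def projHom : projExt N ρ →* G := (MonoidHom.fst _ _).comp (projExt N ρ).subtype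

/-- The copy of `N` in the extension. -/
noncomputable def projIncl : N →* projExt N ρ :=
  (N.subtype.prod ρ.toHomUnits).codRestrict _ fun m n => by
    simp only [MonoidHom.prod_apply]
    rw [← map_mul, ← map_mul]
    congr 1
    ext
    simp [mul_assoc]

/-- The scalars in the extension. -/
noncomputable def projScalar : ℂˣ →* projExt N ρ :=
  ((1 : ℂˣ →* G).prod (Units.map (algebraMap ℂ (Module.End ℂ (Fin d → ℂ))).toMonoidHom)).codRestrict _
    fun z n => by
      simp only [MonoidHom.prod_apply, MonoidHom.one_apply, map_one, MulAut.one_apply]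
      exact Units.ext (Algebra.commutes (z : ℂ) _)

variable {N ρ}

theorem projHom_incl (n : N) : projHom N ρ (projIncl N ρ n) = n := rfl

theorem projHom_scalar (z : ℂˣ) : projHom N ρ (projScalar N ρ z) = 1 := rfl

theorem projScalar_comm (z : ℂˣ) (e : projExt N ρ) :
    projScalar N ρ z * e = e * projScalar N ρ z :=
  Subtype.ext (Prod.ext (by simp [projScalar]) (Units.ext (Algebra.commutes (z : ℂ) _)))

theorem conj_projIncl (e : projExt N ρ) (n : N) :
    e * projIncl N ρ n * e⁻¹ = projIncl N ρ (MulAut.conjNormal (projHom N ρ e) n) := by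
  refine Subtype.ext (Prod.ext (MulAut.conjNormal_apply _ _).symm ?_)
  show (e : G × _).2 * ρ.toHomUnits n * (e : G × _).2⁻¹ = ρ.toHomUnits _
  rw [e.2 n, mul_inv_cancel_right]
  rfl

section Irr

variable [ρ.IsIrreducible]

theorem exists_unit_scalar (A : (Module.End ℂ (Fin d → ℂ))ˣ)
    (h : ∀ n, A * ρ.toHomUnits n = ρ.toHomUnits n * A) :
    ∃ z : ℂˣ, A = Units.map (algebraMap ℂ (Module.End ℂ (Fin d → ℂ))).toMonoidHom z := by
  obtain ⟨c, hc⟩ := exists_eq_smul_id ρ (A : Module.End ℂ (Fin d → ℂ))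
    fun n => congrArg Units.val (h n)
  have hd : 0 < d := by simpa using finrank_pos_of_irreducible ρ
  have : Nonempty (Fin d) := ⟨⟨0, hd⟩⟩
  have hc0 : c ≠ 0 := by
    rintro rfl
    rw [zero_smul] at hc
    exact A.ne_zero hc
  exact ⟨Units.mk0 c hc0, Units.ext (hc.trans (by
    simp [Algebra.algebraMap_eq_smul_one, Module.End.one_eq_id]))⟩

theorem projScalar_injective : Function.Injective (projScalar N ρ) := by
  intro a b h
  have hd : 0 < d := by simpa using finrank_pos_of_irreducible ρ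
  have : Nonempty (Fin d) := ⟨⟨0, hd⟩⟩
  have h1 : algebraMap ℂ (Module.End ℂ (Fin d → ℂ)) a = algebraMap ℂ _ b :=
    congrArg (fun e : projExt N ρ => (((e : G × _).2 : (Module.End ℂ (Fin d → ℂ))ˣ) :
      Module.End ℂ (Fin d → ℂ))) h
  exact Units.ext (FaithfulSMul.algebraMap_injective ℂ _ h1)

theorem projHom_eq_one {e : projExt N ρ} (h : projHom N ρ e = 1) :
    ∃ z : ℂˣ, e = projScalar N ρ z := by
  have h1 : e.1.1 = 1 := h
  obtain ⟨z, hz⟩ := exists_unit_scalar e.1.2 fun n => by
    have := e.2 n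
    rwa [h1, map_one] at this
  exact ⟨z, Subtype.ext (Prod.ext h1 hz)⟩

/-- Every element of the preimage of `N` is a scalar times an element of `N`. -/
theorem projHom_mem {e : projExt N ρ} (h : projHom N ρ e ∈ N) :
    ∃ (n : N) (z : ℂˣ), e = projIncl N ρ n * projScalar N ρ z := by
  obtain ⟨z, hz⟩ := projHom_eq_one (e := (projIncl N ρ ⟨_, h⟩)⁻¹ * e)
    (by rw [map_mul, map_inv, projHom_incl]; simp)
  exact ⟨⟨_, h⟩, z, by rw [← hz, mul_inv_cancel_left]⟩

theorem projHom_surjective [Finite G]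
    (hinv : ∀ (g : G) (n : N), ρ.character (MulAut.conjNormal g n) = ρ.character n) :
    Function.Surjective (projHom N ρ) := by
  classical
  intro x
  have := Fintype.ofFinite N
  let ρ' : Representation ℂ N (Fin d → ℂ) := ρ.comp (MulAut.conjNormal (H := N) x).toMonoidHom
  have hχ : ρ'.character = ρ.character := funext fun n => hinv x n
  have : ρ'.IsIrreducible := isIrreducible_of_isIrrCharacter ρ' (hχ ▸ isIrrCharacter_char ρ)
  have h1 : Cfsg.classInner ρ'.character ρ.character = 1 := by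
    rw [hχ]; exact classInner_irr_self (isIrrCharacter_char ρ)
  rw [classInner_character_irr] at h1
  obtain ⟨φ⟩ : Nonempty (ρ.Equiv ρ') := by
    by_contra hn
    rw [if_neg hn] at h1
    exact zero_ne_one h1
  exact ⟨⟨(x, LinearMap.GeneralLinearGroup.ofLinearEquiv φ.toLinearEquiv), fun n =>
    Units.ext (φ.toIntertwiningMap.isIntertwining' n)⟩, rfl⟩

end Irr

variable (N ρ)

/-- There is a homomorphism on the extension, trivial on `N`, which is `z ↦ z ^ k` on scalars. -/
def HasWeight (k : ℤ) : Prop :=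
  ∃ r : projExt N ρ →* ℂˣ, (∀ n, r (projIncl N ρ n) = 1) ∧ ∀ z, r (projScalar N ρ z) = z ^ k

variable {N ρ}

theorem HasWeight.add {a b : ℤ} (ha : HasWeight N ρ a) (hb : HasWeight N ρ b) :
    HasWeight N ρ (a + b) := by
  obtain ⟨r, hr1, hr2⟩ := ha
  obtain ⟨s, hs1, hs2⟩ := hb
  exact ⟨r * s, fun n => by simp [hr1, hs1], fun z => by simp [hr2, hs2, zpow_add]⟩

theorem HasWeight.const_mul {a : ℤ} (ha : HasWeight N ρ a) (m : ℤ) : HasWeight N ρ (m * a) := by
  obtain ⟨r, hr1, hr2⟩ := ha
  exact ⟨(zpowGroupHom m).comp r, fun n => by simp [hr1],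
    fun z => by simp [hr2, ← zpow_mul, mul_comm]⟩

theorem HasWeight.gcd {a b : ℕ} (ha : HasWeight N ρ a) (hb : HasWeight N ρ b) :
    HasWeight N ρ (Nat.gcd a b) := by
  rw [Nat.gcd_eq_gcd_ab, mul_comm (a : ℤ), mul_comm (b : ℤ)]
  exact (ha.const_mul _).add (hb.const_mul _)

/-- If, for each prime, some weight is prime to it, then `1` is a weight. -/
theorem hasWeight_one_of_primes {m : ℕ} (hm : m ≠ 0) (hwm : HasWeight N ρ m)
    (h : ∀ p : ℕ, p.Prime → p ∣ m → ∃ k : ℕ, ¬ p ∣ k ∧ HasWeight N ρ k) :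
    HasWeight N ρ 1 := by
  induction m using Nat.strong_induction_on with
  | _ m ih =>
  by_cases h1 : m = 1
  · subst h1; exact_mod_cast hwm
  obtain ⟨p, hp, hpm⟩ := Nat.exists_prime_and_dvd h1
  obtain ⟨k, hpk, hk⟩ := h p hp hpm
  have hlt : Nat.gcd m k < m := (Nat.le_of_dvd (Nat.pos_of_ne_zero hm) (Nat.gcd_dvd_left m k)).lt_of_ne
    fun e => hpk (hpm.trans (Nat.gcd_eq_left_iff_dvd.mp e))
  exact ih _ hlt (Nat.gcd_ne_zero_left hm) (hwm.gcd hk)
    fun q hq hqd => h q hq (hqd.trans (Nat.gcd_dvd_left m k))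

/-- Weight one gives an extension. -/
theorem exists_extension [ρ.IsIrreducible] [Finite G]
    (hinv : ∀ (g : G) (n : N), ρ.character (MulAut.conjNormal g n) = ρ.character n)
    (h : HasWeight N ρ 1) :
    ∃ σ : Representation ℂ G (Fin d → ℂ), ∀ n : N, σ n = ρ n := by
  obtain ⟨r, hr1, hr2⟩ := h
  let q : r.ker →* G := (projHom N ρ).comp r.ker.subtype
  have hq : Function.Bijective q := by
    refine ⟨(injective_iff_map_eq_one q).mpr fun e he => ?_, fun x => ?_⟩
    · obtain ⟨z, hz⟩ := projHom_eq_one (e := (e : projExt N ρ)) he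
      have hrz : r (e : projExt N ρ) = 1 := MonoidHom.mem_ker.mp e.2
      rw [hz, hr2, zpow_one] at hrz
      exact Subtype.ext (by rw [hz, hrz, map_one]; rfl)
    · obtain ⟨e, rfl⟩ := projHom_surjective hinv x
      exact ⟨⟨e * projScalar N ρ (r e)⁻¹, by simp [MonoidHom.mem_ker, hr2]⟩,
        by simp [q, projHom_scalar]⟩
  let e := MulEquiv.ofBijective q hq
  refine ⟨(Units.coeHom _).comp (((MonoidHom.snd _ _).comp (projExt N ρ).subtype).comp
    (r.ker.subtype.comp e.symm.toMonoidHom)), fun n => ?_⟩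
  have : e.symm n = ⟨projIncl N ρ n, hr1 n⟩ := e.symm_apply_eq.mpr rfl
  show (((e.symm n : projExt N ρ) : G × (Module.End ℂ (Fin d → ℂ))ˣ).2 :
    Module.End ℂ (Fin d → ℂ)) = ρ n
  rw [this]
  rfl

/-- An extension to a subgroup `P ≥ N` gives weight `[G : P]`. -/
theorem hasWeight_index [ρ.IsIrreducible] [Finite G]
    (hinv : ∀ (g : G) (n : N), ρ.character (MulAut.conjNormal g n) = ρ.character n)
    (P : Subgroup G) (hNP : N ≤ P) (σ : Representation ℂ P (Fin d → ℂ))
    (hσ : ∀ n : N, σ ⟨n, hNP n.2⟩ = ρ n) :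
    HasWeight N ρ P.index := by
  classical
  let π := projHom N ρ
  let H := P.comap π
  let f : H →* P := π.subgroupComap P
  let su : P →* (Module.End ℂ (Fin d → ℂ))ˣ := σ.toHomUnits
  have hsu : ∀ n : N, su ⟨n, hNP n.2⟩ = ρ.toHomUnits n := fun n => Units.ext (hσ n)
  have key : ∀ e : H, ∃ z : ℂˣ, ((e : projExt N ρ) : G × _).2 =
      Units.map (algebraMap ℂ (Module.End ℂ (Fin d → ℂ))).toMonoidHom z * su (f e) := by
    intro e
    obtain ⟨z, hz⟩ := exists_unit_scalar (ρ := ρ)
      (((e : projExt N ρ) : G × _).2 * (su (f e))⁻¹) fun n => by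
      obtain ⟨m, rfl⟩ := (MulAut.conjNormal (H := N) (f e : G)).surjective n
      have h1 := (e : projExt N ρ).2 m
      have h2 : su (f e) * ρ.toHomUnits m = ρ.toHomUnits (MulAut.conjNormal (f e : G) m) * su (f e) := by
        rw [← hsu, ← hsu, ← map_mul, ← map_mul]
        congr 1
        ext
        simp [mul_assoc]
      have h1' : ((e : projExt N ρ) : G × _).2 * ρ.toHomUnits m =
          ρ.toHomUnits (MulAut.conjNormal (f e : G) m) * ((e : projExt N ρ) : G × _).2 := h1
      calc ((e : projExt N ρ) : G × _).2 * (su (f e))⁻¹ * ρ.toHomUnits (MulAut.conjNormal (f e : G) m)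
          = ((e : projExt N ρ) : G × _).2 * (su (f e))⁻¹ *
              (ρ.toHomUnits (MulAut.conjNormal (f e : G) m) * su (f e)) * (su (f e))⁻¹ := by group
        _ = ((e : projExt N ρ) : G × _).2 * ρ.toHomUnits m * (su (f e))⁻¹ := by rw [← h2]; group
        _ = ρ.toHomUnits (MulAut.conjNormal (f e : G) m) *
              (((e : projExt N ρ) : G × _).2 * (su (f e))⁻¹) := by rw [h1', mul_assoc]
    exact ⟨z, by rw [← hz, inv_mul_cancel_right]⟩
  choose z hz using key
  have hd : 0 < d := by simpa using finrank_pos_of_irreducible ρ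
  have : Nonempty (Fin d) := ⟨⟨0, hd⟩⟩
  set sc := Units.map (algebraMap ℂ (Module.End ℂ (Fin d → ℂ))).toMonoidHom with hsc
  have hinj : Function.Injective sc :=
    fun a b h => Units.ext (FaithfulSMul.algebraMap_injective ℂ _ (congrArg Units.val h))
  have hcomm : ∀ (a : ℂˣ) (u : (Module.End ℂ (Fin d → ℂ))ˣ), sc a * u = u * sc a :=
    fun a u => Units.ext (Algebra.commutes (a : ℂ) _)
  let φ : H →* ℂˣ := MonoidHom.mk' z fun a b => hinj (mul_right_cancel (b := su (f (a * b))) (by
    have h : sc (z (a * b)) * su (f (a * b)) =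
        ((a : projExt N ρ) : G × _).2 * ((b : projExt N ρ) : G × _).2 := (hz (a * b)).symm
    rw [h, hz a, hz b, map_mul sc, map_mul f, map_mul su]
    calc sc (z a) * su (f a) * (sc (z b) * su (f b))
        = sc (z a) * (su (f a) * sc (z b)) * su (f b) := by group
      _ = sc (z a) * sc (z b) * (su (f a) * su (f b)) := by rw [← hcomm]; group))
  have hφN : ∀ (n : N) (hn : projIncl N ρ n ∈ H), φ ⟨_, hn⟩ = 1 := fun n hn => hinj (by
    have h := hz ⟨_, hn⟩
    have hf : f ⟨_, hn⟩ = ⟨n, hNP n.2⟩ := rfl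
    rw [hf, hsu] at h
    rw [map_one]
    exact mul_eq_right.mp h.symm)
  have hφs : ∀ (a : ℂˣ) (ha : projScalar N ρ a ∈ H), φ ⟨_, ha⟩ = a := fun a ha => hinj (by
    have h := hz ⟨_, ha⟩
    have hf : f ⟨_, ha⟩ = 1 := rfl
    rw [hf, map_one, mul_one] at h
    exact h.symm)
  have hidx : H.index = P.index := Subgroup.index_comap_of_surjective P (projHom_surjective hinv)
  have : H.FiniteIndex := ⟨by rw [hidx]; exact Subgroup.index_ne_zero_of_finite⟩
  have : Fintype (projExt N ρ ⧸ H) := Subgroup.fintypeQuotientOfFiniteIndex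
  refine ⟨φ.transfer, fun n => ?_, fun a => ?_⟩
  · have := Fintype.ofFinite (Quotient (MulAction.orbitRel
      (Subgroup.zpowers (projIncl N ρ n)) (projExt N ρ ⧸ H)))
    rw [MonoidHom.transfer_eq_prod_quotient_orbitRel_zpowers_quot]
    refine Finset.prod_eq_one fun q _ => ?_
    set k := Function.minimalPeriod (projIncl N ρ n • ·) q.out
    set g₀ := q.out.out
    have hconj : g₀⁻¹ * projIncl N ρ n ^ k * g₀ =
        projIncl N ρ (MulAut.conjNormal (projHom N ρ g₀⁻¹) (n ^ k)) := by
      rw [← conj_projIncl, inv_inv, map_pow]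
    have hmem : projIncl N ρ (MulAut.conjNormal (projHom N ρ g₀⁻¹) (n ^ k)) ∈ H :=
      hNP (MulAut.conjNormal (projHom N ρ g₀⁻¹) (n ^ k)).2
    refine Eq.trans ?_ (hφN _ hmem)
    exact congrArg φ (Subtype.ext hconj)
  · rw [MonoidHom.transfer_eq_pow φ (projScalar N ρ a) fun k g₀ _ => by
      rw [← map_pow, mul_assoc, projScalar_comm, inv_mul_cancel_left]]
    rw [zpow_natCast, ← hidx]
    have hmem : projScalar N ρ (a ^ H.index) ∈ H := P.one_mem
    refine Eq.trans ?_ (hφs _ hmem)
    exact congrArg φ (Subtype.ext (map_pow _ _ _).symm)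

theorem hasWeight_index_self [ρ.IsIrreducible] [Finite G]
    (hinv : ∀ (g : G) (n : N), ρ.character (MulAut.conjNormal g n) = ρ.character n) :
    HasWeight N ρ N.index :=
  hasWeight_index hinv N le_rfl ρ fun _ => rfl

/-- The determinant gives weight `d` once `det ρ` extends to `G`. -/
theorem hasWeight_degree (μ : G →* ℂˣ)
    (hμ : ∀ n : N, (μ n : ℂ) = LinearMap.det (ρ n)) : HasWeight N ρ d := by
  let D : projExt N ρ →* ℂˣ :=
    (Units.map (LinearMap.det : Module.End ℂ (Fin d → ℂ) →* ℂ)).comp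
      ((MonoidHom.snd _ _).comp (projExt N ρ).subtype)
  refine ⟨D * (μ.comp (projHom N ρ))⁻¹, fun n => ?_, fun z => ?_⟩
  · show D (projIncl N ρ n) * (μ (projHom N ρ (projIncl N ρ n)))⁻¹ = 1
    rw [projHom_incl, mul_inv_eq_one]
    exact Units.ext (hμ n).symm
  · show D (projScalar N ρ z) * (μ (projHom N ρ (projScalar N ρ z)))⁻¹ = z ^ (d : ℤ)
    rw [projHom_scalar, map_one, inv_one, mul_one, zpow_natCast]
    refine Units.ext ?_
    show LinearMap.det (algebraMap ℂ (Module.End ℂ (Fin d → ℂ)) (z : ℂ)) = _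
    simp [Algebra.algebraMap_eq_smul_one, LinearMap.det_smul]

/-- A cyclic quotient always gives an extension. -/
theorem hasWeight_one_of_cyclic [ρ.IsIrreducible] [Finite G] (hcyc : IsCyclic (G ⧸ N))
    (hinv : ∀ (g : G) (n : N), ρ.character (MulAut.conjNormal g n) = ρ.character n) :
    ∃ σ : Representation ℂ G (Fin d → ℂ), ∀ n : N, σ n = ρ n := by
  classical
  obtain ⟨q, hq⟩ := hcyc.exists_generator
  obtain ⟨g, rfl⟩ := QuotientGroup.mk_surjective q
  set m := orderOf (g : G ⧸ N) with hm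
  have hm0 : 0 < m := orderOf_pos _
  obtain ⟨e₀, he₀⟩ := projHom_surjective hinv g
  have hgm : projHom N ρ (e₀ ^ m) ∈ N := by
    rw [map_pow, he₀, ← QuotientGroup.eq_one_iff, QuotientGroup.mk_pow]
    exact pow_orderOf_eq_one _
  obtain ⟨n₀, z, hz⟩ := projHom_mem hgm
  obtain ⟨w, hw⟩ := IsAlgClosed.exists_pow_nat_eq (((z⁻¹ : ℂˣ) : ℂ)) hm0
  have hw0 : w ≠ 0 := by rintro rfl; rw [zero_pow hm0.ne'] at hw; exact (z⁻¹).ne_zero hw.symm
  set e := e₀ * projScalar N ρ (Units.mk0 w hw0) with he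
  have hem : e ^ m = projIncl N ρ n₀ := by
    have hcm : Commute e₀ (projScalar N ρ (Units.mk0 w hw0)) := (projScalar_comm _ _).symm
    rw [he, hcm.mul_pow, hz, ← map_pow, mul_assoc, ← map_mul,
      show z * Units.mk0 w hw0 ^ m = 1 from Units.ext (by simp [hw]), map_one, mul_one]
  let E := (projIncl N ρ).range
  have hnorm : Subgroup.zpowers e ≤ Subgroup.normalizer (E : Set (projExt N ρ)) := by
    rw [Subgroup.zpowers_le, Subgroup.mem_normalizer_iff]
    intro x
    constructor
    · rintro ⟨n, rfl⟩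
      exact ⟨_, (conj_projIncl e n).symm⟩
    · rintro ⟨n, hn⟩
      refine ⟨MulAut.conjNormal (projHom N ρ e)⁻¹ n, ?_⟩
      rw [← map_inv (projHom N ρ), ← conj_projIncl, hn]
      group
  have hdecomp : ∀ x ∈ Subgroup.zpowers e ⊔ E, ∃ (j : ℤ) (n : N), x = e ^ j * projIncl N ρ n := by
    intro x hx
    rw [← SetLike.mem_coe, Subgroup.coe_mul_of_left_le_normalizer_right _ _ hnorm] at hx
    obtain ⟨a, ⟨j, rfl⟩, b, ⟨n, rfl⟩, rfl⟩ := Set.mem_mul.mp hx
    exact ⟨j, n, rfl⟩
  let q : ↥(Subgroup.zpowers e ⊔ E) →* G := (projHom N ρ).comp (Subgroup.zpowers e ⊔ E).subtype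
  have hpe : projHom N ρ e = g := by rw [he, map_mul, projHom_scalar, mul_one, he₀]
  have hinjq : Function.Injective q := by
    refine (injective_iff_map_eq_one q).mpr fun x hx => ?_
    obtain ⟨j, n, hx'⟩ := hdecomp _ x.2
    have h1 : g ^ j * (n : G) = 1 := by
      have h : projHom N ρ (x : projExt N ρ) = 1 := hx
      rwa [hx', map_mul, map_zpow, hpe, projHom_incl] at h
    have hj : (g : G ⧸ N) ^ j = 1 := by
      rw [← QuotientGroup.mk_zpow, QuotientGroup.eq_one_iff, eq_inv_of_mul_eq_one_left h1]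
      exact N.inv_mem n.2
    obtain ⟨i, rfl⟩ := orderOf_dvd_iff_zpow_eq_one.mpr hj
    have hxN : (x : projExt N ρ) = projIncl N ρ (n₀ ^ i * n) := by
      rw [hx', zpow_mul, zpow_natCast, hem, ← map_zpow, ← map_mul]
    have h3 : (n₀ ^ i * n : N) = 1 := Subtype.ext (by
      have h : projHom N ρ (x : projExt N ρ) = 1 := hx
      rwa [hxN, projHom_incl] at h)
    exact Subtype.ext (by rw [hxN, h3, map_one]; rfl)
  have hbij : Function.Bijective q := by
    refine ⟨hinjq, fun x => ?_⟩
    obtain ⟨j, hj⟩ := Subgroup.mem_zpowers_iff.mp (hq (x : G ⧸ N))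
    have hn : (g ^ j)⁻¹ * x ∈ N := by
      rw [← QuotientGroup.eq_one_iff, QuotientGroup.mk_mul, QuotientGroup.mk_inv,
        QuotientGroup.mk_zpow, hj, inv_mul_cancel]
    exact ⟨⟨e ^ j * projIncl N ρ ⟨_, hn⟩, Subgroup.mul_mem_sup
      (Subgroup.zpow_mem_zpowers e j) ⟨_, rfl⟩⟩, by
      show projHom N ρ (e ^ j * _) = x
      rw [map_mul, map_zpow, hpe, projHom_incl, mul_inv_cancel_left]⟩
  let q' := MulEquiv.ofBijective q hbij
  refine ⟨(Units.coeHom _).comp (((MonoidHom.snd _ _).comp (projExt N ρ).subtype).comp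
    ((Subgroup.zpowers e ⊔ E).subtype.comp q'.symm.toMonoidHom)), fun n => ?_⟩
  have : q'.symm n = ⟨projIncl N ρ n, Subgroup.mem_sup_right ⟨n, rfl⟩⟩ :=
    q'.symm_apply_eq.mpr rfl
  show (((q'.symm n : projExt N ρ) : G × (Module.End ℂ (Fin d → ℂ))ˣ).2 :
    Module.End ℂ (Fin d → ℂ)) = ρ n
  rw [this]
  rfl

/-- A representation restricting irreducibly is irreducible, and so is its character. -/
theorem isIrr_of_extends [ρ.IsIrreducible] [Finite G] (σ : Representation ℂ G (Fin d → ℂ))
    (h : ∀ n : N, σ n = ρ n) :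
    Cfsg.IsIrrCharacter G σ.character ∧ ∀ n : N, σ.character n = ρ.character n := by
  refine ⟨?_, fun n => by simp [Representation.character, h n]⟩
  have : σ.IsIrreducible :=
    { exists_pair_ne := ⟨⊥, ⊤, fun e => by
        have hd : 0 < d := by simpa using finrank_pos_of_irreducible ρ
        have : Nonempty (Fin d) := ⟨⟨0, hd⟩⟩
        exact bot_ne_top (congrArg Subrepresentation.toSubmodule e)⟩
      eq_bot_or_eq_top := fun U => by
        let U' : Subrepresentation ρ := ⟨U.toSubmodule, fun n v hv => h n ▸ U.apply_mem_toSubmodule n hv⟩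
        rcases eq_bot_or_eq_top U' with hU | hU
        · exact Or.inl (Subrepresentation.toSubmodule_injective (congrArg Subrepresentation.toSubmodule hU :))
        · exact Or.inr (Subrepresentation.toSubmodule_injective (congrArg Subrepresentation.toSubmodule hU :)) }
  exact isIrrCharacter_char σ

end CfsgLib.Char
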