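import Cfsg.Agent.Lib.Char.Linear
import Cfsg.Agent.Lib.Char.Integral
import Cfsg.Agent.Lib.Char.ProjExt
import Cfsg.Agent.Lib.CharNormal.Clifford
import Cfsg.Agent.Lib.CharNormal.Gallagher
import Cfsg.Agent.Lib.CharNormal.Kernel

/-!
# Degrees: the index of the centre, Ito's theorem, the Clifford correspondence
-/

namespace CfsgLib.Char

open scoped ComplexConjugate
open CfsgLib.CharNormal

variable {G : Type*} [Group G]

/-- The degree of a faithful irreducible representation divides the index of any central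
subgroup. -/
theorem degree_dvd_index_of_central [Finite G] {V : Type*} [AddCommGroup V] [Module ℂ V]
    [FiniteDimensional ℂ V] (ρ : Representation ℂ G V) [ρ.IsIrreducible]
    (hρ : Function.Injective ρ) (A : Subgroup G) (hA : A ≤ Subgroup.center G) :
    Module.finrank ℂ V ∣ A.index := by
  classical
  have := Fintype.ofFinite G
  have : Finite (ConjClasses G) := Finite.of_surjective _ ConjClasses.mk_surjective
  have := Fintype.ofFinite (ConjClasses G)
  set χ := ρ.character with hχdef
  have hχ : Cfsg.IsIrrCharacter G χ := isIrrCharacter_char ρ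
  have hsc : ∀ a : A, ∃ c : ℂ, ρ a = c • LinearMap.id := fun a =>
    exists_eq_smul_id ρ (ρ a) fun g => by
      rw [← Module.End.mul_eq_comp, ← Module.End.mul_eq_comp, ← map_mul, ← map_mul,
        Subgroup.mem_center_iff.mp (hA a.2) g]
  choose c hc using hsc
  have hmul : ∀ (a : A) (g : G), χ (a * g) = c a * χ g := fun a g => by
    simp [χ, Representation.character, map_mul, hc, Module.End.mul_eq_comp]
  have hc1 : ∀ a : A, c a = 1 → a = 1 := fun a h => Subtype.ext (hρ (by
    rw [hc, h, one_smul, Subgroup.coe_one, map_one]; rfl))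
  have hnorm : ∀ a : A, conj (c a) * c a = 1 := fun a => by
    have h1 := hmul a⁻¹ a
    rw [InvMemClass.coe_inv, inv_mul_cancel] at h1
    have h2 : χ (a : G)⁻¹ = conj (χ a) := char_inv (isCharacter_of_isIrr hχ) _
    have h3 := hmul a 1
    rw [mul_one] at h3
    have h4 := hmul a⁻¹ 1
    rw [mul_one, InvMemClass.coe_inv, h2, h3, map_mul,
      char_conj_one (isCharacter_of_isIrr hχ)] at h4
    rw [h3] at h1
    have h5 := mul_right_cancel₀ (irr_one_ne_zero hχ) h4
    refine mul_right_cancel₀ (irr_one_ne_zero hχ) ?_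
    rw [one_mul, h5]
    linear_combination -h1
  let F : ConjClasses G → ℂ := fun C =>
    (Nat.card {x : G // IsConj C.out x} : ℂ) * χ C.out / χ 1 * conj (χ C.out)
  have hF : ∀ g : G,
      F (ConjClasses.mk g) = (Nat.card {x : G // IsConj g x} : ℂ) * χ g / χ 1 * conj (χ g) := by
    intro g
    have hcj : IsConj (ConjClasses.mk g).out g :=
      ConjClasses.mk_eq_mk_iff_isConj.mp (Quotient.out_eq _)
    simp only [F, isClassFunction_iff.mp (isClassFunction_of_isIrr hχ) _ _ hcj]
    rw [Nat.card_congr (Equiv.subtypeEquivRight fun x =>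
      ⟨fun h => hcj.symm.trans h, fun h => hcj.trans h⟩)]
  have hint : ∀ C, IsIntegral ℤ (F C) := fun C =>
    (isIntegral_classSize_mul_div hχ _).mul
      (char_inv (isCharacter_of_isIrr hχ) C.out ▸ char_isIntegral (isCharacter_of_isIrr hχ) _)
  have hsum : ∑ C, F C = (Nat.card G : ℂ) / χ 1 := by
    rw [show (Nat.card G : ℂ) = ∑ g : G, χ g * conj (χ g) by
        rw [← card_mul_classInner, classInner_irr_self hχ, mul_one]]
    conv_rhs => rw [← Finset.sum_fiberwise Finset.univ ConjClasses.mk, Finset.sum_div]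
    refine Finset.sum_congr rfl fun C _ => ?_
    obtain ⟨g, rfl⟩ := ConjClasses.mk_surjective C
    rw [hF, Finset.sum_congr rfl fun x hx => by
      rw [isClassFunction_iff.mp (isClassFunction_of_isIrr hχ) x g
        (ConjClasses.mk_eq_mk_iff_isConj.mp (Finset.mem_filter.mp hx).2)]]
    rw [Finset.sum_const, nsmul_eq_mul, Nat.card_eq_fintype_card, Fintype.card_subtype]
    rw [show (Finset.univ.filter fun x => ConjClasses.mk x = ConjClasses.mk g) =
      Finset.univ.filter (IsConj g) from Finset.filter_congr fun x _ =>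
        ConjClasses.mk_eq_mk_iff_isConj.trans isConj_comm]
    ring
  -- the central subgroup permutes the classes
  let act : A → ConjClasses G → ConjClasses G := fun a C =>
    Quotient.liftOn C (fun g => ConjClasses.mk ((a : G) * g)) fun x y hxy => by
      obtain ⟨u, rfl⟩ := isConj_iff.mp hxy
      refine ConjClasses.mk_eq_mk_iff_isConj.mpr (isConj_iff.mpr ⟨u, ?_⟩)
      rw [← mul_assoc u, Subgroup.mem_center_iff.mp (hA a.2) u]
      group
  let inst : MulAction A (ConjClasses G) :=
    { smul := act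
      one_smul := fun C => by
        obtain ⟨g, rfl⟩ := ConjClasses.mk_surjective C
        exact congrArg ConjClasses.mk (one_mul g)
      mul_smul := fun a b C => by
        obtain ⟨g, rfl⟩ := ConjClasses.mk_surjective C
        exact congrArg ConjClasses.mk (mul_assoc (a : G) b g) }
  have hinv : ∀ (a : A) C, F (a • C) = F C := by
    intro a C
    obtain ⟨g, rfl⟩ := ConjClasses.mk_surjective C
    show F (ConjClasses.mk ((a : G) * g)) = F (ConjClasses.mk g)
    rw [hF, hF, hmul, map_mul, Nat.card_congr (α := {x : G // IsConj g x})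
      (β := {x : G // IsConj ((a : G) * g) x}) (Equiv.subtypeEquiv (Equiv.mulLeft (a : G)) fun x => ?_)]
    · linear_combination (Nat.card {x : G // IsConj ((a : G) * g) x} : ℂ) * χ g / χ 1 *
        conj (χ g) * hnorm a
    · simp only [Equiv.coe_mulLeft, isConj_iff]
      refine exists_congr fun u => ?_
      rw [← mul_assoc u, Subgroup.mem_center_iff.mp (hA a.2) u, mul_assoc (a : G) u g,
        mul_assoc (a : G), mul_right_inj]
  have hfree : ∀ (a : A) C, a • C = C → F C ≠ 0 → a = 1 := by
    intro a C hC h0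
    obtain ⟨g, rfl⟩ := ConjClasses.mk_surjective C
    have h2 : χ ((a : G) * g) = χ g :=
      isClassFunction_iff.mp (isClassFunction_of_isIrr hχ) _ _
        (ConjClasses.mk_eq_mk_iff_isConj.mp hC)
    rw [hmul] at h2
    refine hc1 a ?_
    have hg : χ g ≠ 0 := fun e => h0 (by rw [hF, e]; simp)
    exact (mul_eq_right₀ hg).mp h2
  have hsplit : ∑ C, F C =
      (Nat.card A : ℂ) * ∑ O : Quotient (MulAction.orbitRel A (ConjClasses G)), F O.out := by
    rw [← Finset.sum_fiberwise Finset.univ (Quotient.mk (MulAction.orbitRel A (ConjClasses G))),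
      Finset.mul_sum]
    refine Finset.sum_congr rfl fun O _ => ?_
    have hmem : ∀ C, Quotient.mk (MulAction.orbitRel A (ConjClasses G)) C = O ↔
        C ∈ MulAction.orbit A O.out := fun C => by
      rw [← MulAction.orbitRel_apply]
      conv_lhs => rw [← O.out_eq]
      exact Quotient.eq''
    rw [Finset.sum_congr rfl fun C hC => show F C = F O.out by
      obtain ⟨a, rfl⟩ := (hmem C).mp (Finset.mem_filter.mp hC).2
      exact hinv a _]
    rw [Finset.sum_const, nsmul_eq_mul]
    by_cases h0 : F O.out = 0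
    · simp [h0]
    congr 2
    rw [← Fintype.card_subtype, ← Nat.card_eq_fintype_card]
    refine (Nat.card_congr (Equiv.ofBijective
      (fun a : A => (⟨a • O.out, (hmem _).mpr ⟨a, rfl⟩⟩ :
        {C // Quotient.mk (MulAction.orbitRel A (ConjClasses G)) C = O})) ⟨fun a b hab => ?_, fun C => ?_⟩)).symm
    · have h : a • O.out = b • O.out := congrArg Subtype.val hab
      exact inv_mul_eq_one.mp (hfree (a⁻¹ * b) O.out (by rw [mul_smul, ← h, inv_smul_smul]) h0)
    · obtain ⟨a, ha⟩ := (hmem C.1).mp C.2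
      exact ⟨a, Subtype.ext ha⟩
  refine dvd_of_isIntegral_div (Module.finrank_pos (R := ℂ) (M := V)
    (h := Module.finrank_pos_iff.mp (finrank_pos_of_irreducible ρ))).ne' ?_
  have hA0 : (Nat.card A : ℂ) ≠ 0 := by exact_mod_cast Nat.card_pos.ne'
  have heq : ((A.index : ℕ) : ℂ) / (Module.finrank ℂ V : ℂ) =
      ∑ O : Quotient (MulAction.orbitRel A (ConjClasses G)), F O.out := by
    refine mul_left_cancel₀ hA0 ?_
    rw [← hsplit, hsum, ← A.index_mul_card, Nat.cast_mul,
      show χ 1 = (Module.finrank ℂ V : ℂ) from ρ.char_one]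
    ring
  exact heq ▸ IsIntegral.sum _ fun O _ => hint _

/-- The degree divides the index of any subgroup acting by scalars. -/
theorem degree_dvd_index_of_scalar [Finite G] {V : Type*} [AddCommGroup V] [Module ℂ V]
    [FiniteDimensional ℂ V] (ρ : Representation ℂ G V) [ρ.IsIrreducible] (A : Subgroup G)
    (hA : ∀ a ∈ A, ∀ g, ρ a * ρ g = ρ g * ρ a) : Module.finrank ℂ V ∣ A.index := by
  let f := ρ.toHomUnits
  have : Finite f.range := Finite.of_surjective _ f.rangeRestrict_surjective
  let σ : Representation ℂ f.range V := (Units.coeHom _).comp f.range.subtype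
  have : σ.IsIrreducible :=
    { exists_pair_ne := ⟨⊥, ⊤, fun e => by
        have : Nontrivial V := Module.finrank_pos_iff.mp (finrank_pos_of_irreducible ρ)
        exact bot_ne_top (congrArg Subrepresentation.toSubmodule e)⟩
      eq_bot_or_eq_top := fun U => by
        let U' : Subrepresentation ρ := ⟨U.toSubmodule, fun g v hv =>
          U.apply_mem_toSubmodule ⟨f g, g, rfl⟩ hv⟩
        rcases eq_bot_or_eq_top U' with h | h
        · exact Or.inl (Subrepresentation.toSubmodule_injective (congrArg Subrepresentation.toSubmodule h :))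
        · exact Or.inr (Subrepresentation.toSubmodule_injective (congrArg Subrepresentation.toSubmodule h :)) }
  refine (degree_dvd_index_of_central σ (fun a b h => Subtype.ext (Units.ext h))
    (A.map f.rangeRestrict) ?_).trans (A.index_map_dvd f.rangeRestrict_surjective)
  rintro _ ⟨a, ha, rfl⟩
  rw [Subgroup.mem_center_iff]
  rintro ⟨_, g, rfl⟩
  exact Subtype.ext (Units.ext (hA a ha g).symm)

/-- The degree divides the index of the centre. -/
theorem degree_dvd_index_center [Finite G] {V : Type*} [AddCommGroup V] [Module ℂ V]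
    [FiniteDimensional ℂ V] (ρ : Representation ℂ G V) [ρ.IsIrreducible] :
    Module.finrank ℂ V ∣ (Subgroup.center G).index :=
  degree_dvd_index_of_scalar ρ _ fun a ha g => by
    rw [← map_mul, ← map_mul, Subgroup.mem_center_iff.mp ha g]

variable [Fintype G]

/-- The norm of induced characters from a normal subgroup counts conjugators. -/
theorem card_mul_classInner_indFun_normal (N : Subgroup G) [N.Normal] [Fintype N] {φ θ : N → ℂ}
    (hφ : Cfsg.IsIrrCharacter N φ) (hθ : Cfsg.IsIrrCharacter N θ) :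
    (Nat.card N : ℂ) * Cfsg.classInner (Cfsg.indFun N φ) (Cfsg.indFun N θ) =
      (Nat.card {g : G // conjFun N g θ = φ} : ℂ) := by
  classical
  have hres : (fun n : N => Cfsg.indFun N θ n) =
      (Nat.card N : ℂ)⁻¹ • ∑ g : G, conjFun N g θ := by
    funext n
    rw [Pi.smul_apply, Finset.sum_apply, smul_eq_mul, indFun_apply]
    congr 1
    refine Fintype.sum_equiv (Equiv.inv G) _ _ fun g => ?_
    have hm : g⁻¹ * n * g ∈ N := by simpa using ‹N.Normal›.conj_mem n n.2 g⁻¹
    rw [extendByZero_of_mem θ hm, conjFun_apply]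
    congr 1
    ext
    simp
  rw [frobenius_reciprocity N φ (isClassFunction_indFun N θ), hres, classInner_smul_right,
    map_inv₀, map_natCast, mul_inv_cancel_left₀ (card_subgroup_ne_zero N), classInner_sum_right]
  rw [Finset.sum_congr rfl fun g _ => classInner_irr hφ (isIrr_conjFun N hθ g), Finset.sum_boole,
    Nat.card_eq_fintype_card, Fintype.card_subtype]
  simp only [eq_comm]

/-- Clifford correspondence: constituents over `θ` are induced from the inertia group. -/
theorem clifford_correspondence (N : Subgroup G) [N.Normal] [Fintype N] {θ : N → ℂ}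
    (hθ : Cfsg.IsIrrCharacter N θ) (T : Subgroup G) [Fintype T]
    (hT : ∀ g : G, g ∈ T ↔ conjFun N g θ = θ) (hNT : N ≤ T) {χ : G → ℂ}
    (hχ : Cfsg.IsIrrCharacter G χ) (h0 : Cfsg.classInner (fun n : N => χ n) θ ≠ 0) :
    ∃ ψ : T → ℂ, Cfsg.IsIrrCharacter T ψ ∧ Cfsg.indFun T ψ = χ ∧
      Cfsg.classInner (fun n : N => ψ ⟨n, hNT n.2⟩) θ = Cfsg.classInner (fun n : N => χ n) θ := by
  classical
  have hTi : T = inertia N θ := Subgroup.ext fun g => (hT g).trans (mem_inertia N).symm
  have hdeg := degree_eq_mul_card_orbit N hχ ⟨θ, hθ⟩ h0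
  rw [card_orbit_eq_index N ⟨θ, hθ⟩, ← hTi] at hdeg
  obtain ⟨m, hm, hmi⟩ := char_decomp (isCharacter_res T (isCharacter_of_isIrr hχ))
  choose k hk using fun ψ : Cfsg.IrrCharacter T => classInner_char_nat
    (isCharacter_comp (isCharacter_of_isIrr ψ.2) (Subgroup.inclusion hNT))
    (isCharacter_of_isIrr hθ)
  have hk' : ∀ ψ : Cfsg.IrrCharacter T,
      Cfsg.classInner (fun n : N => (ψ : T → ℂ) ⟨n, hNT n.2⟩) θ = k ψ := hk
  obtain ⟨e, he⟩ := classInner_char_nat (isCharacter_res N (isCharacter_of_isIrr hχ))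
    (isCharacter_of_isIrr hθ)
  have hsum : ∑ ψ, m ψ * k ψ = e := by
    have h1 : Cfsg.classInner (fun n : N => χ n) θ = ∑ ψ, (m ψ : ℂ) * k ψ := by
      have : (fun n : N => χ n) =
          ∑ ψ : Cfsg.IrrCharacter T, (m ψ : ℂ) • fun n : N => (ψ : T → ℂ) ⟨n, hNT n.2⟩ :=
        funext fun n => by
          simpa [Finset.sum_apply] using congrFun hm ⟨n, hNT n.2⟩
      rw [this, classInner_sum_left]
      exact Finset.sum_congr rfl fun ψ _ => by rw [classInner_smul_left, hk']
    exact_mod_cast h1.symm.trans he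
  obtain ⟨ψ, hψ⟩ : ∃ ψ, m ψ * k ψ ≠ 0 := by
    by_contra hall
    push Not at hall
    simp [hall] at hsum
    exact h0 (by rw [he, ← hsum, Nat.cast_zero])
  have hkle : k ψ ≤ e := hsum ▸ le_trans (Nat.le_mul_of_pos_left _
    (Nat.pos_of_ne_zero (left_ne_zero_of_mul hψ)))
    (Finset.single_le_sum (f := fun ψ => m ψ * k ψ) (fun _ _ => Nat.zero_le _) (Finset.mem_univ ψ))
  have hres : (fun n : N => (ψ : T → ℂ) ⟨n, hNT n.2⟩) = (k ψ : ℂ) • θ := by
    let N' := N.subgroupOf T
    let eN : N' ≃* N := Subgroup.subgroupOfEquivOfLe hNT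
    have := Fintype.ofFinite N'
    have hθ' : Cfsg.IsIrrCharacter N' (θ ∘ eN) := isIrr_comp_mulEquiv hθ eN
    have hk0 : (k ψ : ℂ) ≠ 0 := by exact_mod_cast right_ne_zero_of_mul hψ
    have hci : Cfsg.classInner (fun n : N' => (ψ : T → ℂ) n) (θ ∘ eN) = k ψ := by
      rw [← hk' ψ, ← classInner_comp_mulEquiv eN (fun n : N => (ψ : T → ℂ) ⟨n, hNT n.2⟩) θ]
      rfl
    have h := res_eq_smul_of_invariant N' ψ.2 hθ' (fun t => funext fun n => ?_) (hci ▸ hk0)
    · rw [hci] at h
      funext n
      exact congrFun h ⟨⟨n, hNT n.2⟩, n.2⟩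
    · exact congrFun ((hT t).mp t.2) (eN n)
  have hle : (χ 1).re ≤ (Cfsg.indFun T (ψ : T → ℂ) 1).re := by
    refine constituent_degree_le (isCharacter_indFun T (isCharacter_of_isIrr ψ.2)) hχ ?_
    rw [frobenius_reciprocity T _ (isClassFunction_of_isIrr hχ), ← classInner_conj_symm, hmi ψ,
      map_natCast]
    exact_mod_cast left_ne_zero_of_mul hψ
  have hψ1 : (ψ : T → ℂ) 1 = k ψ * θ 1 := congrFun hres 1
  obtain ⟨d, hd0, hd⟩ := exists_degree_pos hθ
  have hχ1 : χ 1 = ((e * T.index * d : ℕ) : ℂ) := by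
    simp only [hdeg, he, hd]; push_cast; ring
  have hind1 : Cfsg.indFun T (ψ : T → ℂ) 1 = ((T.index * (k ψ * d) : ℕ) : ℂ) := by
    rw [indFun_one, hψ1, hd]; push_cast; ring
  have hek : k ψ = e := by
    rw [hχ1, hind1, Complex.natCast_re, Complex.natCast_re, Nat.cast_le] at hle
    have hpos : 0 < T.index * d :=
      Nat.mul_pos (Nat.pos_of_ne_zero Subgroup.index_ne_zero_of_finite) hd0
    have hle' : e * (T.index * d) ≤ k ψ * (T.index * d) := by
      calc e * (T.index * d) = e * T.index * d := by ring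
        _ ≤ T.index * (k ψ * d) := hle
        _ = k ψ * (T.index * d) := by ring
    exact le_antisymm hkle (Nat.le_of_mul_le_mul_right hle' hpos)
  refine ⟨ψ, ψ.2, ?_, by rw [hk', hek, he]⟩
  obtain ⟨M, hM, hMi⟩ := char_decomp (isCharacter_indFun T (isCharacter_of_isIrr ψ.2))
  have heq : Cfsg.indFun T (ψ : T → ℂ) 1 = χ 1 := by
    rw [hind1, hχ1, hek]; push_cast; ring
  have hMχ : M ⟨χ, hχ⟩ ≠ 0 := fun h => by
    have h1 := hMi ⟨χ, hχ⟩
    rw [h, frobenius_reciprocity T _ (isClassFunction_of_isIrr hχ), ← classInner_conj_symm,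
      hmi ψ, map_natCast] at h1
    exact left_ne_zero_of_mul hψ (by exact_mod_cast h1)
  choose D hD0 hD using fun φ : Cfsg.IrrCharacter G => exists_degree_pos φ.2
  have hdsum : ∑ φ, M φ * D φ = D ⟨χ, hχ⟩ := by
    have h1 := congrFun hM 1
    rw [heq] at h1
    simp only [Finset.sum_apply, Pi.smul_apply, smul_eq_mul, hD] at h1
    rw [show χ 1 = (D ⟨χ, hχ⟩ : ℂ) from hD ⟨χ, hχ⟩] at h1
    exact_mod_cast h1.symm
  have hsplit := Finset.add_sum_erase Finset.univ (fun φ => M φ * D φ)
    (Finset.mem_univ (⟨χ, hχ⟩ : Cfsg.IrrCharacter G))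
  rw [hdsum] at hsplit
  have hM1 : M ⟨χ, hχ⟩ = 1 := by
    have h1 : M ⟨χ, hχ⟩ * D ⟨χ, hχ⟩ ≤ 1 * D ⟨χ, hχ⟩ := by rw [one_mul]; omega
    have h2 := Nat.le_of_mul_le_mul_right h1 (hD0 ⟨χ, hχ⟩)
    omega
  have hrest : ∀ φ, φ ≠ ⟨χ, hχ⟩ → M φ = 0 := fun φ hφ => by
    simp only [hM1, one_mul] at hsplit
    have hz := Nat.add_eq_left.mp hsplit
    exact (mul_eq_zero.mp (Finset.sum_eq_zero_iff.mp hz φ (Finset.mem_erase.mpr ⟨hφ, Finset.mem_univ φ⟩))).resolve_right (hD0 φ).ne'
  rw [hM, Finset.sum_eq_single ⟨χ, hχ⟩ (fun φ _ hφ => by simp [hrest φ hφ]) (by simp), hM1]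
  simp

/-- The multiplicity over an invariant character divides the index. -/
theorem multiplicity_dvd_index (N : Subgroup G) [hN : N.Normal] [Fintype N] {d : ℕ}
    (ρ : Representation ℂ N (Fin d → ℂ)) [ρ.IsIrreducible]
    (hinv : ∀ (g : G) (n : N), ρ.character (MulAut.conjNormal g n) = ρ.character n)
    {χ : G → ℂ} (hχ : Cfsg.IsIrrCharacter G χ) {e : ℕ}
    (hres : (fun n : N => χ n) = (e : ℂ) • ρ.character) : e ∣ N.index := by
  classical
  have hd : 0 < d := by simpa using finrank_pos_of_irreducible ρ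
  have he0 : e ≠ 0 := by
    rintro rfl
    exact irr_one_ne_zero hχ (by simpa using congrFun hres 1)
  let π := projHom N ρ
  let D : projExt N ρ →* ℂˣ :=
    (Units.map (LinearMap.det : Module.End ℂ (Fin d → ℂ) →* ℂ)).comp
      ((MonoidHom.snd _ _).comp (projExt N ρ).subtype)
  have hDs : ∀ z, D (projScalar N ρ z) = z ^ d := fun z => Units.ext (by
    show LinearMap.det (algebraMap ℂ (Module.End ℂ (Fin d → ℂ)) (z : ℂ)) = _
    simp [Algebra.algebraMap_eq_smul_one, LinearMap.det_smul])
  -- a finite subgroup covering `G`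
  let S : Subgroup (projExt N ρ) := (D ^ Nat.card N).ker
  have hincl : ∀ n : N, projIncl N ρ n ∈ S := fun n => by
    rw [MonoidHom.mem_ker, MonoidHom.pow_apply, ← map_pow, ← map_pow, pow_card_eq_one', map_one,
      map_one]
  have hsurj : ∀ x : G, ∃ s ∈ S, π s = x := by
    intro x
    obtain ⟨a, ha⟩ := projHom_surjective hinv x
    obtain ⟨w, hw⟩ := IsAlgClosed.exists_pow_nat_eq ((((D a) ^ Nat.card N)⁻¹ : ℂˣ) : ℂ)
      (Nat.mul_pos hd Nat.card_pos : 0 < d * Nat.card N)
    have hw0 : w ≠ 0 := by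
      rintro rfl
      rw [zero_pow (Nat.mul_pos hd Nat.card_pos).ne'] at hw
      exact Units.ne_zero _ hw.symm
    refine ⟨a * projScalar N ρ (Units.mk0 w hw0), ?_, by rw [map_mul, projHom_scalar, mul_one, ha]⟩
    rw [MonoidHom.mem_ker, MonoidHom.pow_apply, map_mul, hDs, mul_pow, ← pow_mul]
    have : Units.mk0 w hw0 ^ (d * Nat.card N) = ((D a) ^ Nat.card N)⁻¹ := Units.ext (by
      rw [Units.val_pow_eq_pow_val, Units.val_mk0, hw])
    rw [this, mul_inv_cancel]
  let π' : S →* G := π.comp S.subtype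
  have hπ' : Function.Surjective π' := fun x => by
    obtain ⟨s, hs, rfl⟩ := hsurj x
    exact ⟨⟨s, hs⟩, rfl⟩
  have : Finite π'.ker := by
    have hne : NeZero (d * Nat.card N) := ⟨(Nat.mul_pos hd Nat.card_pos).ne'⟩
    choose z hz using fun s : π'.ker => projHom_eq_one (e := ((s : S) : projExt N ρ))
      (MonoidHom.mem_ker.mp s.2)
    refine Finite.of_injective (fun s => (⟨z s, ?_⟩ : rootsOfUnity (d * Nat.card N) ℂ))
      fun a b hab => ?_
    · have h1 : (D ^ Nat.card N) ((s : S) : projExt N ρ) = 1 := MonoidHom.mem_ker.mp (s : S).2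
      rw [MonoidHom.pow_apply, hz s, hDs, ← pow_mul] at h1
      exact (mem_rootsOfUnity _ _).mpr h1
    · have h1 : z a = z b := congrArg Subtype.val hab
      exact Subtype.ext (Subtype.ext (by rw [hz a, hz b, h1]))
  have hfinS : Finite S := by
    have : Finite (S ⧸ π'.ker) :=
      Finite.of_equiv G (QuotientGroup.quotientKerEquivOfSurjective π' hπ').toEquiv.symm
    exact Finite.of_subgroup_quotient π'.ker
  have := Fintype.ofFinite S
  -- the copy of `N`
  let ι : N →* S := (projIncl N ρ).codRestrict S hincl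
  let M : Subgroup S := ι.range
  have hM : M.Normal := ⟨by
    rintro _ ⟨n, rfl⟩ s
    exact ⟨MulAut.conjNormal (π' s) n, Subtype.ext (conj_projIncl (s : projExt N ρ) n).symm⟩⟩
  have := Fintype.ofFinite M
  have := Fintype.ofFinite (S ⧸ M)
  have hι : Function.Injective ι := fun a b h => Subtype.ext (by
    simpa using congrArg (fun s : S => π' s) h :)
  let eN : N ≃* M := MonoidHom.ofInjective hι
  let τ : Representation ℂ S (Fin d → ℂ) :=
    (Units.coeHom _).comp (((MonoidHom.snd _ _).comp (projExt N ρ).subtype).comp S.subtype)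
  have hτ : ∀ n : N, τ (ι n) = ρ n := fun n => rfl
  have hθ : Cfsg.IsIrrCharacter M (fun x : M => τ.character x) := by
    rw [← isIrr_comp_mulEquiv_iff eN]
    exact isIrrCharacter_char ρ
  have hX : Cfsg.IsIrrCharacter S (χ ∘ π') := by
    obtain ⟨k, σ, hσ, rfl⟩ := hχ
    let σ' : Representation ℂ S (Fin k → ℂ) := σ.comp π'
    have : σ'.IsIrreducible :=
      { exists_pair_ne := ⟨⊥, ⊤, fun h => by
          have : Nontrivial (Fin k → ℂ) := Module.finrank_pos_iff.mp (finrank_pos_of_irreducible σ)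
          exact bot_ne_top (congrArg Subrepresentation.toSubmodule h)⟩
        eq_bot_or_eq_top := fun U => by
          let U' : Subrepresentation σ := ⟨U.toSubmodule, fun g v hv => by
            obtain ⟨s, rfl⟩ := hπ' g
            exact U.apply_mem_toSubmodule s hv⟩
          rcases eq_bot_or_eq_top U' with h | h
          · exact Or.inl (Subrepresentation.toSubmodule_injective (congrArg Subrepresentation.toSubmodule h :))
          · exact Or.inr (Subrepresentation.toSubmodule_injective (congrArg Subrepresentation.toSubmodule h :)) }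
    exact isIrrCharacter_char σ'
  have hresX : (fun x : M => (χ ∘ π') x) = (e : ℂ) • fun x : M => τ.character x := by
    funext x
    obtain ⟨n, hn⟩ := x.2
    rw [Pi.smul_apply]
    simp only [Function.comp_apply, ← hn]
    exact congrFun hres n
  obtain ⟨β, ⟨k, σ, hσirr, rfl⟩, hβ⟩ := exists_eq_mul_comp_mk' M (isCharacter_char τ) hθ hX (by
    rw [hresX, classInner_smul_left, classInner_irr_self hθ, mul_one]
    exact_mod_cast he0)
  obtain rfl : k = e := by
    have h1 := congrFun hβ 1
    have h2 := congrFun hres 1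
    simp only [Function.comp_apply, map_one, Pi.mul_apply, Pi.smul_apply, smul_eq_mul,
      Representation.char_one, Module.finrank_fintype_fun_eq_card, Fintype.card_fin,
      OneMemClass.coe_one, QuotientGroup.mk_one] at h1 h2
    have hd' : (d : ℂ) ≠ 0 := by exact_mod_cast hd.ne'
    have : (k : ℂ) = e := mul_left_cancel₀ hd' (by rw [← h1, h2]; ring)
    exact_mod_cast this
  let q : S ⧸ M →* G ⧸ N := QuotientGroup.map M N π' (by
    rintro _ ⟨n, rfl⟩; exact n.2)
  have hq : Function.Surjective q := fun x => by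
    obtain ⟨g, rfl⟩ := QuotientGroup.mk_surjective x
    obtain ⟨s, rfl⟩ := hπ' g
    exact ⟨(s : S ⧸ M), rfl⟩
  have hcen : ∀ a ∈ q.ker, ∀ g, σ a * σ g = σ g * σ a := by
    intro a ha g
    obtain ⟨s, rfl⟩ := QuotientGroup.mk_surjective a
    obtain ⟨t, rfl⟩ := QuotientGroup.mk_surjective g
    have hs : π' s ∈ N := (QuotientGroup.eq_one_iff _).mp ha
    obtain ⟨n, z, hz⟩ := projHom_mem hs
    have hcomm : ((ι n)⁻¹ * s) * t = t * ((ι n)⁻¹ * s) := by
      refine Subtype.ext ?_
      have : ((((ι n)⁻¹ * s : S)) : projExt N ρ) = projScalar N ρ z := by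
        simp only [Subgroup.coe_mul, InvMemClass.coe_inv]
        have hz' : (s : projExt N ρ) = projIncl N ρ n * projScalar N ρ z := hz
        rw [hz']
        exact inv_mul_cancel_left _ _
      simp only [Subgroup.coe_mul] at this ⊢
      rw [this, projScalar_comm]
    have hq' : ((((ι n)⁻¹ * s : S)) : S ⧸ M) = (s : S ⧸ M) := by
      rw [QuotientGroup.mk_mul, QuotientGroup.mk_inv,
        (QuotientGroup.eq_one_iff (ι n)).mpr (show ι n ∈ M from ⟨n, rfl⟩), inv_one, one_mul]
    rw [← map_mul, ← map_mul, ← hq', ← QuotientGroup.mk_mul, ← QuotientGroup.mk_mul, hcomm]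
  have := degree_dvd_index_of_scalar σ q.ker hcen
  rw [Module.finrank_fintype_fun_eq_card, Fintype.card_fin] at this
  rw [Subgroup.index_ker, MonoidHom.range_eq_top_of_surjective q hq, Subgroup.card_top] at this
  exact this

/-- `χ(1) / θ(1)` divides the index of the normal subgroup. -/
theorem degree_quotient_dvd_index (N : Subgroup G) [hN : N.Normal] [Fintype N] {χ : G → ℂ}
    (hχ : Cfsg.IsIrrCharacter G χ) {θ : N → ℂ} (hθ : Cfsg.IsIrrCharacter N θ)
    (h0 : Cfsg.classInner (fun n : N => χ n) θ ≠ 0) {c d : ℕ} (hc : χ 1 = c) (hd : θ 1 = d) :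
    d ∣ c ∧ c / d ∣ N.index := by
  classical
  set T := inertia N θ with hT
  have hNT : N ≤ T := le_inertia N (isClassFunction_of_isIrr hθ)
  have := Fintype.ofFinite T
  obtain ⟨ψ, hψ, -, hψe⟩ := clifford_correspondence N hθ T (fun g => mem_inertia N) hNT hχ h0
  obtain ⟨e, he⟩ := classInner_char_nat (isCharacter_res N (isCharacter_of_isIrr hχ))
    (isCharacter_of_isIrr hθ)
  have hdeg := degree_eq_mul_card_orbit N hχ ⟨θ, hθ⟩ h0
  rw [card_orbit_eq_index N ⟨θ, hθ⟩] at hdeg
  simp only [he, hc, hd, ← hT] at hdeg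
  have hcd : c = e * T.index * d := by exact_mod_cast hdeg
  have hd0 : 0 < d := Nat.pos_of_ne_zero fun h => irr_one_ne_zero hθ (by simp [hd, h])
  refine ⟨hcd ▸ Dvd.intro_left _ rfl, ?_⟩
  rw [hcd, Nat.mul_div_cancel _ hd0, ← Subgroup.relIndex_mul_index hNT]
  refine Nat.mul_dvd_mul_right ?_ _
  let N' := N.subgroupOf T
  let eN : N' ≃* N := Subgroup.subgroupOfEquivOfLe hNT
  have := Fintype.ofFinite N'
  have hθ' : Cfsg.IsIrrCharacter N' (θ ∘ eN) := isIrr_comp_mulEquiv hθ eN
  obtain ⟨k, ρ, hρ, hρθ⟩ := id hθ'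
  have hinvT : ∀ t : T, conjFun N' t (θ ∘ eN) = θ ∘ eN := fun t =>
    funext fun n => congrFun ((mem_inertia N).mp t.2) (eN n)
  have hinv : ∀ (t : T) (n : N'), ρ.character (MulAut.conjNormal t n) = ρ.character n := by
    intro t n
    rw [hρθ]
    exact congrFun (hinvT t) n
  have hres : (fun n : N' => ψ n) = (e : ℂ) • ρ.character := by
    have hci : Cfsg.classInner (fun n : N' => ψ n) (θ ∘ eN) = e := by
      rw [← he, ← hψe, ← classInner_comp_mulEquiv eN (fun n : N => ψ ⟨n, hNT n.2⟩) θ]
      rfl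
    rw [hρθ, ← hci]
    exact res_eq_smul_of_invariant N' hψ hθ' hinvT (by rw [hci, ← he]; exact h0)
  exact multiplicity_dvd_index N' ρ hinv hψ hres

/-- Ito: the degree divides the index of an abelian normal subgroup. -/
theorem degree_dvd_index_abelian_normal (A : Subgroup G) [A.Normal]
    (hA : ∀ a ∈ A, ∀ b ∈ A, a * b = b * a) {χ : G → ℂ} (hχ : Cfsg.IsIrrCharacter G χ) {c : ℕ}
    (hc : χ 1 = c) : c ∣ A.index := by
  have := Fintype.ofFinite A
  obtain ⟨lam, hlam, hne⟩ := exists_constituent (isCharacter_res A (isCharacter_of_isIrr hχ))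
    fun h => irr_one_ne_zero hχ (by simpa using congrFun h 1)
  have h1 : lam 1 = ((1 : ℕ) : ℂ) := by
    rw [Nat.cast_one]
    exact CfsgLib.Char.irr_one_eq_one_of_comm (fun a b => Subtype.ext (hA a a.2 b b.2)) hlam
  simpa using (degree_quotient_dvd_index A hχ hlam hne hc h1).2

end CfsgLib.Char
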