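import Cfsg.Agent.Lib.Char.Hyperelementary
import Cfsg.Agent.Lib.Char.Ito
import Cfsg.Agent.S0176
import Mathlib.GroupTheory.Nilpotent

/-!
# Brauer's induction theorem and characterisation of characters

* `eq_one_of_invariant_linear`: the coprime action lemma for linear characters;
* `elemSpan p G`: additive span of the functions induced from characters of `p`-elementary
  subgroups; it contains an integer constant prime to `p`;
* `brauer_induction`: every generalized character is an integral combination of functions induced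
  from linear characters of elementary subgroups;
* `isGen_of_elementary`: Brauer's characterisation.
-/

namespace CfsgLib.Char

open CfsgLib.CharNormal
open scoped ComplexConjugate

universe u

/-- An invariant linear character trivial on the fixed points is trivial. -/
theorem eq_one_of_invariant_linear {G : Type*} [Group G] [Finite G] (p : ℕ) [Fact p.Prime]
    (C P : Subgroup G) [hC : C.Normal] (hP : IsPGroup p P) (hcop : Nat.Coprime (Nat.card C) p)
    (lam : C →* ℂˣ) (hinv : ∀ (g : G), g ∈ P → ∀ c : C, lam ⟨g * c * g⁻¹, hC.conj_mem c c.2 g⟩ = lam c)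
    (hker : ∀ c : C, (c : G) ∈ Subgroup.centralizer (P : Set G) → lam c = 1) : lam = 1 := by
  ext c
  letI : MulAction P {d : C // lam d = lam c} :=
    { smul := fun g d => ⟨⟨(g : G) * d.1 * (g : G)⁻¹, hC.conj_mem _ d.1.2 _⟩,
        (hinv _ g.2 d.1).trans d.2⟩
      one_smul := fun d => Subtype.ext (Subtype.ext (show ((1 : P) : G) * d.1 * ((1 : P) : G)⁻¹ = d.1
        by simp))
      mul_smul := fun g h d => Subtype.ext (Subtype.ext (show ((g * h : P) : G) * d.1 *
        ((g * h : P) : G)⁻¹ = (g : G) * ((h : G) * d.1 * (h : G)⁻¹) * (g : G)⁻¹ by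
          simp [mul_assoc])) }
  have hnd : ¬ p ∣ Nat.card {d : C // lam d = lam c} := by
    intro hdvd
    have e : Nat.card {d : C // lam d = lam c} = Nat.card lam.ker :=
      Nat.card_congr
        { toFun := fun d => ⟨c⁻¹ * d.1, by rw [MonoidHom.mem_ker, map_mul, map_inv, d.2,
            inv_mul_cancel]⟩
          invFun := fun k => ⟨c * k, by rw [map_mul, MonoidHom.mem_ker.mp k.2, mul_one]⟩
          left_inv := fun d => Subtype.ext (mul_inv_cancel_left c d.1)
          right_inv := fun k => Subtype.ext (inv_mul_cancel_left c k.1) }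
    exact (Nat.prime_iff.mp Fact.out).not_unit (Nat.isUnit_iff.mpr (Nat.eq_one_of_dvd_coprimes hcop
      ((e ▸ hdvd).trans (Subgroup.card_subgroup_dvd_card lam.ker)) dvd_rfl))
  obtain ⟨d, hd⟩ := hP.nonempty_fixed_point_of_prime_not_dvd_card _ hnd
  have hdc : ((d.1 : C) : G) ∈ Subgroup.centralizer (P : Set G) :=
    Subgroup.mem_centralizer_iff.mpr fun g hg =>
      mul_inv_eq_iff_eq_mul.mp (congrArg (fun z : {d : C // lam d = lam c} => ((z.1 : C) : G))
        (hd ⟨g, hg⟩))
  rw [MonoidHom.one_apply, ← d.2, hker d.1 hdc]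

/-- A subgroup of an elementary group is elementary. -/
theorem isElementary_subgroup {p : ℕ} (hp : p.Prime) {E : Type*} [Group E] [Finite E]
    (h : Cfsg.IsElementary p E) (T : Subgroup E) : Cfsg.IsElementary p T := by
  obtain ⟨x, hx, hcop, k, hk⟩ := h
  let f : (Subgroup.zpowers x).subgroupOf T →* Subgroup.zpowers x :=
    { toFun := fun y => ⟨((y : T) : E), y.2⟩, map_one' := rfl, map_mul' := fun _ _ => rfl }
  have hf : Function.Injective f := fun a b e =>
    Subtype.ext (Subtype.ext (congrArg (fun z : Subgroup.zpowers x => (z : E)) e))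
  have := isCyclic_of_injective f hf
  obtain ⟨y, hy⟩ := IsCyclic.exists_generator (α := (Subgroup.zpowers x).subgroupOf T)
  have hgen : Subgroup.zpowers (y : T) = (Subgroup.zpowers x).subgroupOf T := by
    refine le_antisymm (Subgroup.zpowers_le.mpr y.2) fun z hz => ?_
    obtain ⟨i, hi⟩ := Subgroup.mem_zpowers_iff.mp (hy ⟨z, hz⟩)
    exact Subgroup.mem_zpowers_iff.mpr ⟨i, congrArg Subtype.val hi⟩
  have hnorm : (Subgroup.zpowers x).Normal := ⟨fun w hw g => by
    rw [Subgroup.mem_center_iff.mp (Subgroup.zpowers_le.mpr hx hw) g, mul_inv_cancel_right]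
    exact hw⟩
  refine ⟨y, Subgroup.mem_center_iff.mpr fun t => Subtype.ext ?_, ?_, ?_⟩
  · exact Subgroup.mem_center_iff.mp (Subgroup.zpowers_le.mpr hx y.2) t
  · rw [← Subgroup.orderOf_coe]
    refine Nat.Coprime.coprime_dvd_left ?_ hcop
    rw [← Nat.card_zpowers x]
    exact Subgroup.orderOf_dvd_natCard _ y.2
  · rw [hgen]
    obtain ⟨j, -, hj⟩ := (Nat.dvd_prime_pow hp).mp
      (hk ▸ Subgroup.relIndex_dvd_index_of_normal (Subgroup.zpowers x) T)
    exact ⟨j, hj⟩

theorem isElementary_of_mulEquiv {p : ℕ} {E F : Type*} [Group E] [Group F] (e : E ≃* F)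
    (h : Cfsg.IsElementary p E) : Cfsg.IsElementary p F := by
  obtain ⟨x, hx, hcop, k, hk⟩ := h
  refine ⟨e x, Subgroup.mem_center_iff.mpr fun y => ?_, by rwa [MulEquiv.orderOf_eq], k, ?_⟩
  · rw [← e.apply_symm_apply y, ← map_mul, ← map_mul, Subgroup.mem_center_iff.mp hx]
  · rw [show Subgroup.zpowers (e x) = (Subgroup.zpowers x).map (e : E →* F) from
      (MonoidHom.map_zpowers (e : E →* F) x).symm, Subgroup.index_map_equiv, hk]

theorem isNilpotent_of_isElementary {p : ℕ} (hp : p.Prime) {E : Type*} [Group E] [Finite E]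
    (h : Cfsg.IsElementary p E) : Group.IsNilpotent E := by
  obtain ⟨x, hx, -, k, hk⟩ := h
  have : Fact p.Prime := ⟨hp⟩
  have hle : Subgroup.zpowers x ≤ Subgroup.center E := Subgroup.zpowers_le.mpr hx
  have hnorm : (Subgroup.zpowers x).Normal := ⟨fun w hw g => by
    rw [Subgroup.mem_center_iff.mp (hle hw) g, mul_inv_cancel_right]
    exact hw⟩
  have : Group.IsNilpotent (E ⧸ Subgroup.zpowers x) :=
    (IsPGroup.of_card (n := k) (by rw [← Subgroup.index, hk])).isNilpotent
  exact Subgroup.isNilpotent_of_ker_le_center (QuotientGroup.mk' (Subgroup.zpowers x))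
    (by rw [QuotientGroup.ker_mk']; exact hle)

/-- The span of the functions induced from characters of `p`-elementary subgroups. -/
def elemSpan (p : ℕ) (G : Type*) [Group G] [Fintype G] : AddSubgroup (G → ℂ) :=
  AddSubgroup.closure {f | ∃ (E : Subgroup G) (ψ : E → ℂ), Cfsg.IsElementary p E ∧
    Cfsg.IsCharacter E ψ ∧ f = Cfsg.indFun E ψ}

section

variable {p : ℕ} {G : Type*} [Group G] [Fintype G]

theorem indFun_mem_elemSpan (T : Subgroup G) [Fintype T] {f : T → ℂ} (hf : f ∈ elemSpan p T) :
    Cfsg.indFun T f ∈ elemSpan p G := by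
  have hle : elemSpan p T ≤ (elemSpan p G).comap (indₗ T).toAddMonoidHom := by
    rw [elemSpan, AddSubgroup.closure_le]
    rintro _ ⟨E', ψ, hE, hψ, rfl⟩
    obtain ⟨E, hET, rfl⟩ : ∃ E : Subgroup G, E ≤ T ∧ E.subgroupOf T = E' :=
      ⟨E'.map T.subtype, Subgroup.map_subtype_le E',
        Subgroup.comap_map_eq_self_of_injective T.subtype_injective E'⟩
    let e := Subgroup.subgroupOfEquivOfLe hET
    show Cfsg.indFun T (Cfsg.indFun (E.subgroupOf T) ψ) ∈ elemSpan p G
    refine AddSubgroup.subset_closure ⟨E, ψ ∘ e.symm, isElementary_of_mulEquiv e hE,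
      isCharacter_comp hψ e.symm.toMonoidHom, ?_⟩
    rw [← indFun_trans E hET (ψ ∘ e.symm)]
    rfl
  exact hle hf

theorem mul_char_mem_elemSpan {f χ : G → ℂ} (hf : f ∈ elemSpan p G)
    (hχ : Cfsg.IsCharacter G χ) : f * χ ∈ elemSpan p G := by
  have hle : elemSpan p G ≤ (elemSpan p G).comap (AddMonoidHom.mulRight χ) := by
    rw [elemSpan, AddSubgroup.closure_le]
    rintro _ ⟨E, ψ, hE, hψ, rfl⟩
    exact AddSubgroup.subset_closure ⟨E, _, hE, isCharacter_mul hψ (isCharacter_res E hχ),
      indFun_mul E ψ (isClassFunction_of_isCharacter hχ)⟩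
  exact hle hf

end

/-- A `p`-hyperelementary group has `1` in the elementary span. -/
theorem one_mem_elemSpan_aux {p : ℕ} (hp : p.Prime) : ∀ n : ℕ, ∀ (H : Type u) [Group H] [Fintype H],
    Nat.card H = n → IsHyperelementary p H → (fun _ => (1 : ℂ)) ∈ elemSpan p H := by
  intro n
  induction n using Nat.strong_induction_on with
  | _ n ih =>
  intro H _ _ hn hH
  classical
  have : Fact p.Prime := ⟨hp⟩
  obtain ⟨C, hCn, hcyc, hcop, k, hk⟩ := id hH
  let P : Sylow p H := default
  have hCP : C ⊔ (P : Subgroup H) = ⊤ := by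
    rw [← Subgroup.index_eq_one]
    have h1 := hk ▸ Subgroup.index_dvd_of_le (le_sup_left : C ≤ C ⊔ (P : Subgroup H))
    obtain ⟨j, -, hj⟩ := (Nat.dvd_prime_pow hp).mp h1
    rcases Nat.eq_zero_or_pos j with rfl | hj0
    · simpa using hj
    · exact absurd ((dvd_pow_self p hj0.ne').trans (hj ▸
        Subgroup.index_dvd_of_le (le_sup_right : (P : Subgroup H) ≤ C ⊔ (P : Subgroup H))))
        P.not_dvd_index
  have hCc : ∀ a ∈ C, ∀ b ∈ C, a * b = b * a := fun a ha b hb =>
    congrArg Subtype.val (IsCyclic.isMulCommutative.is_comm.comm (⟨a, ha⟩ : C) ⟨b, hb⟩)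
  have hdec : ∀ g : H, ∃ c ∈ C, ∃ y ∈ (P : Subgroup H), c * y = g := fun g => by
    have : g ∈ C ⊔ (P : Subgroup H) := hCP ▸ Subgroup.mem_top g
    rwa [Subgroup.mem_sup_of_normal_left] at this
  set Z : Subgroup H := C ⊓ Subgroup.centralizer ((P : Subgroup H) : Set H) with hZ
  have hZc : ∀ z ∈ Z, ∀ g : H, g * z = z * g := by
    intro z hz g
    obtain ⟨c, hc, y, hy, rfl⟩ := hdec g
    have h1 := hCc c hc z hz.1
    have h2 : y * z = z * y := Subgroup.mem_centralizer_iff.mp hz.2 y hy
    rw [mul_assoc, h2, ← mul_assoc, h1, mul_assoc]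
  have hZn : Z.Normal := ⟨fun z hz g => by rw [hZc z hz g, mul_inv_cancel_right]; exact hz⟩
  set E : Subgroup H := Z ⊔ (P : Subgroup H) with hE
  have hZE : Z ≤ E := le_sup_left
  have hEel : Cfsg.IsElementary p E := by
    have : IsCyclic Z := Subgroup.isCyclic_of_le (inf_le_left : Z ≤ C)
    obtain ⟨z, hz⟩ := IsCyclic.exists_generator (α := Z)
    have hgen : Subgroup.zpowers (⟨(z : H), hZE z.2⟩ : E) = Z.subgroupOf E := by
      refine le_antisymm (Subgroup.zpowers_le.mpr (Subgroup.mem_subgroupOf.mpr z.2)) fun w hw => ?_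
      obtain ⟨i, hi⟩ := Subgroup.mem_zpowers_iff.mp (hz ⟨w, hw⟩)
      exact Subgroup.mem_zpowers_iff.mpr ⟨i, Subtype.ext (congrArg (fun v : Z => (v : H)) hi)⟩
    refine ⟨⟨z, hZE z.2⟩, Subgroup.mem_center_iff.mpr fun g => Subtype.ext (hZc z z.2 g), ?_, ?_⟩
    · rw [Subgroup.orderOf_mk]
      exact Nat.Coprime.coprime_dvd_left (Subgroup.orderOf_dvd_natCard C z.2.1) hcop
    · obtain ⟨j, hj⟩ := IsPGroup.iff_card.mp P.2
      have hd : (Z.subgroupOf E).index ∣ p ^ j := by
        rw [← Subgroup.relIndex, hE, sup_comm, Subgroup.relIndex_sup_right, ← hj]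
        exact Subgroup.relIndex_dvd_card _ _
      obtain ⟨i, -, hi⟩ := (Nat.dvd_prime_pow hp).mp hd
      exact ⟨i, by rw [hgen, hi]⟩
  have := Fintype.ofFinite E
  have := Fintype.ofFinite C
  have := Fintype.ofFinite Z
  have hmem : Cfsg.indFun E (fun _ => 1) ∈ elemSpan p H :=
    AddSubgroup.subset_closure ⟨E, _, hEel, isCharacter_one, rfl⟩
  obtain ⟨a, ha, hai⟩ := char_decomp (isCharacter_indFun E (isCharacter_one (G := E)))
  let o : Cfsg.IrrCharacter H := ⟨fun _ => 1, isIrrCharacter_one⟩
  have hao : a o = 1 := by exact_mod_cast (hai o).symm.trans (classInner_indFun_one_one E)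
  have hother : ∀ χ : Cfsg.IrrCharacter H, χ ≠ o → a χ ≠ 0 → (χ : H → ℂ) ∈ elemSpan p H := by
    intro χ hne hax
    -- every constituent other than `1` is induced from a proper subgroup
    have hrc := frobenius_reciprocity E (fun _ => 1) (isClassFunction_of_isIrr χ.2)
    rw [hai χ] at hrc
    have hZker : ∀ z ∈ Z, (χ : H → ℂ) z = (χ : H → ℂ) 1 := by
      obtain ⟨b, hb, hbi⟩ := char_decomp (isCharacter_res E (isCharacter_of_isIrr χ.2))
      intro z hz
      refine res_eq_degree_of_constituent_one (N := Z) χ.2 ?_ z hz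
      intro h0
      have hZres : Cfsg.classInner (fun w : Z => (χ : H → ℂ) w) (fun _ => 1) =
          ∑ θ : Cfsg.IrrCharacter E, (b θ : ℂ) *
            Cfsg.classInner (fun w : Z => (θ : E → ℂ) ⟨w, hZE w.2⟩) (fun _ => 1) := by
        have : (fun w : Z => (χ : H → ℂ) w) =
            ∑ θ : Cfsg.IrrCharacter E, (b θ : ℂ) • fun w : Z => (θ : E → ℂ) ⟨w, hZE w.2⟩ :=
          funext fun w => by simpa [Finset.sum_apply] using congrFun hb ⟨w, hZE w.2⟩
        rw [this, classInner_sum_left]
        exact Finset.sum_congr rfl fun θ _ => classInner_smul_left _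
      choose t ht using fun θ : Cfsg.IrrCharacter E => classInner_char_nat
        (isCharacter_comp (isCharacter_of_isIrr θ.2) (Subgroup.inclusion hZE))
        (isCharacter_one (G := Z))
      have ht' : ∀ θ : Cfsg.IrrCharacter E,
          Cfsg.classInner (fun w : Z => (θ : E → ℂ) ⟨w, hZE w.2⟩) (fun _ => 1) = t θ := ht
      simp only [ht', h0] at hZres
      have hsum : ∑ θ, b θ * t θ = 0 := by exact_mod_cast hZres.symm
      let o' : Cfsg.IrrCharacter E := ⟨fun _ => 1, isIrrCharacter_one⟩
      have hto : t o' = 1 := by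
        exact_mod_cast (ht' o').symm.trans (classInner_irr_self isIrrCharacter_one)
      have hbo : b o' = a χ := by
        have h1 := hbi o'
        rw [← classInner_conj_symm, ← hrc, map_natCast] at h1
        exact_mod_cast h1.symm
      have := Finset.sum_eq_zero_iff.mp hsum o' (Finset.mem_univ _)
      rw [hto, mul_one, hbo] at this
      exact hax this
    obtain ⟨θ, hθ, hθ0⟩ := exists_constituent (isCharacter_res C (isCharacter_of_isIrr χ.2))
      (fun h => irr_one_ne_zero χ.2 (by simpa using congrFun h 1))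
    have := Fintype.ofFinite (inertia C θ)
    have hT : inertia C θ ≠ ⊤ := by
      intro htop
      have hinv : ∀ g : H, conjFun C g θ = θ := fun g =>
        (mem_inertia C).mp (htop ▸ Subgroup.mem_top g)
      have hres := res_eq_smul_of_invariant C χ.2 hθ hinv hθ0
      have hθ1 : θ 1 = 1 := irr_one_eq_one_of_comm
        (fun x y => Subtype.ext (hCc x x.2 y y.2)) hθ
      have hχ1 := congrFun hres 1
      simp only [Pi.smul_apply, smul_eq_mul, hθ1, mul_one, Subgroup.coe_one] at hχ1
      have hlam : linearHom (isCharacter_of_isIrr hθ) hθ1 = 1 := by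
        refine eq_one_of_invariant_linear p C P P.2 hcop _
          (fun g _ c => Units.ext (congrFun (hinv g) c)) fun c hc => Units.ext ?_
        have e1 := congrFun hres c
        simp only [Pi.smul_apply, smul_eq_mul] at e1
        rw [hZker _ ⟨c.2, hc⟩, hχ1] at e1
        rw [linearHom_apply, Units.val_one]
        exact mul_left_cancel₀ hθ0 (e1.symm.trans (mul_one _).symm)
      have hker : ∀ c ∈ C, (χ : H → ℂ) c = (χ : H → ℂ) 1 := by
        intro c hc
        have e1 := congrFun hres ⟨c, hc⟩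
        have h2 : θ ⟨c, hc⟩ = 1 := by
          rw [← linearHom_apply (isCharacter_of_isIrr hθ) hθ1, hlam]; rfl
        simp only [Pi.smul_apply, smul_eq_mul, h2, mul_one] at e1
        rw [e1, hχ1]
      obtain ⟨β, hβ, hβe⟩ := exists_irr_eq_comp_mk' C χ.2 hker
      have := Fintype.ofFinite (H ⧸ C)
      let f : E →* H ⧸ C := (QuotientGroup.mk' C).comp E.subtype
      have hf : Function.Surjective f := fun q => by
        obtain ⟨g, rfl⟩ := QuotientGroup.mk_surjective q
        obtain ⟨c, hc, y, hy, rfl⟩ := hdec g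
        refine ⟨⟨y, (le_sup_right : (P : Subgroup H) ≤ E) hy⟩, ?_⟩
        show (y : H ⧸ C) = ((c * y : H) : H ⧸ C)
        rw [QuotientGroup.eq]
        simpa [mul_assoc] using hCn.conj_mem' c hc y
      have hsum0 : ∑ q : H ⧸ C, β q ≠ 0 := by
        intro h0
        apply hax
        have h1 : Cfsg.classInner (fun e : E => (χ : H → ℂ) e) (fun _ => 1) = 0 := by
          rw [classInner_def]
          have : ∑ e : E, (χ : H → ℂ) e * conj (1 : ℂ) =
              ∑ q : H ⧸ C, (Nat.card f.ker : ℂ) * β q := by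
            rw [← Finset.sum_fiberwise Finset.univ f (fun e : E => (χ : H → ℂ) e * conj (1 : ℂ))]
            refine Finset.sum_congr rfl fun q _ => ?_
            rw [Finset.sum_congr rfl (g := fun _ => β q) fun e he => by
              rw [map_one, mul_one, ← hβe, ← (Finset.mem_filter.mp he).2]; rfl,
              Finset.sum_const, nsmul_eq_mul, ← Fintype.card_subtype, ← Nat.card_eq_fintype_card]
            obtain ⟨e₀, rfl⟩ := hf q
            congr 2
            exact Nat.card_congr ((Equiv.mulLeft e₀⁻¹).subtypeEquiv fun e => by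
              rw [Equiv.coe_mulLeft, MonoidHom.mem_ker, map_mul, map_inv, inv_mul_eq_one, eq_comm])
          rw [this, ← Finset.mul_sum, h0, mul_zero, mul_zero]
        rw [← classInner_conj_symm, h1, map_zero] at hrc
        exact_mod_cast hrc
      have hβ1 : β = fun _ => 1 := by
        by_contra hb
        have := classInner_irr_ne hβ isIrrCharacter_one hb
        simp only [classInner_def, map_one, mul_one, mul_eq_zero, inv_eq_zero,
          Nat.cast_eq_zero, Nat.card_pos.ne', false_or] at this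
        exact hsum0 this
      exact hne (Subtype.ext (by rw [← hβe, hβ1]; rfl))
    obtain ⟨ψ, hψ, hind, -⟩ := clifford_correspondence C hθ (inertia C θ)
      (fun g => mem_inertia C) (le_inertia C (isClassFunction_of_isIrr hθ)) χ.2 hθ0
    have hlt : Nat.card (inertia C θ) < n := by
      rw [← hn, ← Nat.card_congr (Subgroup.topEquiv (G := H)).toEquiv]
      exact Set.Finite.card_lt_card (Set.toFinite _)
        (SetLike.coe_ssubset_coe.mpr (lt_top_iff_ne_top.mpr hT))
    have h1 := mul_char_mem_elemSpan (ih _ hlt (inertia C θ) rfl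
      (isHyperelementary_subgroup hp hH _)) (isCharacter_of_isIrr hψ)
    rw [← hind]
    refine indFun_mem_elemSpan _ ?_
    rwa [show ((fun _ => (1 : ℂ)) * ψ : inertia C θ → ℂ) = ψ from funext fun y => one_mul _] at h1
  rw [ha, ← Finset.add_sum_erase _ _ (Finset.mem_univ o), hao, Nat.cast_one, one_smul] at hmem
  refine (AddSubgroup.add_mem_cancel_right _ (AddSubgroup.sum_mem _ fun χ hχ => ?_)).mp hmem
  rcases eq_or_ne (a χ) 0 with h | h
  · rw [h, Nat.cast_zero, zero_smul]; exact AddSubgroup.zero_mem _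
  · rw [Nat.cast_smul_eq_nsmul ℂ]
    exact AddSubgroup.nsmul_mem _ (hother χ (Finset.ne_of_mem_erase hχ) h) _

theorem one_mem_elemSpan {p : ℕ} (hp : p.Prime) {H : Type*} [Group H] [Fintype H]
    (hH : IsHyperelementary p H) : (fun _ => (1 : ℂ)) ∈ elemSpan p H :=
  one_mem_elemSpan_aux hp _ H rfl hH

variable {G : Type*} [Group G] [Fintype G]

/-- An integer constant prime to `p` in the elementary span. -/
theorem exists_const_mem_elemSpan {p : ℕ} (hp : p.Prime) :
    ∃ m : ℤ, ¬ (p : ℤ) ∣ m ∧ (fun _ : G => (m : ℂ)) ∈ elemSpan p G := by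
  classical
  have := Fintype.ofFinite (Subgroup G)
  obtain ⟨m, a, hm, ha, he⟩ := exists_hyp_combination (G := G) hp
  refine ⟨m, hm, ?_⟩
  rw [he]
  refine AddSubgroup.sum_mem _ fun H _ => ?_
  rcases eq_or_ne (a H) 0 with h | h
  · rw [h, Int.cast_zero, zero_smul]; exact AddSubgroup.zero_mem _
  · have := Fintype.ofFinite H
    rw [Int.cast_smul_eq_zsmul ℂ]
    exact AddSubgroup.zsmul_mem _ (indFun_mem_elemSpan H (one_mem_elemSpan hp (ha H h))) _

/-- The span of the functions induced from linear characters of elementary subgroups. -/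
def linSpan (G : Type*) [Group G] [Fintype G] : AddSubgroup (G → ℂ) :=
  AddSubgroup.closure {f | ∃ (E : Subgroup G) (lam : E →* ℂˣ),
    (∃ p : ℕ, p.Prime ∧ Cfsg.IsElementary p E) ∧ f = Cfsg.indFun E (fun e => (lam e : ℂ))}

theorem elemSpan_le_linSpan {p : ℕ} (hp : p.Prime) : elemSpan p G ≤ linSpan G := by
  classical
  rw [elemSpan, AddSubgroup.closure_le]
  rintro _ ⟨E, ψ, hE, hψ, rfl⟩
  have := Fintype.ofFinite E
  obtain ⟨m, hm, -⟩ := char_decomp hψ
  rw [hm, indFun_sum, SetLike.mem_coe]
  refine AddSubgroup.sum_mem _ fun χ _ => ?_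
  rw [indFun_smul, Nat.cast_smul_eq_nsmul ℂ]
  refine AddSubgroup.nsmul_mem _ ?_ _
  have := isNilpotent_of_isElementary hp hE
  obtain ⟨T', lam, he⟩ := Cfsg.Agent.S0176.result (χ : E → ℂ) χ.2
  obtain ⟨T, hTE, rfl⟩ : ∃ T : Subgroup G, T ≤ E ∧ T.subgroupOf E = T' :=
    ⟨T'.map E.subtype, Subgroup.map_subtype_le T',
      Subgroup.comap_map_eq_self_of_injective E.subtype_injective T'⟩
  let e := Subgroup.subgroupOfEquivOfLe hTE
  refine AddSubgroup.subset_closure ⟨T, lam.comp e.symm.toMonoidHom,
    ⟨p, hp, isElementary_of_mulEquiv e (isElementary_subgroup hp hE _)⟩, ?_⟩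
  rw [he, ← indFun_trans T hTE]
  rfl

/-- Brauer's induction theorem: `1` is in the span. -/
theorem one_mem_linSpan : (fun _ : G => (1 : ℂ)) ∈ linSpan G := by
  let φ : ℤ →+ (G → ℂ) :=
    { toFun := fun m _ => (m : ℂ), map_zero' := by funext; simp, map_add' := fun a b => by funext; simp }
  obtain ⟨d, hd⟩ := Int.subgroup_cyclic ((linSpan G).comap φ)
  rw [← AddSubgroup.zmultiples_eq_closure] at hd
  have h1 : d.natAbs = 1 := by
    by_contra hne
    obtain ⟨p, hp, hpd⟩ := Nat.exists_prime_and_dvd hne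
    obtain ⟨m, hm, hmem⟩ := exists_const_mem_elemSpan (G := G) hp
    have : m ∈ (linSpan G).comap φ := elemSpan_le_linSpan hp hmem
    rw [hd, Int.mem_zmultiples_iff] at this
    exact hm ((Int.natCast_dvd.mpr hpd).trans this)
  have : (1 : ℤ) ∈ (linSpan G).comap φ := by
    rw [hd, Int.mem_zmultiples_iff]
    exact Int.natAbs_dvd.mp (by rw [h1]; norm_num)
  have h2 : φ 1 = fun _ : G => (1 : ℂ) := funext fun _ => Int.cast_one
  exact h2 ▸ this

/-- Brauer's induction theorem. -/
theorem brauer_induction {χ : G → ℂ} (hχ : Cfsg.IsGeneralizedCharacter G χ) : χ ∈ linSpan G := by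
  obtain ⟨a, b, ha, hb, rfl⟩ := hχ
  suffices h : ∀ c, Cfsg.IsCharacter G c → c ∈ linSpan G from
    AddSubgroup.sub_mem _ (h a ha) (h b hb)
  intro c hc
  have hle : linSpan G ≤ (linSpan G).comap (AddMonoidHom.mulRight c) := by
    conv_lhs => rw [linSpan]
    rw [AddSubgroup.closure_le]
    rintro _ ⟨E, lam, ⟨p, hp, hE⟩, rfl⟩
    exact elemSpan_le_linSpan hp (AddSubgroup.subset_closure ⟨E, _, hE,
      isCharacter_mul (isCharacter_of_isIrr (isIrrCharacter_units_hom lam)) (isCharacter_res E hc),
      indFun_mul E _ (isClassFunction_of_isCharacter hc)⟩)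
  have h := hle (one_mem_linSpan (G := G))
  simp only [AddSubgroup.mem_comap, AddMonoidHom.mulRight_apply] at h
  rwa [show (fun _ : G => (1 : ℂ)) * c = c from funext fun g => one_mul _] at h

/-- Brauer's characterisation of generalized characters. -/
theorem isGen_of_elementary {θ : G → ℂ} (hθ : Cfsg.IsClassFunction G θ)
    (hE : ∀ (E : Subgroup G) (p : ℕ), p.Prime → Cfsg.IsElementary p E →
      Cfsg.IsGeneralizedCharacter E (fun e : E => θ e)) :
    Cfsg.IsGeneralizedCharacter G θ := by
  let V : AddSubgroup (G → ℂ) :=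
    { carrier := {f | Cfsg.IsGeneralizedCharacter G (f * θ)}
      zero_mem' := by show Cfsg.IsGeneralizedCharacter G (0 * θ); rw [zero_mul]; exact isGen_zero
      add_mem' := fun {a b} ha hb => by
        show Cfsg.IsGeneralizedCharacter G ((a + b) * θ)
        rw [add_mul]; exact isGen_add ha hb
      neg_mem' := fun {a} ha => by
        show Cfsg.IsGeneralizedCharacter G ((-a) * θ)
        rw [neg_mul]; exact isGen_neg ha }
  have hle : linSpan G ≤ V := by
    rw [linSpan, AddSubgroup.closure_le]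
    rintro _ ⟨E, lam, ⟨p, hp, hEl⟩, rfl⟩
    have := Fintype.ofFinite E
    show Cfsg.IsGeneralizedCharacter G (Cfsg.indFun E _ * θ)
    rw [indFun_mul E _ hθ]
    exact isGen_indFun E (isGen_mul (isGen_of_irr (isIrrCharacter_units_hom lam)) (hE E p hp hEl))
  have h : Cfsg.IsGeneralizedCharacter G ((fun _ => 1) * θ) := hle one_mem_linSpan
  rwa [show (fun _ : G => (1 : ℂ)) * θ = θ from funext fun g => one_mul _] at h

end CfsgLib.Char
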