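import Cfsg.Agent.Lib.Char.Ortho

/-!
# The regular character; equivalence of representations with equal characters; linear characters
-/

namespace CfsgLib.Char

open Module
open scoped ComplexConjugate

variable {G : Type*} [Group G] [Fintype G]

theorem leftRegular_character (g : G) [Decidable (g = 1)] :
    (Representation.leftRegular ℂ G).character g = if g = 1 then (Nat.card G : ℂ) else 0 := by
  classical
  rw [Representation.character, LinearMap.trace_eq_matrix_trace ℂ (MonoidAlgebra.basis G ℂ)]
  simp only [Matrix.trace, Matrix.diag, LinearMap.toMatrix_apply]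
  split_ifs with hg
  · subst hg; simp [MonoidAlgebra.basis, MonoidAlgebra.coeffLinearEquiv]
  · refine Finset.sum_eq_zero fun i _ => ?_
    simp [MonoidAlgebra.basis, MonoidAlgebra.coeffLinearEquiv, hg]

/-- The regular character is `∑ χ(1) χ`. -/
theorem leftRegular_character_eq_sum :
    (Representation.leftRegular ℂ G).character =
      ∑ χ : Cfsg.IrrCharacter G, (χ : G → ℂ) 1 • (χ : G → ℂ) := by
  classical
  funext g
  rw [leftRegular_character, Finset.sum_apply, ← sum_degree_mul_apply g]
  simp

end CfsgLib.Char
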