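import Cfsg.Agent.Lib.Char.FrobeniusSchur
import Cfsg.Agent.Lib.Char.Integral
import Mathlib.LinearAlgebra.Matrix.PosDef
import Mathlib.Algebra.Polynomial.Roots

/-!
# Invariant forms and realisability over the reals
-/

namespace CfsgLib.Char

open scoped ComplexConjugate Matrix ComplexOrder

variable {G : Type*} [Group G] [Fintype G] {n : ℕ} (ρ : Representation ℂ G (Fin n → ℂ))

omit [Fintype G] in
theorem repMat_inv_mul (g : G) : repMat ρ g⁻¹ * repMat ρ g = 1 := by
  rw [← repMat_mul, inv_mul_cancel, repMat_one]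

omit [Fintype G] in
theorem repMat_mul_inv (g : G) : repMat ρ g * repMat ρ g⁻¹ = 1 := by
  rw [← repMat_mul, mul_inv_cancel, repMat_one]

omit [Fintype G] in
/-- A matrix commuting with an irreducible representation is scalar. -/
theorem exists_eq_smul_one_of_commute [ρ.IsIrreducible] (A : Matrix (Fin n) (Fin n) ℂ)
    (h : ∀ g, A * repMat ρ g = repMat ρ g * A) : ∃ c : ℂ, A = c • 1 := by
  obtain ⟨c, hc⟩ := exists_eq_smul_id ρ (Matrix.toLin' A) fun g => by
    rw [show ρ g = Matrix.toLin' (repMat ρ g) from (Matrix.toLin'_toMatrix' (ρ g)).symm,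
      ← Matrix.toLin'_mul, ← Matrix.toLin'_mul, h g]
  exact ⟨c, Matrix.toLin'.injective (by rw [hc, map_smul, Matrix.toLin'_one])⟩

omit [Fintype G] in
/-- An invariant form moves the transpose to the other side. -/
theorem form_mul_transpose {w : Matrix (Fin n) (Fin n) ℂ} (hw : ∀ g, formAct ρ g w = w) (g : G) :
    w * (repMat ρ g)ᵀ = repMat ρ g⁻¹ * w := by
  have h : repMat ρ g * w * (repMat ρ g)ᵀ = w := hw g
  conv_rhs => rw [← h]
  rw [← Matrix.mul_assoc, ← Matrix.mul_assoc, repMat_inv_mul, Matrix.one_mul]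

/-- The invariant forms `Xᵀ M X = M` of a real irreducible character. -/
theorem forms_of_real [ρ.IsIrreducible] (hreal : ∀ g, conj (ρ.character g) = ρ.character g) :
    (∃ M : Matrix (Fin n) (Fin n) ℂ, M ≠ 0 ∧ ∀ g, (repMat ρ g)ᵀ * M * repMat ρ g = M) ∧
      ∀ M : Matrix (Fin n) (Fin n) ℂ, (∀ g, (repMat ρ g)ᵀ * M * repMat ρ g = M) →
        Mᵀ = ((Nat.card G : ℂ)⁻¹ * ∑ s : G, ρ.character (s * s)) • M := by
  obtain ⟨w, hw0, hw, c, hc2, hν, hwt⟩ := exists_form ρ hreal
  have hu : IsUnit w.det := isUnit_iff_ne_zero.mpr (det_ne_zero_of_invariant ρ hw0 hw)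
  refine ⟨⟨w⁻¹, fun h => hw0 ?_, fun g => ?_⟩, fun M hM => ?_⟩
  · rw [← Matrix.nonsing_inv_nonsing_inv w hu, h, Matrix.inv_zero]
  · have h : w * ((repMat ρ g)ᵀ * w⁻¹ * repMat ρ g) = 1 := by
      rw [← Matrix.mul_assoc, ← Matrix.mul_assoc, form_mul_transpose ρ hw,
        Matrix.mul_nonsing_inv_cancel_right _ _ hu, repMat_inv_mul]
    exact (Matrix.inv_eq_right_inv h).symm
  · obtain ⟨a, ha⟩ := exists_eq_smul_one_of_commute ρ (w * M) fun g => by
      conv_lhs => rw [← hM g⁻¹]
      rw [← Matrix.mul_assoc, ← Matrix.mul_assoc, form_mul_transpose ρ hw, inv_inv,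
        Matrix.mul_assoc _ _ (repMat ρ g), repMat_inv_mul, Matrix.mul_one, Matrix.mul_assoc]
    have hMw : M = a • w⁻¹ := by
      rw [← Matrix.nonsing_inv_mul_cancel_left w M hu, ha, Matrix.mul_smul, Matrix.mul_one]
    have hwi : (w⁻¹)ᵀ = c • w⁻¹ := by
      rw [Matrix.transpose_nonsing_inv, hwt]
      refine Matrix.inv_eq_right_inv ?_
      rw [Matrix.smul_mul, Matrix.mul_smul, Matrix.mul_nonsing_inv _ hu, smul_smul, hc2, one_smul]
    rw [hν, hMw, Matrix.transpose_smul, hwi, smul_comm]

/-- Entrywise conjugation. -/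
abbrev mConj (A : Matrix (Fin n) (Fin n) ℂ) : Matrix (Fin n) (Fin n) ℂ :=
  A.map (starRingEnd ℂ)

theorem mConj_eq_transpose_conjTranspose (A : Matrix (Fin n) (Fin n) ℂ) : mConj A = Aᴴᵀ := by
  ext i j; simp [mConj]

theorem mConj_mul (A B : Matrix (Fin n) (Fin n) ℂ) : mConj (A * B) = mConj A * mConj B :=
  Matrix.map_mul

theorem mConj_mConj (A : Matrix (Fin n) (Fin n) ℂ) : mConj (mConj A) = A := by
  ext i j; simp [mConj]

theorem mConj_smul (z : ℂ) (A : Matrix (Fin n) (Fin n) ℂ) :
    mConj (z • A) = conj z • mConj A := by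
  ext i j; simp [mConj]

theorem mConj_one : mConj (1 : Matrix (Fin n) (Fin n) ℂ) = 1 :=
  Matrix.map_one _ (map_zero _) (map_one _)

theorem mConj_add (A B : Matrix (Fin n) (Fin n) ℂ) : mConj (A + B) = mConj A + mConj B := by
  ext i j; simp [mConj]

/-- Some combination of an antiinvolution and the identity is invertible. -/
theorem exists_isUnit_comb {A : Matrix (Fin n) (Fin n) ℂ} (hA : IsUnit A.det) :
    ∃ r : ℕ, IsUnit ((1 + Complex.I * r) • (1 : Matrix (Fin n) (Fin n) ℂ) +
      (1 - Complex.I * r) • A).det := by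
  set M₁ : Matrix (Fin n) (Fin n) ℂ := 1 + A with hM₁
  set M₂ : Matrix (Fin n) (Fin n) ℂ := Complex.I • (1 - A) with hM₂
  set q : Polynomial ℂ := (M₁.map Polynomial.C + (Polynomial.X : Polynomial ℂ) •
    M₂.map Polynomial.C).det with hq
  have hev : ∀ z : ℂ, q.eval z =
      ((1 + Complex.I * z) • (1 : Matrix (Fin n) (Fin n) ℂ) + (1 - Complex.I * z) • A).det := by
    intro z
    rw [hq, ← Polynomial.coe_evalRingHom, RingHom.map_det]
    congr 1
    ext i j
    simp [hM₁, hM₂, Matrix.one_apply]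
    split_ifs <;> simp <;> ring
  by_contra hcon
  push Not at hcon
  have hq0 : q = 0 := Polynomial.eq_zero_of_infinite_isRoot q <|
    Set.Infinite.mono (s := Set.range fun r : ℕ => (r : ℂ)) (by
      rintro _ ⟨r, rfl⟩
      have h := hcon r
      rw [isUnit_iff_ne_zero, not_not] at h
      show q.eval _ = 0
      rw [hev, h]) (Set.infinite_range_of_injective Nat.cast_injective)
  have h := hev Complex.I
  rw [hq0, Polynomial.eval_zero, Complex.I_mul_I] at h
  norm_num at h
  exact hA.ne_zero h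

/-- An irreducible representation with indicator one has a real form. -/
theorem exists_real_form [ρ.IsIrreducible]
    (hν : (Nat.card G : ℂ)⁻¹ * ∑ s : G, ρ.character (s * s) = 1) :
    ∃ R : G →* Matrix (Fin n) (Fin n) ℝ, ∀ g, ((R g).trace : ℂ) = ρ.character g := by
  classical
  have hreal : ∀ g, conj (ρ.character g) = ρ.character g := by
    by_contra h
    rw [fsIndicator_of_not_real ρ h] at hν
    exact zero_ne_one hν
  obtain ⟨w, hw0, hw, c, -, hc, hwt⟩ := exists_form ρ hreal
  rw [hν] at hc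
  rw [← hc, one_smul] at hwt
  -- a positive invariant Hermitian form
  set H : Matrix (Fin n) (Fin n) ℂ := ∑ g : G, (repMat ρ g)ᴴ * repMat ρ g with hH
  have hHg : ∀ g, H * repMat ρ g = (repMat ρ g⁻¹)ᴴ * H := by
    intro g
    rw [hH, Finset.sum_mul, Finset.mul_sum]
    refine Fintype.sum_equiv (Equiv.mulRight g) _ _ fun a => ?_
    rw [Equiv.coe_mulRight, repMat_mul, Matrix.conjTranspose_mul]
    simp only [← Matrix.mul_assoc]
    rw [← Matrix.conjTranspose_mul (repMat ρ g), repMat_mul_inv, Matrix.conjTranspose_one,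
      Matrix.one_mul]
  have hHpd : H.PosDef := by
    rw [hH, ← Finset.add_sum_erase _ _ (Finset.mem_univ (1 : G))]
    refine Matrix.PosDef.add_posSemidef ?_ ?_
    · rw [repMat_one, Matrix.conjTranspose_one, Matrix.one_mul]; exact Matrix.PosDef.one
    · exact Matrix.posSemidef_sum _ fun g _ => Matrix.posSemidef_conjTranspose_mul_self _
  set J : Matrix (Fin n) (Fin n) ℂ := w * mConj H with hJ
  have hJX : ∀ g, repMat ρ g * J = J * mConj (repMat ρ g) := by
    intro g
    rw [hJ, Matrix.mul_assoc w, ← mConj_mul, hHg, mConj_mul,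
      mConj_eq_transpose_conjTranspose (repMat ρ g⁻¹)ᴴ, Matrix.conjTranspose_conjTranspose,
      ← Matrix.mul_assoc, ← Matrix.mul_assoc, form_mul_transpose ρ hw, inv_inv]
  obtain ⟨lam, hlam⟩ := exists_eq_smul_one_of_commute ρ (J * mConj J) fun g => by
    calc J * mConj J * repMat ρ g = J * mConj (J * mConj (repMat ρ g)) := by
          rw [mConj_mul J, mConj_mConj (repMat ρ g), Matrix.mul_assoc]
      _ = J * mConj (repMat ρ g * J) := by rw [hJX]
      _ = repMat ρ g * (J * mConj J) := by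
          rw [mConj_mul (repMat ρ g) J, ← Matrix.mul_assoc, ← hJX, Matrix.mul_assoc]
  rcases Nat.eq_zero_or_pos n with hn | hn
  · exact absurd (Matrix.ext fun i => by subst hn; exact i.elim0) hw0
  -- positivity
  let v : Fin n → ℂ := Pi.single ⟨0, hn⟩ 1
  have hv : v ≠ 0 := by
    intro h
    simpa [v] using congrFun h ⟨0, hn⟩
  have hHT : Hᵀ = mConj H := by
    rw [mConj_eq_transpose_conjTranspose, hHpd.1.eq]
  have hpos := hHpd.dotProduct_mulVec_pos hv
  set u : Fin n → ℂ := J *ᵥ star v with hu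
  have hu0 : u ≠ 0 := by
    intro h
    have hdet : IsUnit J.det := by
      rw [hJ, Matrix.det_mul]
      refine (isUnit_iff_ne_zero.mpr (det_ne_zero_of_invariant ρ hw0 hw)).mul ?_
      rw [mConj_eq_transpose_conjTranspose, Matrix.det_transpose, hHpd.1.eq]
      exact (Matrix.isUnit_iff_isUnit_det H).mp hHpd.isUnit
    have h' := congrArg (fun a => J⁻¹ *ᵥ a) h
    simp only [hu, Matrix.mulVec_mulVec, Matrix.nonsing_inv_mul _ hdet, Matrix.one_mulVec,
      Matrix.mulVec_zero] at h'
    exact hv (star_eq_zero.mp h')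
  have hpos' := hHpd.dotProduct_mulVec_pos hu0
  have hkey : star u ⬝ᵥ (H *ᵥ u) = conj lam * (star v ⬝ᵥ (H *ᵥ v)) := by
    have hsu : star u = mConj J *ᵥ v := by
      funext i
      simp [hu, Matrix.mulVec, dotProduct, mConj, Matrix.map_apply]
    have hJb : mConj J = mConj w * H := by rw [hJ, mConj_mul, mConj_mConj]
    have hwb : (mConj w)ᵀ = mConj w := by
      ext i j
      simp only [mConj, Matrix.transpose_apply, Matrix.map_apply]
      exact congrArg _ (congrFun (congrFun hwt i) j)
    have hJJ : mConj J * J = conj lam • 1 := by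
      rw [← mConj_one, ← mConj_smul, ← hlam, mConj_mul J (mConj J), mConj_mConj J]
    calc star u ⬝ᵥ (H *ᵥ u) = (mConj w *ᵥ (H *ᵥ v)) ⬝ᵥ (H *ᵥ u) := by
          rw [hsu, hJb, ← Matrix.mulVec_mulVec]
      _ = (H *ᵥ v) ⬝ᵥ ((mConj w * H * J) *ᵥ star v) := by
          conv_lhs => rw [← hwb, Matrix.mulVec_transpose, ← Matrix.dotProduct_mulVec]
          rw [hu, Matrix.mulVec_mulVec, Matrix.mulVec_mulVec, Matrix.mul_assoc]
      _ = conj lam * (star v ⬝ᵥ (H *ᵥ v)) := by
          rw [← hJb, hJJ,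
            Matrix.smul_mulVec, Matrix.one_mulVec, dotProduct_smul, smul_eq_mul,
            dotProduct_comm (H *ᵥ v)]
  rw [Complex.lt_def] at hpos hpos'
  simp only [Complex.zero_re, Complex.zero_im] at hpos hpos'
  obtain ⟨a, ha0, ha⟩ : ∃ a : ℝ, 0 < a ∧ lam = (a : ℂ) := by
    have h1 := congrArg Complex.re hkey
    have h2 := congrArg Complex.im hkey
    rw [Complex.mul_re, Complex.conj_re, Complex.conj_im, ← hpos.2, mul_zero, sub_zero] at h1
    rw [Complex.mul_im, Complex.conj_re, Complex.conj_im, ← hpos.2, mul_zero, zero_add,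
      ← hpos'.2] at h2
    have him : lam.im = 0 := by
      rcases mul_eq_zero.mp h2.symm with h | h
      · linarith
      · exact absurd h hpos.1.ne'
    refine ⟨lam.re, ?_, Complex.ext (by simp) (by simp [him])⟩
    exact pos_of_mul_pos_left (h1 ▸ hpos'.1) hpos.1.le
  set s : ℝ := (Real.sqrt a)⁻¹ with hs
  set A : Matrix (Fin n) (Fin n) ℂ := (s : ℂ) • J with hA
  have hAA : A * mConj A = 1 := by
    rw [hA, mConj_smul, Complex.conj_ofReal, Matrix.smul_mul, Matrix.mul_smul, hlam, ha, smul_smul,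
      smul_smul, ← Complex.ofReal_mul, ← Complex.ofReal_mul, hs]
    rw [show (Real.sqrt a)⁻¹ * (Real.sqrt a)⁻¹ * a = 1 by
      rw [← mul_inv, Real.mul_self_sqrt ha0.le, inv_mul_cancel₀ ha0.ne'], Complex.ofReal_one,
      one_smul]
  have hAX : ∀ g, repMat ρ g * A = A * mConj (repMat ρ g) := fun g => by
    rw [hA, Matrix.mul_smul, Matrix.smul_mul, hJX]
  obtain ⟨r, hr⟩ := exists_isUnit_comb (A := A)
    (Matrix.isUnit_det_of_right_inverse hAA)
  set P := (1 + Complex.I * r) • (1 : Matrix (Fin n) (Fin n) ℂ) + (1 - Complex.I * r) • A with hP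
  have hAP : A * mConj P = P := by
    rw [hP, mConj_add, mConj_smul, mConj_smul, mConj_one, Matrix.mul_add, Matrix.mul_smul,
      Matrix.mul_smul, Matrix.mul_one, hAA]
    simp only [map_add, map_sub, map_mul, map_one, Complex.conj_I, map_natCast]
    rw [add_comm]
    ring_nf
  let Y : G → Matrix (Fin n) (Fin n) ℂ := fun g => P⁻¹ * repMat ρ g * P
  have hYc : ∀ g, mConj (Y g) = Y g := by
    intro g
    have h1 : mConj P * mConj P⁻¹ = 1 := by
      rw [← mConj_mul, Matrix.mul_nonsing_inv _ hr, mConj_one]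
    have h2 : P * mConj (Y g) = repMat ρ g * P := by
      simp only [Y, mConj_mul]
      calc P * (mConj P⁻¹ * mConj (repMat ρ g) * mConj P)
          = A * (mConj P * mConj P⁻¹) * mConj (repMat ρ g) * mConj P := by
            rw [← Matrix.mul_assoc, ← Matrix.mul_assoc, ← Matrix.mul_assoc A, hAP]
        _ = repMat ρ g * P := by
            rw [h1, Matrix.mul_one, ← hAX, Matrix.mul_assoc, hAP]
    calc mConj (Y g) = P⁻¹ * (P * mConj (Y g)) :=
          (Matrix.nonsing_inv_mul_cancel_left P _ hr).symm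
      _ = Y g := by rw [h2, ← Matrix.mul_assoc]
  let R : G → Matrix (Fin n) (Fin n) ℝ := fun g => (Y g).map Complex.re
  have hR : ∀ g, (R g).map Complex.ofRealHom = Y g := fun g => Matrix.ext fun i j => by
    have := congrFun (congrFun (hYc g) i) j
    simpa [R] using Complex.conj_eq_iff_re.mp this
  have hinj : Function.Injective fun A : Matrix (Fin n) (Fin n) ℝ => A.map Complex.ofRealHom :=
    Matrix.map_injective Complex.ofReal_injective
  refine ⟨{ toFun := R, map_one' := hinj ?_, map_mul' := fun g h => hinj ?_ }, fun g => ?_⟩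
  · show (R 1).map Complex.ofRealHom = (1 : Matrix (Fin n) (Fin n) ℝ).map Complex.ofRealHom
    rw [hR, Matrix.map_one _ (map_zero _) (map_one _)]
    simp [Y, repMat_one, Matrix.nonsing_inv_mul _ hr]
  · show (R (g * h)).map Complex.ofRealHom = (R g * R h).map Complex.ofRealHom
    rw [Matrix.map_mul, hR, hR, hR]
    simp only [Y, repMat_mul, Matrix.mul_assoc]
    rw [Matrix.mul_nonsing_inv_cancel_left _ _ hr]
  · show ((R g).trace : ℂ) = _
    rw [show ((R g).trace : ℂ) = ((R g).map Complex.ofRealHom).trace by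
      simp [Matrix.trace], hR]
    simp only [Y]
    rw [Matrix.trace_mul_cycle, Matrix.mul_nonsing_inv _ hr, Matrix.one_mul, trace_repMat]

/-- A character afforded by real matrices has indicator one. -/
theorem indicator_of_real_rep {χ : G → ℂ} (hχ : Cfsg.IsIrrCharacter G χ)
    (R : G →* Matrix (Fin n) (Fin n) ℝ) (hR : ∀ g, ((R g).trace : ℂ) = χ g) :
    (Nat.card G : ℂ)⁻¹ * ∑ s : G, χ (s * s) = 1 := by
  classical
  let σ : Representation ℂ G (Fin n → ℂ) :=
    (Matrix.toLinAlgEquiv' : Matrix (Fin n) (Fin n) ℂ ≃ₐ[ℂ] _).toAlgHom.toMonoidHom.comp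
      ((Complex.ofRealHom.mapMatrix).toMonoidHom.comp R)
  have hm : ∀ g, repMat σ g = (R g).map Complex.ofRealHom := fun g => by
    show LinearMap.toMatrix' (Matrix.toLin' ((R g).map Complex.ofRealHom)) = _
    rw [LinearMap.toMatrix'_toLin']
  have hσ : σ.character = χ := funext fun g => by
    rw [← trace_repMat, hm, ← hR]
    simp [Matrix.trace]
  subst hσ
  have : σ.IsIrreducible := isIrreducible_of_isIrrCharacter σ hχ
  have hn : 0 < n := by
    by_contra h
    obtain rfl : n = 0 := by omega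
    exact irr_one_ne_zero hχ (by rw [← hR]; simp [Matrix.trace])
  set M : Matrix (Fin n) (Fin n) ℝ := ∑ g : G, (R g)ᵀ * R g with hM
  have hMinv : ∀ g, (R g)ᵀ * M * R g = M := fun g => by
    rw [hM, Finset.mul_sum, Finset.sum_mul]
    refine Fintype.sum_equiv (Equiv.mulRight g) _ _ fun a => ?_
    rw [Equiv.coe_mulRight, map_mul, Matrix.transpose_mul]
    simp only [Matrix.mul_assoc]
  have hMt : Mᵀ = M := by simp [hM, Matrix.transpose_sum, Matrix.transpose_mul]
  have hM0 : M ≠ 0 := by
    intro h0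
    have h : (n : ℝ) ≤ M.trace := by
      rw [hM, Matrix.trace_sum, ← Finset.add_sum_erase _ _ (Finset.mem_univ (1 : G)), map_one,
        Matrix.transpose_one, Matrix.one_mul, Matrix.trace_one, Fintype.card_fin]
      refine le_add_of_nonneg_right (Finset.sum_nonneg fun g _ => ?_)
      simp only [Matrix.trace, Matrix.diag, Matrix.mul_apply, Matrix.transpose_apply]
      exact Finset.sum_nonneg fun i _ => Finset.sum_nonneg fun j _ => mul_self_nonneg _
    rw [h0, Matrix.trace_zero] at h
    have : (0 : ℝ) < n := by exact_mod_cast hn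
    linarith
  have hMC : ∀ g, (repMat σ g)ᵀ * M.map Complex.ofRealHom * repMat σ g =
      M.map Complex.ofRealHom := fun g => by
    rw [hm, ← Matrix.transpose_map, ← Matrix.map_mul, ← Matrix.map_mul, hMinv]
  have h := (forms_of_real σ (fun g => by rw [← hR, Complex.conj_ofReal])).2 _ hMC
  rw [← Matrix.transpose_map, hMt] at h
  obtain ⟨i, j, hij⟩ : ∃ i j, M i j ≠ 0 := by
    by_contra hc
    push Not at hc
    exact hM0 (Matrix.ext fun i j => hc i j)
  have h' := congrFun (congrFun h i) j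
  simp only [Matrix.map_apply, Matrix.smul_apply, smul_eq_mul] at h'
  refine mul_right_cancel₀ (b := Complex.ofRealHom (M i j)) ?_ (by rw [one_mul]; exact h'.symm)
  simpa using hij

end CfsgLib.Char
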