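import Cfsg.Agent.Lib.Char.PermLemma

/-!
# The Frobenius–Schur indicator

`fsIndicator_of_real`: for a real irreducible character the average of `χ (s * s)` is `1` or `-1`,
and `-1` only in even degree; `fsIndicator_of_not_real`: otherwise it is `0`.
-/

namespace CfsgLib.Char

open scoped ComplexConjugate Matrix

section

variable {G : Type*} [Group G] [Fintype G] {n : ℕ} (ρ : Representation ℂ G (Fin n → ℂ))

/-- The matrix of a group element. -/
noncomputable def repMat (g : G) : Matrix (Fin n) (Fin n) ℂ := LinearMap.toMatrix' (ρ g)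

omit [Fintype G] in
theorem repMat_mul (g h : G) : repMat ρ (g * h) = repMat ρ g * repMat ρ h := by
  rw [repMat, map_mul, Module.End.mul_eq_comp, LinearMap.toMatrix'_comp]; rfl

omit [Fintype G] in
theorem repMat_one : repMat ρ 1 = 1 := by
  rw [repMat, map_one]; exact LinearMap.toMatrix'_id

omit [Fintype G] in
theorem trace_repMat (g : G) : (repMat ρ g).trace = ρ.character g := by
  show _ = LinearMap.trace ℂ _ (ρ g)
  rw [LinearMap.trace_eq_matrix_trace ℂ (Pi.basisFun ℂ (Fin n)), LinearMap.toMatrix_eq_toMatrix']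
  rfl

/-- The action on bilinear forms. -/
noncomputable def formAct (g : G) :
    Matrix (Fin n) (Fin n) ℂ →ₗ[ℂ] Matrix (Fin n) (Fin n) ℂ where
  toFun X := repMat ρ g * X * (repMat ρ g)ᵀ
  map_add' X Y := by rw [Matrix.mul_add, Matrix.add_mul]
  map_smul' c X := by rw [Matrix.mul_smul, Matrix.smul_mul]; rfl

/-- Transposition of forms. -/
def formTranspose (n : ℕ) : Matrix (Fin n) (Fin n) ℂ →ₗ[ℂ] Matrix (Fin n) (Fin n) ℂ :=
  (Matrix.transposeLinearEquiv (Fin n) (Fin n) ℂ ℂ).toLinearMap

/-- The averaging projection onto the invariant forms. -/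
noncomputable def formAvg : Matrix (Fin n) (Fin n) ℂ →ₗ[ℂ] Matrix (Fin n) (Fin n) ℂ :=
  (Nat.card G : ℂ)⁻¹ • ∑ g : G, formAct ρ g

omit [Fintype G] in
theorem trace_matrixEnd (L : Matrix (Fin n) (Fin n) ℂ →ₗ[ℂ] Matrix (Fin n) (Fin n) ℂ) :
    LinearMap.trace ℂ _ L = ∑ i : Fin n, ∑ j : Fin n, L (Matrix.single i j 1) i j := by
  rw [LinearMap.trace_eq_matrix_trace ℂ (Matrix.stdBasis ℂ (Fin n) (Fin n)), Matrix.trace,
    Fintype.sum_prod_type]
  refine Finset.sum_congr rfl fun i _ => Finset.sum_congr rfl fun j _ => ?_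
  rw [Matrix.diag_apply, LinearMap.toMatrix_apply, Matrix.stdBasis_eq_single]
  rfl

omit [Fintype G] in
theorem trace_formAct (g : G) :
    LinearMap.trace ℂ _ (formAct ρ g) = ρ.character g * ρ.character g := by
  rw [trace_matrixEnd, ← trace_repMat, Matrix.trace, Finset.sum_mul_sum]
  refine Finset.sum_congr rfl fun i _ => Finset.sum_congr rfl fun j _ => ?_
  simp [formAct, Matrix.mul_apply, Matrix.single_apply, ite_and]

omit [Fintype G] in
theorem trace_formAct_comp_transpose (g : G) :
    LinearMap.trace ℂ _ (formAct ρ g ∘ₗ formTranspose n) = ρ.character (g * g) := by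
  rw [trace_matrixEnd, ← trace_repMat, repMat_mul, Matrix.trace]
  refine Finset.sum_congr rfl fun i _ => ?_
  rw [Matrix.diag_apply, Matrix.mul_apply]
  refine Finset.sum_congr rfl fun j _ => ?_
  simp [formAct, formTranspose, Matrix.transpose_single, Matrix.mul_apply, Matrix.single_apply,
    ite_and, mul_comm]

omit [Fintype G] in
theorem formAct_mul (g h : G) (X : Matrix (Fin n) (Fin n) ℂ) :
    formAct ρ (g * h) X = formAct ρ g (formAct ρ h X) := by
  simp [formAct, repMat_mul, Matrix.transpose_mul, Matrix.mul_assoc]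

theorem formAct_formAvg (h : G) (X : Matrix (Fin n) (Fin n) ℂ) :
    formAct ρ h (formAvg ρ X) = formAvg ρ X := by
  simp only [formAvg, LinearMap.smul_apply, LinearMap.sum_apply, map_smul, map_sum]
  congr 1
  exact Fintype.sum_equiv (Equiv.mulLeft h) _ _ fun g => (formAct_mul ρ h g X).symm

theorem formAvg_eq_self {X : Matrix (Fin n) (Fin n) ℂ} (h : ∀ g, formAct ρ g X = X) :
    formAvg ρ X = X := by
  simp only [formAvg, LinearMap.smul_apply, LinearMap.sum_apply, h, Finset.sum_const,
    Finset.card_univ, ← Nat.card_eq_fintype_card]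
  rw [← Nat.cast_smul_eq_nsmul ℂ, smul_smul, inv_mul_cancel₀ card_ne_zero', one_smul]

theorem isProj_formAvg : LinearMap.IsProj (LinearMap.range (formAvg ρ)) (formAvg ρ) :=
  ⟨fun x => LinearMap.mem_range_self _ x, fun x hx => by
    obtain ⟨y, rfl⟩ := hx
    exact formAvg_eq_self ρ fun g => formAct_formAvg ρ g y⟩

theorem trace_formAvg :
    (Module.finrank ℂ (LinearMap.range (formAvg ρ)) : ℂ) =
      Cfsg.classInner ρ.character (fun g => conj (ρ.character g)) := by
  rw [← (isProj_formAvg ρ).trace, formAvg, map_smul, map_sum, classInner_def, smul_eq_mul]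
  simp only [trace_formAct, Complex.conj_conj]

theorem trace_formAvg_comp_transpose :
    LinearMap.trace ℂ _ (formAvg ρ ∘ₗ formTranspose n) =
      (Nat.card G : ℂ)⁻¹ * ∑ s : G, ρ.character (s * s) := by
  have h : formAvg ρ ∘ₗ formTranspose n =
      (Nat.card G : ℂ)⁻¹ • ∑ g : G, formAct ρ g ∘ₗ formTranspose n := by
    refine LinearMap.ext fun X => ?_
    simp [formAvg, LinearMap.sum_apply]
  simp only [h, map_smul, map_sum, smul_eq_mul, trace_formAct_comp_transpose]

/-- A non-zero invariant form of an irreducible representation is non-degenerate. -/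
theorem det_ne_zero_of_invariant [ρ.IsIrreducible] {X : Matrix (Fin n) (Fin n) ℂ} (hX : X ≠ 0)
    (hinv : ∀ g, formAct ρ g X = X) : X.det ≠ 0 := by
  let U : Subrepresentation ρ :=
    { toSubmodule := LinearMap.range (Matrix.mulVecLin X)
      apply_mem_toSubmodule := by
        rintro g _ ⟨y, rfl⟩
        refine ⟨(repMat ρ g⁻¹)ᵀ *ᵥ y, ?_⟩
        have h : repMat ρ g * X = X * (repMat ρ g⁻¹)ᵀ := by
          have h1 : repMat ρ g * X * (repMat ρ g)ᵀ = X := hinv g
          conv_rhs => rw [← h1, Matrix.mul_assoc, ← Matrix.transpose_mul, ← repMat_mul,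
            inv_mul_cancel, repMat_one, Matrix.transpose_one, Matrix.mul_one]
        rw [Matrix.mulVecLin_apply, Matrix.mulVecLin_apply, Matrix.mulVec_mulVec, ← h,
          ← Matrix.mulVec_mulVec]
        exact LinearMap.toMatrix'_mulVec (ρ g) _ }
  have hne : U ≠ ⊥ := fun h => hX (by
    have h1 : LinearMap.range (Matrix.mulVecLin X) = ⊥ := congrArg Subrepresentation.toSubmodule h
    rw [LinearMap.range_eq_bot] at h1
    exact Matrix.ext_of_mulVec_single fun i => by
      rw [Matrix.zero_mulVec]
      exact LinearMap.congr_fun h1 (Pi.single i 1))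
  have htop : U = ⊤ := (eq_bot_or_eq_top U).resolve_left hne
  have h2 : LinearMap.range (Matrix.mulVecLin X) = ⊤ := congrArg Subrepresentation.toSubmodule htop
  have hsurj : Function.Surjective X.mulVec := LinearMap.range_eq_top.mp h2
  exact ((Matrix.isUnit_iff_isUnit_det X).mp (Matrix.mulVec_surjective_iff_isUnit.mp hsurj)).ne_zero

/-- A real character has a nonzero invariant form, transposed by the indicator. -/
theorem exists_form [ρ.IsIrreducible] (hreal : ∀ g, conj (ρ.character g) = ρ.character g) :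
    ∃ w : Matrix (Fin n) (Fin n) ℂ, w ≠ 0 ∧ (∀ g, formAct ρ g w = w) ∧ ∃ c : ℂ, c * c = 1 ∧
      (Nat.card G : ℂ)⁻¹ * ∑ s : G, ρ.character (s * s) = c ∧ wᵀ = c • w := by
  have hfun : (fun g => conj (ρ.character g)) = ρ.character := funext hreal
  have h1 := trace_formAvg ρ
  rw [hfun, classInner_irr_self (isIrrCharacter_char ρ)] at h1
  have hone : Module.finrank ℂ (LinearMap.range (formAvg ρ)) = 1 := by exact_mod_cast h1
  obtain ⟨⟨w, hw⟩, hw0, hspan⟩ := finrank_eq_one_iff'.mp hone
  have hwinv : ∀ g, formAct ρ g w = w := fun g => by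
    obtain ⟨y, rfl⟩ := hw; exact formAct_formAvg ρ g y
  have hw0' : w ≠ 0 := fun e => hw0 (Subtype.ext e)
  have htinv : ∀ g, formAct ρ g wᵀ = wᵀ := fun g => by
    have h := congrArg Matrix.transpose (hwinv g)
    simp only [formAct, LinearMap.coe_mk, AddHom.coe_mk, Matrix.transpose_mul,
      Matrix.transpose_transpose, Matrix.mul_assoc] at h ⊢
    exact h
  obtain ⟨c, hc⟩ := hspan ⟨wᵀ, ⟨_, formAvg_eq_self ρ htinv⟩⟩
  have hc' : c • w = wᵀ := congrArg Subtype.val hc
  have hc2 : c * c = 1 := by
    have h : wᵀᵀ = w := Matrix.transpose_transpose w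
    rw [← hc', Matrix.transpose_smul, ← hc', smul_smul] at h
    exact smul_left_injective ℂ hw0' (show (c * c) • w = (1 : ℂ) • w by rw [one_smul]; exact h)
  have hcomp : formAvg ρ ∘ₗ formTranspose n = c • formAvg ρ := by
    refine LinearMap.ext fun X => ?_
    obtain ⟨d, hd⟩ := hspan ⟨formAvg ρ X, LinearMap.mem_range_self _ X⟩
    have hd' : d • w = formAvg ρ X := congrArg Subtype.val hd
    have hswap : formAvg ρ (formTranspose n X) = formTranspose n (formAvg ρ X) := by
      simp [formAvg, formAct, formTranspose, Matrix.transpose_sum, Matrix.transpose_smul,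
        Matrix.transpose_mul, Matrix.mul_assoc]
    rw [LinearMap.comp_apply, hswap, LinearMap.smul_apply, ← hd', map_smul]
    show d • wᵀ = c • d • w
    rw [← hc', smul_smul, smul_smul, mul_comm]
  have hν := trace_formAvg_comp_transpose ρ
  rw [hcomp, map_smul, (isProj_formAvg ρ).trace, hone, smul_eq_mul, Nat.cast_one, mul_one] at hν
  exact ⟨w, hw0', hwinv, c, hc2, hν.symm, hc'.symm⟩

/-- The indicator of a real character is `1`, or `-1` in even degree. -/
theorem fsIndicator_of_real [ρ.IsIrreducible] (hreal : ∀ g, conj (ρ.character g) = ρ.character g) :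
    (Nat.card G : ℂ)⁻¹ * ∑ s : G, ρ.character (s * s) = 1 ∨
      ((Nat.card G : ℂ)⁻¹ * ∑ s : G, ρ.character (s * s) = -1 ∧ Even n) := by
  obtain ⟨w, hw0', hwinv, c, hc2, hν, hc'⟩ := exists_form ρ hreal
  rw [hν]
  rcases mul_self_eq_one_iff.mp hc2 with rfl | rfl
  · exact Or.inl rfl
  · refine Or.inr ⟨rfl, ?_⟩
    by_contra hodd
    refine det_ne_zero_of_invariant ρ hw0' hwinv ?_
    have h := Matrix.det_transpose w
    rw [hc', neg_one_smul, Matrix.det_neg, Fintype.card_fin,
      (Nat.not_even_iff_odd.mp hodd).neg_one_pow, neg_one_mul] at h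
    linear_combination (-1 / 2 : ℂ) * h

/-- The indicator of a non-real character is `0`. -/
theorem fsIndicator_of_not_real [ρ.IsIrreducible]
    (hreal : ¬ ∀ g, conj (ρ.character g) = ρ.character g) :
    (Nat.card G : ℂ)⁻¹ * ∑ s : G, ρ.character (s * s) = 0 := by
  have h1 := trace_formAvg ρ
  have hirr := isIrrCharacter_char ρ
  rw [classInner_irr_ne hirr
    (show Cfsg.IsIrrCharacter G (fun g => conj (ρ.character g)) from (irrConj ⟨_, hirr⟩).2)
    fun e => hreal fun g => (congrFun e g).symm] at h1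
  have hzero : Module.finrank ℂ (LinearMap.range (formAvg ρ)) = 0 := by exact_mod_cast h1
  rw [Submodule.finrank_eq_zero, LinearMap.range_eq_bot] at hzero
  rw [← trace_formAvg_comp_transpose, hzero, LinearMap.zero_comp, map_zero]

end

end CfsgLib.Char
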