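import Cfsg.Agent.Lib.Char.Induced
import Cfsg.Agent.Lib.Char.Linear
import Cfsg.Agent.Lib.CharNormal.Kernel

/-!
# Restriction and induction bookkeeping

* `isIrr_of_comp_isIrr`: a character with irreducible restriction is irreducible;
* `indFun_res_of_mul_eq_top`: Mackey for one double coset `G = K H`;
* `indFun_comap`: induction commutes with inflation;
* `indFun_map`: induction from a subgroup of a subgroup.
-/

namespace CfsgLib.Char

open scoped ComplexConjugate

variable {G : Type*} [Group G] [Fintype G]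

/-- A character with an irreducible restriction along a homomorphism is irreducible. -/
theorem isIrr_of_comp_isIrr {L : Type*} [Group L] [Fintype L] (f : L →* G) {χ : G → ℂ}
    (hχ : Cfsg.IsCharacter G χ) (hirr : Cfsg.IsIrrCharacter L (fun x => χ (f x))) :
    Cfsg.IsIrrCharacter G χ := by
  classical
  obtain ⟨m, hm, -⟩ := char_decomp hχ
  have hlin : Cfsg.classInner (fun x => χ (f x)) (fun x => χ (f x)) =
      ∑ ψ : Cfsg.IrrCharacter G, (m ψ : ℂ) *
        Cfsg.classInner (fun x => (ψ : G → ℂ) (f x)) (fun x => χ (f x)) := by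
    have : (fun x => χ (f x)) =
        ∑ ψ : Cfsg.IrrCharacter G, (m ψ : ℂ) • fun x => (ψ : G → ℂ) (f x) := by
      funext x
      simp [congrFun hm (f x)]
    conv_lhs => arg 1; rw [this]
    rw [classInner_sum_left]
    exact Finset.sum_congr rfl fun ψ _ => classInner_smul_left _
  rw [classInner_irr_self hirr] at hlin
  obtain ⟨ψ, -, hψ⟩ := Finset.exists_ne_zero_of_sum_ne_zero (hlin ▸ one_ne_zero :
    (∑ ψ : Cfsg.IrrCharacter G, (m ψ : ℂ) *
        Cfsg.classInner (fun x => (ψ : G → ℂ) (f x)) (fun x => χ (f x))) ≠ 0)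
  rw [mul_ne_zero_iff, Nat.cast_ne_zero] at hψ
  have hle := constituent_degree_le (isCharacter_comp (isCharacter_of_isIrr ψ.2) f) hirr hψ.2
  choose d hd0 hd using fun φ : Cfsg.IrrCharacter G => exists_degree_pos φ.2
  have hsum : ∑ φ : Cfsg.IrrCharacter G, m φ * d φ ≤ d ψ := by
    have h1 := congrFun hm 1
    simp only [Finset.sum_apply, Pi.smul_apply, smul_eq_mul, hd] at h1
    simp only [Function.comp_apply, map_one, hd] at hle
    rw [h1] at hle
    norm_cast at hle
  rw [← Finset.add_sum_erase _ _ (Finset.mem_univ ψ)] at hsum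
  have hm1 : m ψ = 1 := by
    have : m ψ * d ψ ≤ 1 * d ψ := by omega
    have := Nat.le_of_mul_le_mul_right this (hd0 ψ)
    have := Nat.pos_of_ne_zero hψ.1
    omega
  have hz : ∀ φ ≠ ψ, m φ = 0 := by
    intro φ hφ
    have h0 : ∑ φ ∈ Finset.univ.erase ψ, m φ * d φ = 0 := by rw [hm1] at hsum; omega
    have := (Finset.sum_eq_zero_iff.mp h0) φ (Finset.mem_erase.mpr ⟨hφ, Finset.mem_univ φ⟩)
    exact (mul_eq_zero.mp this).resolve_right (hd0 φ).ne'
  rw [hm, Finset.sum_eq_single ψ (fun φ _ hφ => by simp [hz φ hφ]) (by simp), hm1]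
  simpa using ψ.2

omit [Fintype G] in
/-- Intermediate restriction of a character with irreducible restriction. -/
theorem isIrr_res_mid [Finite G] {L C : Subgroup G} (hLC : L ≤ C) {χ : G → ℂ}
    (hχ : Cfsg.IsCharacter G χ) (hirr : Cfsg.IsIrrCharacter L (fun x : L => χ x)) :
    Cfsg.IsIrrCharacter C (fun x : C => χ x) := by
  have := Fintype.ofFinite C
  have := Fintype.ofFinite L
  exact isIrr_of_comp_isIrr (Subgroup.inclusion hLC) (isCharacter_res C hχ) hirr

/-- Mackey formula for one double coset. -/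
theorem indFun_res_of_mul_eq_top (H K : Subgroup G) [Fintype H] [Fintype K] {ϑ : H → ℂ}
    (hϑ : Cfsg.IsClassFunction H ϑ) (hHK : ∀ g : G, ∃ k ∈ K, ∃ h ∈ H, g = k * h) (y : K) :
    Cfsg.indFun H ϑ (y : G) =
      Cfsg.indFun (H.subgroupOf K) (fun a => ϑ ⟨((a : K) : G), Subgroup.mem_subgroupOf.mp a.2⟩) y := by
  classical
  have hext : ∀ k : K, Cfsg.extendByZero H ϑ ((k : G)⁻¹ * y * k) =
      Cfsg.extendByZero (H.subgroupOf K)
        (fun a => ϑ ⟨((a : K) : G), Subgroup.mem_subgroupOf.mp a.2⟩) (k⁻¹ * y * k) := by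
    intro k
    by_cases hk : (k : G)⁻¹ * y * k ∈ H
    · have hk' : k⁻¹ * y * k ∈ H.subgroupOf K := by simpa [Subgroup.mem_subgroupOf] using hk
      rw [extendByZero_of_mem _ hk, extendByZero_of_mem _ hk']
      rfl
    · have hk' : k⁻¹ * y * k ∉ H.subgroupOf K := by simpa [Subgroup.mem_subgroupOf] using hk
      rw [extendByZero_of_notMem _ hk, extendByZero_of_notMem _ hk']
  have hinvH : ∀ (h : H) (z : G), Cfsg.extendByZero H ϑ ((h : G)⁻¹ * z * h) =
      Cfsg.extendByZero H ϑ z := by
    intro h z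
    by_cases hz : z ∈ H
    · have : (h : G)⁻¹ * z * h ∈ H := H.mul_mem (H.mul_mem (H.inv_mem h.2) hz) h.2
      rw [extendByZero_of_mem _ hz, extendByZero_of_mem _ this]
      have e := hϑ ⟨z, hz⟩ h⁻¹
      simp only [inv_inv] at e
      exact (congrArg ϑ (Subtype.ext rfl)).trans e
    · have : (h : G)⁻¹ * z * h ∉ H := fun hh => hz (by
        simpa [mul_assoc] using H.mul_mem (H.mul_mem h.2 hh) (H.inv_mem h.2))
      rw [extendByZero_of_notMem _ hz, extendByZero_of_notMem _ this]
  set F : G → ℂ := fun x => Cfsg.extendByZero H ϑ (x⁻¹ * (y : G) * x) with hF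
  have h1 : ∑ p : K × H, F ((p.1 : G) * p.2) = (Nat.card H : ℂ) * ∑ k : K, F k := by
    rw [Fintype.sum_prod_type, Finset.mul_sum]
    refine Finset.sum_congr rfl fun k _ => ?_
    have : ∀ h : H, F ((k : G) * h) = F k := fun h => by
      simp only [hF]
      rw [← hinvH h ((k : G)⁻¹ * y * k)]
      congr 1
      group
    simp [this, Nat.card_eq_fintype_card]
  have h2 : ∑ p : K × H, F ((p.1 : G) * p.2) = (Nat.card (H.subgroupOf K) : ℂ) * ∑ g : G, F g := by
    rw [← Finset.sum_fiberwise Finset.univ (fun p : K × H => (p.1 : G) * p.2), Finset.mul_sum]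
    refine Finset.sum_congr rfl fun g _ => ?_
    have hcard : (Finset.univ.filter fun p : K × H => (p.1 : G) * p.2 = g).card =
        Nat.card (H.subgroupOf K) := by
      obtain ⟨k₀, hk₀, h₀, hh₀, rfl⟩ := hHK g
      rw [Nat.card_eq_fintype_card, ← Finset.card_univ]
      refine (Finset.card_bij (fun (a : H.subgroupOf K) _ =>
        ((⟨k₀, hk₀⟩ : K) * a, (⟨((a : K) : G), Subgroup.mem_subgroupOf.mp a.2⟩ : H)⁻¹ * ⟨h₀, hh₀⟩))
        ?_ ?_ ?_).symm
      · intro a _
        simp [mul_assoc]
      · intro a _ b _ e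
        exact Subtype.ext (mul_left_cancel (congrArg Prod.fst e))
      · rintro ⟨k, h⟩ hp
        simp only [Finset.mem_filter, Finset.mem_univ, true_and] at hp
        have hkey : k₀⁻¹ * (k : G) = h₀ * (h : G)⁻¹ := by
          rw [inv_mul_eq_iff_eq_mul, ← mul_assoc, eq_mul_inv_iff_mul_eq]
          exact hp
        refine ⟨⟨(⟨k₀, hk₀⟩ : K)⁻¹ * k, ?_⟩, Finset.mem_univ _, ?_⟩
        · rw [Subgroup.mem_subgroupOf, Subgroup.coe_mul, Subgroup.coe_inv]
          show k₀⁻¹ * (k : G) ∈ H
          rw [hkey]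
          exact H.mul_mem hh₀ (H.inv_mem h.2)
        · refine Prod.ext (mul_inv_cancel_left _ _) (Subtype.ext ?_)
          show (k₀⁻¹ * (k : G))⁻¹ * h₀ = h
          rw [hkey]
          group
    rw [Finset.sum_congr rfl (fun p hp => by rw [(Finset.mem_filter.mp hp).2] :
      ∀ p ∈ Finset.univ.filter (fun p : K × H => (p.1 : G) * p.2 = g), F ((p.1 : G) * p.2) = F g),
      Finset.sum_const, hcard, nsmul_eq_mul]
  have h3 : (Nat.card H : ℂ) * ∑ k : K, F k = (Nat.card (H.subgroupOf K) : ℂ) * ∑ g : G, F g :=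
    h1.symm.trans h2
  have : Fintype (H.subgroupOf K) := Fintype.ofFinite _
  rw [indFun_apply, indFun_apply, ← Finset.sum_congr rfl (fun k _ => hext k)]
  have hA := card_subgroup_ne_zero (H.subgroupOf K)
  have hB := card_subgroup_ne_zero H
  simp only [hF] at h3 ⊢
  field_simp
  linear_combination -h3

/-- Induction commutes with inflation. -/
theorem indFun_comap (K : Subgroup G) [K.Normal] [Fintype (G ⧸ K)] (U : Subgroup (G ⧸ K))
    (lam : U → ℂ) (g : G) :
    Cfsg.indFun (U.comap (QuotientGroup.mk' K))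
      (fun x => lam ⟨QuotientGroup.mk' K x, x.2⟩) g = Cfsg.indFun U lam (QuotientGroup.mk' K g) := by
  classical
  have : Fintype K := Fintype.ofFinite K
  have hext : ∀ x : G, Cfsg.extendByZero (U.comap (QuotientGroup.mk' K))
      (fun x => lam ⟨QuotientGroup.mk' K x, x.2⟩) (x⁻¹ * g * x) =
      (fun q : G ⧸ K => Cfsg.extendByZero U lam (q⁻¹ * QuotientGroup.mk' K g * q))
        (x : G ⧸ K) := by
    intro x
    have e : QuotientGroup.mk' K (x⁻¹ * g * x) =
        ((x : G ⧸ K))⁻¹ * QuotientGroup.mk' K g * (x : G ⧸ K) := by simp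
    show _ = Cfsg.extendByZero U lam (((x : G ⧸ K))⁻¹ * QuotientGroup.mk' K g * (x : G ⧸ K))
    rw [← e]
    by_cases hx : QuotientGroup.mk' K (x⁻¹ * g * x) ∈ U
    · rw [extendByZero_of_mem _ hx, extendByZero_of_mem _ (Subgroup.mem_comap.mpr hx)]
    · rw [extendByZero_of_notMem _ hx,
        extendByZero_of_notMem _ (mt Subgroup.mem_comap.mp hx)]
  rw [indFun_apply, indFun_apply, Finset.sum_congr rfl fun x _ => hext x,
    CfsgLib.CharNormal.sum_comp_mk' K
      (fun q : G ⧸ K => Cfsg.extendByZero U lam (q⁻¹ * QuotientGroup.mk' K g * q))]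
  have hc : Nat.card (U.comap (QuotientGroup.mk' K)) = Nat.card K * Nat.card U := by
    have h1 := (U.comap (QuotientGroup.mk' K)).card_mul_index
    rw [Subgroup.index_comap_of_surjective _ (QuotientGroup.mk'_surjective K)] at h1
    have h2 := K.card_mul_index
    rw [Subgroup.index_eq_card, ← U.card_mul_index, ← h1, ← mul_assoc] at h2
    exact (mul_right_cancel₀ Subgroup.index_ne_zero_of_finite h2).symm
  rw [hc, Nat.cast_mul, mul_inv, ← mul_assoc]
  have := card_subgroup_ne_zero K
  field_simp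

/-- Transitivity of induction for a subgroup of a subgroup. -/
theorem indFun_map (T : Subgroup G) [Fintype T] (U : Subgroup T) (lam : U → ℂ) :
    Cfsg.indFun (U.map T.subtype)
      (fun x => lam ((Subgroup.equivMapOfInjective U T.subtype T.subtype_injective).symm x)) =
      Cfsg.indFun T (Cfsg.indFun U lam) := by
  classical
  rw [← indFun_trans (U.map T.subtype) (K := T) (Subgroup.map_subtype_le U)]
  congr 1
  have hsub : (U.map T.subtype).subgroupOf T = U := Subgroup.comap_map_eq_self_of_injective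
    T.subtype_injective U
  funext y
  rw [indFun_apply, indFun_apply,
    show Nat.card ((U.map T.subtype).subgroupOf T) = Nat.card U by rw [hsub]]
  congr 1
  refine Finset.sum_congr rfl fun x _ => ?_
  by_cases hx : x⁻¹ * y * x ∈ U
  · have hx' : x⁻¹ * y * x ∈ (U.map T.subtype).subgroupOf T := hsub.symm ▸ hx
    rw [extendByZero_of_mem _ hx', extendByZero_of_mem _ hx]
    congr 1
    apply (Subgroup.equivMapOfInjective U T.subtype T.subtype_injective).injective
    simp only [MulEquiv.apply_symm_apply]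
    exact Subtype.ext rfl
  · have hx' : x⁻¹ * y * x ∉ (U.map T.subtype).subgroupOf T := hsub.symm ▸ hx
    rw [extendByZero_of_notMem _ hx', extendByZero_of_notMem _ hx]

end CfsgLib.Char
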