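import Cfsg.Agent.Lib.Char.Linear
import Cfsg.Agent.Lib.Char.Integral
import Cfsg.Agent.Lib.Char.Regular
import Cfsg.Agent.Lib.CharNormal.Galois
import Cfsg.Agent.Lib.CharNormal.Kernel
import Mathlib.LinearAlgebra.Lagrange
import Mathlib.Analysis.SpecialFunctions.Log.Basic
import Mathlib.Data.ZMod.Units

/-!
# Vanishing, tensor powers, small faithful degree, rationality
-/

namespace CfsgLib.Char

open scoped ComplexConjugate

variable {G : Type*} [Group G] [Fintype G]

/-- Burnside–Brauer: every irreducible character is in one of the first `m` tensor powers of a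
faithful character with `m` values. -/
theorem exists_pow_constituent {V : Type*} [AddCommGroup V] [Module ℂ V] [FiniteDimensional ℂ V]
    (ρ : Representation ℂ G V) (hf : Function.Injective ρ) {ψ : G → ℂ}
    (hψ : Cfsg.IsIrrCharacter G ψ) :
    ∃ i : ℕ, i < Nat.card (Set.range ρ.character) ∧
      Cfsg.classInner (fun g => ρ.character g ^ i) ψ ≠ 0 := by
  classical
  by_contra hall
  push Not at hall
  set S : Finset ℂ := Finset.univ.image ρ.character with hS
  have hcard : Nat.card (Set.range ρ.character) = S.card := by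
    rw [Nat.card_eq_fintype_card, ← Set.toFinset_card, Set.toFinset_range]
  rw [hcard] at hall
  set a := (Module.finrank ℂ V : ℂ) with ha
  have haS : a ∈ S := Finset.mem_image.mpr ⟨1, Finset.mem_univ _, by simp [a]⟩
  set P := Lagrange.basis S id a with hP
  have hdeg : P.natDegree < S.card := by
    rw [hP, Lagrange.natDegree_basis Function.injective_id.injOn haS]
    exact Nat.sub_lt (Finset.card_pos.mpr ⟨a, haS⟩) one_pos
  have h0 : ∑ g : G, P.eval (ρ.character g) * conj (ψ g) = 0 := by
    simp only [Polynomial.eval_eq_sum_range' hdeg, Finset.sum_mul]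
    rw [Finset.sum_comm]
    refine Finset.sum_eq_zero fun i hi => ?_
    simp only [mul_assoc, ← Finset.mul_sum]
    rw [← card_mul_classInner (fun g => ρ.character g ^ i), hall i (Finset.mem_range.mp hi),
      mul_zero, mul_zero]
  rw [Finset.sum_eq_single 1] at h0
  · rw [Representation.char_one, ← ha] at h0
    rw [show P.eval a = 1 from Lagrange.eval_basis_self (v := id) Function.injective_id.injOn haS,
      one_mul, char_conj_one (isCharacter_of_isIrr hψ)] at h0
    exact irr_one_ne_zero hψ h0
  · intro g _ hg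
    have hne : a ≠ ρ.character g := fun h => hg (hf (by
      rw [(character_eq_degree_iff ρ g).mp h.symm, map_one]; rfl))
    rw [show P.eval (ρ.character g) = 0 from Lagrange.eval_basis_of_ne (v := id) hne
      (Finset.mem_image.mpr ⟨g, Finset.mem_univ _, rfl⟩), zero_mul]
  · simp

omit [Fintype G] in
theorem sum_normSq_eq_card_centralizer [Finite G] (g : G) :
    ∑ χ : Cfsg.IrrCharacter G, Complex.normSq ((χ : G → ℂ) g) =
      Nat.card (Subgroup.centralizer ({g} : Set G)) := by
  classical
  have := Fintype.ofFinite G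
  have h := second_orthogonality g g
  rw [if_pos (IsConj.refl g)] at h
  simp only [Complex.mul_conj] at h
  exact_mod_cast h

/-- Characters not trivial on a normal subgroup vanish at elements centralising none of it. -/
theorem eq_zero_of_centralizer_inf_eq_bot (H : Subgroup G) [H.Normal] {χ : G → ℂ}
    (hχ : Cfsg.IsIrrCharacter G χ) (hker : ∃ h ∈ H, χ h ≠ χ 1) (g : G)
    (hg : ∀ h ∈ H, h * g = g * h → h = 1) : χ g = 0 := by
  classical
  let P : Cfsg.IrrCharacter G → Prop := fun ψ => ∀ n ∈ H, (ψ : G → ℂ) n = (ψ : G → ℂ) 1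
  have hsplit := Finset.sum_filter_add_sum_filter_not Finset.univ P
    (fun ψ => Complex.normSq ((ψ : G → ℂ) g))
  have hPsum : ∑ ψ ∈ Finset.univ.filter P, Complex.normSq ((ψ : G → ℂ) g) =
      Nat.card (Subgroup.centralizer ({(g : G ⧸ H)} : Set (G ⧸ H))) := by
    rw [Finset.sum_subtype (Finset.univ.filter P) (p := P) (by simp),
      ← sum_normSq_eq_card_centralizer (g : G ⧸ H)]
    exact (Fintype.sum_equiv (CfsgLib.CharNormal.inflEquiv H) _ _ fun ψ => by
      rw [CfsgLib.CharNormal.inflEquiv_apply]).symm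
  have hle : Nat.card (Subgroup.centralizer ({g} : Set G)) ≤
      Nat.card (Subgroup.centralizer ({(g : G ⧸ H)} : Set (G ⧸ H))) := by
    refine Nat.card_le_card_of_injective
      (fun x => ⟨((x : G) : G ⧸ H), Subgroup.mem_centralizer_singleton_iff.mpr (by
        rw [← QuotientGroup.mk_mul, ← QuotientGroup.mk_mul,
          Subgroup.mem_centralizer_singleton_iff.mp x.2])⟩) fun x y hxy => ?_
    have h1 : (x : G)⁻¹ * y ∈ H := QuotientGroup.eq.mp (congrArg Subtype.val hxy)
    have h2 : Commute ((x : G)⁻¹ * y) g :=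
      Subgroup.mem_centralizer_singleton_iff.mp (x⁻¹ * y).2
    exact Subtype.ext (inv_mul_eq_one.mp (hg _ h1 h2))
  rw [hPsum, sum_normSq_eq_card_centralizer] at hsplit
  have hz : ∑ ψ ∈ Finset.univ.filter (fun ψ => ¬ P ψ), Complex.normSq ((ψ : G → ℂ) g) = 0 := by
    have := Finset.sum_nonneg (s := Finset.univ.filter (fun ψ => ¬ P ψ))
      fun ψ _ => Complex.normSq_nonneg ((ψ : G → ℂ) g)
    have : (Nat.card (Subgroup.centralizer ({g} : Set G)) : ℝ) ≤
        Nat.card (Subgroup.centralizer ({(g : G ⧸ H)} : Set (G ⧸ H))) := by exact_mod_cast hle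
    linarith
  have hmem : (⟨χ, hχ⟩ : Cfsg.IrrCharacter G) ∈ Finset.univ.filter (fun ψ => ¬ P ψ) :=
    Finset.mem_filter.mpr ⟨Finset.mem_univ _, fun hP => by
      obtain ⟨h, hh, hne⟩ := hker
      exact hne (hP h hh)⟩
  exact Complex.normSq_eq_zero.mp
    ((Finset.sum_eq_zero_iff_of_nonneg fun ψ _ => Complex.normSq_nonneg _).mp hz _ hmem)

/-- A faithful representation of degree below every prime divisor has abelian image. -/
theorem comm_of_small_degree {V : Type*} [AddCommGroup V] [Module ℂ V] [FiniteDimensional ℂ V]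
    (ρ : Representation ℂ G V) (hf : Function.Injective ρ)
    (hdeg : ∀ p : ℕ, p.Prime → p ∣ Nat.card G → Module.finrank ℂ V < p) (a b : G) :
    a * b = b * a := by
  classical
  obtain ⟨m, hm, hmi⟩ := char_decomp (isCharacter_char ρ)
  have hlin : ∀ ψ : Cfsg.IrrCharacter G, m ψ ≠ 0 → (ψ : G → ℂ) 1 = 1 := by
    intro ψ hψ
    obtain ⟨d, hd0, hd⟩ := exists_degree_pos ψ.2
    have hdvd := degree_dvd_card ψ.2 hd
    have hle := constituent_degree_le (isCharacter_char ρ) ψ.2 (by
      rw [hmi ψ]; exact_mod_cast hψ)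
    rw [Representation.char_one, hd, Complex.natCast_re, Complex.natCast_re, Nat.cast_le] at hle
    by_cases h1 : d = 1
    · rw [hd, h1, Nat.cast_one]
    · obtain ⟨p, hp, hpd⟩ := Nat.exists_prime_and_dvd h1
      have := hdeg p hp (hpd.trans hdvd)
      have := Nat.le_of_dvd hd0 hpd
      omega
  have hval : ρ.character (a * b * a⁻¹ * b⁻¹) = ρ.character 1 := by
    rw [hm]
    simp only [Finset.sum_apply, Pi.smul_apply, smul_eq_mul]
    refine Finset.sum_congr rfl fun ψ _ => ?_
    by_cases hψ : m ψ = 0
    · simp [hψ]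
    · congr 1
      have hc := isCharacter_of_isIrr ψ.2
      let f := linearHom hc (hlin ψ hψ)
      show (f (a * b * a⁻¹ * b⁻¹) : ℂ) = (f 1 : ℂ)
      congr 1
      simp [mul_comm (f a) (f b)]
  rw [Representation.char_one] at hval
  have h1 : a * b * a⁻¹ * b⁻¹ = 1 := hf (by
    rw [(character_eq_degree_iff ρ _).mp hval, map_one]; rfl)
  calc a * b = (a * b * a⁻¹ * b⁻¹) * (b * a) := by group
    _ = b * a := by rw [h1, one_mul]

omit [Fintype G] in
/-- Rational-valued characters exactly for groups where generators of a cyclic subgroup are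
conjugate. -/
theorem rational_iff [Finite G] :
    (∀ χ : Cfsg.IrrCharacter G, ∀ g : G, ∃ q : ℚ, (χ : G → ℂ) g = (q : ℂ)) ↔
      ∀ m : ℕ, m.Coprime (Nat.card G) → ∀ g : G, IsConj g (g ^ m) := by
  have := Fintype.ofFinite G
  constructor
  · intro h m hm g
    obtain ⟨σ, hσ⟩ := CfsgLib.CharNormal.exists_ringEquiv_root_pow
      (Nat.card_pos (α := G)).ne' hm
    refine (isConj_iff_forall_irr g (g ^ m)).mpr fun χ => ?_
    rw [← CfsgLib.CharNormal.ringEquiv_char_apply hσ (isCharacter_of_isIrr χ.2)
      (orderOf_dvd_natCard g)]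
    obtain ⟨q, hq⟩ := h χ g
    rw [hq, map_ratCast]
  · intro h χ g
    obtain ⟨z, hz⟩ := CfsgLib.CharNormal.exists_int_of_forall_coprime
      (isCharacter_of_isIrr χ.2) g fun k hk => by
        have : NeZero (Nat.card G) := ⟨(Nat.card_pos (α := G)).ne'⟩
        obtain ⟨u, hu⟩ := ZMod.unitsMap_surjective (orderOf_dvd_natCard g) (ZMod.unitOfCoprime k hk)
        have hcop : (u : ZMod (Nat.card G)).val.Coprime (Nat.card G) := ZMod.val_coe_unit_coprime u
        have hmod : (u : ZMod (Nat.card G)).val ≡ k [MOD orderOf g] := by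
          rw [← ZMod.natCast_eq_natCast_iff]
          have h1 := congrArg Units.val hu
          rw [ZMod.unitsMap_val, ZMod.coe_unitOfCoprime, ZMod.cast_eq_val] at h1
          exact h1
        rw [← pow_eq_pow_iff_modEq.mpr hmod]
        exact (isClassFunction_iff.mp (isClassFunction_of_isIrr χ.2) _ _ (h _ hcop g)).symm
    exact ⟨z, by rw [hz]; simp⟩

/-- Burnside: nonlinear irreducible characters have zeros. -/
theorem exists_zero_of_nonlinear {χ : G → ℂ} (hχ : Cfsg.IsIrrCharacter G χ) (hdeg : χ 1 ≠ 1) :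
    ∃ g, χ g = 0 := by
  classical
  by_contra hall
  push Not at hall
  obtain ⟨d, hd0, hd⟩ := exists_degree_pos hχ
  have hd1 : 1 < d := by
    rcases Nat.lt_or_ge 1 d with h | h
    · exact h
    · exact absurd (by rw [hd, le_antisymm h hd0, Nat.cast_one]) hdeg
  -- generators of each cyclic subgroup
  have hclass : ∀ C : Subgroup G, ∀ g : G, Subgroup.zpowers g = C →
      ((Finset.univ.filter fun x => Subgroup.zpowers x = C).card : ℝ) ≤
        ∑ x ∈ Finset.univ.filter (fun x => Subgroup.zpowers x = C), Complex.normSq (χ x) := by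
    intro C g hg
    set F := Finset.univ.filter fun x => Subgroup.zpowers x = C with hF
    -- the product over the generators is a rational integer
    have hmemF : ∀ x ∈ F, ∃ k, k.Coprime (orderOf g) ∧ g ^ k = x := by
      intro x hx
      have hx' : Subgroup.zpowers x = Subgroup.zpowers g := ((Finset.mem_filter.mp hx).2).trans hg.symm
      have hxg : x ∈ Subgroup.zpowers g := hx' ▸ Subgroup.mem_zpowers x
      obtain ⟨k, rfl⟩ := mem_powers_iff_mem_zpowers.mpr hxg
      refine ⟨k, ?_, rfl⟩
      have h1 : orderOf (g ^ k) = orderOf g := by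
        rw [← Nat.card_zpowers, ← Nat.card_zpowers]
        exact congrArg (fun K : Subgroup G => Nat.card K) hx'
      rw [orderOf_pow] at h1
      have h2 := (Nat.div_eq_self).mp h1
      rcases h2 with h2 | h2
      · exact absurd h2 (orderOf_pos g).ne'
      · exact Nat.Coprime.symm h2
    let Z := Subgroup.zpowers g
    let K := (Finset.range (orderOf g)).filter fun k => k.Coprime (orderOf g)
    let Φ : Z → ℂ := ∏ k ∈ K, fun z : Z => χ ((z : G) ^ k) * conj (χ ((z : G) ^ k))
    have hΦ : Cfsg.IsCharacter Z Φ := by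
      refine Finset.prod_induction _ (Cfsg.IsCharacter Z) (fun _ _ => isCharacter_mul)
        isCharacter_one fun k _ => ?_
      have hcomm : ∀ a b : Z, Commute (a : G) b := fun a b => by
        obtain ⟨i, hi⟩ := Subgroup.mem_zpowers_iff.mp a.2
        obtain ⟨j, hj⟩ := Subgroup.mem_zpowers_iff.mp b.2
        rw [← hi, ← hj]
        exact (Commute.refl g).zpow_zpow i j
      exact isCharacter_comp (isCharacter_mul (isCharacter_of_isIrr hχ)
        (isCharacter_conj (isCharacter_of_isIrr hχ)))
        (MonoidHom.mk' (fun z : Z => (z : G) ^ k) fun a b => (hcomm a b).mul_pow k)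
    have hK : ∀ k, k.Coprime (orderOf g) → k % orderOf g ∈ K := fun k hk =>
      Finset.mem_filter.mpr ⟨Finset.mem_range.mpr (Nat.mod_lt _ (orderOf_pos g)), by
        show Nat.gcd (k % orderOf g) (orderOf g) = 1
        rw [← Nat.gcd_rec, Nat.gcd_comm]
        exact hk⟩
    have hbij : ∀ f : G → ℂ, ∏ x ∈ F, f x = ∏ k ∈ K, f (g ^ k) := by
      intro f
      symm
      refine Finset.prod_bij (fun k _ => g ^ k) (fun k hk => ?_) (fun a ha b hb h => ?_)
        (fun x hx => ?_) (fun _ _ => rfl)
      · refine Finset.mem_filter.mpr ⟨Finset.mem_univ _, ?_⟩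
        rw [← hg]
        refine Subgroup.eq_of_le_of_card_ge
          (Subgroup.zpowers_le.mpr (Subgroup.pow_mem _ (Subgroup.mem_zpowers g) k)) ?_
        rw [Nat.card_zpowers, Nat.card_zpowers,
          Nat.Coprime.orderOf_pow (Finset.mem_filter.mp hk).2.symm]
      · exact pow_injOn_Iio_orderOf (Finset.mem_range.mp (Finset.mem_filter.mp ha).1)
          (Finset.mem_range.mp (Finset.mem_filter.mp hb).1) h
      · obtain ⟨k, hk, rfl⟩ := hmemF x hx
        exact ⟨k % orderOf g, hK k hk, pow_mod_orderOf g k⟩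
    let gz : Z := ⟨g, Subgroup.mem_zpowers g⟩
    have hΦg : Φ gz = ∏ x ∈ F, χ x * conj (χ x) := by
      rw [hbij]; simp [Φ, gz, Finset.prod_apply]
    obtain ⟨z, hz⟩ := CfsgLib.CharNormal.exists_int_of_forall_coprime hΦ gz fun j hj => by
      rw [hΦg, hbij]
      simp only [Φ, gz, Finset.prod_apply, SubgroupClass.coe_pow, ← pow_mul]
      have hj' : j.Coprime (orderOf g) := by
        rwa [← Subgroup.orderOf_coe gz] at hj
      refine Finset.prod_bij (fun k _ => (j * k) % orderOf g) (fun k hk => ?_)
        (fun a ha b hb h => ?_) (fun k hk => ?_) (fun k _ => ?_)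
      · exact hK _ (hj'.mul_left (Finset.mem_filter.mp hk).2)
      · have := Nat.ModEq.cancel_left_of_coprime (hj'.symm.gcd_eq_one) (show j * a ≡ j * b [MOD _] from h)
        rwa [Nat.ModEq, Nat.mod_eq_of_lt (Finset.mem_range.mp (Finset.mem_filter.mp ha).1),
          Nat.mod_eq_of_lt (Finset.mem_range.mp (Finset.mem_filter.mp hb).1)] at this
      · obtain ⟨i, -, hi⟩ := Nat.exists_mul_mod_eq_of_coprime k hj' (orderOf_pos g).ne'
        have hk' := Finset.mem_filter.mp hk
        have hi' : j * i % orderOf g = k :=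
          hi.trans (Nat.mod_eq_of_lt (Finset.mem_range.mp hk'.1))
        have hicop : i.Coprime (orderOf g) := by
          have h2 : (j * i).Coprime (orderOf g) := by
            have h3 : (j * i % orderOf g).Coprime (orderOf g) := hi'.symm ▸ hk'.2
            show Nat.gcd (j * i) (orderOf g) = 1
            rw [Nat.gcd_comm, Nat.gcd_rec]
            exact h3
          exact h2.coprime_mul_left
        refine ⟨i % orderOf g, hK i hicop, ?_⟩
        rw [Nat.mul_mod, Nat.mod_mod, ← Nat.mul_mod]
        exact hi'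
      · rw [pow_mod_orderOf]
    rw [hΦg] at hz
    simp only [Complex.mul_conj] at hz
    have hz' : ∏ x ∈ F, Complex.normSq (χ x) = (z : ℝ) := by exact_mod_cast hz
    have hpos : 0 < ∏ x ∈ F, Complex.normSq (χ x) :=
      Finset.prod_pos fun x _ => Complex.normSq_pos.mpr (hall x)
    have h1 : (1 : ℝ) ≤ ∏ x ∈ F, Complex.normSq (χ x) := by
      rw [hz'] at hpos ⊢
      exact_mod_cast (show (1 : ℤ) ≤ z by exact_mod_cast hpos)
    have h2 : (0 : ℝ) ≤ ∑ x ∈ F, (Complex.normSq (χ x) - 1) := by
      refine le_trans ?_ (Finset.sum_le_sum fun x _ =>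
        Real.log_le_sub_one_of_pos (Complex.normSq_pos.mpr (hall x)))
      rw [← Real.log_prod fun x _ => (Complex.normSq_pos.mpr (hall x)).ne']
      exact Real.log_nonneg h1
    rw [Finset.sum_sub_distrib, Finset.sum_const, nsmul_eq_mul, mul_one] at h2
    linarith
  have htot : ∑ g : G, Complex.normSq (χ g) = (Nat.card G : ℝ) := by
    have := card_mul_classInner χ χ
    rw [classInner_irr_self hχ, mul_one] at this
    simp only [Complex.mul_conj] at this
    exact_mod_cast this.symm
  rw [← Finset.sum_fiberwise Finset.univ (fun x : G => Subgroup.zpowers x)] at htot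
  have hlt : ∑ C : Subgroup G, ((Finset.univ.filter fun x => Subgroup.zpowers x = C).card : ℝ) <
      ∑ C : Subgroup G, ∑ x ∈ Finset.univ.filter (fun x => Subgroup.zpowers x = C),
        Complex.normSq (χ x) := by
    refine Finset.sum_lt_sum (fun C _ => ?_) ⟨⊥, Finset.mem_univ _, ?_⟩
    · by_cases hC : ∃ g, Subgroup.zpowers g = C
      · obtain ⟨g, hg⟩ := hC
        exact hclass C g hg
      · push Not at hC
        rw [Finset.filter_eq_empty_iff.mpr fun x _ => hC x]
        simp
    · have : (Finset.univ.filter fun x : G => Subgroup.zpowers x = ⊥) = {1} := by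
        ext x; simp [Subgroup.zpowers_eq_bot]
      rw [this, Finset.sum_singleton, Finset.card_singleton, hd, Complex.normSq_natCast]
      have : (2 : ℝ) ≤ d := by exact_mod_cast hd1
      push_cast
      nlinarith
  rw [htot, ← Nat.cast_sum, ← Finset.card_eq_sum_card_fiberwise (s := Finset.univ) (t := Finset.univ)
      (f := fun x : G => Subgroup.zpowers x) (fun x _ => Finset.mem_univ _),
    Finset.card_univ, ← Nat.card_eq_fintype_card] at hlt
  exact lt_irrefl _ hlt

end CfsgLib.Char
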