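import Cfsg.Agent.Lib.Char.ThreeDegrees
import Cfsg.Agent.Lib.Char.Vanishing
import Cfsg.Agent.Lib.CharNormal.CentralCount

/-!
# An abelian subgroup of index at most `(b!)²`

`b` bounds the irreducible degrees.

* `vanish_of_deg`: if a subgroup keeps the degree `b`, such a character vanishes outside the core;
* `exists_step`: a subgroup of small index with a smaller degree bound;
* `exists_abelian`: the bound.
-/

set_option autoImplicit false

namespace CfsgLib.AbelianIndex

open CfsgLib.Char CfsgLib.CharNormal CfsgLib.ThreeDeg Module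
open scoped ComplexConjugate commutatorElement

universe u

variable {G : Type u} [Group G]

/-- All irreducible degrees are at most `b`. -/
def Bdd (G : Type u) [Group G] (b : ℕ) : Prop :=
  ∀ χ : G → ℂ, Cfsg.IsIrrCharacter G χ → Cfsg.charDegree χ ≤ b

theorem Bdd.quotient [Finite G] {b : ℕ} (h : Bdd G b) (N : Subgroup G) [N.Normal] :
    Bdd (G ⧸ N) b := by
  have := Fintype.ofFinite G
  intro ψ hψ
  have h1 := h _ (isIrr_comp_mk' N hψ)
  rwa [deg_of_eq (χ := ψ ∘ QuotientGroup.mk) (ψ := ψ) (by simp)] at h1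

/-- A constituent of the restriction has degree at most the degree. -/
theorem deg_le_of_res [Fintype G] (H : Subgroup G) [Fintype H] {χ : G → ℂ}
    (hχ : Cfsg.IsIrrCharacter G χ) {ψ : H → ℂ} (hψ : Cfsg.IsIrrCharacter H ψ)
    (h : Cfsg.classInner (fun x : H => χ x) ψ ≠ 0) : Cfsg.charDegree ψ ≤ Cfsg.charDegree χ := by
  have h1 := constituent_degree_le (isCharacter_res H (isCharacter_of_isIrr hχ)) hψ h
  rw [OneMemClass.coe_one, deg_cast hχ, deg_cast hψ, Complex.natCast_re,
    Complex.natCast_re] at h1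
  exact_mod_cast h1

/-- A character of degree `b` of a subgroup extends to every character above it. -/
theorem res_eq_of_deg [Fintype G] {b : ℕ} (hb : Bdd G b) (H : Subgroup G) [Fintype H]
    {ψ : H → ℂ} (hψ : Cfsg.IsIrrCharacter H ψ) (hψb : Cfsg.charDegree ψ = b) {χ : G → ℂ}
    (hχ : Cfsg.IsIrrCharacter G χ) (h : Cfsg.classInner (fun x : H => χ x) ψ ≠ 0) :
    (fun x : H => χ x) = ψ := by
  refine CfsgLib.Broline.eq_of_constituent_degree_eq (isCharacter_res H (isCharacter_of_isIrr hχ))
    hψ h ?_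
  have h1 := deg_le_of_res H hχ hψ h
  have h2 := hb χ hχ
  show χ 1 = ψ 1
  rw [deg_cast hχ, deg_cast hψ, show Cfsg.charDegree χ = Cfsg.charDegree ψ by omega]

/-- If `H` keeps the degree `b`, the character vanishes outside the core and is invariant. -/
theorem vanish_of_deg [Fintype G] {b : ℕ} (hb : Bdd G b) (H : Subgroup G) [Fintype H]
    {ψ : H → ℂ} (hψ : Cfsg.IsIrrCharacter H ψ) (hψb : Cfsg.charDegree ψ = b) (h : H) (x : G) :
    ψ h = Cfsg.extendByZero H ψ (x⁻¹ * h * x) := by
  classical
  obtain ⟨a, ha, hai⟩ := char_decomp (isCharacter_indFun H (isCharacter_of_isIrr hψ))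
  have hres : ∀ c : Cfsg.IrrCharacter G, a c ≠ 0 →
      (fun y : H => (c : G → ℂ) y) = ψ := by
    intro c hc
    refine res_eq_of_deg hb H hψ hψb c.2 (inner_ne_zero_symm ?_)
    rw [← frobenius_reciprocity H ψ (isClassFunction_of_isIrr c.2), hai c]
    exact_mod_cast hc
  have hH : ∀ y : H, Cfsg.indFun H ψ y = (H.index : ℂ) * ψ y := by
    have hterm : ∀ (y : H) (c : Cfsg.IrrCharacter G),
        ((a c : ℂ) • (c : G → ℂ)) y = (a c : ℂ) * ψ y := fun y c => by
      rcases eq_or_ne (a c) 0 with e | e
      · simp [e]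
      · rw [Pi.smul_apply, smul_eq_mul, ← congrFun (hres c e) y]
    intro y
    have h1 := congrFun ha 1
    have hterm1 := hterm 1
    simp only [OneMemClass.coe_one] at hterm1
    rw [indFun_one, Finset.sum_apply, Finset.sum_congr rfl fun c _ => hterm1 c,
      ← Finset.sum_mul] at h1
    rw [ha, Finset.sum_apply, Finset.sum_congr rfl fun c _ => hterm y c, ← Finset.sum_mul]
    rw [mul_right_cancel₀ (irr_one_ne_zero hψ) h1]
  set E : G → H → ℂ := fun z y => Cfsg.extendByZero H ψ (z⁻¹ * y * z) with hE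
  have hsum : ∀ y : H, ∑ z : G, E z y = (Nat.card G : ℂ) * ψ y := by
    intro y
    have h1 := hH y
    rw [indFun_apply] at h1
    rw [← H.index_mul_card, Nat.cast_mul]
    rw [inv_mul_eq_iff_eq_mul₀ (card_subgroup_ne_zero H)] at h1
    rw [hE, h1]
    ring
  -- the total of the squared norms is the maximal one
  have hψn : ∑ y : H, Complex.normSq (ψ y) = (Nat.card H : ℝ) := by
    have h1 := classInner_irr_self hψ
    rw [classInner_def, inv_mul_eq_one₀ (card_ne_zero' (G := H))] at h1
    simp only [Complex.mul_conj] at h1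
    exact_mod_cast h1.symm
  have hEn : ∀ z : G, ∑ y : H, Complex.normSq (E z y) ≤ (Nat.card H : ℝ) := by
    intro z
    rw [← hψn]
    have hinj : Function.Injective fun y : H => z⁻¹ * (y : G) * z := fun y y' e =>
      Subtype.ext (mul_left_cancel (mul_right_cancel e))
    calc ∑ y : H, Complex.normSq (E z y)
        = ∑ g ∈ Finset.univ.image (fun y : H => z⁻¹ * (y : G) * z),
            Complex.normSq (Cfsg.extendByZero H ψ g) := by
          rw [Finset.sum_image fun y _ y' _ e => hinj e]
      _ ≤ ∑ g : G, Complex.normSq (Cfsg.extendByZero H ψ g) :=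
          Finset.sum_le_univ_sum_of_nonneg fun g => Complex.normSq_nonneg _
      _ = ∑ g ∈ Finset.univ.image (fun y : H => (y : G)),
            Complex.normSq (Cfsg.extendByZero H ψ g) := by
          refine (Finset.sum_subset (Finset.subset_univ _) fun g _ hg => ?_).symm
          rw [extendByZero_of_notMem, map_zero]
          exact fun hgH => hg (Finset.mem_image.2 ⟨⟨g, hgH⟩, Finset.mem_univ _, rfl⟩)
      _ = ∑ y : H, Complex.normSq (ψ y) := by
          rw [Finset.sum_image fun y _ y' _ e => Subtype.ext e]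
          exact Finset.sum_congr rfl fun y _ => by rw [extendByZero_coe]
  have hdiff : ∀ (z : G) (y : H), Complex.normSq (ψ y - E z y) =
      Complex.normSq (ψ y) + Complex.normSq (E z y) - 2 * (ψ y * conj (E z y)).re := fun z y =>
    Complex.normSq_sub _ _
  have htot : ∑ z : G, ∑ y : H, Complex.normSq (ψ y - E z y) ≤ 0 := by
    simp only [hdiff, Finset.sum_sub_distrib, Finset.sum_add_distrib, ← Finset.mul_sum]
    have h1 : ∑ z : G, ∑ y : H, (ψ y * conj (E z y)).re =
        (Nat.card G : ℝ) * Nat.card H := by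
      rw [Finset.sum_comm]
      rw [Finset.sum_congr rfl fun y _ => show ∑ z : G, (ψ y * conj (E z y)).re =
          (Nat.card G : ℝ) * Complex.normSq (ψ y) by
        rw [← Complex.re_sum, ← Finset.mul_sum, ← map_sum, hsum, map_mul, map_natCast,
          mul_left_comm, Complex.mul_conj, ← Complex.ofReal_natCast, ← Complex.ofReal_mul,
          Complex.ofReal_re], ← Finset.mul_sum, hψn]
    have h2 : ∑ z : G, ∑ y : H, Complex.normSq (E z y) ≤
        (Nat.card G : ℝ) * Nat.card H := by
      refine (Finset.sum_le_sum fun z _ => hEn z).trans (le_of_eq ?_)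
      rw [Finset.sum_const, Finset.card_univ, nsmul_eq_mul, Nat.card_eq_fintype_card (α := G)]
    rw [h1, Finset.sum_const, Finset.card_univ, nsmul_eq_mul, hψn,
      ← Nat.card_eq_fintype_card (α := G)]
    linarith
  have hnn : ∀ z : G, 0 ≤ ∑ y : H, Complex.normSq (ψ y - E z y) :=
    fun z => Finset.sum_nonneg fun y _ => Complex.normSq_nonneg _
  have h3 := (Finset.sum_eq_zero_iff_of_nonneg fun z _ => hnn z).1
    (le_antisymm htot (Finset.sum_nonneg fun z _ => hnn z)) x (Finset.mem_univ x)
  have h4 := (Finset.sum_eq_zero_iff_of_nonneg fun y _ => Complex.normSq_nonneg _).1 h3 h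
    (Finset.mem_univ h)
  exact sub_eq_zero.1 (Complex.normSq_eq_zero.1 h4)

/-- A character vanishing outside `K` bounds the index of `K`. -/
theorem index_le_of_vanish [Fintype G] (K : Subgroup G) {θ : G → ℂ}
    (hθ : Cfsg.IsIrrCharacter G θ) (hv : ∀ g, g ∉ K → θ g = 0) :
    K.index ≤ Cfsg.charDegree θ ^ 2 := by
  classical
  have h1 := classInner_irr_self hθ
  rw [classInner_def, inv_mul_eq_one₀ (card_ne_zero' (G := G))] at h1
  simp only [Complex.mul_conj] at h1
  have h2 : (Nat.card G : ℝ) = ∑ g : G, Complex.normSq (θ g) := by exact_mod_cast h1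
  have h3 : ∑ g : G, Complex.normSq (θ g) ≤
      (Nat.card K : ℝ) * (Cfsg.charDegree θ : ℝ) ^ 2 := by
    rw [← Finset.sum_subset (Finset.subset_univ (Finset.univ.filter (· ∈ K))) (fun g _ hg => by
      rw [hv g (fun h => hg (Finset.mem_filter.2 ⟨Finset.mem_univ _, h⟩)), map_zero])]
    refine (Finset.sum_le_card_nsmul _ _ ((Cfsg.charDegree θ : ℝ) ^ 2) fun g _ => ?_).trans
      (le_of_eq ?_)
    · have h4 := norm_char_le (isCharacter_of_isIrr hθ) g
      rw [deg_cast hθ, Complex.natCast_re] at h4
      rw [← Complex.sq_norm]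
      exact pow_le_pow_left₀ (norm_nonneg _) h4 2
    · rw [nsmul_eq_mul, Nat.card_eq_fintype_card, Fintype.card_subtype]
  rw [← h2, ← K.card_mul_index, Nat.cast_mul] at h3
  have h5 : (K.index : ℝ) ≤ ((Cfsg.charDegree θ ^ 2 : ℕ) : ℝ) := by
    push_cast
    exact le_of_mul_le_mul_left h3 (by exact_mod_cast Nat.card_pos)
  exact_mod_cast h5

/-- An element with a large centralizer in a group with trivial centre. -/
theorem exists_small_class {L : Type u} [Group L] [Fintype L] [Nontrivial L] {b : ℕ} (hb : 1 ≤ b)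
    (hL : Bdd L b) : ∃ x : L, x ≠ 1 ∧
      Nat.card L ≤ Nat.card (Subgroup.centralizer ({x} : Set L)) * b ^ 2 := by
  classical
  by_contra hcon
  push Not at hcon
  set k := Fintype.card (Cfsg.IrrCharacter L) with hk
  set B := b ^ 2 with hB
  have hB1 : 1 ≤ B := Nat.one_le_pow 2 b hb
  -- the squares of the degrees
  have hsq : ∑ χ : Cfsg.IrrCharacter L, Cfsg.charDegree (χ : L → ℂ) ^ 2 = Nat.card L := by
    have h := sum_degree_sq (G := L)
    rw [Finset.sum_congr rfl fun (χ : Cfsg.IrrCharacter L) _ => show (χ : L → ℂ) 1 ^ 2 =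
      ((Cfsg.charDegree (χ : L → ℂ) ^ 2 : ℕ) : ℂ) by
        rw [deg_cast χ.2]; push_cast; rfl, ← Nat.cast_sum] at h
    exact_mod_cast h
  have h1 : Nat.card L + B ≤ 1 + k * B := by
    let o : Cfsg.IrrCharacter L := ⟨fun _ => 1, isIrrCharacter_one⟩
    have ho : Cfsg.charDegree (o : L → ℂ) = 1 := deg_of_cast (by simp [o])
    rw [← hsq, ← Finset.add_sum_erase _ _ (Finset.mem_univ o), ho, one_pow, add_assoc]
    refine Nat.add_le_add_left ?_ 1
    have hle : ∑ χ ∈ (Finset.univ : Finset (Cfsg.IrrCharacter L)).erase o, Cfsg.charDegree (χ : L → ℂ) ^ 2 ≤ (k - 1) * B := by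
      refine (Finset.sum_le_card_nsmul _ _ B fun (χ : Cfsg.IrrCharacter L) _ => Nat.pow_le_pow_left (hL χ χ.2) 2).trans ?_
      rw [Finset.card_erase_of_mem (Finset.mem_univ o), Finset.card_univ, smul_eq_mul]
    have hk0 : 0 < k := Fintype.card_pos_iff.2 ⟨o⟩
    calc ∑ χ ∈ (Finset.univ : Finset (Cfsg.IrrCharacter L)).erase o, Cfsg.charDegree (χ : L → ℂ) ^ 2 + B
        ≤ (k - 1) * B + B := Nat.add_le_add_right hle B
      _ = (k - 1 + 1) * B := by ring
      _ = k * B := by rw [Nat.sub_add_cancel hk0]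
  -- the centralizer orders
  have hC : ∑ x : L, Nat.card (Subgroup.centralizer ({x} : Set L)) = k * Nat.card L := by
    have h2 : ∑ x : L, ((Nat.card (Subgroup.centralizer ({x} : Set L)) : ℕ) : ℝ) =
        (k : ℝ) * Nat.card L := by
      rw [Finset.sum_congr rfl fun x _ => (sum_normSq_eq_card_centralizer x).symm,
        Finset.sum_comm, hk, Fintype.card, Finset.card_eq_sum_ones, Nat.cast_sum, Finset.sum_mul]
      refine Finset.sum_congr rfl fun χ _ => ?_
      have h3 := classInner_irr_self χ.2
      rw [classInner_def, inv_mul_eq_one₀ (card_ne_zero' (G := L))] at h3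
      simp only [Complex.mul_conj] at h3
      rw [Nat.cast_one, one_mul]
      exact_mod_cast h3.symm
    exact_mod_cast h2
  have h4 : ∀ x : L, x ≠ 1 →
      Nat.card (Subgroup.centralizer ({x} : Set L)) * (B + 1) ≤ Nat.card L := by
    intro x hx
    have hlt := hcon x hx
    obtain ⟨i, hi⟩ := Subgroup.card_subgroup_dvd_card (Subgroup.centralizer ({x} : Set L))
    rw [hi] at hlt ⊢
    exact Nat.mul_le_mul_left _ (Nat.lt_of_mul_lt_mul_left hlt)
  have h5 : k * (B + 1) ≤ B + Nat.card L := by
    have h6 : (∑ x : L, Nat.card (Subgroup.centralizer ({x} : Set L))) * (B + 1) ≤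
        Nat.card L * (B + 1) + (Nat.card L - 1) * Nat.card L := by
      rw [Finset.sum_mul, ← Finset.add_sum_erase _ _ (Finset.mem_univ (1 : L))]
      refine Nat.add_le_add ?_ ?_
      · exact Nat.mul_le_mul_right _ (Subgroup.card_le_card_group _)
      · refine (Finset.sum_le_card_nsmul _ _ (Nat.card L) fun x hx =>
          h4 x (Finset.ne_of_mem_erase hx)).trans ?_
        rw [Finset.card_erase_of_mem (Finset.mem_univ _), Finset.card_univ, smul_eq_mul,
          Nat.card_eq_fintype_card]
    rw [hC] at h6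
    have hpos : 0 < Nat.card L := Nat.card_pos
    refine Nat.le_of_mul_le_mul_left ?_ hpos
    have h7 : B + 1 + (Nat.card L - 1) = B + Nat.card L := by omega
    calc Nat.card L * (k * (B + 1)) = k * Nat.card L * (B + 1) := by ring
      _ ≤ _ := h6
      _ = Nat.card L * (B + 1 + (Nat.card L - 1)) := by ring
      _ = _ := by rw [h7]
  have hk1 : k ≤ 1 := by
    rw [mul_add, mul_one] at h5
    omega
  have : 2 ≤ Nat.card L := Finite.one_lt_card
  have : k * B ≤ 1 * B := Nat.mul_le_mul_right B hk1
  omega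

/-- A product lemma: a degree `b` cannot survive on `R` if some non-linear character has
constant absolute value on the cosets of `R`. -/
theorem deg_lt_of_scalar [Fintype G] {b : ℕ} (hb : Bdd G b) (hb1 : 1 ≤ b) (R : Subgroup G)
    [R.Normal] [Fintype R] {ξ : G → ℂ} (hξ : Cfsg.IsIrrCharacter G ξ)
    (hξ1 : 2 ≤ Cfsg.charDegree ξ) (hR : ∀ g : G, ∀ r ∈ R, ‖ξ (g * r)‖ = ‖ξ g‖) :
    Bdd R (b - 1) := by
  classical
  intro θ hθ
  obtain ⟨χ, h0⟩ := exists_irr_over (G := G) R hθ
  have hle := deg_le_of_res R χ.2 hθ h0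
  have hχb := hb χ χ.2
  by_contra hlt
  have hθb : Cfsg.charDegree θ = b := by omega
  have hres := res_eq_of_deg hb R hθ hθb χ.2 h0
  have hirr : Cfsg.IsIrrCharacter R (fun r : R => (χ : G → ℂ) r) := hres ▸ hθ
  have hprod : Cfsg.IsIrrCharacter G ((χ : G → ℂ) * ξ) := by
    refine irr_of_norm_one (isCharacter_mul (isCharacter_of_isIrr χ.2) (isCharacter_of_isIrr hξ)) ?_
    rw [classInner_def, inv_mul_eq_one₀ (card_ne_zero' (G := G))]
    set f : G → ℂ := fun g => ξ g * conj (ξ g) with hf
    set c : G → ℂ := fun g => (χ : G → ℂ) g * conj ((χ : G → ℂ) g) with hc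
    have hfR : ∀ (g : G) (r : R), f (g * r) = f g := by
      intro g r
      simp only [hf, Complex.mul_conj, Complex.normSq_eq_norm_sq, hR g r r.2]
    have h1 : ∀ r : R, ∑ g : G, f g * c g = ∑ g : G, f g * c (g * r) := fun r => by
      conv_rhs => rw [Finset.sum_congr rfl fun g _ => show f g * c (g * r) = f (g * r) * c (g * r) by
        rw [hfR]]
      exact (Fintype.sum_equiv (Equiv.mulRight (r : G)) (fun g => f (g * r) * c (g * r))
        (fun g => f g * c g) fun g => rfl).symm
    have h2 : (Nat.card R : ℂ) * ∑ g : G, f g * c g = (Nat.card R : ℂ) * Nat.card G := by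
      calc (Nat.card R : ℂ) * ∑ g : G, f g * c g = ∑ r : R, ∑ g : G, f g * c g := by
            rw [Finset.sum_const, Finset.card_univ, nsmul_eq_mul, Nat.card_eq_fintype_card]
        _ = ∑ g : G, f g * ∑ r : R, c (g * r) := by
            rw [Finset.sum_congr rfl fun r _ => h1 r, Finset.sum_comm]
            simp only [Finset.mul_sum]
        _ = ∑ g : G, f g * (Nat.card R : ℂ) := by
            simp only [hc, sum_normSq_coset R (isCharacter_of_isIrr χ.2) hirr]
        _ = _ := by
            have h3 := classInner_irr_self hξ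
            rw [classInner_def, inv_mul_eq_one₀ (card_ne_zero' (G := G))] at h3
            rw [← Finset.sum_mul, show ∑ g : G, f g = (Nat.card G : ℂ) from h3.symm, mul_comm]
    rw [← mul_left_cancel₀ (card_ne_zero' (G := R)) h2]
    refine Finset.sum_congr rfl fun g _ => ?_
    simp only [hf, hc, Pi.mul_apply, map_mul]
    ring
  have h4 := hb _ hprod
  rw [deg_of_cast (χ := (χ : G → ℂ) * ξ)
    (d := Cfsg.charDegree (χ : G → ℂ) * Cfsg.charDegree ξ) (by
      rw [Pi.mul_apply, deg_cast χ.2, deg_cast hξ]; push_cast; rfl)] at h4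
  nlinarith

/-- Below a non-abelian quotient the degrees are at most half. -/
theorem half_of_quotient [Fintype G] {b : ℕ} (hb : Bdd G b) (K : Subgroup G) [K.Normal]
    [Fintype K] {β : G ⧸ K → ℂ} (hβ : Cfsg.IsIrrCharacter (G ⧸ K) β)
    (hβ1 : 2 ≤ Cfsg.charDegree β) : Bdd K (b / 2) := by
  intro θ hθ
  by_contra hlt
  push Not at hlt
  obtain ⟨χ, h0⟩ := exists_irr_over (G := G) K hθ
  obtain ⟨⟨j, hj⟩, -⟩ := deg_dvd_of_over K χ.2 hθ h0
  have hχb := hb χ χ.2
  have hj1 : j = 1 := by
    have : j ≠ 0 := by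
      rintro rfl
      have := deg_pos χ.2
      omega
    have : Cfsg.charDegree θ * j ≤ b := hj ▸ hχb
    by_contra hj2
    have : Cfsg.charDegree θ * 2 ≤ Cfsg.charDegree θ * j := Nat.mul_le_mul_left _ (by omega)
    omega
  rw [hj1, mul_one] at hj
  have hres := CfsgLib.Broline.eq_of_constituent_degree_eq
    (isCharacter_res K (isCharacter_of_isIrr χ.2)) hθ h0
    (by show (χ : G → ℂ) 1 = θ 1; rw [deg_cast χ.2, deg_cast hθ, hj])
  have h4 := hb _ (isIrr_mul_comp_mk' K (isCharacter_of_isIrr χ.2) (hres ▸ hθ) hβ)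
  rw [deg_of_cast (χ := (χ : G → ℂ) * (β ∘ QuotientGroup.mk))
    (d := Cfsg.charDegree θ * Cfsg.charDegree β) (by
      rw [Pi.mul_apply, apply_comp_mk'_one, deg_cast χ.2, deg_cast hβ, hj]; push_cast; rfl)] at h4
  nlinarith [Nat.div_add_mod b 2, Nat.mod_lt b (show 0 < 2 by norm_num)]

/-- Degrees at most `4` with trivial centre and a unique minimal normal `A = [L,L]`: `A` is
abelian. -/
theorem comm_of_small {L : Type u} [Group L] [Fintype L]
    (hmin : ∀ M : Subgroup L, M.Normal → M ≠ ⊥ → commutator L ≤ M)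
    (hZ : Subgroup.center L = ⊥) {b : ℕ} (hb : Bdd L b) (hb4 : b ≤ 4) : Group.IsSolvable L := by
  classical
  by_contra hns
  set A := commutator L with hA
  have hA1 : A ≠ ⊥ := by
    intro h
    refine hns (Group.isSolvable_of_comm fun a c => ?_)
    rw [← commutatorElement_eq_one_iff_mul_comm, ← Subgroup.mem_bot, ← h, hA, commutator_def]
    exact Subgroup.commutator_mem_commutator (Subgroup.mem_top a) (Subgroup.mem_top c)
  have hAA : ⁅A, A⁆ = A := by
    by_contra h
    have h1 : ⁅A, A⁆ = ⊥ := by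
      by_contra h1
      exact h (le_antisymm (Subgroup.commutator_le_right A A) (hmin _ inferInstance h1))
    refine hns ((Group.isSolvable_def L).2 ⟨2, ?_⟩)
    rw [derivedSeries_succ, derivedSeries_one]
    exact h1
  have hno2 : ∀ ξ : L → ℂ, Cfsg.IsIrrCharacter L ξ → Cfsg.charDegree ξ ≠ 2 := by
    intro ξ hξ h2
    obtain ⟨n, ρ, hirr, rfl⟩ := id hξ
    have hn : n = 2 := by
      rw [← h2, deg_of_cast (d := n) (χ := ρ.character) (by simp)]
    subst hn
    let f := detHom ρ
    have hfA : A ≤ f.ker := Abelianization.commutator_subset_ker _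
    -- the character is faithful
    have hfaith : ∀ g, ρ g = LinearMap.id → g = 1 := by
      intro g hg
      by_contra hg1
      set J := charKer (isCharacter_of_isIrr hξ)
      have := charKer_normal (isCharacter_of_isIrr hξ)
      have hgJ : g ∈ J := by
        show ρ.character g = ρ.character 1
        rw [(character_eq_degree_iff ρ g).2 hg]
        simp
      have hAJ := hmin J inferInstance fun h => hg1 (Subgroup.mem_bot.1 (h ▸ hgJ))
      -- then the image would be abelian and the degree one
      have hcomm : ∀ x y : L, ρ x * ρ y = ρ y * ρ x := by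
        intro x y
        have hmem : x * y * x⁻¹ * y⁻¹ ∈ J := hAJ (by
          rw [hA, commutator_def]
          exact Subgroup.commutator_mem_commutator (Subgroup.mem_top x) (Subgroup.mem_top y))
        have h1 : ρ (x * y * x⁻¹ * y⁻¹) = LinearMap.id :=
          (character_eq_degree_iff ρ _).1 (hmem.trans (by simp))
        calc ρ x * ρ y = ρ ((x * y * x⁻¹ * y⁻¹) * (y * x)) := by
              rw [← map_mul]; congr 1; group
          _ = ρ y * ρ x := by rw [map_mul, h1, map_mul]; rfl
      have : ρ.IsIrreducible := hirr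
      choose v hv using fun x : L => exists_eq_smul_id ρ (ρ x) fun y => hcomm x y
      have hnorm : ∀ x, ρ.character x * conj (ρ.character x) = (4 : ℂ) := by
        intro x
        have h1 := (norm_character_eq_iff ρ x).2 ⟨v x, hv x⟩
        rw [Complex.mul_conj, Complex.normSq_eq_norm_sq, h1, finrank_fin_fun]
        norm_num
      have h1 := classInner_irr_self hξ
      rw [classInner_def, Finset.sum_congr rfl fun x _ => hnorm x, Finset.sum_const,
        Finset.card_univ, nsmul_eq_mul, ← Nat.card_eq_fintype_card,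
        inv_mul_cancel_left₀ (card_ne_zero' (G := L))] at h1
      norm_num at h1
    have hAeven : 2 ∣ Nat.card A := by
      have := Fintype.ofFinite A
      obtain ⟨θ, hθ, h0⟩ := exists_under A hξ
      obtain ⟨hd, -⟩ := deg_dvd_of_over A hξ hθ h0
      rw [h2] at hd
      rcases (Nat.dvd_prime Nat.prime_two).1 hd with e | e
      · exfalso
        have h1 : θ 1 = 1 := by rw [deg_cast hθ, e, Nat.cast_one]
        have hperf : commutator A = ⊤ := by
          apply Subgroup.map_injective A.subtype_injective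
          rw [Subgroup.map_subtype_commutator, hAA, ← MonoidHom.range_eq_map,
            Subgroup.range_subtype]
        have hθe : θ = fun _ => (1 : ℂ) := funext fun a => by
          have := congrArg (fun u : ℂˣ => (u : ℂ)) (MonoidHom.mem_ker.1
            (Abelianization.commutator_subset_ker (linearHom (isCharacter_of_isIrr hθ) h1)
              (hperf ▸ Subgroup.mem_top a)))
          simpa [linearHom_apply] using this
        rw [hθe] at h0
        obtain ⟨⟨a, ha⟩, ha1⟩ := (Subgroup.ne_bot_iff_exists_ne_one).1 hA1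
        exact ha1 (Subtype.ext (hfaith a ((character_eq_degree_iff ρ a).1
          ((res_eq_degree_of_constituent_one A hξ h0 a ha).trans (by simp)))))
      · exact e ▸ degree_dvd_card hθ (deg_cast hθ)
    obtain ⟨⟨a, ha⟩, hord⟩ := exists_prime_orderOf_dvd_card' 2 hAeven
    rw [← Subgroup.orderOf_coe] at hord
    change orderOf a = 2 at hord
    obtain ⟨B, z, hz⟩ := exists_eigenbasis ρ a
    let B2 := B.reindex (finCongr (finrank_fin_fun ℂ))
    let w : Fin 2 → ℂ := fun i => z (finCongr (finrank_fin_fun ℂ).symm i)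
    have hw : ∀ i, w i ^ 2 = 1 ∧ ρ a (B2 i) = w i • B2 i := fun i => by
      refine ⟨hord ▸ (hz _).1, ?_⟩
      simp only [B2, w, Basis.reindex_apply, finCongr_symm]
      exact (hz _).2
    have hdet : LinearMap.det (ρ a) = w 0 * w 1 := by
      rw [← LinearMap.det_toMatrix B2, Matrix.det_fin_two]
      simp [LinearMap.toMatrix_apply, (hw 0).2, (hw 1).2]
    have hdet1 : w 0 * w 1 = 1 := by
      have h3 := congrArg (fun u : ℂˣ => (u : ℂ)) (MonoidHom.mem_ker.1 (hfA ha))
      simp only [f, detHom_apply, Units.val_one] at h3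
      rw [← hdet, h3]
    have hweq : w 1 = w 0 := by
      calc w 1 = w 0 ^ 2 * w 1 := by rw [(hw 0).1, one_mul]
        _ = w 0 * (w 0 * w 1) := by ring
        _ = w 0 := by rw [hdet1, mul_one]
    have hscal : ρ a = w 0 • LinearMap.id := by
      refine B2.ext fun i => ?_
      rw [(hw i).2, LinearMap.smul_apply, LinearMap.id_apply]
      fin_cases i
      · rfl
      · simp [hweq]
    have hac : a ∈ Subgroup.center L := by
      rw [Subgroup.mem_center_iff]
      intro g
      rw [← commutatorElement_eq_one_iff_mul_comm]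
      refine hfaith _ ?_
      have hcomm : ρ g * ρ a = ρ a * ρ g := by
        rw [hscal]; exact LinearMap.ext fun v => by simp
      rw [commutatorElement_def, map_mul, map_mul, map_mul, hcomm, mul_assoc (ρ a), ← map_mul ρ g,
        mul_inv_cancel, map_one, mul_one, ← map_mul, mul_inv_cancel, map_one]
      rfl
    rw [hZ, Subgroup.mem_bot] at hac
    rw [hac, orderOf_one] at hord
    norm_num at hord
  refine hns ((Group.isSolvable_def L).2 ⟨3, derived_three _ L rfl {3, 4}
    (by simp) fun χ hχ => ?_⟩)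
  have h1 := deg_pos hχ
  have h2 := hno2 χ hχ
  have h3 := hb χ hχ
  simp only [Finset.mem_insert, Finset.mem_singleton]
  omega

/-- The arithmetic of the induction. -/
theorem arith_quartic {b : ℕ} (hb : 5 ≤ b) :
    b ^ 4 * (b / 2).factorial ^ 2 ≤ b.factorial ^ 2 := by
  obtain ⟨c, rfl⟩ : ∃ c, b = c + 3 := ⟨b - 3, by omega⟩
  have h1 : ((c + 3) / 2).factorial ≤ c.factorial := Nat.factorial_le (by omega)
  have h2 : (c + 3) ^ 2 * ((c + 3) / 2).factorial ≤ (c + 3).factorial := by
    rw [Nat.factorial_succ, Nat.factorial_succ, Nat.factorial_succ]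
    calc (c + 3) ^ 2 * ((c + 3) / 2).factorial ≤ (c + 3) ^ 2 * c.factorial :=
          Nat.mul_le_mul_left _ h1
      _ ≤ (c + 3) * ((c + 2) * ((c + 1) * c.factorial)) := by
          have : c + 3 ≤ (c + 2) * (c + 1) := by nlinarith
          nlinarith [Nat.mul_le_mul_left (c + 3) (Nat.mul_le_mul_right c.factorial this)]
  calc (c + 3) ^ 4 * ((c + 3) / 2).factorial ^ 2 = ((c + 3) ^ 2 * ((c + 3) / 2).factorial) ^ 2 := by
        ring
    _ ≤ _ := Nat.pow_le_pow_left h2 2

theorem arith_cubic {b : ℕ} (hb : 3 ≤ b) :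
    b ^ 3 * (b / 2).factorial ^ 2 ≤ b.factorial ^ 2 := by
  rcases Nat.lt_or_ge b 5 with h | h
  · interval_cases b <;> decide
  · exact (Nat.mul_le_mul_right _ (Nat.pow_le_pow_right (by omega) (by omega))).trans
      (arith_quartic h)

/-- A subgroup of small index with smaller degrees. -/
theorem exists_step [Fintype G] {b : ℕ} (hb2 : 2 ≤ b) (hb : Bdd G b)
    (hna : ∃ a c : G, a * c ≠ c * a) :
    ∃ (R : Subgroup G) (c : ℕ), c < b ∧ Bdd R c ∧
      R.index * c.factorial ^ 2 ≤ b.factorial ^ 2 := by
  classical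
  have hstep : ∀ R : Subgroup G, R.index ≤ b ^ 2 → Bdd R (b - 1) →
      ∃ (R : Subgroup G) (c : ℕ), c < b ∧ Bdd R c ∧
        R.index * c.factorial ^ 2 ≤ b.factorial ^ 2 := by
    intro R hR hRb
    refine ⟨R, b - 1, by omega, hRb, ?_⟩
    calc R.index * (b - 1).factorial ^ 2 ≤ b ^ 2 * (b - 1).factorial ^ 2 :=
          Nat.mul_le_mul_right _ hR
      _ = (b * (b - 1).factorial) ^ 2 := by ring
      _ = b.factorial ^ 2 := by rw [Nat.mul_factorial_pred (by omega)]
  let P : Subgroup G → Prop := fun K => K.Normal ∧ ¬ commutator G ≤ K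
  have hP : P ⊥ := by
    refine ⟨inferInstance, fun h => ?_⟩
    obtain ⟨a, c, hac⟩ := hna
    refine hac (commutatorElement_eq_one_iff_mul_comm.1 (Subgroup.mem_bot.1 (h ?_)))
    rw [commutator_def]
    exact Subgroup.commutator_mem_commutator (Subgroup.mem_top a) (Subgroup.mem_top c)
  obtain ⟨K, hK, hKmax⟩ := (Set.toFinite {K : Subgroup G | P K}).exists_maximal ⟨⊥, hP⟩
  have := hK.1
  have hπ : Function.Surjective (QuotientGroup.mk' K) := QuotientGroup.mk'_surjective K
  have hmap : commutator (G ⧸ K) = (commutator G).map (QuotientGroup.mk' K) := by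
    rw [commutator_def, commutator_def, Subgroup.map_commutator,
      Subgroup.map_top_of_surjective _ hπ]
  have hA1 : commutator (G ⧸ K) ≠ ⊥ := by
    rw [hmap, Ne, Subgroup.map_eq_bot_iff, QuotientGroup.ker_mk']
    exact hK.2
  have hnaL : ∃ a c : G ⧸ K, a * c ≠ c * a := by
    by_contra h
    push Not at h
    refine hA1 (eq_bot_iff.2 ?_)
    rw [commutator_def, Subgroup.commutator_le]
    intro a _ c _
    exact Subgroup.mem_bot.2 (commutatorElement_eq_one_iff_mul_comm.2 (h a c))
  have hmin : ∀ M : Subgroup (G ⧸ K), M.Normal → M ≠ ⊥ → commutator (G ⧸ K) ≤ M := by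
    intro M hM hMne
    rw [hmap, Subgroup.map_le_iff_le_comap]
    by_contra h
    have hle : K ≤ M.comap (QuotientGroup.mk' K) := fun k hk => by
      rw [Subgroup.mem_comap, QuotientGroup.mk'_apply, (QuotientGroup.eq_one_iff k).2 hk]
      exact one_mem M
    have := hKmax (y := M.comap (QuotientGroup.mk' K)) ⟨hM.comap _, h⟩ hle
    refine hMne (eq_bot_iff.2 fun x hx => ?_)
    obtain ⟨g, rfl⟩ := hπ x
    exact Subgroup.mem_bot.2 ((QuotientGroup.eq_one_iff g).2 (this hx))
  have := Fintype.ofFinite (G ⧸ K)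
  have := Fintype.ofFinite K
  have hbL : Bdd (G ⧸ K) b := hb.quotient K
  obtain ⟨β, hβ⟩ : ∃ β : Cfsg.IrrCharacter (G ⧸ K), 2 ≤ Cfsg.charDegree (β : G ⧸ K → ℂ) := by
    by_contra h
    push Not at h
    obtain ⟨a, c, hac⟩ := hnaL
    refine hac (comm_iff_forall_linear.2 (fun β => ?_) a c)
    have h1 := deg_pos β.2
    have h2 := h β
    rw [deg_cast β.2, show Cfsg.charDegree (β : G ⧸ K → ℂ) = 1 by omega, Nat.cast_one]
  by_cases hZ : Subgroup.center (G ⧸ K) = ⊥
  swap
  · -- a central derived subgroup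
    have hAZ := hmin _ inferInstance hZ
    set R := (Subgroup.center (G ⧸ K)).comap (QuotientGroup.mk' K) with hR
    have : R.Normal := (inferInstance : (Subgroup.center (G ⧸ K)).Normal).comap _
    have := Fintype.ofFinite R
    obtain ⟨ξ, hξ⟩ : ∃ ξ : G ⧸ K → ℂ, Cfsg.IsIrrCharacter (G ⧸ K) ξ ∧
        2 ≤ Cfsg.charDegree ξ := ⟨β, β.2, hβ⟩
    have hξfaith : ∀ x, ξ x = ξ 1 → x = 1 := by
      intro x hx
      by_contra hx1
      set J := charKer (isCharacter_of_isIrr hξ.1)
      have := charKer_normal (isCharacter_of_isIrr hξ.1)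
      have hAJ := hmin J inferInstance fun h => hx1 (Subgroup.mem_bot.1
        (h ▸ (show x ∈ J from hx)))
      obtain ⟨φ, hφ, he⟩ := exists_irr_eq_comp_mk' J hξ.1 fun y hy => hy
      have h1 : φ 1 = 1 := by
        refine irr_one_eq_one_of_comm (fun a c => ?_) hφ
        obtain ⟨a, rfl⟩ := QuotientGroup.mk_surjective a
        obtain ⟨c, rfl⟩ := QuotientGroup.mk_surjective c
        rw [← commutatorElement_eq_one_iff_mul_comm, ← QuotientGroup.mk'_apply,
          ← QuotientGroup.mk'_apply, ← map_commutatorElement, QuotientGroup.mk'_apply,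
          QuotientGroup.eq_one_iff]
        refine hAJ ?_
        rw [commutator_def]
        exact Subgroup.commutator_mem_commutator (Subgroup.mem_top a) (Subgroup.mem_top c)
      have h2 : ξ 1 = 1 := by rw [← he]; simpa using h1
      have := deg_of_cast (d := 1) (h2.trans Nat.cast_one.symm)
      omega
    have hvan : ∀ x, x ∉ Subgroup.center (G ⧸ K) → ξ x = 0 := by
      intro x hx
      rw [Subgroup.mem_center_iff] at hx
      push Not at hx
      obtain ⟨y, hy⟩ := hx
      set z := y * x * y⁻¹ * x⁻¹ with hz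
      have hzA : z ∈ Subgroup.center (G ⧸ K) := hAZ (by
        rw [commutator_def]
        exact Subgroup.commutator_mem_commutator (Subgroup.mem_top y) (Subgroup.mem_top x))
      have hz1 : z ≠ 1 := fun e => hy (commutatorElement_eq_one_iff_mul_comm.1 e)
      have h1 := char_center_mul hξ.1 hzA x
      have e : z * x = y * x * y⁻¹ := by rw [hz]; group
      rw [e, isClassFunction_of_isIrr hξ.1, mul_comm] at h1
      by_contra hne
      exact hz1 (hξfaith z (mul_right_cancel₀ hne h1).symm)
    refine hstep R ?_ ?_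
    · rw [hR, Subgroup.index_comap_of_surjective _ hπ]
      exact (index_le_of_vanish _ hξ.1 hvan).trans (Nat.pow_le_pow_left (hbL _ hξ.1) 2)
    · refine deg_lt_of_scalar hb (by omega) R (isIrr_comp_mk' K hξ.1) ?_ fun g r hr => ?_
      · rw [deg_of_eq (χ := ξ ∘ QuotientGroup.mk) (ψ := ξ) (by simp)]
        exact hξ.2
      · show ‖ξ ((g * r : G) : G ⧸ K)‖ = ‖ξ (g : G ⧸ K)‖
        have hrZ : (r : G ⧸ K) ∈ Subgroup.center (G ⧸ K) := hr
        have h1 := congrArg norm (char_center_mul hξ.1 hrZ (g : G ⧸ K))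
        obtain ⟨n, ρ, hirr, hρ⟩ := hξ.1
        haveI : ρ.IsIrreducible := hirr
        have hn : ‖ξ (r : G ⧸ K)‖ = ‖ξ 1‖ := by
          rw [← hρ, Representation.char_one, Complex.norm_natCast, norm_character_eq_iff]
          exact exists_eq_smul_id ρ (ρ (r : G ⧸ K)) fun y => by
            rw [← Module.End.mul_eq_comp, ← Module.End.mul_eq_comp, ← map_mul, ← map_mul,
              Subgroup.mem_center_iff.1 hrZ y]
        rw [norm_mul, norm_mul, hn, mul_comm] at h1
        rw [QuotientGroup.mk_mul, Subgroup.mem_center_iff.1 hrZ]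
        exact mul_left_cancel₀ (norm_ne_zero_iff.2 (irr_one_ne_zero ⟨n, ρ, hirr, hρ⟩)) h1
  have hquart : 5 ≤ b → Nat.card (G ⧸ K) ≤ b ^ 4 →
      ∃ (R : Subgroup G) (c : ℕ), c < b ∧ Bdd R c ∧
        R.index * c.factorial ^ 2 ≤ b.factorial ^ 2 := fun h5 hle =>
    ⟨K, b / 2, by omega, half_of_quotient hb K β.2 hβ, by
      rw [Subgroup.index_eq_card]
      exact (Nat.mul_le_mul_right _ hle).trans (arith_quartic h5)⟩
  by_cases hAc : ∀ a ∈ commutator (G ⧸ K), ∀ c ∈ commutator (G ⧸ K), a * c = c * a
  · -- an abelian derived subgroup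
    have hsol : Group.IsSolvable (G ⧸ K) := (Group.isSolvable_def _).2 ⟨2, by
      rw [derivedSeries_succ, derivedSeries_one, eq_bot_iff, Subgroup.commutator_le]
      intro a ha c hc
      exact Subgroup.mem_bot.2 (commutatorElement_eq_one_iff_mul_comm.2 (hAc a ha c hc))⟩
    rcases frob_structure hnaL hmin with ⟨q, hq, hqL⟩ |
      ⟨q, hq, hAq, hAne, -, hidx1, hqidx, hfr⟩
    · exfalso
      have := Fact.mk hq
      have : Nontrivial (G ⧸ K) := by
        obtain ⟨a, c, hac⟩ := hnaL
        exact ⟨⟨a * c, c * a, hac⟩⟩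
      have := hqL.center_nontrivial
      exact (Subgroup.nontrivial_iff_ne_bot _).1 this hZ
    have := Fact.mk hq
    set N := (commutator (G ⧸ K)).comap (QuotientGroup.mk' K) with hN
    have : N.Normal := (inferInstance : (commutator (G ⧸ K)).Normal).comap _
    have hKN : K ≤ N := fun k hk => by
      rw [hN, Subgroup.mem_comap, QuotientGroup.mk'_apply, (QuotientGroup.eq_one_iff k).2 hk]
      exact one_mem _
    have := Fintype.ofFinite N
    have hab : ∀ g h : G, g * h * g⁻¹ * h⁻¹ ∈ N := fun g h => by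
      rw [hN, Subgroup.mem_comap, commutator_def]
      simp only [map_mul, map_inv]
      exact Subgroup.commutator_mem_commutator (Subgroup.mem_top _) (Subgroup.mem_top _)
    have hNab : ∀ a ∈ N, ∀ c ∈ N, a * c * a⁻¹ * c⁻¹ ∈ K := fun a ha c hc => by
      rw [← QuotientGroup.eq_one_iff]
      have := hAc _ ha _ hc
      simp only [QuotientGroup.mk'_apply] at this
      simp [this]
    have hne : K ≠ N := by
      intro e
      apply hAne
      rw [eq_bot_iff]
      intro x hx
      obtain ⟨g, rfl⟩ := hπ x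
      exact Subgroup.mem_bot.2 ((QuotientGroup.eq_one_iff g).2 (e.ge hx))
    have hKidx : (K.subgroupOf N).index = Nat.card (commutator (G ⧸ K)) := by
      have h1 := Subgroup.relIndex_mul_index hKN
      rw [show N.index = (commutator (G ⧸ K)).index from
        Subgroup.index_comap_of_surjective _ hπ, Subgroup.index_eq_card K,
        ← (commutator (G ⧸ K)).card_mul_index] at h1
      exact Nat.eq_of_mul_eq_mul_right (Nat.pos_of_ne_zero Subgroup.index_ne_zero_of_finite) h1
    have hNidx : N.index = (commutator (G ⧸ K)).index :=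
      Subgroup.index_comap_of_surjective _ hπ
    have hfree : ∀ s : G, s ∉ N → ∀ n ∈ N, ∃ x ∈ N, n⁻¹ * (s * x * s⁻¹ * x⁻¹) ∈ K := by
      intro s hs a ha
      obtain ⟨x, hx, he⟩ := hfr (QuotientGroup.mk' K s) hs _ ha
      obtain ⟨y, rfl⟩ := hπ x
      refine ⟨y, hx, ?_⟩
      rw [← QuotientGroup.eq_one_iff]
      simp only [QuotientGroup.mk'_apply] at he
      simp [he]
    have hNq : ∃ i, (K.subgroupOf N).index = q ^ i := hKidx ▸ IsPGroup.iff_card.1 hAq
    have hfb : N.index ≤ b := by
      obtain ⟨χ, hχ, hd⟩ := frob_degree K N hKN hne hab hNab hNq hfree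
        (isIrrCharacter_one (G := N)) (by
          rw [deg_of_cast (χ := fun _ : N => (1 : ℂ)) (d := 1) (by simp)]
          exact hq.not_dvd_one)
      rw [deg_of_cast (χ := fun _ : N => (1 : ℂ)) (d := 1) (by simp), mul_one] at hd
      exact hd ▸ hb χ hχ
    by_cases hNb : Bdd N (b - 1)
    · exact hstep N (hfb.trans (Nat.le_self_pow two_ne_zero b)) hNb
    -- a degree `b` on `N`
    simp only [Bdd, not_forall] at hNb
    obtain ⟨θ, hθ, hθlt⟩ := hNb
    have hθb : Cfsg.charDegree θ = b := by
      obtain ⟨χ, h0⟩ := exists_irr_over (G := G) N hθ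
      have := deg_le_of_res N χ.2 hθ h0
      have := hb χ χ.2
      omega
    have hinv : ∀ η : N → ℂ, Cfsg.IsIrrCharacter N η → Cfsg.charDegree η = b →
        ∀ g : G, conjFun N g η = η := by
      intro η hη hηb g
      obtain ⟨χ, h0⟩ := exists_irr_over (G := G) N hη
      rw [← res_eq_of_deg hb N hη hηb χ.2 h0]
      exact conjFun_res N (isClassFunction_of_isIrr χ.2) g
    obtain ⟨s, hs⟩ : ∃ s : G, s ∉ N := by
      by_contra h
      push Not at h
      exact hidx1 (hNidx ▸ (Subgroup.index_eq_one.2 (eq_top_iff.2 fun g _ => h g)))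
    set A := commutator (G ⧸ K) with hA
    -- `[s, ·]` is injective on `A`
    let T : A → A := fun x => ⟨(s : G ⧸ K) * x * (s : G ⧸ K)⁻¹ * (x : G ⧸ K)⁻¹,
      mul_mem ((inferInstance : A.Normal).conj_mem x x.2 _) (inv_mem x.2)⟩
    have hTinj : Function.Injective T := Finite.injective_iff_surjective.2 fun a => by
      obtain ⟨x, hx, he⟩ := hfr (s : G ⧸ K) hs a a.2
      exact ⟨⟨x, hx⟩, Subtype.ext he⟩
    have hvan : ∀ n : N, n ∉ K.subgroupOf N → θ n = 0 := by
      intro n hn
      by_contra hθn
      let cm : N := ⟨s * n * s⁻¹ * (n : G)⁻¹, hab s n⟩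
      have hK' : (K.subgroupOf N).Normal := Subgroup.Normal.subgroupOf ‹K.Normal› N
      have := Fintype.ofFinite (N ⧸ K.subgroupOf N)
      have hQc : ∀ a c : N ⧸ K.subgroupOf N, a * c = c * a := by
        intro a c
        obtain ⟨a, rfl⟩ := QuotientGroup.mk_surjective a
        obtain ⟨c, rfl⟩ := QuotientGroup.mk_surjective c
        rw [← commutatorElement_eq_one_iff_mul_comm, ← QuotientGroup.mk'_apply,
          ← QuotientGroup.mk'_apply, ← map_commutatorElement, QuotientGroup.mk'_apply,
          QuotientGroup.eq_one_iff]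
        exact hNab a a.2 c c.2
      have hlam : ∀ γ : Cfsg.IrrCharacter (N ⧸ K.subgroupOf N),
          (γ : N ⧸ K.subgroupOf N → ℂ) (cm : N ⧸ K.subgroupOf N) =
            (γ : N ⧸ K.subgroupOf N → ℂ) 1 := by
        intro γ
        have hγ1 := irr_one_eq_one_of_comm hQc γ.2
        let l : N → ℂ := (γ : N ⧸ K.subgroupOf N → ℂ) ∘ QuotientGroup.mk
        have hl : Cfsg.IsCharacter N l :=
          isCharacter_comp_mk' _ (isCharacter_of_isIrr γ.2)
        have hl1 : l 1 = 1 := by simp [l, hγ1]
        have hη := isIrr_mul_linear hθ hl hl1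
        have hηb : Cfsg.charDegree (θ * l) = b := by
          rw [← hθb]
          exact deg_of_eq (by simp [hl1])
        have h1 := congrFun (hinv _ hη hηb s) n
        have h2 := congrFun (hinv _ hθ hθb s) n
        rw [conjFun_apply] at h1 h2
        rw [Pi.mul_apply, Pi.mul_apply, h2] at h1
        have h3 := mul_left_cancel₀ hθn h1
        have e : (⟨s * n * s⁻¹, ‹N.Normal›.conj_mem (n : G) n.2 s⟩ : N) = cm * n :=
          Subtype.ext (by simp [cm])
        rw [e, linear_map_mul hl hl1] at h3
        have hln : l n ≠ 0 := fun h => by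
          have := linear_map_mul hl hl1 n⁻¹ n
          rw [inv_mul_cancel, hl1, h, mul_zero] at this
          exact one_ne_zero this
        show l cm = _
        rw [(mul_eq_right₀ hln).1 h3, hγ1]
      have hcK : cm ∈ K.subgroupOf N := (QuotientGroup.eq_one_iff cm).1
        (isConj_one_left.1 ((isConj_iff_forall_irr _ _).2 hlam))
      have hcK' : ((s * n * s⁻¹ * (n : G)⁻¹ : G) : G ⧸ K) = 1 :=
        (QuotientGroup.eq_one_iff _).2 hcK
      have h4 : (⟨((n : G) : G ⧸ K), n.2⟩ : A) = 1 := hTinj (Subtype.ext (by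
        show _ = (s : G ⧸ K) * 1 * (s : G ⧸ K)⁻¹ * 1⁻¹
        rw [mul_one, mul_inv_cancel, one_mul, inv_one, ← hcK']
        rfl))
      exact hn ((QuotientGroup.eq_one_iff (n : G)).1 (congrArg Subtype.val h4))
    have hidx : (K.subgroupOf N).index ≤ b ^ 2 := hθb ▸ index_le_of_vanish _ hθ hvan
    have hcard : Nat.card (G ⧸ K) ≤ b ^ 3 := by
      rw [← Subgroup.index_eq_card, ← Subgroup.relIndex_mul_index hKN]
      calc (K.subgroupOf N).index * N.index ≤ b ^ 2 * b := Nat.mul_le_mul hidx hfb
        _ = b ^ 3 := by ring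
    have hb3 : 3 ≤ b := by
      by_contra hlt
      obtain rfl : b = 2 := by omega
      have hf2 : N.index = 2 := by
        have : N.index ≠ 0 := Subgroup.index_ne_zero_of_finite
        have : N.index ≠ 1 := hNidx ▸ hidx1
        omega
      have hq2 : q ≠ 2 := fun e => hqidx (by rw [← hNidx, hf2, e])
      obtain ⟨i, hi⟩ := hNq
      rw [hi] at hidx
      rcases Nat.eq_zero_or_pos i with rfl | hipos
      · rw [pow_zero, Subgroup.index_eq_one] at hi
        exact hne (le_antisymm hKN (Subgroup.subgroupOf_eq_top.1 hi))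
      have hq3 : 3 ≤ q := by have := hq.two_le; omega
      have hi1 : i = 1 := by
        by_contra hi1
        have : q ^ 2 ≤ q ^ i := Nat.pow_le_pow_right hq.pos (by omega)
        nlinarith
      rw [hi1, pow_one] at hi hidx
      have hq3' : q = 3 := by
        have : q ≠ 4 := fun e => by norm_num [e] at hq
        omega
      -- the restriction to `K` would have norm `3`
      set K' := K.subgroupOf N
      have := Fintype.ofFinite K'
      obtain ⟨a, ha, hai⟩ := char_decomp (isCharacter_res K' (isCharacter_of_isIrr hθ))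
      have hnorm : Cfsg.classInner (fun k : K' => θ k) (fun k : K' => θ k) = 3 := by
        have h1 := classInner_irr_self hθ
        rw [classInner_def, inv_mul_eq_one₀ (card_ne_zero' (G := N))] at h1
        have h2 : ∑ x : N, θ x * conj (θ x) = ∑ k : K', θ k * conj (θ k) := by
          rw [← Finset.sum_subset (Finset.subset_univ (Finset.univ.filter (· ∈ K')))
            (fun x _ hx => by
              rw [hvan x (fun h => hx (Finset.mem_filter.2 ⟨Finset.mem_univ _, h⟩)), zero_mul])]
          exact Finset.sum_subtype _ (fun x => by simp) _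
        rw [classInner_def, ← h2, ← h1, ← K'.card_mul_index, hi, hq3', Nat.cast_mul,
          inv_mul_cancel_left₀ (card_ne_zero' (G := K'))]
        norm_num
      have hsq : ∑ c, a c ^ 2 = 3 := by
        have h1 : ∑ c : Cfsg.IrrCharacter K', ((a c ^ 2 : ℕ) : ℂ) = 3 := by
          rw [← hnorm]
          conv_rhs => rw [ha]
          rw [classInner_sum_left]
          refine Finset.sum_congr rfl fun c _ => ?_
          rw [classInner_smul_left, ← ha, ← classInner_conj_symm, hai c, map_natCast]
          push_cast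
          ring
        exact_mod_cast h1
      have hsum : ∑ c, a c ≤ 2 := by
        have h1 := congrFun ha 1
        rw [Finset.sum_apply, Finset.sum_congr rfl fun (c : Cfsg.IrrCharacter K') _ => show
          ((a c : ℂ) • (c : K' → ℂ)) 1 = ((a c * Cfsg.charDegree (c : K' → ℂ) : ℕ) : ℂ) by
            rw [Pi.smul_apply, smul_eq_mul, deg_cast c.2]; push_cast; rfl, ← Nat.cast_sum,
          show θ ((1 : K') : N) = θ 1 from rfl, deg_cast hθ, hθb] at h1
        have h2 : ∑ c, a c * Cfsg.charDegree (c : K' → ℂ) = 2 := by exact_mod_cast h1.symm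
        exact h2 ▸ Finset.sum_le_sum fun c _ => Nat.le_mul_of_pos_right _ (deg_pos c.2)
      have hsmall : ∀ c, a c ≤ 1 := fun c => by
        by_contra hc
        have := Finset.single_le_sum (f := fun c => a c ^ 2) (fun _ _ => Nat.zero_le _)
          (Finset.mem_univ c)
        have h4 : 4 ≤ a c ^ 2 := by nlinarith
        omega
      have : ∑ c, a c ^ 2 ≤ ∑ c, a c := Finset.sum_le_sum fun c _ => by
        have := hsmall c
        interval_cases a c <;> simp
      omega
    refine ⟨K, b / 2, by omega, half_of_quotient hb K β.2 hβ, ?_⟩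
    rw [Subgroup.index_eq_card]
    exact (Nat.mul_le_mul_right _ hcard).trans (arith_cubic hb3)
  -- a non-abelian derived subgroup
  have hCA : Subgroup.centralizer (commutator (G ⧸ K) : Set (G ⧸ K)) = ⊥ := by
    by_contra h
    have hle := hmin _ inferInstance h
    exact hAc fun a ha c hc => (Subgroup.mem_centralizer_iff.1 (hle hc) a ha)
  obtain ⟨x, hx1, hx⟩ := by
    have : Nontrivial (G ⧸ K) := by
      obtain ⟨a, c, hac⟩ := hnaL
      exact ⟨⟨a * c, c * a, hac⟩⟩
    exact exists_small_class (b := b) (by omega) hbL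
  set C := Subgroup.centralizer ({x} : Set (G ⧸ K)) with hC
  set H := C.comap (QuotientGroup.mk' K) with hH
  have := Fintype.ofFinite H
  have hHidx : H.index ≤ b ^ 2 := by
    rw [hH, Subgroup.index_comap_of_surjective _ hπ]
    rw [← C.card_mul_index] at hx
    exact Nat.le_of_mul_le_mul_left hx Nat.card_pos
  by_cases hHb : Bdd H (b - 1)
  · exact hstep H hHidx hHb
  simp only [Bdd, not_forall] at hHb
  obtain ⟨ψ, hψ, hψlt⟩ := hHb
  have hψb : Cfsg.charDegree ψ = b := by
    obtain ⟨c, hc, h0⟩ := exists_constituent (isCharacter_indFun H (isCharacter_of_isIrr hψ))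
      fun e => by
        have h1 := congrFun e 1
        rw [indFun_one] at h1
        exact mul_ne_zero (Nat.cast_ne_zero.2 Subgroup.index_ne_zero_of_finite)
          (irr_one_ne_zero hψ) h1
    rw [frobenius_reciprocity H ψ (isClassFunction_of_isIrr hc)] at h0
    have := deg_le_of_res H hc hψ (inner_ne_zero_symm h0)
    have := hb c hc
    omega
  have hcore : C.normalCore = ⊥ := by
    by_contra h
    have hle := (hmin _ inferInstance h).trans C.normalCore_le
    have hxC : x ∈ Subgroup.centralizer (commutator (G ⧸ K) : Set (G ⧸ K)) :=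
      Subgroup.mem_centralizer_iff.2 fun a ha =>
        Subgroup.mem_centralizer_singleton_iff.1 (hle ha)
    rw [hCA, Subgroup.mem_bot] at hxC
    exact hx1 hxC
  have hvan : ∀ h : H, h ∉ K.subgroupOf H → ψ h = 0 := by
    intro h hh
    obtain ⟨y, hy⟩ : ∃ y : G ⧸ K, y * ((h : G) : G ⧸ K) * y⁻¹ ∉ C := by
      by_contra hall
      push Not at hall
      have : ((h : G) : G ⧸ K) ∈ C.normalCore := hall
      rw [hcore, Subgroup.mem_bot, QuotientGroup.eq_one_iff] at this
      exact hh this
    obtain ⟨g, rfl⟩ := hπ y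
    rw [vanish_of_deg hb H hψ hψb h g⁻¹, extendByZero_of_notMem]
    intro hmem
    refine hy ?_
    simpa [hH] using hmem
  have hidx : (K.subgroupOf H).index ≤ b ^ 2 := hψb ▸ index_le_of_vanish _ hψ hvan
  have hKH : K ≤ H := fun k hk => by
    rw [hH, Subgroup.mem_comap, QuotientGroup.mk'_apply, (QuotientGroup.eq_one_iff k).2 hk]
    exact one_mem _
  rcases Nat.lt_or_ge b 5 with h5 | h5
  · exfalso
    have := comm_of_small hmin hZ hbL (by omega)
    refine hAc ?_
    exact CfsgLib.Solvable.commute_of_minimal_normal (commutator (G ⧸ K)) hA1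
      (fun M hM hle => (eq_or_ne M ⊥).imp id fun h => le_antisymm hle (hmin M hM h)) inferInstance
  · refine hquart h5 ?_
    rw [← Subgroup.index_eq_card, ← Subgroup.relIndex_mul_index hKH]
    calc (K.subgroupOf H).index * H.index ≤ b ^ 2 * b ^ 2 := Nat.mul_le_mul hidx hHidx
      _ = b ^ 4 := by ring

/-- An abelian subgroup of index at most `(b!)²`. -/
theorem exists_abelian : ∀ (b : ℕ) (G : Type u) [Group G] [Finite G], Bdd G b →
    ∃ A : Subgroup G, (∀ x ∈ A, ∀ y ∈ A, x * y = y * x) ∧ A.index ≤ b.factorial ^ 2 := by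
  intro b
  induction b using Nat.strong_induction_on with
  | _ b ih =>
  intro G _ _ hb
  classical
  have := Fintype.ofFinite G
  by_cases hab : ∀ a c : G, a * c = c * a
  · exact ⟨⊤, fun a _ c _ => hab a c, by
      rw [Subgroup.index_top]; exact Nat.one_le_pow _ _ (Nat.factorial_pos b)⟩
  push Not at hab
  have hb2 : 2 ≤ b := by
    by_contra h
    obtain ⟨a, c, hac⟩ := hab
    refine hac (comm_iff_forall_linear.2 (fun χ => ?_) a c)
    have := hb χ χ.2
    have := deg_pos χ.2
    rw [deg_cast χ.2, show Cfsg.charDegree (χ : G → ℂ) = 1 by omega, Nat.cast_one]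
  obtain ⟨R, c, hc, hRc, hle⟩ := exists_step hb2 hb hab
  obtain ⟨A, hA, hAi⟩ := ih c hc R hRc
  refine ⟨A.map R.subtype, ?_, ?_⟩
  · rintro _ ⟨x, hx, rfl⟩ _ ⟨y, hy, rfl⟩
    exact congrArg R.subtype (hA x hx y hy)
  · rw [Subgroup.index_map_subtype]
    calc A.index * R.index ≤ c.factorial ^ 2 * R.index := Nat.mul_le_mul_right _ hAi
      _ = R.index * c.factorial ^ 2 := mul_comm _ _
      _ ≤ _ := hle

end CfsgLib.AbelianIndex
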