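import Cfsg.Agent.Lib.Char.Generalized
import Cfsg.Agent.Lib.Char.Linear

/-!
# Artin induction from cyclic subgroups

`genFun G` is `|G|` on generators of `G` and `0` elsewhere; it is a generalized character and
the functions induced from the `genFun` of all subgroups add up to `|G|`.
-/

namespace CfsgLib.Char

open scoped ComplexConjugate

/-- `|G|` on the generators of `G`, `0` elsewhere. -/
noncomputable def genFun (G : Type*) [Group G] : G → ℂ :=
  open Classical in fun g => if Subgroup.zpowers g = ⊤ then (Nat.card G : ℂ) else 0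

section

variable {G : Type*} [Group G]

theorem isClassFunction_genFun : Cfsg.IsClassFunction G (genFun G) := by
  classical
  have key : ∀ g h : G, Subgroup.zpowers g = ⊤ → h * g * h⁻¹ = g := by
    intro g h hg
    obtain ⟨k, rfl⟩ := Subgroup.mem_zpowers_iff.mp (hg ▸ Subgroup.mem_top h)
    group
  intro g h
  by_cases hg : Subgroup.zpowers g = ⊤
  · rw [key g h hg]
  · have : Subgroup.zpowers (h * g * h⁻¹) ≠ ⊤ := fun h2 => hg (by
      have h3 := key _ h⁻¹ h2
      rw [← h2]
      congr 1
      simpa [mul_assoc] using h3)
    simp [genFun, hg, this]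

theorem genFun_subgroup_eq (A : Subgroup G) (a : A) [Decidable (Subgroup.zpowers (a : G) = A)] :
    genFun A a = if Subgroup.zpowers (a : G) = A then (Nat.card A : ℂ) else 0 := by
  have h : Subgroup.zpowers a = ⊤ ↔ Subgroup.zpowers (a : G) = A := by
    rw [← (Subgroup.map_injective A.subtype_injective).eq_iff, MonoidHom.map_zpowers,
      ← MonoidHom.range_eq_map, Subgroup.range_subtype]
    rfl
  simp only [genFun, h]

/-- The functions induced from `genFun` of the subgroups add up to the constant `|G|`. -/
theorem sum_indFun_genFun [Fintype G] [Fintype (Subgroup G)] :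
    ∑ A : Subgroup G, Cfsg.indFun A (genFun A) = fun _ => (Nat.card G : ℂ) := by
  classical
  funext g
  rw [Finset.sum_apply]
  have h : ∀ A : Subgroup G, Cfsg.indFun A (genFun A) g =
      ∑ x : G, if Subgroup.zpowers (x⁻¹ * g * x) = A then (1 : ℂ) else 0 := by
    intro A
    rw [indFun_apply, Finset.mul_sum]
    refine Finset.sum_congr rfl fun x _ => ?_
    by_cases hx : x⁻¹ * g * x ∈ A
    · rw [extendByZero_of_mem _ hx, genFun_subgroup_eq]
      dsimp only
      split_ifs
      · exact inv_mul_cancel₀ (card_subgroup_ne_zero A)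
      · exact mul_zero _
    · rw [extendByZero_of_notMem _ hx, mul_zero,
        if_neg fun e => hx (by rw [← e]; exact Subgroup.mem_zpowers _)]
  rw [Finset.sum_congr rfl fun A _ => h A, Finset.sum_comm]
  simp [Finset.sum_ite_eq, Nat.card_eq_fintype_card]

end

universe u

theorem isGen_genFun_aux : ∀ n, ∀ (G : Type u) [Group G] [Fintype G], Nat.card G = n →
    Cfsg.IsGeneralizedCharacter G (genFun G) := by
  intro n
  induction n using Nat.strong_induction_on with
  | _ n ih =>
    intro G _ _ hn
    classical
    have := Fintype.ofFinite (Subgroup G)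
    have htop : Cfsg.indFun (⊤ : Subgroup G) (genFun (⊤ : Subgroup G)) = genFun G := by
      conv_rhs => rw [← indFun_top (isClassFunction_genFun (G := G))]
      congr 1
      funext a
      rw [genFun_subgroup_eq]
      simp [genFun]
    have hs := sum_indFun_genFun (G := G)
    rw [← Finset.add_sum_erase _ _ (Finset.mem_univ (⊤ : Subgroup G)), htop] at hs
    rw [eq_sub_of_add_eq hs]
    refine isGen_sub ?_ (isGen_sum _ fun A hA => isGen_indFun A ?_)
    · convert isGen_intCast_smul (isGen_one (G := G)) (Nat.card G : ℤ) using 1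
      funext; simp
    · have := Fintype.ofFinite A
      refine ih _ ?_ A rfl
      rw [← hn, ← Nat.card_congr (Subgroup.topEquiv (G := G)).toEquiv]
      exact Set.Finite.card_lt_card (Set.toFinite _)
        (SetLike.coe_ssubset_coe.mpr (lt_top_iff_ne_top.mpr (Finset.ne_of_mem_erase hA)))

theorem isGen_genFun (G : Type*) [Group G] [Fintype G] :
    Cfsg.IsGeneralizedCharacter G (genFun G) :=
  isGen_genFun_aux _ G rfl

theorem genFun_eq_zero_of_not_isCyclic {G : Type*} [Group G] (h : ¬ IsCyclic G) :
    genFun G = 0 :=
  funext fun g => if_neg fun (hg : Subgroup.zpowers g = ⊤) =>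
    h ⟨g, fun x => by rw [← Subgroup.mem_zpowers_iff, hg]; trivial⟩

/-- `|G| χ` is the sum of the functions induced from `genFun A * χ|_A`. -/
theorem card_smul_eq_sum_indFun {G : Type*} [Group G] [Fintype G] [Fintype (Subgroup G)]
    {χ : G → ℂ} (hχ : Cfsg.IsClassFunction G χ) :
    (Nat.card G : ℂ) • χ =
      ∑ A : Subgroup G, Cfsg.indFun A (genFun A * fun a : A => χ a) := by
  simp only [← indFun_mul _ _ hχ, ← Finset.sum_mul, sum_indFun_genFun]
  rfl

end CfsgLib.Char
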