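import Cfsg.Prelude.Def_Characters
import Mathlib.RepresentationTheory.Maschke
import Mathlib.LinearAlgebra.Eigenspace.Semisimple
import Mathlib.LinearAlgebra.Eigenspace.Triangularizable
import Mathlib.FieldTheory.Separable
import Mathlib.Analysis.Complex.Polynomial.Basic
import Mathlib.RingTheory.IntegralClosure.IsIntegral.Basic

/-!
# Ordinary characters: basic facts

* `isCharacter_char`, `isIrrCharacter_char`: trace functions of representations on any
  finite-dimensional space are `Cfsg.IsCharacter` / `Cfsg.IsIrrCharacter`.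
* `exists_eigenbasis`: every `ρ g` has an eigenbasis with roots of unity as eigenvalues.
* class function, `χ g⁻¹ = conj (χ g)`, integrality, `‖χ g‖ ≤ χ 1`, kernel.
* closure of characters under `0`, `+`, `ℕ`-multiples, finite sums, products, `conj`,
  restriction along homomorphisms; linear characters.
-/

namespace CfsgLib.Char

open Module
open scoped ComplexConjugate

section Rep

variable {G : Type*} [Group G] {V : Type*} [AddCommGroup V] [Module ℂ V]

/-- Transport of a representation along a linear equivalence. -/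
noncomputable def transport {W : Type*} [AddCommGroup W] [Module ℂ W]
    (ρ : Representation ℂ G V) (e : V ≃ₗ[ℂ] W) : Representation ℂ G W where
  toFun g := e.conj (ρ g)
  map_one' := by ext x; simp [LinearEquiv.conj_apply_apply]
  map_mul' g h := by ext x; simp [LinearEquiv.conj_apply_apply]

/-- `ρ` is equivalent to its transport. -/
noncomputable def transportEquiv {W : Type*} [AddCommGroup W] [Module ℂ W]
    (ρ : Representation ℂ G V) (e : V ≃ₗ[ℂ] W) : ρ.Equiv (transport ρ e) :=
  Representation.Equiv.mk e fun g => by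
    ext x; simp [transport, LinearEquiv.conj_apply_apply]

theorem isIrreducible_of_equiv {W : Type*} [AddCommGroup W] [Module ℂ W]
    {ρ : Representation ℂ G V} {σ : Representation ℂ G W} (φ : ρ.Equiv σ)
    [ρ.IsIrreducible] : σ.IsIrreducible := by
  have e : Subrepresentation ρ ≃o Subrepresentation σ :=
    { toFun := fun U => ⟨U.toSubmodule.map (φ.toLinearEquiv : V →ₗ[ℂ] W), by
        intro g w hw
        obtain ⟨v, hv, rfl⟩ := Submodule.mem_map.mp hw
        exact Submodule.mem_map.mpr ⟨ρ g v, U.apply_mem_toSubmodule g hv,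
          LinearMap.congr_fun (φ.toIntertwiningMap.isIntertwining' g) v⟩⟩
      invFun := fun U => ⟨U.toSubmodule.comap (φ.toLinearEquiv : V →ₗ[ℂ] W), by
        intro g v hv
        have := LinearMap.congr_fun (φ.toIntertwiningMap.isIntertwining' g) v
        simp only [Submodule.mem_comap] at hv ⊢
        exact Eq.mpr (congrArg (· ∈ U.toSubmodule) this) (U.apply_mem_toSubmodule g hv)⟩
      left_inv := fun U => Subrepresentation.toSubmodule_injective
        (Submodule.comap_map_eq_of_injective φ.toLinearEquiv.injective _)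
      right_inv := fun U => Subrepresentation.toSubmodule_injective
        (Submodule.map_comap_eq_of_surjective φ.toLinearEquiv.surjective _)
      map_rel_iff' := by
        intro a b
        exact Submodule.map_le_map_iff_of_injective φ.toLinearEquiv.injective _ _ }
  exact e.isSimpleOrder_iff.mp ‹_›

theorem trace_eq_sum_eigen {ι : Type*} [Fintype ι] (b : Basis ι ℂ V) (f : V →ₗ[ℂ] V) (z : ι → ℂ)
    (h : ∀ i, f (b i) = z i • b i) : LinearMap.trace ℂ V f = ∑ i, z i := by
  classical
  rw [LinearMap.trace_eq_matrix_trace ℂ b, Matrix.trace]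
  exact Finset.sum_congr rfl fun i _ => by simp [Matrix.diag, LinearMap.toMatrix_apply, h]

theorem apply_pow_eigen {ι : Type*} (ρ : Representation ℂ G V) (b : Basis ι ℂ V) (g : G)
    (z : ι → ℂ) (h : ∀ i, ρ g (b i) = z i • b i) (k : ℕ) (i : ι) :
    ρ (g ^ k) (b i) = z i ^ k • b i := by
  induction k with
  | zero => simp
  | succ k ih =>
    rw [pow_succ', map_mul, Module.End.mul_apply, ih, map_smul, h, smul_smul, pow_succ]

theorem norm_eq_one_of_pow_eq_one' {z : ℂ} {m : ℕ} (hm : m ≠ 0) (h : z ^ m = 1) : ‖z‖ = 1 := by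
  have : ‖z‖ ^ m = 1 := by rw [← norm_pow, h, norm_one]
  exact (pow_eq_one_iff_of_nonneg (norm_nonneg _) hm).mp this

variable [FiniteDimensional ℂ V]

theorem character_transport {W : Type*} [AddCommGroup W] [Module ℂ W] [FiniteDimensional ℂ W]
    (ρ : Representation ℂ G V) (e : V ≃ₗ[ℂ] W) :
    (transport ρ e).character = ρ.character :=
  (Representation.char_iso (transportEquiv ρ e)).symm

theorem isCharacter_char (ρ : Representation ℂ G V) : Cfsg.IsCharacter G ρ.character :=
  ⟨finrank ℂ V, transport ρ (finBasis ℂ V).equivFun, character_transport ρ _⟩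

theorem isIrrCharacter_char (ρ : Representation ℂ G V) [ρ.IsIrreducible] :
    Cfsg.IsIrrCharacter G ρ.character :=
  ⟨finrank ℂ V, transport ρ (finBasis ℂ V).equivFun,
    isIrreducible_of_equiv (transportEquiv ρ _), character_transport ρ _⟩

theorem finrank_pos_of_irreducible (ρ : Representation ℂ G V) [ρ.IsIrreducible] :
    0 < finrank ℂ V := by
  rw [Module.finrank_pos_iff]
  by_contra h
  rw [not_nontrivial_iff_subsingleton] at h
  obtain ⟨a, b, hab⟩ := exists_pair_ne (Subrepresentation ρ)
  exact hab (Subrepresentation.toSubmodule_injective (Subsingleton.elim _ _))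

/-- An operator `ρ g` with `g ^ m = 1` has an eigenbasis with `m`-th roots of unity. -/
theorem exists_eigenbasis_of_pow_eq_one (ρ : Representation ℂ G V) (g : G) {m : ℕ} (hm : m ≠ 0)
    (hg : g ^ m = 1) :
    ∃ (b : Basis (Fin (finrank ℂ V)) ℂ V) (z : Fin (finrank ℂ V) → ℂ),
      ∀ i, z i ^ m = 1 ∧ ρ g (b i) = z i • b i := by
  classical
  set f : Module.End ℂ V := ρ g with hf
  have hpow : f ^ m = 1 := by rw [hf, ← map_pow, hg, map_one]
  have hss : f.IsSemisimple := by
    refine Module.End.isSemisimple_of_squarefree_aeval_eq_zero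
      (p := (Polynomial.X ^ m - 1 : Polynomial ℂ)) ?_ (by simp [hpow])
    exact (Polynomial.X_pow_sub_one_separable_iff.mpr (by exact_mod_cast hm)).squarefree
  have hint : DirectSum.IsInternal (fun μ : ℂ => f.eigenspace μ) :=
    (DirectSum.isInternal_submodule_iff_iSupIndep_and_iSup_eq_top _).mpr
      ⟨Module.End.eigenspaces_iSupIndep f, hss.iSup_eigenspace_eq_top⟩
  let B := hint.collectedBasis fun μ => Basis.ofVectorSpace ℂ (f.eigenspace μ)
  have : Fintype (Σ μ, Basis.ofVectorSpaceIndex ℂ (f.eigenspace μ)) :=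
    FiniteDimensional.fintypeBasisIndex B
  let e := Fintype.equivFinOfCardEq (Module.finrank_eq_card_basis B).symm
  refine ⟨B.reindex e, fun i => (e.symm i).1, fun i => ?_⟩
  have hmem := Module.End.mem_eigenspace_iff.mp (hint.collectedBasis_mem
    (fun μ => Basis.ofVectorSpace ℂ (f.eigenspace μ)) (e.symm i))
  rw [Basis.reindex_apply]
  refine ⟨?_, hmem⟩
  have hk : ∀ k : ℕ, (f ^ k) (B (e.symm i)) = (e.symm i).1 ^ k • B (e.symm i) := by
    intro k
    induction k with
    | zero => simp
    | succ k ih =>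
      rw [pow_succ', Module.End.mul_apply, ih, map_smul, hmem, smul_smul, pow_succ]
  have h1 := hk m
  rw [hpow] at h1
  have h2 : ((e.symm i).1 ^ m - 1) • B (e.symm i) = 0 := by
    rw [sub_smul, one_smul, ← h1]; simp
  exact sub_eq_zero.mp ((smul_eq_zero.mp h2).resolve_right (B.ne_zero _))

theorem exists_eigenbasis [Finite G] (ρ : Representation ℂ G V) (g : G) :
    ∃ (b : Basis (Fin (finrank ℂ V)) ℂ V) (z : Fin (finrank ℂ V) → ℂ),
      ∀ i, z i ^ orderOf g = 1 ∧ ρ g (b i) = z i • b i :=
  exists_eigenbasis_of_pow_eq_one ρ g (orderOf_pos g).ne' (pow_orderOf_eq_one g)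

/-- The character at all powers of `g` is given by power sums of one tuple of roots of unity. -/
theorem exists_roots_char_pow [Finite G] (ρ : Representation ℂ G V) (g : G) :
    ∃ z : Fin (finrank ℂ V) → ℂ,
      (∀ i, z i ^ orderOf g = 1) ∧ ∀ k : ℕ, ρ.character (g ^ k) = ∑ i, z i ^ k := by
  obtain ⟨b, z, h⟩ := exists_eigenbasis ρ g
  exact ⟨z, fun i => (h i).1, fun k => trace_eq_sum_eigen b _ _
    fun i => apply_pow_eigen ρ b g z (fun j => (h j).2) k i⟩

theorem exists_roots_char [Finite G] (ρ : Representation ℂ G V) (g : G) :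
    ∃ z : Fin (finrank ℂ V) → ℂ, (∀ i, z i ^ orderOf g = 1) ∧ ρ.character g = ∑ i, z i := by
  obtain ⟨z, hz, hsum⟩ := exists_roots_char_pow ρ g
  exact ⟨z, hz, by simpa using hsum 1⟩

theorem character_inv [Finite G] (ρ : Representation ℂ G V) (g : G) :
    ρ.character g⁻¹ = conj (ρ.character g) := by
  obtain ⟨z, hz, hsum⟩ := exists_roots_char_pow ρ g
  obtain ⟨k, hk⟩ : ∃ k, orderOf g = k + 1 := ⟨orderOf g - 1, by have := orderOf_pos g; omega⟩
  have hginv : g⁻¹ = g ^ k :=
    inv_eq_of_mul_eq_one_right (by rw [← pow_succ', ← hk, pow_orderOf_eq_one])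
  have h1 := hsum 1
  rw [pow_one] at h1
  rw [hginv, hsum k, h1, map_sum]
  refine Finset.sum_congr rfl fun i _ => ?_
  have hzk : z i * z i ^ k = 1 := by rw [← pow_succ', ← hk]; exact hz i
  rw [pow_one, ← Complex.inv_eq_conj (norm_eq_one_of_pow_eq_one' (orderOf_pos g).ne' (hz i))]
  exact eq_inv_of_mul_eq_one_right hzk

theorem character_isIntegral [Finite G] (ρ : Representation ℂ G V) (g : G) :
    IsIntegral ℤ (ρ.character g) := by
  obtain ⟨z, hz, hsum⟩ := exists_roots_char ρ g
  rw [hsum]
  exact IsIntegral.sum _ fun i _ => IsIntegral.of_pow (orderOf_pos g) (hz i ▸ isIntegral_one)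

theorem norm_character_le [Finite G] (ρ : Representation ℂ G V) (g : G) :
    ‖ρ.character g‖ ≤ (finrank ℂ V : ℝ) := by
  obtain ⟨z, hz, hsum⟩ := exists_roots_char ρ g
  rw [hsum]
  refine (norm_sum_le _ _).trans_eq ?_
  simp [fun i => norm_eq_one_of_pow_eq_one' (orderOf_pos g).ne' (hz i)]

theorem norm_character_eq_iff [Finite G] (ρ : Representation ℂ G V) (g : G) :
    ‖ρ.character g‖ = (finrank ℂ V : ℝ) ↔ ∃ ω : ℂ, ρ g = ω • (LinearMap.id : V →ₗ[ℂ] V) := by
  obtain ⟨b, z, h⟩ := exists_eigenbasis ρ g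
  have hnorm : ∀ i, ‖z i‖ = 1 := fun i => norm_eq_one_of_pow_eq_one' (orderOf_pos g).ne' (h i).1
  have htr : ρ.character g = ∑ i, z i := trace_eq_sum_eigen b _ _ fun i => (h i).2
  constructor
  · intro hχ
    rcases isEmpty_or_nonempty (Fin (finrank ℂ V)) with he | ⟨⟨i₀⟩⟩
    · exact ⟨1, b.ext fun i => (IsEmpty.false i).elim⟩
    refine ⟨ρ.character g / finrank ℂ V, b.ext fun i => ?_⟩
    have hn : (0 : ℝ) < finrank ℂ V := by exact_mod_cast Fin.pos i₀
    set s := ρ.character g with hs
    set u : ℂ := s / finrank ℂ V with hu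
    have hu1 : ‖u‖ = 1 := by
      rw [hu, norm_div, Complex.norm_natCast, hχ, div_self hn.ne']
    have key : ∑ j, (Complex.re (z j * conj u)) = (finrank ℂ V : ℝ) := by
      rw [← Complex.re_sum, ← Finset.sum_mul, ← htr]
      have hsu : s = u * finrank ℂ V := by
        rw [hu, div_mul_cancel₀]; exact_mod_cast hn.ne'
      rw [hsu, mul_right_comm, Complex.mul_conj']
      simp [hu1]
    have hle : ∀ j ∈ Finset.univ, Complex.re (z j * conj u) ≤ 1 := fun j _ => by
      refine (Complex.re_le_norm _).trans ?_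
      simp [hnorm j, hu1]
    have hall := (Finset.sum_eq_sum_iff_of_le hle).mp (key.trans (by simp)) i (Finset.mem_univ i)
    have h1 : z i * conj u = 1 := by
      have hn1 : ‖z i * conj u‖ = 1 := by simp [hnorm i, hu1]
      have him : (z i * conj u).im = 0 := by
        have := Complex.sq_norm_sub_sq_re (z i * conj u)
        rw [hn1, hall] at this
        nlinarith
      exact Complex.ext (by simpa using hall) (by simpa using him)
    have hzu : z i = u := by
      have := congrArg (· * u) h1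
      simpa [mul_assoc, mul_comm (conj u) u, Complex.mul_conj', hu1] using this
    simp [(h i).2, hzu]
  · rintro ⟨ω, hω⟩
    have hzi : ∀ i, z i = ω := by
      intro i
      have := (h i).2
      rw [hω] at this
      exact (smul_left_injective ℂ (b.ne_zero i) (by simpa using this)).symm
    rw [htr]
    rcases isEmpty_or_nonempty (Fin (finrank ℂ V)) with he | ⟨⟨i₀⟩⟩
    · have : finrank ℂ V = 0 :=
        Nat.eq_zero_of_not_pos fun hp => he.false (⟨0, hp⟩ : Fin (finrank ℂ V))
      simp [this]
    · have hω1 : ‖ω‖ = 1 := hzi i₀ ▸ hnorm i₀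
      simp [hzi, hω1]

theorem character_eq_degree_iff [Finite G] (ρ : Representation ℂ G V) (g : G) :
    ρ.character g = (finrank ℂ V : ℂ) ↔ ρ g = LinearMap.id := by
  constructor
  · intro h
    obtain ⟨ω, hω⟩ := (norm_character_eq_iff ρ g).mp (by rw [h]; simp)
    rcases Nat.eq_zero_or_pos (finrank ℂ V) with h0 | h0
    · have := Module.finrank_zero_iff.mp h0
      exact LinearMap.ext fun x => Subsingleton.elim _ _
    have htr : ρ.character g = ω * finrank ℂ V := by
      simp [Representation.character, hω]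
    rw [h] at htr
    have : ω = 1 := (mul_eq_right₀ (by exact_mod_cast h0.ne')).mp htr.symm
    rw [hω, this, one_smul]
  · intro h
    simp [Representation.character, h]

end Rep

section Char

variable {G : Type*} [Group G] {χ ψ : G → ℂ}

theorem isCharacter_of_isIrr (h : Cfsg.IsIrrCharacter G χ) : Cfsg.IsCharacter G χ :=
  let ⟨n, ρ, _, hρ⟩ := h
  ⟨n, ρ, hρ⟩

theorem isClassFunction_of_isCharacter (h : Cfsg.IsCharacter G χ) :
    Cfsg.IsClassFunction G χ := by
  obtain ⟨n, ρ, rfl⟩ := h
  exact fun g h => ρ.char_conj g h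

theorem isClassFunction_of_isIrr (h : Cfsg.IsIrrCharacter G χ) : Cfsg.IsClassFunction G χ :=
  isClassFunction_of_isCharacter (isCharacter_of_isIrr h)

theorem char_mul_comm' (h : Cfsg.IsCharacter G χ) (a b : G) : χ (a * b) = χ (b * a) := by
  obtain ⟨n, ρ, rfl⟩ := h
  exact ρ.char_mul_comm b a

theorem exists_degree (h : Cfsg.IsCharacter G χ) : ∃ n : ℕ, χ 1 = n := by
  obtain ⟨n, ρ, rfl⟩ := h
  exact ⟨n, by simp⟩

theorem exists_degree_pos (h : Cfsg.IsIrrCharacter G χ) : ∃ n : ℕ, 0 < n ∧ χ 1 = n := by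
  obtain ⟨n, ρ, hirr, rfl⟩ := h
  exact ⟨n, by simpa using finrank_pos_of_irreducible ρ, by simp⟩

theorem irr_one_ne_zero (h : Cfsg.IsIrrCharacter G χ) : χ 1 ≠ 0 := by
  obtain ⟨n, hn, h1⟩ := exists_degree_pos h
  rw [h1]; exact_mod_cast hn.ne'

theorem irr_ne_zero (h : Cfsg.IsIrrCharacter G χ) : χ ≠ 0 :=
  fun h0 => irr_one_ne_zero h (congrFun h0 1)

theorem char_conj_one (h : Cfsg.IsCharacter G χ) : conj (χ 1) = χ 1 := by
  obtain ⟨n, hn⟩ := exists_degree h
  rw [hn, map_natCast]

theorem char_inv [Finite G] (h : Cfsg.IsCharacter G χ) (g : G) : χ g⁻¹ = conj (χ g) := by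
  obtain ⟨n, ρ, rfl⟩ := h
  exact character_inv ρ g

theorem char_isIntegral [Finite G] (h : Cfsg.IsCharacter G χ) (g : G) : IsIntegral ℤ (χ g) := by
  obtain ⟨n, ρ, rfl⟩ := h
  exact character_isIntegral ρ g

theorem norm_char_le [Finite G] (h : Cfsg.IsCharacter G χ) (g : G) : ‖χ g‖ ≤ (χ 1).re := by
  obtain ⟨n, ρ, rfl⟩ := h
  simpa using norm_character_le ρ g

theorem isCharacter_zero : Cfsg.IsCharacter G 0 :=
  ⟨0, Representation.trivial ℂ G (Fin 0 → ℂ), funext fun g => by
    simp [Representation.character, Subsingleton.elim (Representation.trivial ℂ G (Fin 0 → ℂ) g) 0]⟩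

theorem isCharacter_add (hχ : Cfsg.IsCharacter G χ) (hψ : Cfsg.IsCharacter G ψ) :
    Cfsg.IsCharacter G (χ + ψ) := by
  obtain ⟨n, ρ, rfl⟩ := hχ
  obtain ⟨m, σ, rfl⟩ := hψ
  have : (ρ.prod σ).character = ρ.character + σ.character :=
    funext fun g => LinearMap.trace_prodMap' (ρ g) (σ g)
  exact this ▸ isCharacter_char _

theorem isCharacter_nsmul (hχ : Cfsg.IsCharacter G χ) : ∀ k : ℕ, Cfsg.IsCharacter G (k • χ)
  | 0 => by simpa using isCharacter_zero
  | k + 1 => by rw [succ_nsmul]; exact isCharacter_add (isCharacter_nsmul hχ k) hχ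

theorem isCharacter_natCast_smul (hχ : Cfsg.IsCharacter G χ) (k : ℕ) :
    Cfsg.IsCharacter G ((k : ℂ) • χ) := by
  rw [Nat.cast_smul_eq_nsmul ℂ]; exact isCharacter_nsmul hχ k

theorem isCharacter_sum {ι : Type*} (s : Finset ι) {f : ι → G → ℂ}
    (h : ∀ i ∈ s, Cfsg.IsCharacter G (f i)) : Cfsg.IsCharacter G (∑ i ∈ s, f i) :=
  Finset.sum_induction f (Cfsg.IsCharacter G) (fun _ _ => isCharacter_add) isCharacter_zero h

theorem isCharacter_mul (hχ : Cfsg.IsCharacter G χ) (hψ : Cfsg.IsCharacter G ψ) :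
    Cfsg.IsCharacter G (χ * ψ) := by
  obtain ⟨n, ρ, rfl⟩ := hχ
  obtain ⟨m, σ, rfl⟩ := hψ
  exact Representation.char_tensor ρ σ ▸ isCharacter_char _

theorem isCharacter_comp {H : Type*} [Group H] (hχ : Cfsg.IsCharacter G χ) (f : H →* G) :
    Cfsg.IsCharacter H (χ ∘ f) := by
  obtain ⟨n, ρ, rfl⟩ := hχ
  exact ⟨n, ρ.comp f, rfl⟩

theorem isCharacter_res (H : Subgroup G) (hχ : Cfsg.IsCharacter G χ) :
    Cfsg.IsCharacter H (fun h : H => χ h) :=
  isCharacter_comp hχ H.subtype

theorem isCharacter_conj [Finite G] (hχ : Cfsg.IsCharacter G χ) :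
    Cfsg.IsCharacter G (fun g => conj (χ g)) := by
  obtain ⟨n, ρ, rfl⟩ := hχ
  have : (fun g => conj (ρ.character g)) = ρ.dual.character :=
    funext fun g => by rw [Representation.char_dual, character_inv]
  exact this ▸ isCharacter_char _

/-- The one-dimensional representation attached to a multiplicative map. -/
noncomputable def linRep (f : G →* ℂ) : Representation ℂ G ℂ :=
  (Algebra.lmul ℂ ℂ).toMonoidHom.comp f

theorem linRep_irreducible (f : G →* ℂ) : (linRep f).IsIrreducible where
  exists_pair_ne := ⟨⊥, ⊤, fun h => bot_ne_top (congrArg Subrepresentation.toSubmodule h)⟩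
  eq_bot_or_eq_top U := (eq_bot_or_eq_top U.toSubmodule).imp
    (fun h => Subrepresentation.toSubmodule_injective h)
    (fun h => Subrepresentation.toSubmodule_injective h)

theorem isIrrCharacter_hom (f : G →* ℂ) : Cfsg.IsIrrCharacter G f := by
  have := linRep_irreducible f
  have h : (linRep f).character = f := funext fun g => by
    have : linRep f g = f g • LinearMap.id := LinearMap.ext_ring (by simp [linRep])
    simp [Representation.character, this]
  exact h ▸ isIrrCharacter_char (linRep f)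

theorem isIrrCharacter_units_hom (f : G →* ℂˣ) : Cfsg.IsIrrCharacter G (fun g => (f g : ℂ)) :=
  isIrrCharacter_hom ((Units.coeHom ℂ).comp f)

theorem isIrrCharacter_one : Cfsg.IsIrrCharacter G (fun _ => 1) :=
  isIrrCharacter_hom (1 : G →* ℂ)

theorem isCharacter_one : Cfsg.IsCharacter G (fun _ => 1) :=
  isCharacter_of_isIrr isIrrCharacter_one

/-- A character of degree one is multiplicative. -/
theorem linear_map_mul (h : Cfsg.IsCharacter G χ) (h1 : χ 1 = 1) (a b : G) :
    χ (a * b) = χ a * χ b := by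
  obtain ⟨n, ρ, rfl⟩ := h
  obtain rfl : n = 1 := by simpa using h1
  have hs : ∀ f : (Fin 1 → ℂ) →ₗ[ℂ] (Fin 1 → ℂ), f = LinearMap.trace ℂ _ f • LinearMap.id := by
    intro f
    rw [LinearMap.trace_eq_matrix_trace ℂ (Pi.basisFun ℂ (Fin 1)) f]
    refine (Pi.basisFun ℂ (Fin 1)).ext fun i => funext fun j => ?_
    fin_cases i; fin_cases j
    simp [Matrix.trace, LinearMap.toMatrix_apply]
  simp only [Representation.character, map_mul]
  rw [hs (ρ a), hs (ρ b)]
  simp [Module.End.mul_eq_comp, LinearMap.comp_smul, LinearMap.smul_comp, mul_comm]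

/-- A character of degree one as a homomorphism to `ℂˣ`. -/
noncomputable def linearHom (h : Cfsg.IsCharacter G χ) (h1 : χ 1 = 1) : G →* ℂˣ :=
  MonoidHom.toHomUnits
    { toFun := χ, map_one' := h1, map_mul' := linear_map_mul h h1 }

theorem linearHom_apply (h : Cfsg.IsCharacter G χ) (h1 : χ 1 = 1) (g : G) :
    (linearHom h h1 g : ℂ) = χ g := rfl

theorem isIrr_of_linear (h : Cfsg.IsCharacter G χ) (h1 : χ 1 = 1) : Cfsg.IsIrrCharacter G χ :=
  isIrrCharacter_units_hom (linearHom h h1)

end Char

end CfsgLib.Char
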