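import Cfsg.Agent.Lib.Char.Induced
import Cfsg.Agent.Lib.CharNormal.Kernel
import Mathlib.GroupTheory.Sylow

/-!
# Tools for the theorem of Broline and Garrison

* `exists_mem_normalizer`: a Frattini argument for a maximal `q`-subgroup of a subgroup;
* `classInner_linear_ne_zero_iff`: linear constituents and eigenvectors;
* `exists_kernel_core`: restriction to a supplement of a subgroup of the kernel.
-/

set_option autoImplicit false

namespace CfsgLib.Broline

open CfsgLib.Char CfsgLib.CharNormal Module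
open scoped ComplexConjugate

variable {G : Type*} [Group G]

/-- `P` is a maximal `q`-subgroup of `M`. -/
structure IsMaxPIn (q : ℕ) (P M : Subgroup G) : Prop where
  le : P ≤ M
  pgroup : IsPGroup q P
  max : ∀ Q : Subgroup G, Q ≤ M → IsPGroup q Q → P ≤ Q → Q = P

theorem isMaxPIn_of_sylow {q : ℕ} {M : Subgroup G} (P : Sylow q M) :
    IsMaxPIn q ((P : Subgroup M).map M.subtype) M := by
  refine ⟨Subgroup.map_subtype_le _, P.2.map _, fun Q hQM hQ hle => ?_⟩
  have h : Q.subgroupOf M = (P : Subgroup M) := by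
    refine P.3 (hQ.of_equiv (Subgroup.subgroupOfEquivOfLe hQM).symm) fun x hx => ?_
    exact hle ⟨x, hx, rfl⟩
  rw [← h, Subgroup.subgroupOf_map_subtype, inf_of_le_left hQM]

variable [Finite G] {q : ℕ} [Fact q.Prime] {P M : Subgroup G}

/-- Frattini argument: if `g` moves `P` into `P ⊔ C` then a translate of `g` by an element of `C`
normalises `P`. -/
theorem IsMaxPIn.exists_mem_normalizer (hP : IsMaxPIn q P M) (C : Subgroup G) [C.Normal]
    (hCM : C ≤ M) {g : G} (hg : ∀ x ∈ P, g * x * g⁻¹ ∈ P ⊔ C) :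
    ∃ c ∈ C, c⁻¹ * g ∈ Subgroup.normalizer (P : Set G) := by
  set S := P ⊔ C with hS
  have hPS : P ≤ S := le_sup_left
  have hSM : S ≤ M := sup_le hP.le hCM
  let P₁ : Sylow q S :=
    { toSubgroup := P.subgroupOf S
      isPGroup' := hP.pgroup.of_equiv (Subgroup.subgroupOfEquivOfLe hPS).symm
      is_maximal' := fun {Q} hQ hle => by
        have h := hP.max (Q.map S.subtype) ((Subgroup.map_subtype_le Q).trans hSM) (hQ.map _)
          (by
            intro x hx
            exact ⟨⟨x, hPS hx⟩, hle (Subgroup.mem_subgroupOf.2 hx), rfl⟩)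
        rw [← h, Subgroup.subgroupOf, Subgroup.comap_map_eq_self_of_injective S.subtype_injective] }
  set R : Subgroup G := P.map (MulAut.conj g).toMonoidHom with hR
  have hRS : R ≤ S := by
    rintro _ ⟨x, hx, rfl⟩
    simpa using hg x hx
  obtain ⟨Q, hQ⟩ := ((hP.pgroup.map (MulAut.conj g).toMonoidHom).of_equiv
    (Subgroup.subgroupOfEquivOfLe hRS).symm).exists_le_sylow
  obtain ⟨s, hs⟩ := MulAction.exists_smul_eq S P₁ Q
  have key : ∀ x ∈ P, (s : G)⁻¹ * (g * x * g⁻¹) * s ∈ P := by
    intro x hx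
    have h1 : (⟨g * x * g⁻¹, hg x hx⟩ : S) ∈ Q := hQ (Subgroup.mem_subgroupOf.2 ⟨x, hx, by simp⟩)
    rw [← hs] at h1
    have h2 := (Subgroup.mem_pointwise_smul_iff_inv_smul_mem (S := (P₁ : Subgroup S))
      (a := MulAut.conj s)).1 h1
    simpa [P₁, Subgroup.mem_subgroupOf, MulAut.smul_def, mul_assoc] using h2
  have hn : (s : G)⁻¹ * g ∈ Subgroup.normalizer (P : Set G) := by
    have hle : P.map (MulAut.conj ((s : G)⁻¹ * g)).toMonoidHom ≤ P := by
      rintro _ ⟨x, hx, rfl⟩
      simpa [mul_assoc] using key x hx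
    have heq := Subgroup.eq_of_le_of_card_ge hle
      (Subgroup.card_map_of_injective (MulAut.conj _).injective).ge
    refine Subgroup.mem_normalizer_iff.2 fun x => ?_
    constructor
    · intro hx
      exact heq ▸ ⟨x, hx, rfl⟩
    · intro hx
      rw [← heq] at hx
      obtain ⟨y, hy, he⟩ := hx
      exact (MulAut.conj ((s : G)⁻¹ * g)).injective he ▸ hy
  have hs' : (s : G) ∈ ((P ⊔ C : Subgroup G) : Set G) := s.2
  rw [Subgroup.mul_normal] at hs'
  obtain ⟨p, hp, c, hc, hpc⟩ := Set.mem_mul.1 hs'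
  refine ⟨p * c * p⁻¹, Subgroup.Normal.conj_mem inferInstance c hc p, ?_⟩
  have : (p * c * p⁻¹)⁻¹ * g = p * ((s : G)⁻¹ * g) := by rw [← hpc]; group
  rw [this]
  exact mul_mem (Subgroup.le_normalizer hp) hn

/-- The Frattini argument for a normal `M`. -/
theorem IsMaxPIn.exists_mul (hP : IsMaxPIn q P M) [hM : M.Normal] (g : G) :
    ∃ m ∈ M, ∃ h ∈ Subgroup.normalizer (P : Set G), g = m * h := by
  obtain ⟨c, hc, h⟩ := hP.exists_mem_normalizer M le_rfl (g := g) fun x hx =>
    Subgroup.mem_sup_right (hM.conj_mem x (hP.le hx) g)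
  exact ⟨c, hc, c⁻¹ * g, h, by group⟩

/-- A `q`-subgroup of `M` normalising `P` lies in `P`. -/
theorem IsMaxPIn.le_of_normalizer (hP : IsMaxPIn q P M) {R : Subgroup G} (hR : IsPGroup q R)
    (hRM : R ≤ M) (hn : R ≤ Subgroup.normalizer (P : Set G)) : R ≤ P := by
  have h := hP.max (P ⊔ R) (sup_le hP.le hRM)
    (hP.pgroup.to_sup_of_normal_left' hR hn) le_sup_left
  exact h ▸ le_sup_right

/-- A `q`-element of `M` is conjugate in `M` into `P`. -/
theorem IsMaxPIn.exists_conj_mem (hP : IsMaxPIn q P M) {x : G} (hx : x ∈ M) {k : ℕ}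
    (hk : x ^ (q ^ k) = 1) : ∃ g ∈ M, g * x * g⁻¹ ∈ P := by
  let P₁ : Sylow q M :=
    { toSubgroup := P.subgroupOf M
      isPGroup' := hP.pgroup.of_equiv (Subgroup.subgroupOfEquivOfLe hP.le).symm
      is_maximal' := fun {Q} hQ hle => by
        have h := hP.max (Q.map M.subtype) (Subgroup.map_subtype_le Q) (hQ.map _)
          (by
            intro y hy
            exact ⟨⟨y, hP.le hy⟩, hle (Subgroup.mem_subgroupOf.2 hy), rfl⟩)
        rw [← h, Subgroup.subgroupOf, Subgroup.comap_map_eq_self_of_injective M.subtype_injective] }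
  have hz : IsPGroup q (Subgroup.zpowers (⟨x, hx⟩ : M)) := by
    refine IsPGroup.of_card_dvd_pow (n := k) ?_
    rw [Nat.card_zpowers]
    exact orderOf_dvd_of_pow_eq_one (Subtype.ext (by simpa using hk))
  obtain ⟨Q, hQ⟩ := hz.exists_le_sylow
  obtain ⟨s, hs⟩ := MulAction.exists_smul_eq M Q P₁
  refine ⟨s, s.2, ?_⟩
  have h1 : (MulAut.conj s) • (⟨x, hx⟩ : M) ∈ ((s • Q : Sylow q M) : Subgroup M) :=
    Subgroup.smul_mem_pointwise_smul _ _ _ (hQ (Subgroup.mem_zpowers _))
  rw [hs] at h1
  simpa [P₁, Subgroup.mem_subgroupOf, MulAut.smul_def] using h1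

section eigen

variable {S : Subgroup G} {V : Type*} [AddCommGroup V] [Module ℂ V] [FiniteDimensional ℂ V]

omit [Finite G] in
theorem conj_units_hom [Finite S] (μ : S →* ℂˣ) (s : S) : conj (μ s : ℂ) = ((μ s⁻¹ : ℂˣ) : ℂ) := by
  have h := char_inv (isCharacter_of_isIrr (isIrrCharacter_units_hom μ)) s
  exact h.symm

omit [Finite G] in
/-- A linear character is a constituent of the restriction iff it has an eigenvector. -/
theorem classInner_linear_ne_zero_iff [Fintype S] (ρ : Representation ℂ G V) (μ : S →* ℂˣ) :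
    Cfsg.classInner (fun s : S => ρ.character s) (fun s => (μ s : ℂ)) ≠ 0 ↔
      ∃ v : V, v ≠ 0 ∧ ∀ s : S, ρ s v = (μ s : ℂ) • v := by
  let σ : Representation ℂ S V :=
    { toFun := fun s => ((μ s⁻¹ : ℂˣ) : ℂ) • ρ (s : G)
      map_one' := by simp
      map_mul' := fun a b => by
        rw [map_inv, map_inv, map_inv, map_mul, mul_inv, Units.val_mul, Subgroup.coe_mul, map_mul,
          smul_mul_smul_comm] }
  have hsum : Cfsg.classInner (fun s : S => ρ.character s) (fun s => (μ s : ℂ)) =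
      (finrank ℂ (Representation.invariants σ) : ℂ) := by
    have : Invertible (Nat.card S : ℂ) := invertibleOfNonzero (card_ne_zero' (G := S))
    rw [← Representation.card_inv_mul_sum_char_eq_finrank, classInner_def]
    congr 1
    refine Finset.sum_congr rfl fun s _ => ?_
    rw [conj_units_hom μ s]
    show ρ.character s * _ = LinearMap.trace ℂ V (((μ s⁻¹ : ℂˣ) : ℂ) • ρ (s : G))
    rw [map_smul, smul_eq_mul, mul_comm]
    rfl
  have hfix : ∀ (v : V) (s : S), σ s v = v ↔ ρ s v = (μ s : ℂ) • v := by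
    intro v s
    show ((μ s⁻¹ : ℂˣ) : ℂ) • ρ (s : G) v = v ↔ _
    rw [map_inv]
    constructor
    · intro h
      have h2 := congrArg (fun w => (μ s : ℂ) • w) h
      simpa [smul_smul] using h2
    · intro h
      rw [h, smul_smul]
      simp
  rw [hsum, Nat.cast_ne_zero]
  constructor
  · intro h
    obtain ⟨v, hv, hv0⟩ := Submodule.exists_mem_ne_zero_of_ne_bot
      (p := Representation.invariants σ) fun hb => h (by rw [hb, finrank_bot])
    exact ⟨v, hv0, fun s => (hfix v s).1 (hv s)⟩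
  · rintro ⟨v, hv0, hv⟩ h
    rw [Submodule.finrank_eq_zero] at h
    have hmem : v ∈ Representation.invariants σ := fun s => (hfix v s).2 (hv s)
    rw [h, Submodule.mem_bot] at hmem
    exact hv0 hmem

end eigen

end CfsgLib.Broline
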