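import Cfsg.Agent.Lib.Char.BrolineAux
import Cfsg.Prelude.Def_Blocks
import Cfsg.Agent.Lib.Char.Linear
import Cfsg.Agent.Lib.CharNormal.Linear
import Cfsg.Agent.Lib.Cores.Fitting
import Cfsg.Agent.Lib.Solvable.MinimalNormal

/-!
# The theorem of Broline and Garrison

If the kernel `K` of an irreducible character `χ` is not inside the Fitting subgroup, or equals it
and `G ⧸ K` is solvable and nontrivial, then some irreducible character of larger degree has
smaller kernel.
-/

set_option autoImplicit false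

namespace CfsgLib.Broline

open CfsgLib.Char CfsgLib.CharNormal Module
open scoped ComplexConjugate commutatorElement

variable {G : Type*} [Group G]

theorem re_le_degree [Finite G] {χ : G → ℂ} (hχ : Cfsg.IsCharacter G χ) (g : G) :
    (χ g).re ≤ (χ 1).re :=
  (Complex.re_le_norm _).trans (norm_char_le hχ g)

theorem eq_degree_of_re [Finite G] {χ : G → ℂ} (hχ : Cfsg.IsCharacter G χ) {g : G}
    (h : (χ 1).re ≤ (χ g).re) : χ g = χ 1 := by
  obtain ⟨n, hn⟩ := exists_degree hχ
  have h1 := re_le_degree hχ g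
  have h2 := norm_char_le hχ g
  have h3 : (χ g).im = 0 := by
    have h5 := pow_le_pow_left₀ (norm_nonneg _) h2 2
    rw [← Complex.normSq_eq_norm_sq, Complex.normSq_apply, ← le_antisymm h1 h] at h5
    nlinarith [mul_self_nonneg (χ g).im]
  refine Complex.ext (le_antisymm h1 h) ?_
  rw [h3, hn]
  simp

/-- A constituent of a character which is constant on `g` is constant on `g`. -/
theorem constituent_apply_eq [Fintype G] {Φ φ : G → ℂ} (hΦ : Cfsg.IsCharacter G Φ)
    (hφ : Cfsg.IsIrrCharacter G φ) (hne : Cfsg.classInner Φ φ ≠ 0) {g : G} (hg : Φ g = Φ 1) :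
    φ g = φ 1 := by
  classical
  obtain ⟨m, hm, hmi⟩ := char_decomp hΦ
  have hm0 : m ⟨φ, hφ⟩ ≠ 0 := fun h0 => hne (by rw [hmi ⟨φ, hφ⟩, h0, Nat.cast_zero])
  have hre : ∀ x : G, (Φ x).re = ∑ c : Cfsg.IrrCharacter G, (m c : ℝ) * ((c : G → ℂ) x).re := by
    intro x
    rw [hm]
    simp [Complex.re_sum]
  have hle : ∀ c ∈ (Finset.univ : Finset (Cfsg.IrrCharacter G)),
      (m c : ℝ) * ((c : G → ℂ) g).re ≤ (m c : ℝ) * ((c : G → ℂ) 1).re := fun c _ =>
    mul_le_mul_of_nonneg_left (re_le_degree (isCharacter_of_isIrr c.2) g) (Nat.cast_nonneg _)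
  have h := (Finset.sum_eq_sum_iff_of_le hle).1 (by rw [← hre, ← hre, hg]) ⟨φ, hφ⟩
    (Finset.mem_univ _)
  exact eq_degree_of_re (isCharacter_of_isIrr hφ)
    (mul_left_cancel₀ (by exact_mod_cast hm0) h).ge

/-- A constituent of full degree is the whole character. -/
theorem eq_of_constituent_degree_eq [Fintype G] {Φ φ : G → ℂ} (hΦ : Cfsg.IsCharacter G Φ)
    (hφ : Cfsg.IsIrrCharacter G φ) (hne : Cfsg.classInner Φ φ ≠ 0) (hdeg : Φ 1 = φ 1) :
    Φ = φ := by
  classical
  obtain ⟨m, hm, hmi⟩ := char_decomp hΦ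
  have hm0 : m ⟨φ, hφ⟩ ≠ 0 := fun h0 => hne (by rw [hmi ⟨φ, hφ⟩, h0, Nat.cast_zero])
  choose d hd0 hd using fun c : Cfsg.IrrCharacter G => exists_degree_pos c.2
  have hs : ∑ c, m c * d c = d ⟨φ, hφ⟩ := by
    have h1 := congrFun hm 1
    simp only [Finset.sum_apply, Pi.smul_apply, smul_eq_mul, hd] at h1
    have h2 : φ 1 = (d ⟨φ, hφ⟩ : ℂ) := hd ⟨φ, hφ⟩
    rw [hdeg, h2] at h1
    exact_mod_cast h1.symm
  have hz : ∀ c, c ≠ ⟨φ, hφ⟩ → m c = 0 := by
    intro c hc
    have h1 : d ⟨φ, hφ⟩ ≤ m ⟨φ, hφ⟩ * d ⟨φ, hφ⟩ :=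
      Nat.le_mul_of_pos_left _ (Nat.pos_of_ne_zero hm0)
    have h2 := Finset.add_le_sum (f := fun c => m c * d c) (fun _ _ => Nat.zero_le _)
      (Finset.mem_univ (⟨φ, hφ⟩ : Cfsg.IrrCharacter G)) (Finset.mem_univ c) hc.symm
    have h0 : m c * d c = 0 := by
      simp only [hs] at h2
      omega
    exact (mul_eq_zero.1 h0).resolve_right (hd0 c).ne'
  have h1 : m ⟨φ, hφ⟩ = 1 := by
    rw [Finset.sum_eq_single ⟨φ, hφ⟩ (fun c _ hc => by rw [hz c hc, zero_mul]) (by simp)] at hs
    exact (mul_eq_right₀ (hd0 _).ne').1 hs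
  rw [hm, Finset.sum_eq_single ⟨φ, hφ⟩ (fun c _ hc => by simp [hz c hc]) (by simp), h1]
  simp

/-- Irreducibility survives restriction to a supplement of a subgroup of the kernel. -/
theorem isIrr_res_supplement [Fintype G] {χ : G → ℂ} (hχ : Cfsg.IsIrrCharacter G χ)
    (K H : Subgroup G) [K.Normal] (hker : ∀ k ∈ K, χ k = χ 1)
    (hKH : ∀ g : G, ∃ k ∈ K, ∃ h ∈ H, g = k * h) :
    Cfsg.IsIrrCharacter H (fun h : H => χ h) := by
  have := Fintype.ofFinite H
  have := Fintype.ofFinite (G ⧸ K)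
  obtain ⟨ψ, hψ, he⟩ := exists_irr_eq_comp_mk' K hχ hker
  let f : H →* G ⧸ K := (QuotientGroup.mk' K).comp H.subtype
  have hf : Function.Surjective f := by
    intro x
    obtain ⟨g, rfl⟩ := QuotientGroup.mk_surjective x
    obtain ⟨k, hk, h, hh, rfl⟩ := hKH g
    refine ⟨⟨h, hh⟩, ?_⟩
    show (h : G ⧸ K) = ((k * h : G) : G ⧸ K)
    rw [QuotientGroup.mk_mul, (QuotientGroup.eq_one_iff k).2 hk, one_mul]
  have := Fintype.ofFinite (H ⧸ f.ker)
  let e := QuotientGroup.quotientKerEquivOfSurjective f hf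
  have h2 : Cfsg.IsIrrCharacter (H ⧸ f.ker) (ψ ∘ e) := isIrr_comp_mulEquiv hψ e
  have h3 := isIrr_comp_mk' f.ker h2
  convert h3 using 1
  funext h
  rw [← he]
  rfl

/-- An element whose power to `q ^ e` lies in `S` lies in `S` as soon as its `q`-part does. -/
theorem exists_qpart [Finite G] {q : ℕ} [Fact q.Prime] (l : G) (e : ℕ) :
    ∃ a b : ℕ, (l ^ b) ^ (q ^ a) = 1 ∧
      ∀ S : Subgroup G, l ^ b ∈ S → l ^ (q ^ e) ∈ S → l ∈ S := by
  obtain ⟨a, b, hb, hab⟩ := Nat.exists_eq_pow_mul_and_not_dvd (orderOf_pos l).ne' q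
    (Fact.out : q.Prime).ne_one
  refine ⟨a, b, by rw [← pow_mul, mul_comm, ← hab, pow_orderOf_eq_one], fun S h1 h2 => ?_⟩
  have hcop : Nat.Coprime b (q ^ e) :=
    Nat.Coprime.pow_right e ((Nat.Prime.coprime_iff_not_dvd Fact.out).2 hb).symm
  have hg1 := Nat.gcd_eq_gcd_ab b (q ^ e)
  rw [hcop.gcd_eq_one] at hg1
  have h5 : l = (l ^ b) ^ (b.gcdA (q ^ e)) * (l ^ (q ^ e)) ^ (b.gcdB (q ^ e)) := by
    rw [← zpow_natCast, ← zpow_natCast, ← zpow_mul, ← zpow_mul, ← zpow_add, ← hg1, Nat.cast_one,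
      zpow_one]
  rw [h5]
  exact mul_mem (zpow_mem h1 _) (zpow_mem h2 _)

section main

variable [Fintype G] {q : ℕ} [Fact q.Prime] {χ : G → ℂ} {K M P : Subgroup G}

/-- The situation of the proof: `M` is normal above the kernel `K`, `P` is a Sylow subgroup of `M`
and its normaliser covers `G ⧸ K`. -/
structure Setup (χ : G → ℂ) (q : ℕ) (K M P : Subgroup G) : Prop where
  irr : Cfsg.IsIrrCharacter G χ
  ker : ∀ g : G, g ∈ K ↔ χ g = χ 1
  normK : K.Normal
  normM : M.Normal
  le : K ≤ M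
  max : IsMaxPIn q P M
  cover : ∀ g : G, ∃ k ∈ K, ∃ h ∈ Subgroup.normalizer (P : Set G), g = k * h
  qgroup : ∀ x ∈ M, ∃ e : ℕ, x ^ (q ^ e) ∈ K

theorem Setup.kernel_le (h : Setup χ q K M P) {L : Subgroup G} [hL : L.Normal]
    (hLH : ∀ x ∈ L, x ∈ Subgroup.normalizer (P : Set G) → x ∈ K) : L ≤ K := by
  have := h.normM
  have := h.normK
  have hM : L ≤ M := by
    intro l hl
    obtain ⟨c, hc, hn⟩ := h.max.exists_mem_normalizer (L ⊓ M) inf_le_right (g := l) fun x hx => by
      have h1 : l * x * l⁻¹ * x⁻¹ ∈ L ⊓ M := by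
        refine Subgroup.mem_inf.2 ⟨?_, mul_mem (h.normM.conj_mem x (h.max.le hx) l) (M.inv_mem (h.max.le hx))⟩
        have := mul_mem hl (hL.conj_mem l⁻¹ (inv_mem hl) x)
        simpa [mul_assoc] using this
      rw [show l * x * l⁻¹ = (l * x * l⁻¹ * x⁻¹) * x by group]
      exact mul_mem (Subgroup.mem_sup_right h1) (Subgroup.mem_sup_left hx)
    have h2 : c⁻¹ * l ∈ K := hLH _ (mul_mem (inv_mem hc.1) hl) hn
    simpa using mul_mem hc.2 (h.le h2)
  intro l hl
  obtain ⟨e, he⟩ := h.qgroup l (hM hl)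
  obtain ⟨a, b, hq, hmem⟩ := exists_qpart (q := q) l e
  obtain ⟨g, hg, hgP⟩ := h.max.exists_conj_mem (pow_mem (hM hl) b) hq
  have h3 : g * l ^ b * g⁻¹ ∈ K :=
    hLH _ (hL.conj_mem _ (pow_mem hl b) g) (Subgroup.le_normalizer hgP)
  refine hmem K ?_ he
  have := h.normK.conj_mem _ h3 g⁻¹
  simpa [mul_assoc] using this

/-- If no larger degree with smaller kernel exists, every character over the restriction of `χ`
to the normaliser restricts to it. -/
theorem Setup.res_eq (h : Setup χ q K M P)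
    [Fintype (Subgroup.normalizer (P : Set G) : Subgroup G)]
    (hno : ∀ (ψ : Cfsg.IrrCharacter G) (L : Subgroup G),
      (∀ g : G, g ∈ L ↔ (ψ : G → ℂ) g = (ψ : G → ℂ) 1) → L < K →
      ((ψ : G → ℂ) 1).re ≤ (χ 1).re)
    (ψ : Cfsg.IrrCharacter G)
    (hψ : Cfsg.classInner (fun x : Subgroup.normalizer (P : Set G) => (ψ : G → ℂ) x)
      (fun x => χ x) ≠ 0) :
    ∀ x ∈ Subgroup.normalizer (P : Set G), (ψ : G → ℂ) x = χ x := by
  have := h.normK
  have hθ := isIrr_res_supplement h.irr K (Subgroup.normalizer (P : Set G)) (fun k hk => (h.ker k).1 hk) h.cover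
  have hΦ := isCharacter_res (Subgroup.normalizer (P : Set G)) (isCharacter_of_isIrr ψ.2)
  have heq : (ψ : G → ℂ) 1 = χ 1 →
      (fun x : (Subgroup.normalizer (P : Set G)) => (ψ : G → ℂ) x) = fun x : (Subgroup.normalizer (P : Set G)) => χ x := fun e =>
    eq_of_constituent_degree_eq hΦ hθ hψ (by simpa using e)
  let L := charKer (isCharacter_of_isIrr ψ.2)
  have : L.Normal := charKer_normal _
  have hLK : L ≤ K := h.kernel_le fun x hx hxH => (h.ker x).2 (by
    simpa using constituent_apply_eq hΦ hθ hψ (g := ⟨x, hxH⟩) (by simpa using mem_charKer.1 hx))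
  suffices hdeg : (ψ : G → ℂ) 1 = χ 1 from fun x hx => congrFun (heq hdeg) ⟨x, hx⟩
  have hle := constituent_degree_le hΦ hθ hψ
  simp only [OneMemClass.coe_one] at hle
  obtain ⟨a, ha⟩ := exists_degree (isCharacter_of_isIrr ψ.2)
  obtain ⟨b, hb⟩ := exists_degree (isCharacter_of_isIrr h.irr)
  rcases hLK.eq_or_lt with hL | hL
  · have hψH : Cfsg.IsIrrCharacter (Subgroup.normalizer (P : Set G)) (fun x : (Subgroup.normalizer (P : Set G)) => (ψ : G → ℂ) x) :=
      isIrr_res_supplement ψ.2 K (Subgroup.normalizer (P : Set G)) (fun k hk => mem_charKer.1 (hL.ge hk : k ∈ L)) h.cover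
    by_contra hne
    refine hψ (classInner_irr_ne hψH hθ fun e => hne ?_)
    simpa using congrFun e 1
  · have h2 := hno ψ L (fun g => mem_charKer) hL
    rw [ha, hb] at hle h2 ⊢
    simp only [Complex.natCast_re, Nat.cast_le] at hle h2
    exact_mod_cast le_antisymm h2 hle

/-- Under the same hypothesis the trace of `H ∩ K` is a normal subgroup. -/
theorem Setup.inf_normal (h : Setup χ q K M P)
    (hno : ∀ (ψ : Cfsg.IrrCharacter G) (L : Subgroup G),
      (∀ g : G, g ∈ L ↔ (ψ : G → ℂ) g = (ψ : G → ℂ) 1) → L < K →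
      ((ψ : G → ℂ) 1).re ≤ (χ 1).re) :
    (Subgroup.normalizer (P : Set G) ⊓ K).Normal := by
  classical
  set H : Subgroup G := Subgroup.normalizer (P : Set G) with hH
  set θ : H → ℂ := fun x => χ x with hθdef
  have hθc : Cfsg.IsCharacter H θ := isCharacter_res H (isCharacter_of_isIrr h.irr)
  have hΦ := isCharacter_indFun H hθc
  refine ⟨fun d hd g => ?_⟩
  have hker : Cfsg.indFun H θ d = Cfsg.indFun H θ 1 := by
    obtain ⟨m, hm, hmi⟩ := char_decomp hΦ
    rw [hm]
    simp only [Finset.sum_apply, Pi.smul_apply, smul_eq_mul]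
    refine Finset.sum_congr rfl fun ψ _ => ?_
    by_cases h0 : m ψ = 0
    · simp [h0]
    have hne : Cfsg.classInner (fun x : H => (ψ : G → ℂ) x) θ ≠ 0 := by
      rw [← frobenius_reciprocity' H θ (isClassFunction_of_isIrr ψ.2), ← classInner_conj_symm,
        hmi ψ]
      simp [h0]
    have e := h.res_eq hno ψ hne
    rw [e d hd.1, e 1 (one_mem _), (h.ker d).1 hd.2]
  rw [indFun_apply, indFun_apply] at hker
  have hker' := mul_left_cancel₀ (inv_ne_zero (card_subgroup_ne_zero H)) hker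
  simp only [mul_one, inv_mul_cancel] at hker'
  have hre := congrArg Complex.re hker'
  simp only [Complex.re_sum] at hre
  obtain ⟨b, hb0, hb⟩ := exists_degree_pos h.irr
  have hone : Cfsg.extendByZero H θ (1 : G) = χ 1 := by
    rw [extendByZero_of_mem _ (one_mem H)]
  rw [hone] at hre
  have hle : ∀ x ∈ (Finset.univ : Finset G),
      (Cfsg.extendByZero H θ (x⁻¹ * d * x)).re ≤ (χ 1).re := by
    intro x _
    by_cases hx : x⁻¹ * d * x ∈ H
    · rw [extendByZero_of_mem _ hx]
      exact re_le_degree (isCharacter_of_isIrr h.irr) _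
    · rw [extendByZero_of_notMem _ hx, hb]
      simp
  have hx := (Finset.sum_eq_sum_iff_of_le hle).1 hre g⁻¹ (Finset.mem_univ _)
  rw [inv_inv] at hx
  by_cases hmem : g * d * g⁻¹ ∈ H
  · exact ⟨hmem, h.normK.conj_mem d hd.2 g⟩
  · rw [extendByZero_of_notMem _ hmem, hb] at hx
    simp only [Complex.zero_re, Complex.natCast_re] at hx
    exact absurd (by exact_mod_cast hx.symm) hb0.ne'

/-- For a linear character `α` of `K` trivial on `H ∩ K` and a constituent `lam` of `χ` on `P`,
every character of `P` agreeing with `lam` on the stabiliser of `α` is a constituent. -/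
theorem Setup.translate (h : Setup χ q K M P) [Fintype P]
    (hno : ∀ (ψ : Cfsg.IrrCharacter G) (L : Subgroup G),
      (∀ g : G, g ∈ L ↔ (ψ : G → ℂ) g = (ψ : G → ℂ) 1) → L < K →
      ((ψ : G → ℂ) 1).re ≤ (χ 1).re)
    (α : K →* ℂˣ) (hα : ∀ k : K, (k : G) ∈ Subgroup.normalizer (P : Set G) → α k = 1)
    (Qa : Subgroup P)
    (hQa : ∀ x : P, x ∈ Qa ↔ ∀ k : K, α ⟨(x : G) * k * (x : G)⁻¹, h.normK.conj_mem k k.2 x⟩ = α k)
    (lam μ : P →* ℂˣ) (hagree : ∀ x ∈ Qa, μ x = lam x)
    (hlam : Cfsg.classInner (fun s : P => χ s) (fun s => (lam s : ℂ)) ≠ 0) :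
    Cfsg.classInner (fun s : P => χ s) (fun s => (μ s : ℂ)) ≠ 0 := by
  classical
  set H : Subgroup G := Subgroup.normalizer (P : Set G) with hH
  set θ : H → ℂ := fun x => χ x with hθdef
  have hPH : P ≤ H := Subgroup.le_normalizer
  obtain ⟨nχ, ρχ, -, hρχ⟩ := id h.irr
  -- the weight `w (k, x) = conj (α k * lam x)`
  let w : K × Qa → ℂ := fun z => conj ((α z.1 : ℂ) * (lam (z.2 : P) : ℂ))
  let pt : K × Qa → G := fun z => (z.1 : G) * ((z.2 : P) : G)
  have hS : ∑ z, w z * Cfsg.indFun H θ (pt z) ≠ 0 := by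
    have hy : ∀ y : G, ∑ z, w z * Cfsg.extendByZero H θ (y⁻¹ * pt z * y) =
        ∑ z, w z * Cfsg.extendByZero H θ (pt z) := by
      intro y
      obtain ⟨k₀, hk₀, h₀, hh₀, rfl⟩ := h.cover y
      let e : K × Qa ≃ K × Qa :=
        { toFun := fun z => ((⟨k₀, hk₀⟩ : K)⁻¹ * z.1 *
            ⟨((z.2 : P) : G) * k₀ * ((z.2 : P) : G)⁻¹, h.normK.conj_mem k₀ hk₀ _⟩, z.2)
          invFun := fun z => ((⟨k₀, hk₀⟩ : K) * z.1 *
            ⟨((z.2 : P) : G) * k₀ * ((z.2 : P) : G)⁻¹, h.normK.conj_mem k₀ hk₀ _⟩⁻¹, z.2)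
          left_inv := fun z => by ext <;> simp [mul_assoc]
          right_inv := fun z => by ext <;> simp [mul_assoc] }
      refine Fintype.sum_equiv e _ _ fun z => ?_
      have hw : w (e z) = w z := by
        simp only [w, e, Equiv.coe_fn_mk, map_mul, map_inv]
        rw [(hQa (z.2 : P)).1 z.2.2 ⟨k₀, hk₀⟩]
        congr 2
        push_cast
        have := (α ⟨k₀, hk₀⟩).ne_zero
        field_simp
      rw [hw]
      congr 1
      have : (k₀ * h₀)⁻¹ * pt z * (k₀ * h₀) = h₀⁻¹ * pt (e z) * h₀⁻¹⁻¹ := by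
        simp only [pt, e, Equiv.coe_fn_mk, Subgroup.coe_mul, Subgroup.coe_inv]
        group
      rw [this, extendByZero_conj_mem θ (isClassFunction_of_isCharacter
        (isCharacter_res H (isCharacter_of_isIrr h.irr))) (inv_mem hh₀)]
    have hsum : ∑ z, w z * Cfsg.indFun H θ (pt z) =
        (Nat.card H : ℂ)⁻¹ * ((Fintype.card G : ℂ) * ∑ z, w z * Cfsg.extendByZero H θ (pt z)) := by
      simp only [indFun_apply, Finset.mul_sum]
      rw [Finset.sum_comm, ← Finset.mul_sum, ← Finset.mul_sum]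
      simp only [mul_left_comm (w _) ((Nat.card H : ℂ)⁻¹), ← Finset.mul_sum]
      simp only [hy, Finset.sum_const, Finset.card_univ, nsmul_eq_mul]
    rw [hsum]
    refine mul_ne_zero (inv_ne_zero (card_subgroup_ne_zero H))
      (mul_ne_zero (Nat.cast_ne_zero.2 Fintype.card_ne_zero) ?_)
    have hterm : ∀ z : K × Qa, w z * Cfsg.extendByZero H θ (pt z) =
        if (z.1 : G) ∈ H then conj (lam (z.2 : P) : ℂ) * χ ((z.2 : P) : G) else 0 := by
      intro z
      split_ifs with hk
      · rw [extendByZero_of_mem _ (mul_mem hk (hPH (z.2 : P).2))]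
        simp only [w, hθdef, pt, hα z.1 hk, Units.val_one, one_mul]
        rw [apply_eq_one_mul (isCharacter_of_isIrr h.irr) ((h.ker _).1 z.1.2)]
      · rw [extendByZero_of_notMem _ fun hm => hk
          ((H.mul_mem_cancel_right (hPH (z.2 : P).2)).1 hm), mul_zero]
    simp only [hterm]
    rw [Fintype.sum_prod_type, Finset.sum_congr rfl fun (k : K) _ =>
      show (∑ x : Qa, if (k : G) ∈ H then conj (lam (x : P) : ℂ) * χ ((x : P) : G) else 0) =
        if (k : G) ∈ H then ∑ x : Qa, conj (lam (x : P) : ℂ) * χ ((x : P) : G) else 0 by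
      split_ifs <;> simp, ← Finset.sum_filter, Finset.sum_const, nsmul_eq_mul]
    refine mul_ne_zero (Nat.cast_ne_zero.2 (Finset.card_ne_zero.2 ⟨1, by simp⟩)) ?_
    obtain ⟨v, hv0, hv⟩ := (classInner_linear_ne_zero_iff ρχ lam).1 (hρχ ▸ hlam)
    let R : Subgroup G := Qa.map P.subtype
    have : Fintype R := Fintype.ofFinite _
    let eR : Qa ≃* R := Qa.equivMapOfInjective P.subtype P.subtype_injective
    let lr : R →* ℂˣ := (lam.comp Qa.subtype).comp eR.symm.toMonoidHom
    have hne := (classInner_linear_ne_zero_iff ρχ lr).2 ⟨v, hv0, fun r => by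
      obtain ⟨x, rfl⟩ := eR.surjective r
      have : lr (eR x) = lam (x : P) := by simp [lr]
      rw [this]
      exact hv (x : P)⟩
    rw [hρχ, classInner_def] at hne
    intro h0
    apply hne
    refine mul_eq_zero_of_right _ ?_
    rw [← h0]
    refine (Fintype.sum_equiv eR.toEquiv _ _ fun x => ?_).symm
    have : lr (eR x) = lam (x : P) := by simp [lr]
    simp only [MulEquiv.toEquiv_eq_coe, EquivLike.coe_coe, this]
    rw [mul_comm]
    rfl
  obtain ⟨m, hm, hmi⟩ := char_decomp (isCharacter_indFun H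
    (isCharacter_res H (isCharacter_of_isIrr h.irr) : Cfsg.IsCharacter H θ))
  rw [hm] at hS
  simp only [Finset.sum_apply, Pi.smul_apply, smul_eq_mul, Finset.mul_sum] at hS
  rw [Finset.sum_comm] at hS
  obtain ⟨ψ, -, hψ⟩ := Finset.exists_ne_zero_of_sum_ne_zero hS
  simp only [mul_left_comm (w _) (m ψ : ℂ), ← Finset.mul_sum] at hψ
  rw [mul_ne_zero_iff, Nat.cast_ne_zero] at hψ
  have hover : Cfsg.classInner (fun x : H => (ψ : G → ℂ) x) θ ≠ 0 := by
    rw [← frobenius_reciprocity' H θ (isClassFunction_of_isIrr ψ.2), ← classInner_conj_symm,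
      hmi ψ]
    simp [hψ.1]
  have hres := h.res_eq hno ψ hover
  obtain ⟨n, ρ, -, hρ⟩ := id ψ.2
  let E : (Fin n → ℂ) →ₗ[ℂ] (Fin n → ℂ) := ∑ z, w z • ρ (pt z)
  have hE : E ≠ 0 := by
    intro h0
    apply hψ.2
    have h1 := congrArg (LinearMap.trace ℂ _) h0
    simp only [E, map_sum, map_smul, smul_eq_mul, map_zero] at h1
    rw [← hρ]
    exact h1
  obtain ⟨u, hu⟩ : ∃ u, E u ≠ 0 := by
    by_contra hall
    push Not at hall
    exact hE (LinearMap.ext hall)
  set v := E u with hv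
  have hw1 : ∀ (k : K) (z : K × Qa), w (k⁻¹ * z.1, z.2) = (α k : ℂ) * w z := by
    intro k z
    have hc : conj (α k⁻¹ : ℂ) = α k := by rw [conj_units_hom, inv_inv]
    simp only [w]
    rw [map_mul α, Units.val_mul, map_mul, map_mul, map_mul, hc, mul_assoc]
  have hkv : ∀ k : K, ρ k v = (α k : ℂ) • v := by
    intro k
    simp only [hv, E, LinearMap.sum_apply, LinearMap.smul_apply, map_sum, map_smul, Finset.smul_sum,
      smul_smul]
    refine Fintype.sum_equiv ((Equiv.mulLeft k).prodCongr (Equiv.refl _)) _ _ fun z => ?_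
    have h1 := hw1 k (k * z.1, z.2)
    simp only [inv_mul_cancel_left] at h1
    simp only [Equiv.prodCongr_apply, Prod.map, Equiv.coe_mulLeft, Equiv.refl_apply, ← h1]
    congr 1
    simp only [pt, Subgroup.coe_mul, mul_assoc]
    rw [map_mul ρ (k : G)]
    rfl
  have hw2 : ∀ (x : Qa) (z : K × Qa), (lam (x : P) : ℂ) *
      w (⟨((x : P) : G) * z.1 * ((x : P) : G)⁻¹, h.normK.conj_mem _ z.1.2 _⟩, x * z.2) = w z := by
    intro x z
    have hc : (lam (x : P) : ℂ) * conj (lam (x : P) : ℂ) = 1 := by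
      rw [conj_units_hom, ← Units.val_mul, ← map_mul, mul_inv_cancel, map_one, Units.val_one]
    simp only [w, (hQa (x : P)).1 x.2 z.1, Subgroup.coe_mul, map_mul, Units.val_mul]
    linear_combination (conj (α z.1 : ℂ) * conj (lam (z.2 : P) : ℂ)) * hc
  have hxv : ∀ x : Qa, ρ ((x : P) : G) v = (lam (x : P) : ℂ) • v := by
    intro x
    simp only [hv, E, LinearMap.sum_apply, LinearMap.smul_apply, map_sum, map_smul, Finset.smul_sum,
      smul_smul]
    let e : K × Qa ≃ K × Qa :=
      { toFun := fun z =>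
          (⟨((x : P) : G) * z.1 * ((x : P) : G)⁻¹, h.normK.conj_mem _ z.1.2 _⟩, x * z.2)
        invFun := fun z => (⟨((x : P) : G)⁻¹ * z.1 * ((x : P) : G), by
          simpa using h.normK.conj_mem _ z.1.2 (((x : P) : G)⁻¹)⟩, x⁻¹ * z.2)
        left_inv := fun z => by ext <;> simp [mul_assoc]
        right_inv := fun z => by ext <;> simp [mul_assoc] }
    refine Fintype.sum_equiv e _ _ fun z => ?_
    rw [← hw2 x z]
    show _ = ((lam (x : P) : ℂ) * w (e z)) • ρ (pt (e z)) u
    congr 1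
    rw [← Module.End.mul_apply, ← map_mul]
    congr 2
    simp only [pt, e, Equiv.coe_fn_mk, Subgroup.coe_mul]
    group
  -- the eigenvector for `μ`
  set wv : Fin n → ℂ := ∑ s : P, conj (μ s : ℂ) • ρ (s : G) v with hwv
  have hcmu : ∀ s : P, (μ s : ℂ) * conj (μ s : ℂ) = 1 := fun s => by
    rw [conj_units_hom, ← Units.val_mul, ← map_mul, mul_inv_cancel, map_one, Units.val_one]
  have hPv : ∀ t : P, ρ (t : G) wv = (μ t : ℂ) • wv := by
    intro t
    simp only [hwv, map_sum, map_smul, Finset.smul_sum, smul_smul]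
    refine Fintype.sum_equiv (Equiv.mulLeft t) _ _ fun s => ?_
    simp only [Equiv.coe_mulLeft, Subgroup.coe_mul, map_mul ρ, Module.End.mul_apply]
    congr 1
    simp only [map_mul, Units.val_mul]
    linear_combination -(conj (μ s : ℂ)) * hcmu t
  have horth : ∀ s : P, (∑ k : K, conj (α k : ℂ) • ρ (k : G) (ρ (s : G) v)) =
      if s ∈ Qa then (Fintype.card K : ℂ) • ρ (s : G) v else 0 := by
    intro s
    let cj : K →* K :=
      { toFun := fun k => ⟨(s : G)⁻¹ * k * (s : G), by
          simpa using h.normK.conj_mem _ k.2 ((s : G)⁻¹)⟩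
        map_one' := by ext; simp
        map_mul' := fun a b => by ext; simp [mul_assoc] }
    let f : K →* ℂ := (Units.coeHom ℂ).comp ((α.comp cj) * α⁻¹)
    have hf : ∀ k : K, conj (α k : ℂ) • ρ (k : G) (ρ (s : G) v) = f k • ρ (s : G) v := by
      intro k
      have he : (k : G) * s = (s : G) * (cj k : G) := by simp [cj, mul_assoc]
      rw [← Module.End.mul_apply, ← map_mul, he, map_mul, Module.End.mul_apply, hkv, map_smul,
        smul_smul, conj_units_hom, map_inv]
      congr 1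
      simp [f, mul_comm]
    simp only [hf, ← Finset.sum_smul]
    rw [sum_hom_units f]
    have hiff : f = 1 ↔ s ∈ Qa := by
      rw [hQa]
      constructor
      · intro h1 k
        have h2 := DFunLike.congr_fun h1 ⟨(s : G) * k * (s : G)⁻¹, h.normK.conj_mem _ k.2 _⟩
        have h3 : cj ⟨(s : G) * k * (s : G)⁻¹, h.normK.conj_mem _ k.2 _⟩ = k := by
          ext; simp [cj, mul_assoc]
        simp only [f, MonoidHom.comp_apply, MonoidHom.mul_apply, MonoidHom.inv_apply, h3,
          MonoidHom.one_apply] at h2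
        rw [Units.coeHom_apply, Units.val_eq_one, mul_inv_eq_one] at h2
        exact h2.symm
      · intro h1
        ext k
        have h2 := h1 (cj k)
        have h3 : (⟨(s : G) * (cj k : G) * (s : G)⁻¹, h.normK.conj_mem _ (cj k).2 _⟩ : K) = k := by
          ext; simp [cj, mul_assoc]
        rw [h3] at h2
        simp only [f, MonoidHom.comp_apply, MonoidHom.mul_apply, MonoidHom.inv_apply, ← h2,
          mul_inv_cancel, map_one, MonoidHom.one_apply]
    split_ifs with h1 h2 h2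
    · rfl
    · exact absurd (hiff.1 h1) h2
    · exact absurd (hiff.2 h2) h1
    · rw [Nat.cast_zero, zero_smul]
  have hne : wv ≠ 0 := by
    intro h0
    have h1 : ∑ k : K, conj (α k : ℂ) • ρ (k : G) wv = 0 := by simp [h0]
    simp only [hwv, map_sum, map_smul, Finset.smul_sum] at h1
    rw [Finset.sum_comm] at h1
    simp only [smul_comm (conj (α _ : ℂ)), ← Finset.smul_sum, horth, smul_ite, smul_zero,
      ← Finset.sum_filter] at h1
    rw [Finset.sum_congr rfl fun s hs => by
      have hs' : s ∈ Qa := (Finset.mem_filter.1 hs).2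
      rw [hxv ⟨s, hs'⟩, smul_smul (Fintype.card K : ℂ), smul_smul,
        show conj (μ s : ℂ) * ((Fintype.card K : ℂ) * (lam s : ℂ)) = (Fintype.card K : ℂ) by
          rw [← hagree s hs']
          linear_combination (Fintype.card K : ℂ) * hcmu s],
      Finset.sum_const] at h1
    rw [smul_eq_zero, smul_eq_zero] at h1
    rcases h1 with h1 | h1 | h1
    · exact Finset.card_ne_zero.2 ⟨1, by simp⟩ h1
    · exact Fintype.card_ne_zero (by exact_mod_cast h1)
    · exact hu (hv ▸ h1)
  have h3 := (classInner_linear_ne_zero_iff ρ μ).2 ⟨wv, hne, hPv⟩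
  rw [show (fun s : P => ρ.character s) = fun s : P => χ s from funext fun s => by
    rw [hρ]; exact hres _ (hPH s.2)] at h3
  exact h3

/-- The solvable case: `M ⧸ K` a chief factor, `K` nilpotent. -/
theorem Setup.false_of_chief (h : Setup χ q K M P)
    (hno : ∀ (ψ : Cfsg.IrrCharacter G) (L : Subgroup G),
      (∀ g : G, g ∈ L ↔ (ψ : G → ℂ) g = (ψ : G → ℂ) 1) → L < K →
      ((ψ : G → ℂ) 1).re ≤ (χ 1).re)
    (hmin : ∀ N : Subgroup G, N.Normal → K ≤ N → N ≤ M → N = K ∨ N = M)
    (hab : ∀ a ∈ M, ∀ b ∈ M, a * b * a⁻¹ * b⁻¹ ∈ K)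
    (hnil : Group.IsNilpotent K) (hPn : ¬ P.Normal) (hMK : M ≠ K) : False := by
  classical
  have := h.normK
  have := h.normM
  set H : Subgroup G := Subgroup.normalizer (P : Set G) with hH
  set D : Subgroup G := H ⊓ K with hD
  have hDn : D.Normal := h.inf_normal hno
  have hPH : P ≤ H := Subgroup.le_normalizer
  have hDK : D ≠ K := by
    intro e
    have hKH : K ≤ H := inf_eq_right.1 e
    apply hPn
    rw [← Subgroup.normalizer_eq_top_iff, ← top_le_iff]
    intro g _
    obtain ⟨k, hk, x, hx, rfl⟩ := h.cover g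
    exact mul_mem (hKH hk) hx
  set C : Subgroup G := D ⊔ ⁅K, K⁆ with hC
  have hCn : C.Normal := Subgroup.sup_normal _ _
  have hCK : C ≤ K := sup_le inf_le_right (Subgroup.commutator_le_self K)
  have hKC : ¬ K ≤ C := by
    intro hle
    have : Group.IsNilpotent (K ⧸ D.subgroupOf K) :=
      Group.nilpotent_of_surjective (QuotientGroup.mk' (D.subgroupOf K))
        (QuotientGroup.mk'_surjective _)
    have : Nontrivial (K ⧸ D.subgroupOf K) := by
      rw [QuotientGroup.nontrivial_iff, ne_eq, Subgroup.subgroupOf_eq_top]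
      exact fun h1 => hDK (le_antisymm inf_le_right h1)
    have hlt := Group.IsSolvable.commutator_lt_top_of_nontrivial (K ⧸ D.subgroupOf K)
    apply hlt.ne
    have hR : C ≤ ((commutator (K ⧸ D.subgroupOf K)).comap
        (QuotientGroup.mk' (D.subgroupOf K))).map K.subtype := by
      refine sup_le (fun x hx => ?_) (Subgroup.commutator_le.2 fun a ha b hb => ?_)
      · refine ⟨⟨x, hx.2⟩, ?_, rfl⟩
        show ((⟨x, hx.2⟩ : K) : K ⧸ D.subgroupOf K) ∈ commutator (K ⧸ D.subgroupOf K)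
        rw [(QuotientGroup.eq_one_iff _).2 (Subgroup.mem_subgroupOf.2 hx)]
        exact one_mem _
      · refine ⟨⁅(⟨a, ha⟩ : K), ⟨b, hb⟩⁆, ?_, rfl⟩
        show QuotientGroup.mk' (D.subgroupOf K) ⁅(⟨a, ha⟩ : K), ⟨b, hb⟩⁆ ∈
          commutator (K ⧸ D.subgroupOf K)
        rw [map_commutatorElement]
        exact Subgroup.commutator_mem_commutator (Subgroup.mem_top _) (Subgroup.mem_top _)
    rw [eq_top_iff]
    intro y _
    obtain ⟨k, rfl⟩ := QuotientGroup.mk'_surjective _ y
    obtain ⟨k', hk', he⟩ := hR (hle k.2)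
    rw [show k' = k from Subtype.ext he] at hk'
    exact hk'
  have hmove : ∀ x ∈ P, x ∉ K → ∃ k ∈ K, x * k * x⁻¹ * k⁻¹ ∉ C := by
    let T : Subgroup G :=
      { carrier := {g | ∀ k ∈ K, g * k * g⁻¹ * k⁻¹ ∈ C}
        one_mem' := fun k _ => by simp
        mul_mem' := fun {a b} ha hb k hk => by
          rw [show a * b * k * (a * b)⁻¹ * k⁻¹ =
            (a * (b * k * b⁻¹ * k⁻¹) * a⁻¹) * (a * k * a⁻¹ * k⁻¹) by group]
          exact mul_mem (hCn.conj_mem _ (hb k hk) a) (ha k hk)
        inv_mem' := fun {a} ha k hk => by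
          rw [show a⁻¹ * k * a⁻¹⁻¹ * k⁻¹ = a⁻¹ * (a * k * a⁻¹ * k⁻¹)⁻¹ * a⁻¹⁻¹ by group]
          exact hCn.conj_mem _ (inv_mem (ha k hk)) a⁻¹ }
    have hT : T.Normal := ⟨fun a ha g k hk => by
      have h1 := hCn.conj_mem _ (ha (g⁻¹ * k * g) (by simpa using h.normK.conj_mem k hk g⁻¹)) g
      convert h1 using 1
      group⟩
    have hTK : K ≤ T := fun a ha k hk =>
      Subgroup.mem_sup_right (Subgroup.commutator_mem_commutator ha hk)
    rcases hmin (T ⊓ M) inferInstance (le_inf hTK h.le) inf_le_right with e | e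
    · intro x hx hxK
      by_contra hall
      push Not at hall
      exact hxK (e.le ⟨hall, h.max.le hx⟩)
    · exfalso
      refine hKC fun k hk => ?_
      obtain ⟨c, hc, hn⟩ := h.max.exists_mem_normalizer C (hCK.trans h.le) (g := k) fun x hx => by
        have h1 : x * k * x⁻¹ * k⁻¹ ∈ C := (inf_eq_right.1 e) (h.max.le hx) k hk
        rw [show k * x * k⁻¹ = (x * k * x⁻¹ * k⁻¹)⁻¹ * x by group]
        exact mul_mem (Subgroup.mem_sup_right (inv_mem h1)) (Subgroup.mem_sup_left hx)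
      have h2 : c⁻¹ * k ∈ D := Subgroup.mem_inf.2 ⟨hn, K.mul_mem (K.inv_mem (hCK hc)) hk⟩
      simpa using mul_mem hc (Subgroup.mem_sup_left h2 : c⁻¹ * k ∈ C)
  -- linear characters of `P` trivial on `K`
  let KP : Subgroup P := K.subgroupOf P
  letI : CommGroup (P ⧸ KP) :=
    { (inferInstance : Group (P ⧸ KP)) with
      mul_comm := fun a b => by
        induction a using QuotientGroup.induction_on with
        | H a =>
          induction b using QuotientGroup.induction_on with
          | H b =>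
            rw [← QuotientGroup.mk_mul, ← QuotientGroup.mk_mul, QuotientGroup.eq,
              Subgroup.mem_subgroupOf]
            have h1 := hab (b : G)⁻¹ (inv_mem (h.max.le b.2)) (a : G)⁻¹ (inv_mem (h.max.le a.2))
            simpa [mul_assoc] using h1 }
  let lift : (P ⧸ KP →* ℂˣ) → (P →* ℂˣ) := fun ν => ν.comp (QuotientGroup.mk' KP)
  let O : (P ⧸ KP →* ℂˣ) → Prop := fun ν =>
    Cfsg.classInner (fun s : P => χ s) (fun s => (lift ν s : ℂ)) ≠ 0
  -- `O` is nonempty
  obtain ⟨lam₀, hlam₀⟩ : ∃ ν, O ν := by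
    have hc : Cfsg.IsCharacter P (fun s : P => χ s) := isCharacter_res P (isCharacter_of_isIrr h.irr)
    obtain ⟨c, hc1, hc2⟩ := exists_constituent hc fun h0 =>
      irr_one_ne_zero h.irr (by simpa using congrFun h0 1)
    obtain ⟨cq, hcq, he⟩ := exists_irr_eq_comp_mk' KP hc1 fun x hx =>
      constituent_apply_eq hc hc1 hc2 (by simpa using (h.ker _).1 (Subgroup.mem_subgroupOf.1 hx))
    have h1 : cq 1 = 1 := irr_one_of_comm (fun a b => mul_comm a b) hcq
    refine ⟨linearHom (isCharacter_of_isIrr hcq) h1, ?_⟩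
    show Cfsg.classInner _ _ ≠ 0
    have : (fun s : P => (lift (linearHom (isCharacter_of_isIrr hcq) h1) s : ℂ)) = c := by
      funext s
      rw [← he]
      exact linearHom_apply (isCharacter_of_isIrr hcq) h1 _
    rw [this]
    exact hc2
  -- the principal character is not in `O`
  have hone : ¬ O 1 := by
    intro h1
    obtain ⟨n, ρ, -, hρ⟩ := id h.irr
    have h1' : Cfsg.classInner (fun s : P => ρ.character s) (fun s => ((1 : P →* ℂˣ) s : ℂ)) ≠ 0 := by
      rw [hρ]
      exact h1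
    obtain ⟨v, hv0, hv⟩ := (classInner_linear_ne_zero_iff ρ 1).1 h1'
    have hθ := isIrr_res_supplement h.irr K H (fun k hk => (h.ker k).1 hk) h.cover
    let N : Subgroup H := P.subgroupOf H
    have : N.Normal := Subgroup.normal_in_normalizer
    let ρH : Representation ℂ H (Fin n → ℂ) := ρ.comp H.subtype
    have hN := (classInner_linear_ne_zero_iff ρH (1 : N →* ℂˣ)).2
      ⟨v, hv0, fun x => by
        simpa [ρH] using hv ⟨((x : H) : G), Subgroup.mem_subgroupOf.1 x.2⟩⟩
    have hchar : ρH.character =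
        fun x : H => χ x := by
      rw [← hρ]
      rfl
    rw [hchar] at hN
    have hker := res_eq_degree_of_constituent_one N hθ (by simpa using hN)
    have hPK : P ≤ K := fun x hx => (h.ker x).2 (by
      simpa using hker ⟨x, hPH hx⟩ (Subgroup.mem_subgroupOf.2 hx))
    refine hMK (le_antisymm (fun x hx => ?_) h.le)
    obtain ⟨e, he⟩ := h.qgroup x hx
    obtain ⟨a, b, hq, hmem⟩ := exists_qpart (q := q) x e
    obtain ⟨g, hg, hgP⟩ := h.max.exists_conj_mem (pow_mem hx b) hq
    refine hmem K ?_ he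
    have := h.normK.conj_mem _ (hPK hgP) g⁻¹
    simpa [mul_assoc] using this
  -- the translations preserving `O`
  let Γ : Subgroup (P ⧸ KP →* ℂˣ) :=
    { carrier := {ν | ∀ μ, O (μ * ν) ↔ O μ}
      one_mem' := fun μ => by rw [mul_one]
      mul_mem' := fun {a b} ha hb μ => by rw [← mul_assoc, hb, ha]
      inv_mem' := fun {a} ha μ => by
        have := ha (μ * a⁻¹)
        have e : μ * a⁻¹ * a = μ := inv_mul_cancel_right μ a
        rwa [e, iff_comm] at this }
  have : NeZero (Monoid.exponent (P ⧸ KP) : ℂ) :=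
    ⟨by exact_mod_cast Monoid.exponent_ne_zero_of_finite⟩
  have hfin : Finite (P ⧸ KP →* ℂˣ) := Nat.finite_of_card_ne_zero
    (by rw [CommGroup.card_monoidHom_of_hasEnoughRootsOfUnity]; exact Nat.card_pos.ne')
  have hsep : ∀ y : P ⧸ KP, y ≠ 1 → ∃ ν ∈ Γ, ν y ≠ 1 := by
    intro y
    obtain ⟨x, rfl⟩ := QuotientGroup.mk_surjective y
    intro hy
    have hxK : (x : G) ∉ K := fun hx =>
      hy ((QuotientGroup.eq_one_iff x).2 (Subgroup.mem_subgroupOf.2 hx))
    obtain ⟨k₁, hk₁, hk₁C⟩ := hmove x x.2 hxK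
    let Ck : Subgroup K := C.subgroupOf K
    letI : CommGroup (K ⧸ Ck) :=
      { (inferInstance : Group (K ⧸ Ck)) with
        mul_comm := fun a b => by
          induction a using QuotientGroup.induction_on with
          | H a =>
            induction b using QuotientGroup.induction_on with
            | H b =>
              rw [← QuotientGroup.mk_mul, ← QuotientGroup.mk_mul, QuotientGroup.eq,
                Subgroup.mem_subgroupOf]
              have h1 : ⁅(b : G)⁻¹, (a : G)⁻¹⁆ ∈ C := Subgroup.mem_sup_right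
                (Subgroup.commutator_mem_commutator (inv_mem b.2) (inv_mem a.2))
              simpa [commutatorElement_def, mul_assoc] using h1 }
    have : NeZero (Monoid.exponent (K ⧸ Ck) : ℂ) :=
      ⟨by exact_mod_cast Monoid.exponent_ne_zero_of_finite⟩
    have hy1 : ((⟨(x : G) * k₁ * (x : G)⁻¹ * k₁⁻¹,
        mul_mem (h.normK.conj_mem k₁ hk₁ x) (inv_mem hk₁)⟩ : K) : K ⧸ Ck) ≠ 1 := fun e =>
      hk₁C (Subgroup.mem_subgroupOf.1 ((QuotientGroup.eq_one_iff _).1 e))
    obtain ⟨φ, hφ⟩ := CommGroup.exists_apply_ne_one_of_hasEnoughRootsOfUnity (K ⧸ Ck) ℂ hy1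
    let α : K →* ℂˣ := φ.comp (QuotientGroup.mk' Ck)
    have hα : ∀ k : K, (k : G) ∈ H → α k = 1 := fun k hk => by
      show φ (k : K ⧸ Ck) = 1
      rw [(QuotientGroup.eq_one_iff k).2 (Subgroup.mem_subgroupOf.2
        (Subgroup.mem_sup_left (show (k : G) ∈ D from Subgroup.mem_inf.2 ⟨hk, k.2⟩))), map_one]
    let cj : G → K → K := fun g k => ⟨g * k * g⁻¹, h.normK.conj_mem k k.2 g⟩
    have hcjmul : ∀ (g g' : G) (k : K), cj (g * g') k = cj g (cj g' k) := fun g g' k => by
      ext; simp [cj, mul_assoc]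
    let Qa : Subgroup P :=
      { carrier := {z | ∀ k : K, α (cj z k) = α k}
        one_mem' := fun k => by congr 1; ext; simp [cj]
        mul_mem' := fun {a b} ha hb k => by
          rw [Subgroup.coe_mul, hcjmul, ha, hb]
        inv_mem' := fun {a} ha k => by
          have := ha (cj ((a⁻¹ : P) : G) k)
          rw [← hcjmul, ← Subgroup.coe_mul, mul_inv_cancel] at this
          rw [← this]
          congr 1
          ext; simp [cj] }
    let R : Subgroup (P ⧸ KP) := Qa.map (QuotientGroup.mk' KP)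
    have hxR : (x : P ⧸ KP) ∉ R := by
      rintro ⟨z, hz, he⟩
      obtain ⟨t, ht, rfl⟩ : ∃ t ∈ KP, z * t = x :=
        ⟨z⁻¹ * x, QuotientGroup.eq.1 he, mul_inv_cancel_left _ _⟩
      have ht' : t ∈ Qa := fun k => by
        have htK : (t : G) ∈ K := Subgroup.mem_subgroupOf.1 ht
        have : cj (t : G) k = (⟨(t : G), htK⟩ : K) * k * (⟨(t : G), htK⟩ : K)⁻¹ := by ext; rfl
        rw [this, map_mul, map_mul, map_inv, mul_comm, inv_mul_cancel_left]
      have h1 := (mul_mem hz ht') (⟨k₁, hk₁⟩ : K)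
      apply hφ
      show α (cj ((z * t : P) : G) ⟨k₁, hk₁⟩ * (⟨k₁, hk₁⟩ : K)⁻¹) = 1
      rw [map_mul, h1, map_inv, mul_inv_cancel]
    obtain ⟨ν, hν, hνx⟩ : ∃ ν : P ⧸ KP →* ℂˣ, (∀ r ∈ R, ν r = 1) ∧ ν x ≠ 1 := by
      have h1 := mt (CommGroup.forall_monoidHom_apply_eq_one_iff (M := ℂ) R (x : P ⧸ KP)).1 hxR
      push Not at h1
      exact h1
    refine ⟨ν, ?_, hνx⟩
    have key : ∀ μ μ' : P ⧸ KP →* ℂˣ, (∀ r ∈ R, μ' r = μ r) → O μ → O μ' := fun μ μ' hagree hμ =>
      h.translate hno α hα Qa (fun z => Iff.rfl) (lift μ) (lift μ')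
        (fun z hz => hagree _ ⟨z, hz, rfl⟩) hμ
    intro μ
    exact ⟨key (μ * ν) μ fun r hr => by rw [MonoidHom.mul_apply, hν r hr, mul_one],
      key μ (μ * ν) fun r hr => by rw [MonoidHom.mul_apply, hν r hr, mul_one]⟩
  have hΓ : Γ = ⊤ := by
    refine Subgroup.eq_top_of_card_eq _ (le_antisymm (Subgroup.card_le_card_group _) ?_)
    have : NeZero (Monoid.exponent Γ : ℂ) :=
      ⟨by exact_mod_cast Monoid.exponent_ne_zero_of_finite⟩
    rw [CommGroup.card_monoidHom_of_hasEnoughRootsOfUnity,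
      ← CommGroup.card_monoidHom_of_hasEnoughRootsOfUnity Γ ℂ]
    have : Finite (Γ →* ℂˣ) := Nat.finite_of_card_ne_zero
      (by rw [CommGroup.card_monoidHom_of_hasEnoughRootsOfUnity]; exact Nat.card_pos.ne')
    refine Nat.card_le_card_of_injective
      (fun y : P ⧸ KP => (MonoidHom.eval y).comp Γ.subtype) fun y z hyz => ?_
    by_contra hne
    obtain ⟨ν, hν, hν1⟩ := hsep (y * z⁻¹) (fun e => hne (mul_inv_eq_one.1 e))
    apply hν1
    rw [map_mul, map_inv, mul_inv_eq_one]
    exact DFunLike.congr_fun hyz ⟨ν, hν⟩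
  have hmem : lam₀⁻¹ ∈ Γ := hΓ.ge (Subgroup.mem_top _)
  have h1 := (hmem lam₀).2 hlam₀
  have e : lam₀ * lam₀⁻¹ = 1 := mul_inv_cancel lam₀
  rw [e] at h1
  exact hone h1

end main

/-- **Broline-Garrison.** -/
theorem exists_larger_degree [Finite G] (χ : Cfsg.IrrCharacter G) (K : Subgroup G) [K.Normal]
    (hK : ∀ g : G, g ∈ K ↔ (χ : G → ℂ) g = (χ : G → ℂ) 1)
    (h : ¬ K ≤ Cfsg.fittingSubgroup G ∨
      (K = Cfsg.fittingSubgroup G ∧ Group.IsSolvable (G ⧸ K) ∧ K ≠ ⊤)) :
    ∃ ψ : Cfsg.IrrCharacter G, Cfsg.charDegree (χ : G → ℂ) < Cfsg.charDegree (ψ : G → ℂ) ∧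
      ∃ L : Subgroup G, (∀ g : G, g ∈ L ↔ (ψ : G → ℂ) g = (ψ : G → ℂ) 1) ∧ L < K := by
  classical
  have := Fintype.ofFinite G
  by_contra hcon
  push Not at hcon
  have hno : ∀ (ψ : Cfsg.IrrCharacter G) (L : Subgroup G),
      (∀ g : G, g ∈ L ↔ (ψ : G → ℂ) g = (ψ : G → ℂ) 1) → L < K →
      ((ψ : G → ℂ) 1).re ≤ ((χ : G → ℂ) 1).re := by
    intro ψ L hL hlt
    obtain ⟨a, ha⟩ := exists_degree (isCharacter_of_isIrr ψ.2)
    obtain ⟨b, hb⟩ := exists_degree (isCharacter_of_isIrr χ.2)
    rw [ha, hb, Complex.natCast_re, Complex.natCast_re, Nat.cast_le]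
    by_contra hab
    refine hcon ψ ?_ L hL hlt
    simp only [Cfsg.charDegree, ha, hb, Complex.natCast_re, Nat.floor_natCast]
    omega
  rcases h with h | ⟨hKF, hsol, htop⟩
  · obtain ⟨q, hq, P, hP⟩ : ∃ (q : ℕ) (_ : Fact q.Prime) (P : Sylow q K),
        ¬ ((P : Subgroup K).map K.subtype).Normal := by
      by_contra hall
      push Not at hall
      apply h
      refine CfsgLib.Cores.le_fittingSubgroup ((Group.isNilpotent_of_finite_tfae.out 0 3).2 ?_)
      intro p hp P
      rw [← Subgroup.comap_map_eq_self_of_injective K.subtype_injective (P : Subgroup K)]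
      exact Subgroup.Normal.comap (hall p hp P) _
    have hmax := isMaxPIn_of_sylow P
    have hs : Setup (χ : G → ℂ) q K K ((P : Subgroup K).map K.subtype) :=
      ⟨χ.2, hK, inferInstance, inferInstance, le_rfl, hmax,
        fun g => hmax.exists_mul g, fun x hx => ⟨0, by simpa using hx⟩⟩
    have hn := hs.inf_normal hno
    apply hP
    set Q : Subgroup G := (P : Subgroup K).map K.subtype with hQ
    refine ⟨fun x hx g => ?_⟩
    have hle : Q.map (MulAut.conj g).toMonoidHom ≤ Q :=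
      hmax.le_of_normalizer (hmax.pgroup.map _)
        (by
          rintro _ ⟨y, hy, rfl⟩
          exact (hn.conj_mem y ⟨Subgroup.le_normalizer hy, hmax.le hy⟩ g).2)
        (by
          rintro _ ⟨y, hy, rfl⟩
          exact (hn.conj_mem y ⟨Subgroup.le_normalizer hy, hmax.le hy⟩ g).1)
    exact hle ⟨x, hx, rfl⟩
  · have : Nontrivial (G ⧸ K) := QuotientGroup.nontrivial_iff.2 htop
    obtain ⟨N, hN, hN0, hNmin⟩ := CfsgLib.Solvable.exists_minimal_normal (G := G ⧸ K)
    have hNs : Group.IsSolvable N := inferInstance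
    have hcomm := CfsgLib.Solvable.commute_of_minimal_normal N hN0 hNmin hNs
    obtain ⟨q, hq, hpow⟩ := CfsgLib.Solvable.exists_prime_pow_eq_one_of_minimal_normal N hN0 hNmin hNs
    have : Fact q.Prime := ⟨hq⟩
    set M : Subgroup G := N.comap (QuotientGroup.mk' K) with hMdef
    have hKM : K ≤ M := fun k hk => by
      show (k : G ⧸ K) ∈ N
      rw [(QuotientGroup.eq_one_iff k).2 hk]
      exact one_mem N
    have hMK : M ≠ K := by
      intro e
      apply hN0
      rw [eq_bot_iff]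
      intro y hy
      obtain ⟨x, rfl⟩ := QuotientGroup.mk_surjective y
      exact (QuotientGroup.eq_one_iff x).2 (e.le (hy : x ∈ M))
    have hMnil : ¬ Group.IsNilpotent M := fun hn => hMK
      (le_antisymm (hKF ▸ CfsgLib.Cores.le_fittingSubgroup hn) hKM)
    have hnil : Group.IsNilpotent K := hKF ▸ CfsgLib.Cores.isNilpotent_fittingSubgroup
    have hpowK : ∀ x ∈ M, x ^ q ∈ K := fun x hx => by
      rw [← QuotientGroup.eq_one_iff, QuotientGroup.mk_pow]
      exact hpow _ hx
    obtain ⟨r, hr, P, hP⟩ : ∃ (r : ℕ) (_ : Fact r.Prime) (P : Sylow r M),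
        ¬ ((P : Subgroup M).map M.subtype).Normal := by
      by_contra hall
      push Not at hall
      apply hMnil
      refine (Group.isNilpotent_of_finite_tfae.out 0 3).2 fun p hp P => ?_
      rw [← Subgroup.comap_map_eq_self_of_injective M.subtype_injective (P : Subgroup M)]
      exact Subgroup.Normal.comap (hall p hp P) _
    have hmax := isMaxPIn_of_sylow P
    set Q : Subgroup G := (P : Subgroup M).map M.subtype with hQ
    have hrq : r = q := by
      by_contra hne
      apply hP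
      have hQK : Q ≤ K := by
        intro x hx
        obtain ⟨k, hk⟩ := hmax.pgroup ⟨x, hx⟩
        obtain ⟨a, b, hq', hmem⟩ := exists_qpart (q := r) x k
        have hk' : x ^ (r ^ k) = 1 := by simpa using congrArg Subtype.val hk
        have hcop : Nat.Coprime q (r ^ k) :=
          Nat.Coprime.pow_right k ((Nat.coprime_primes hq hr.out).2 (Ne.symm hne))
        have hg1 := Nat.gcd_eq_gcd_ab q (r ^ k)
        rw [hcop.gcd_eq_one] at hg1
        have h5 : x = (x ^ q) ^ (q.gcdA (r ^ k)) * (x ^ (r ^ k)) ^ (q.gcdB (r ^ k)) := by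
          rw [← zpow_natCast, ← zpow_natCast, ← zpow_mul, ← zpow_mul, ← zpow_add, ← hg1,
            Nat.cast_one, zpow_one]
        rw [h5, hk', one_zpow, mul_one]
        exact zpow_mem (hpowK x (hmax.le hx)) _
      -- a Sylow subgroup of the nilpotent group `K`
      let S : Sylow r K :=
        { toSubgroup := Q.subgroupOf K
          isPGroup' := hmax.pgroup.of_equiv (Subgroup.subgroupOfEquivOfLe hQK).symm
          is_maximal' := fun {R} hR hle => by
            have h1 := hmax.max (R.map K.subtype) ((Subgroup.map_subtype_le R).trans hKM)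
              (hR.map _) (fun y hy => ⟨⟨y, hQK hy⟩, hle (Subgroup.mem_subgroupOf.2 hy), rfl⟩)
            rw [← h1, Subgroup.subgroupOf,
              Subgroup.comap_map_eq_self_of_injective K.subtype_injective] }
      have hnil4 := ((Group.isNilpotent_of_finite_tfae (G := K)).out 0 3 (a := Group.IsNilpotent K)
        (b := ∀ (p : ℕ) (_ : Fact p.Prime) (P : Sylow p K), (P : Subgroup K).Normal)).1 hnil
      have hSn : (S : Subgroup K).Normal := hnil4 r hr S
      have : (S : Subgroup K).Characteristic := S.characteristic_of_normal hSn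
      have hn : ((S : Subgroup K).map K.subtype).Normal := inferInstance
      have e : (S : Subgroup K).map K.subtype = Q := by
        show (Q.subgroupOf K).map K.subtype = Q
        rw [Subgroup.subgroupOf_map_subtype, inf_of_le_left hQK]
      rwa [e] at hn
    subst hrq
    have hab : ∀ a ∈ M, ∀ b ∈ M, a * b * a⁻¹ * b⁻¹ ∈ K := fun a ha b hb => by
      rw [← QuotientGroup.eq_one_iff]
      have := hcomm _ ha _ hb
      simp only [QuotientGroup.mk'_apply] at this
      simp [this]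
    have hMQ : ∀ m ∈ M, m ∈ K ⊔ Q := by
      intro m hm
      obtain ⟨a, b, hq', hmem⟩ := exists_qpart (q := r) m 1
      obtain ⟨g, hg, hgQ⟩ := hmax.exists_conj_mem (pow_mem hm b) hq'
      refine hmem _ ?_ (by simpa using Subgroup.mem_sup_left (hpowK m hm))
      have h1 := hab g hg (m ^ b) (pow_mem hm b)
      rw [show m ^ b = (g * m ^ b * g⁻¹ * (m ^ b)⁻¹)⁻¹ * (g * m ^ b * g⁻¹) by group]
      exact mul_mem (Subgroup.mem_sup_left (inv_mem h1)) (Subgroup.mem_sup_right hgQ)
    have hcover : ∀ g : G, ∃ k ∈ K, ∃ y ∈ Subgroup.normalizer (Q : Set G), g = k * y := by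
      intro g
      obtain ⟨m, hm, y, hy, rfl⟩ := hmax.exists_mul g
      have h1 : m ∈ ((K ⊔ Q : Subgroup G) : Set G) := hMQ m hm
      rw [Subgroup.normal_mul] at h1
      obtain ⟨k, hk, p, hp, rfl⟩ := Set.mem_mul.1 h1
      exact ⟨k, hk, p * y, mul_mem (Subgroup.le_normalizer hp) hy, mul_assoc _ _ _⟩
    have hs : Setup (χ : G → ℂ) r K M Q :=
      ⟨χ.2, hK, inferInstance, inferInstance, hKM, hmax, hcover,
        fun x hx => ⟨1, by simpa using hpowK x hx⟩⟩
    refine hs.false_of_chief hno (fun L hL hKL hLM => ?_) hab hnil hP hMK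
    have hLmap := hL.map (QuotientGroup.mk' K) (QuotientGroup.mk'_surjective K)
    rcases hNmin (L.map (QuotientGroup.mk' K)) hLmap
      (Subgroup.map_le_iff_le_comap.2 hLM) with e | e
    · refine Or.inl (le_antisymm ?_ hKL)
      rwa [Subgroup.map_eq_bot_iff, QuotientGroup.ker_mk'] at e
    · refine Or.inr ?_
      rw [hMdef, ← e, Subgroup.comap_map_eq_self (by rwa [QuotientGroup.ker_mk'])]

end CfsgLib.Broline
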