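import Cfsg.Agent.Lib.Char.WreathMonomial
import Cfsg.Agent.Lib.CharNormal.Kernel
import Cfsg.Agent.Lib.CharNormal.CentralCount
import Cfsg.Agent.Lib.CharNormal.TwoDegrees
import Cfsg.Prelude.Def_Blocks
import Mathlib.Analysis.Fourier.ZMod

/-!
# Groups of central type containing a given solvable group modulo the centre

If `H₀` has a faithful character fully ramified over its centre, the Heisenberg twist of
`H₀ ≀ᵣ C_p` has one whose group modulo its kernel and centre contains `(H₀ / Z) ≀ᵣ C_p`.
-/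

set_option autoImplicit false

namespace CfsgLib.Char.CentralEmbed

open scoped ComplexConjugate
open CfsgLib.CharNormal

universe u

/-- The Heisenberg twist of the wreath product with `C_p`. -/
@[ext]
structure HTwist (H : Type*) (p : ℕ) where
  /-- The wreath part. -/
  w : H ≀ᵣ Multiplicative (ZMod p)
  /-- The dual coordinate. -/
  a : ZMod p
  /-- The central coordinate. -/
  z : ZMod p

variable {H : Type*} [Group H] {p : ℕ}

instance : Mul (HTwist H p) :=
  ⟨fun x y => ⟨x.w * y.w, x.a + y.a, x.z + y.z + x.w.right.toAdd * y.a⟩⟩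

instance : One (HTwist H p) := ⟨⟨1, 0, 0⟩⟩

instance : Inv (HTwist H p) := ⟨fun x => ⟨x.w⁻¹, -x.a, -x.z + x.w.right.toAdd * x.a⟩⟩

@[simp] theorem mul_w (x y : HTwist H p) : (x * y).w = x.w * y.w := rfl
@[simp] theorem mul_a (x y : HTwist H p) : (x * y).a = x.a + y.a := rfl
@[simp] theorem mul_z (x y : HTwist H p) :
    (x * y).z = x.z + y.z + x.w.right.toAdd * y.a := rfl
@[simp] theorem one_w : (1 : HTwist H p).w = 1 := rfl
@[simp] theorem one_a : (1 : HTwist H p).a = 0 := rfl
@[simp] theorem one_z : (1 : HTwist H p).z = 0 := rfl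
@[simp] theorem inv_w (x : HTwist H p) : x⁻¹.w = x.w⁻¹ := rfl
@[simp] theorem inv_a (x : HTwist H p) : x⁻¹.a = -x.a := rfl
@[simp] theorem inv_z (x : HTwist H p) : x⁻¹.z = -x.z + x.w.right.toAdd * x.a := rfl

instance : Group (HTwist H p) where
  mul_assoc x y z := by ext <;> simp [mul_assoc] <;> ring
  one_mul x := by ext <;> simp
  mul_one x := by ext <;> simp
  inv_mul_cancel x := by ext <;> simp

/-- The underlying product. -/
def twistEquiv : HTwist H p ≃ ((Multiplicative (ZMod p) → H) × Multiplicative (ZMod p)) ×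
    ZMod p × ZMod p where
  toFun x := ((x.w.left, x.w.right), x.a, x.z)
  invFun t := ⟨⟨t.1.1, t.1.2⟩, t.2.1, t.2.2⟩
  left_inv _ := rfl
  right_inv _ := rfl

variable [Fact p.Prime]

instance [Finite H] : Finite (HTwist H p) := Finite.of_equiv _ twistEquiv.symm

variable (H p) in
/-- The normal subgroup of index `p`. -/
abbrev tbase : Subgroup (HTwist H p) :=
  (({ toFun := fun x => x.w.right, map_one' := rfl, map_mul' := fun _ _ => rfl } :
    HTwist H p →* Multiplicative (ZMod p))).ker

theorem tbase_right (b : tbase H p) : (b : HTwist H p).w.right = 1 := b.2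

/-- The base as a product. -/
def tbaseEquiv : tbase H p ≃ (Multiplicative (ZMod p) → H) × ZMod p × ZMod p where
  toFun b := (b.1.w.left, b.1.a, b.1.z)
  invFun t := ⟨⟨⟨t.1, 1⟩, t.2.1, t.2.2⟩, rfl⟩
  left_inv b := Subtype.ext (by
    refine HTwist.ext (RegularWreathProduct.ext rfl (tbase_right b).symm) rfl rfl)
  right_inv _ := rfl

variable (χ₀ : H → ℂ)

/-- The character to induce. -/
noncomputable def theta (b : tbase H p) : ℂ :=
  (∏ q, χ₀ ((b : HTwist H p).w.left q)) * ZMod.stdAddChar (b : HTwist H p).z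

/-- The central subgroup. -/
def zHat (H : Type*) [Group H] (p : ℕ) [Fact p.Prime] : Subgroup (HTwist H p) where
  carrier := {x | (∀ q, x.w.left q ∈ Subgroup.center H) ∧ x.w.right = 1 ∧ x.a = 0}
  one_mem' := ⟨fun _ => one_mem _, rfl, rfl⟩
  mul_mem' := fun {x y} hx hy => ⟨fun q => by
    simpa using mul_mem (hx.1 q) (hy.1 (x.w.right⁻¹ * q)), by simp [hx.2.1, hy.2.1],
    by simp [hx.2.2, hy.2.2]⟩
  inv_mem' := fun {x} hx => ⟨fun q => by simpa using inv_mem (hx.1 (x.w.right * q)),
    by simp [hx.2.1], by simp [hx.2.2]⟩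

theorem mem_zHat {x : HTwist H p} : x ∈ zHat H p ↔
    (∀ q, x.w.left q ∈ Subgroup.center H) ∧ x.w.right = 1 ∧ x.a = 0 := Iff.rfl

/-- The canonical map to the wreath product of the central quotient, times `C_p`. -/
def psiHom (H : Type*) [Group H] (p : ℕ) [Fact p.Prime] : HTwist H p →*
    ((H ⧸ Subgroup.center H) ≀ᵣ Multiplicative (ZMod p)) × Multiplicative (ZMod p) where
  toFun x := (⟨fun q => (x.w.left q : H ⧸ Subgroup.center H), x.w.right⟩, Multiplicative.ofAdd x.a)
  map_one' := rfl
  map_mul' x y := by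
    refine Prod.ext (RegularWreathProduct.ext ?_ rfl) rfl
    funext q
    simp

theorem psiHom_ker : (psiHom H p).ker = zHat H p := by
  ext x
  simp [MonoidHom.mem_ker, psiHom, mem_zHat, Prod.ext_iff, RegularWreathProduct.ext_iff,
    funext_iff, QuotientGroup.eq_one_iff, and_assoc]

theorem psiHom_surjective : Function.Surjective (psiHom H p) := by
  rintro ⟨⟨y, c⟩, a⟩
  refine ⟨⟨⟨fun q => (y q).out, c⟩, a.toAdd, 0⟩, ?_⟩
  simp [psiHom]

variable [Fintype H] [Fintype (HTwist H p)] [Fintype (tbase H p)]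

theorem isCharacter_theta (hχ₀ : Cfsg.IsCharacter H χ₀) :
    Cfsg.IsCharacter (tbase H p) (theta χ₀) := by
  classical
  let e : ∀ q, tbase H p →* H := fun q =>
    { toFun := fun b => (b : HTwist H p).w.left q
      map_one' := rfl
      map_mul' := fun a b => by simp [tbase_right a] }
  let l : tbase H p →* ℂ :=
    { toFun := fun b => ZMod.stdAddChar (b : HTwist H p).z
      map_one' := AddChar.map_zero_eq_one _
      map_mul' := fun a b => by simp [tbase_right a, AddChar.map_add_eq_mul] }
  have h : ∀ s : Finset (Multiplicative (ZMod p)),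
      Cfsg.IsCharacter (tbase H p) (fun b => ∏ q ∈ s, χ₀ ((b : HTwist H p).w.left q)) := by
    intro s
    induction s using Finset.induction_on with
    | empty => simpa using isCharacter_one
    | insert a t ha ih =>
      simp only [Finset.prod_insert ha]
      exact isCharacter_mul (isCharacter_comp hχ₀ (e a)) ih
  exact isCharacter_mul (h Finset.univ) (isCharacter_of_isIrr (isIrrCharacter_hom l))

theorem stdAddChar_mul_conj (z : ZMod p) :
    ZMod.stdAddChar z * conj (ZMod.stdAddChar z) = (1 : ℂ) := by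
  rw [← AddChar.map_neg_eq_conj, ← AddChar.map_add_eq_mul, add_neg_cancel, AddChar.map_zero_eq_one]

theorem isIrr_theta (hχ₀ : Cfsg.IsIrrCharacter H χ₀) :
    Cfsg.IsIrrCharacter (tbase H p) (theta χ₀) := by
  classical
  refine irr_of_norm_one (isCharacter_theta χ₀ (isCharacter_of_isIrr hχ₀)) ?_
  have h1 := card_mul_classInner χ₀ χ₀
  rw [classInner_irr_self hχ₀, mul_one] at h1
  have h2 : ∀ b : tbase H p, theta χ₀ b * conj (theta χ₀ b) =
      ∏ q, χ₀ ((b : HTwist H p).w.left q) * conj (χ₀ ((b : HTwist H p).w.left q)) := by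
    intro b
    simp only [theta, map_mul, map_prod, Finset.prod_mul_distrib]
    linear_combination (∏ q, χ₀ ((b : HTwist H p).w.left q)) *
      (∏ q, conj (χ₀ ((b : HTwist H p).w.left q))) * stdAddChar_mul_conj (b : HTwist H p).z
  rw [classInner_def, Finset.sum_congr rfl fun b _ => h2 b,
    Fintype.sum_equiv tbaseEquiv
      (fun b : tbase H p => ∏ q, χ₀ ((b : HTwist H p).w.left q) * conj (χ₀ ((b : HTwist H p).w.left q)))
      (fun t => ∏ q, χ₀ (t.1 q) * conj (χ₀ (t.1 q))) fun _ => rfl,
    Fintype.sum_prod_type, Nat.card_congr tbaseEquiv, Nat.card_prod, Nat.card_fun]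
  simp only [Finset.sum_const, Finset.card_univ, nsmul_eq_mul, ← Finset.mul_sum,
    ← Fintype.prod_sum (fun _ x => χ₀ x * conj (χ₀ x)), ← h1, Finset.prod_const,
    Nat.card_eq_fintype_card, Fintype.card_prod, Nat.cast_mul, Nat.cast_pow, Nat.card_prod]
  field_simp
  exact div_self (Nat.cast_ne_zero.2 Fintype.card_ne_zero)

theorem isIrr_indTheta (hχ₀ : Cfsg.IsIrrCharacter H χ₀) :
    Cfsg.IsIrrCharacter (HTwist H p) (Cfsg.indFun (tbase H p) (theta χ₀)) := by
  classical
  have hθ := isIrr_theta (p := p) χ₀ hχ₀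
  refine irr_of_norm_one (isCharacter_indFun _ (isCharacter_of_isIrr hθ)) ?_
  rw [frobenius_reciprocity' _ _ (isClassFunction_indFun _ _),
    CfsgLib.OddChar.res_indFun_normal, classInner_smul_left, classInner_sum_left]
  have hval : ∀ g : HTwist H p, Cfsg.classInner (conjFun (tbase H p) g (theta χ₀)) (theta χ₀) =
      if g.w.right = 1 then 1 else 0 := by
    intro g
    split_ifs with hg
    · rw [show conjFun (tbase H p) g (theta χ₀) = theta χ₀ from ?_, classInner_irr_self hθ]
      funext b
      have hb : (b : HTwist H p).w.right = 1 := tbase_right b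
      rw [conjFun_apply]
      simp only [theta, mul_w, mul_z, inv_w, inv_z, inv_a, mul_a, RegularWreathProduct.mul_left,
        RegularWreathProduct.mul_right, RegularWreathProduct.inv_left, Pi.mul_apply, Pi.inv_apply,
        hb, hg, toAdd_one, zero_mul, mul_one, inv_one, one_mul, add_zero]
      congr 1
      · exact Finset.prod_congr rfl fun q _ => isClassFunction_of_isIrr hχ₀ _ _
      · congr 1
        ring
    · -- translate by a dual element
      let e : tbase H p := ⟨⟨1, 1, 0⟩, rfl⟩
      set c := g.w.right.toAdd with hc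
      have hstep : ∀ b : tbase H p,
          conjFun (tbase H p) g (theta χ₀) (b * e) * conj (theta χ₀ (b * e)) =
            ZMod.stdAddChar c * (conjFun (tbase H p) g (theta χ₀) b * conj (theta χ₀ b)) := by
        intro b
        have hb : (b : HTwist H p).w.right = 1 := tbase_right b
        have hz : (g * (b * e : tbase H p) * g⁻¹).z = (g * (b : HTwist H p) * g⁻¹).z + c := by
          simp [e, hb, hc]
          ring
        have he : ((b * e : tbase H p) : HTwist H p).w = (b : HTwist H p).w := by simp [e]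
        have hez : ((b * e : tbase H p) : HTwist H p).z = (b : HTwist H p).z := by simp [e, hb]
        have hl : (g * (b * e : tbase H p) * g⁻¹).w = (g * (b : HTwist H p) * g⁻¹).w := by
          simp only [mul_w, he]
        simp only [conjFun_apply, theta, hz, hl, he, hez, AddChar.map_add_eq_mul]
        ring
      have hS := Fintype.sum_equiv (Equiv.mulRight e)
        (fun b => conjFun (tbase H p) g (theta χ₀) (b * e) * conj (theta χ₀ (b * e)))
        (fun b => conjFun (tbase H p) g (theta χ₀) b * conj (theta χ₀ b)) fun _ => rfl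
      rw [Finset.sum_congr rfl fun b _ => hstep b, ← Finset.mul_sum] at hS
      have hne : ZMod.stdAddChar c ≠ (1 : ℂ) := fun h => hg (by
        rw [← AddChar.map_zero_eq_one (ZMod.stdAddChar (N := p))] at h
        have h2 := ZMod.injective_stdAddChar h
        rw [hc] at h2
        simpa using h2)
      rw [classInner_def]
      refine mul_eq_zero_of_right _ ?_
      exact by_contra fun h0 => hne (mul_right_cancel₀ h0 (hS.trans (one_mul _).symm))
  rw [Finset.sum_congr rfl fun g _ => hval g, ← Finset.sum_filter, Finset.sum_const, nsmul_eq_mul,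
    mul_one]
  have : (Finset.univ.filter fun g : HTwist H p => g.w.right = 1).card = Nat.card (tbase H p) := by
    rw [Nat.card_eq_fintype_card, Fintype.card_of_subtype]
    intro g
    simp
  rw [this, inv_mul_cancel₀ card_ne_zero']

theorem tbase_index : (tbase H p).index = p := by
  rw [Subgroup.index_ker, MonoidHom.range_eq_top.2, Subgroup.card_top]
  · simp [Nat.card_eq_fintype_card]
  · intro c
    exact ⟨⟨⟨1, c⟩, 0, 0⟩, rfl⟩

omit [Fintype H] [Fintype (HTwist H p)] [Fintype (tbase H p)] in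
theorem zHat_le_tbase : zHat H p ≤ tbase H p := fun _ hx => hx.2.1

omit [Fintype H] [Fintype (HTwist H p)] [Fintype (tbase H p)] in
theorem zHat_normal : (zHat H p).Normal := psiHom_ker (H := H) (p := p) ▸ inferInstance

omit [Fintype H] [Fintype (HTwist H p)] [Fintype (tbase H p)] in
theorem mem_center_tbase {x : HTwist H p} (hx : x ∈ zHat H p) :
    (⟨x, zHat_le_tbase hx⟩ : tbase H p) ∈ Subgroup.center (tbase H p) := by
  obtain ⟨hl, hr, ha⟩ := mem_zHat.1 hx
  rw [Subgroup.mem_center_iff]
  intro b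
  have hb : (b : HTwist H p).w.right = 1 := tbase_right b
  refine Subtype.ext (HTwist.ext (RegularWreathProduct.ext (funext fun q => ?_) ?_) ?_ ?_)
  · simp only [Subgroup.coe_mul, mul_w, RegularWreathProduct.mul_left, Pi.mul_apply, hr, hb,
      inv_one, one_mul]
    exact Subgroup.mem_center_iff.1 (hl q) _
  · simp [hr, hb]
  · simp [add_comm]
  · simp [ha, hr, hb, add_comm]

omit [Fintype (HTwist H p)] [Fintype (tbase H p)] in
theorem theta_conj_zHat {x : HTwist H p} (hx : x ∈ zHat H p) (g : HTwist H p)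
    (hg : g * x * g⁻¹ ∈ tbase H p) :
    theta χ₀ ⟨g * x * g⁻¹, hg⟩ = theta χ₀ ⟨x, zHat_le_tbase hx⟩ := by
  obtain ⟨hl, hr, ha⟩ := mem_zHat.1 hx
  have hz : (g * x * g⁻¹).z = x.z := by simp [ha, hr]; ring
  simp only [theta, hz]
  congr 1
  refine Fintype.prod_equiv (Equiv.mulLeft g.w.right⁻¹) _ _ fun q => ?_
  simp only [mul_w, inv_w, RegularWreathProduct.mul_left, RegularWreathProduct.mul_right,
    RegularWreathProduct.inv_left, Pi.mul_apply, Pi.inv_apply, hr, mul_one, Equiv.coe_mulLeft,
    mul_inv_cancel_left]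
  congr 1
  rw [Subgroup.mem_center_iff.1 (hl _) _, mul_inv_cancel_right]

theorem indTheta_zHat {x : HTwist H p} (hx : x ∈ zHat H p) :
    Cfsg.indFun (tbase H p) (theta χ₀) x = (p : ℂ) * theta χ₀ ⟨x, zHat_le_tbase hx⟩ := by
  have h : ∀ y : HTwist H p, Cfsg.extendByZero (tbase H p) (theta χ₀) (y⁻¹ * x * y) =
      theta χ₀ ⟨x, zHat_le_tbase hx⟩ := by
    intro y
    have hm : y⁻¹ * x * y⁻¹⁻¹ ∈ tbase H p :=
      zHat_le_tbase ((zHat_normal (H := H) (p := p)).conj_mem x hx y⁻¹)
    conv_lhs => rw [show y⁻¹ * x * y = y⁻¹ * x * y⁻¹⁻¹ by rw [inv_inv]]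
    rw [extendByZero_of_mem _ hm]
    exact theta_conj_zHat χ₀ hx y⁻¹ hm
  rw [indFun_apply, Finset.sum_congr rfl fun y _ => h y, Finset.sum_const, Finset.card_univ,
    ← Nat.card_eq_fintype_card, nsmul_eq_mul, ← (tbase H p).index_mul_card, tbase_index,
    Nat.cast_mul]
  field_simp [card_subgroup_ne_zero (tbase H p)]
  rw [mul_assoc, mul_div_cancel_left₀ _ (card_subgroup_ne_zero _)]

/-- Elements of the central subgroup become central modulo the kernel of the induced character. -/
theorem indTheta_commutator (hχ₀ : Cfsg.IsIrrCharacter H χ₀) {x : HTwist H p} (hx : x ∈ zHat H p)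
    (g : HTwist H p) :
    Cfsg.indFun (tbase H p) (theta χ₀) (g * x * g⁻¹ * x⁻¹) =
      Cfsg.indFun (tbase H p) (theta χ₀) 1 := by
  have hθ := isIrr_theta (p := p) χ₀ hχ₀
  have hgx : g * x * g⁻¹ ∈ zHat H p := (zHat_normal (H := H) (p := p)).conj_mem x hx g
  rw [indTheta_zHat χ₀ (mul_mem hgx (inv_mem hx)), indTheta_zHat χ₀ (one_mem _)]
  congr 1
  have h1 := char_center_mul hθ (mem_center_tbase hgx) ⟨x⁻¹, zHat_le_tbase (inv_mem hx)⟩
  have h2 := char_center_mul hθ (mem_center_tbase hx) ⟨x⁻¹, zHat_le_tbase (inv_mem hx)⟩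
  rw [theta_conj_zHat χ₀ hx g, ← h2] at h1
  refine (mul_right_cancel₀ (irr_one_ne_zero hθ) h1).trans ?_
  exact congrArg _ (Subtype.ext (mul_inv_cancel x))

theorem eq_of_le_of_index_eq {G : Type*} [Group G] [Finite G] {A B : Subgroup G} (hle : A ≤ B)
    (h : A.index = B.index) : A = B := by
  refine Subgroup.eq_of_le_of_card_ge hle (le_of_eq ?_)
  have h1 := A.index_mul_card
  rw [h, ← B.index_mul_card] at h1
  exact (Nat.eq_of_mul_eq_mul_left (Nat.pos_of_ne_zero Subgroup.index_ne_zero_of_finite) h1).symm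

theorem squarefree_lcm {m n : ℕ} (hm : Squarefree m) (hn : Squarefree n) :
    Squarefree (Nat.lcm m n) := by
  rw [Nat.squarefree_iff_factorization_le_one (Nat.lcm_ne_zero hm.ne_zero hn.ne_zero)]
  intro q
  rw [Nat.factorization_lcm hm.ne_zero hn.ne_zero, Finsupp.sup_apply]
  exact max_le ((Nat.squarefree_iff_factorization_le_one hm.ne_zero).1 hm q)
    ((Nat.squarefree_iff_factorization_le_one hn.ne_zero).1 hn q)

/-- The inductive step. -/
theorem step (hirr : Cfsg.IsIrrCharacter H χ₀) (hfaith : ∀ h, χ₀ h = χ₀ 1 → h = 1) {d : ℕ}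
    (hd : χ₀ 1 = d) (hidx : d * d = (Subgroup.center H).index)
    (hsq : Squarefree (Nat.card (Subgroup.center H))) :
    ∃ (K : Subgroup (HTwist H p)) (_ : K.Normal) (χ : HTwist H p ⧸ K → ℂ),
      Cfsg.IsIrrCharacter (HTwist H p ⧸ K) χ ∧ (∀ h, χ h = χ 1 → h = 1) ∧
      χ 1 = ((p * d ^ p : ℕ) : ℂ) ∧
      (p * d ^ p) * (p * d ^ p) = (Subgroup.center (HTwist H p ⧸ K)).index ∧
      (∃ f : (H ⧸ Subgroup.center H) ≀ᵣ Multiplicative (ZMod p) →*
          (HTwist H p ⧸ K) ⧸ Subgroup.center (HTwist H p ⧸ K), Function.Injective f) ∧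
      Squarefree (Nat.card (Subgroup.center (HTwist H p ⧸ K))) ∧
      ∀ r : ℕ, r.Prime →
        ((r ∣ Nat.card (HTwist H p ⧸ K) ↔ r ∣ Nat.card H ∨ r = p) ∧
        ((r ∣ Nat.card (Subgroup.center H) ∨ r = p) →
          r ∣ Nat.card (Subgroup.center (HTwist H p ⧸ K))) ∧
        (r ∣ Nat.card (Subgroup.center (HTwist H p ⧸ K)) →
          (r ∣ Nat.card (Subgroup.center H) ∨ r = p))) := by
  classical
  have hp : p.Prime := Fact.out
  set χh := Cfsg.indFun (tbase H p) (theta χ₀) with hχh
  have hχirr : Cfsg.IsIrrCharacter (HTwist H p) χh := isIrr_indTheta χ₀ hirr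
  have hχc := isCharacter_of_isIrr hχirr
  set K := charKer hχc with hK
  have hKn : K.Normal := charKer_normal hχc
  have := Fintype.ofFinite (HTwist H p ⧸ K)
  obtain ⟨χ', hχ'irr, hχ'⟩ := exists_irr_eq_comp_mk' hχirr
    (N := K) (fun n hn => (mem_charKer.1 hn))
  refine ⟨K, hKn, χ', hχ'irr, ?_⟩
  have happ : ∀ g : HTwist H p, χ' g = χh g := fun g => congrFun hχ' g
  have hfaith' : ∀ h, χ' h = χ' 1 → h = 1 := by
    intro h hh
    obtain ⟨g, rfl⟩ := QuotientGroup.mk_surjective h
    rw [happ, ← QuotientGroup.mk_one, happ] at hh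
    exact (QuotientGroup.eq_one_iff g).2 (mem_charKer.2 hh)
  have hθ1 : theta χ₀ (1 : tbase H p) = (d : ℂ) ^ p := by
    simp [theta, hd, Nat.card_eq_fintype_card]
  have hD : χ' 1 = ((p * d ^ p : ℕ) : ℂ) := by
    rw [← QuotientGroup.mk_one, happ, hχh, indFun_one, tbase_index, hθ1]
    push_cast
    ring
  -- the image of the central subgroup is the centre
  set Z₁ := (zHat H p).map (QuotientGroup.mk' K) with hZ₁
  have hZc : Z₁ ≤ Subgroup.center (HTwist H p ⧸ K) := by
    rintro _ ⟨x, hx, rfl⟩
    rw [Subgroup.mem_center_iff]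
    intro h
    obtain ⟨g, rfl⟩ := QuotientGroup.mk'_surjective K h
    have : QuotientGroup.mk' K (g * x * g⁻¹ * x⁻¹) = 1 :=
      (QuotientGroup.eq_one_iff _).2 (mem_charKer.2 (indTheta_commutator χ₀ hirr hx g))
    rw [map_mul, map_mul, map_mul, map_inv, map_inv, mul_inv_eq_one, mul_inv_eq_iff_eq_mul] at this
    exact this
  have hzi : (zHat H p).index = (p * d ^ p) * (p * d ^ p) := by
    rw [← psiHom_ker, Subgroup.index_ker, MonoidHom.range_eq_top.2 psiHom_surjective,
      Subgroup.card_top, Nat.card_prod, RegularWreathProduct.card, ← Subgroup.index_eq_card, ← hidx]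
    simp only [Nat.card_eq_fintype_card, Fintype.card_multiplicative, ZMod.card]
    ring
  have hle : (p * d ^ p) * (p * d ^ p) ≤ (Subgroup.center (HTwist H p ⧸ K)).index :=
    degree_sq_le_center hχ'irr hD
  have hZ₁i : Z₁.index = (zHat H p ⊔ K).index := by
    rw [hZ₁, Subgroup.index_map, MonoidHom.range_eq_top.2 (QuotientGroup.mk'_surjective K),
      Subgroup.index_top, mul_one, QuotientGroup.ker_mk']
  have h1 : (Subgroup.center (HTwist H p ⧸ K)).index ≤ Z₁.index :=
    Nat.le_of_dvd (Nat.pos_of_ne_zero Subgroup.index_ne_zero_of_finite) (Subgroup.index_dvd_of_le hZc)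
  have h2 : (zHat H p ⊔ K).index ≤ (zHat H p).index :=
    Nat.le_of_dvd (Nat.pos_of_ne_zero Subgroup.index_ne_zero_of_finite)
      (Subgroup.index_dvd_of_le le_sup_left)
  have hidx' : (p * d ^ p) * (p * d ^ p) = (Subgroup.center (HTwist H p ⧸ K)).index :=
    le_antisymm hle (h1.trans (hZ₁i.le.trans (h2.trans hzi.le)))
  have hcen : Z₁ = Subgroup.center (HTwist H p ⧸ K) :=
    eq_of_le_of_index_eq hZc (le_antisymm (hZ₁i.le.trans (h2.trans (hzi.trans hidx').le)) h1)
  have hKle : K ≤ zHat H p := by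
    have : zHat H p = zHat H p ⊔ K :=
      eq_of_le_of_index_eq le_sup_left (le_antisymm (by
        calc (zHat H p).index = (Subgroup.center (HTwist H p ⧸ K)).index := hzi.trans hidx'
          _ ≤ Z₁.index := h1
          _ = _ := hZ₁i) h2)
    exact this ▸ le_sup_right
  -- the embedding
  have hemb : ∃ f : (H ⧸ Subgroup.center H) ≀ᵣ Multiplicative (ZMod p) →*
      (HTwist H p ⧸ K) ⧸ Subgroup.center (HTwist H p ⧸ K), Function.Injective f := by
    let φ : HTwist H p →* (HTwist H p ⧸ K) ⧸ Subgroup.center (HTwist H p ⧸ K) :=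
      (QuotientGroup.mk' _).comp (QuotientGroup.mk' K)
    have hφker : φ.ker = zHat H p := by
      rw [← MonoidHom.comap_ker, QuotientGroup.ker_mk', ← hcen, hZ₁, Subgroup.comap_map_eq,
        QuotientGroup.ker_mk', sup_eq_left.2 hKle]
    let s : ((H ⧸ Subgroup.center H) ≀ᵣ Multiplicative (ZMod p)) × Multiplicative (ZMod p) →
        HTwist H p := Function.surjInv psiHom_surjective
    have hs : ∀ t, psiHom H p (s t) = t := Function.surjInv_eq psiHom_surjective
    have hwell : ∀ x y, psiHom H p x = psiHom H p y → φ x = φ y := by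
      intro x y hxy
      have : x⁻¹ * y ∈ φ.ker := by
        rw [hφker, ← psiHom_ker, MonoidHom.mem_ker, map_mul, map_inv, hxy, inv_mul_cancel]
      rw [MonoidHom.mem_ker, map_mul, map_inv, inv_mul_eq_one] at this
      exact this
    refine ⟨{ toFun := fun y => φ (s (y, 1))
              map_one' := (hwell _ 1 (by rw [hs, map_one]; rfl)).trans φ.map_one
              map_mul' := fun a b => ?_ }, fun a b hab => ?_⟩
    · rw [← map_mul]
      exact hwell _ _ (by rw [hs, map_mul, hs, hs]; simp)
    · have : (s (a, 1))⁻¹ * s (b, 1) ∈ (psiHom H p).ker := by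
        rw [psiHom_ker, ← hφker, MonoidHom.mem_ker, map_mul, map_inv, inv_mul_eq_one]
        exact hab
      rw [MonoidHom.mem_ker, map_mul, map_inv, hs, hs, inv_mul_eq_one] at this
      exact congrArg Prod.fst this
  -- the centre is cyclic of squarefree order
  have hexp : ∀ a ∈ Subgroup.center (HTwist H p ⧸ K),
      a ^ (Nat.lcm (Nat.card (Subgroup.center H)) p) = 1 := by
    intro a ha
    rw [← hcen] at ha
    obtain ⟨x, hx, rfl⟩ := ha
    obtain ⟨hl, hr, hxa⟩ := mem_zHat.1 hx
    have hpow : ∀ n : ℕ, (∀ q, (x ^ n).w.left q = x.w.left q ^ n) ∧ (x ^ n).w.right = 1 ∧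
        (x ^ n).a = 0 ∧ (x ^ n).z = n * x.z := by
      intro n
      induction n with
      | zero => simp
      | succ n ih =>
        refine ⟨fun q => ?_, ?_, ?_, ?_⟩
        · rw [pow_succ, pow_succ]; simp [ih.1, ih.2.1]
        · rw [pow_succ]; simp [ih.2.1, hr]
        · rw [pow_succ]; simp [ih.2.2.1, hxa]
        · rw [pow_succ]; simp [ih.2.2.2, hxa]; ring
    rw [← map_pow]
    refine (congrArg (QuotientGroup.mk' K) ?_).trans (map_one (QuotientGroup.mk' K))
    obtain ⟨h1, h2, h3, h4⟩ := hpow (Nat.lcm (Nat.card (Subgroup.center H)) p)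
    refine HTwist.ext (RegularWreathProduct.ext (funext fun q => ?_) h2) h3 ?_
    · obtain ⟨k, hk⟩ := Nat.dvd_lcm_left (Nat.card (Subgroup.center H)) p
      have : (⟨x.w.left q, hl q⟩ : Subgroup.center H) ^ Nat.card (Subgroup.center H) = 1 :=
        pow_card_eq_one'
      rw [h1, hk, pow_mul, show x.w.left q ^ Nat.card (Subgroup.center H) = 1 from
        congrArg Subtype.val this, one_pow]
      rfl
    · obtain ⟨k, hk⟩ := Nat.dvd_lcm_right (Nat.card (Subgroup.center H)) p
      rw [h4, hk, Nat.cast_mul, ZMod.natCast_self, zero_mul, zero_mul]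
      rfl
  have hlcm : Squarefree (Nat.lcm (Nat.card (Subgroup.center H)) p) :=
    squarefree_lcm hsq hp.squarefree
  have hcyc : IsCyclic (Subgroup.center (HTwist H p ⧸ K)) := by
    have hne : χ' 1 ≠ 0 := irr_one_ne_zero hχ'irr
    refine isCyclic_of_subgroup_isDomain
      ({ toFun := fun a => χ' a / χ' 1, map_one' := div_self hne, map_mul' := fun a b => ?_ } :
        Subgroup.center (HTwist H p ⧸ K) →* ℂ) fun a b hab => ?_
    · rw [Subgroup.coe_mul, ← mul_div_mul_right _ _ hne, char_center_mul hχ'irr a.2, div_mul_div_comm]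
    · have h1 := char_center_mul hχ'irr a.2 ((b : HTwist H p ⧸ K)⁻¹)
      have h2 := char_center_mul hχ'irr b.2 ((b : HTwist H p ⧸ K)⁻¹)
      rw [(div_left_inj' hne).1 hab, ← h2, mul_inv_cancel] at h1
      exact Subtype.ext (mul_inv_eq_one.1 (hfaith' _ (mul_right_cancel₀ hne h1)))
  have hcarddvd : Nat.card (Subgroup.center (HTwist H p ⧸ K)) ∣
      Nat.lcm (Nat.card (Subgroup.center H)) p := by
    rw [← hcyc.exponent_eq_card]
    exact Monoid.exponent_dvd_of_forall_pow_eq_one fun a => Subtype.ext (hexp a a.2)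
  refine ⟨hfaith', hD, hidx', hemb, hlcm.squarefree_of_dvd hcarddvd, fun r hr => ?_⟩
  -- orders of central elements
  have hbig : ∀ x : HTwist H p, x ∈ zHat H p → x ^ r = 1 → χh x ≠ χh 1 →
      r ∣ Nat.card (Subgroup.center (HTwist H p ⧸ K)) := by
    intro x hx hxr hne
    have hmem : QuotientGroup.mk' K x ∈ Subgroup.center (HTwist H p ⧸ K) :=
      hcen ▸ Subgroup.mem_map_of_mem _ hx
    have hord : orderOf (⟨_, hmem⟩ : Subgroup.center (HTwist H p ⧸ K)) = r := by
      haveI := Fact.mk hr
      refine orderOf_eq_prime (Subtype.ext ?_) fun h => hne ?_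
      · show (QuotientGroup.mk' K x) ^ r = 1
        rw [← map_pow, hxr, map_one]
      · exact mem_charKer.1 ((QuotientGroup.eq_one_iff x).1 (congrArg Subtype.val h))
    exact hord ▸ orderOf_dvd_natCard _
  have hfwd : (r ∣ Nat.card (Subgroup.center H) ∨ r = p) →
      r ∣ Nat.card (Subgroup.center (HTwist H p ⧸ K)) := by
    haveI := Fact.mk hr
    rintro (h | hrp)
    · obtain ⟨z, hz⟩ := exists_prime_orderOf_dvd_card' r h
      have hz1 : ((z : H)) ≠ 1 := fun e => hr.ne_one (by
        rw [← hz, show z = 1 from Subtype.ext e, orderOf_one])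
      have hmem : (⟨⟨Pi.mulSingle 1 (z : H), 1⟩, 0, 0⟩ : HTwist H p) ∈ zHat H p := by
        refine ⟨fun q => ?_, rfl, rfl⟩
        by_cases hq : q = 1
        · subst hq; simp
        · simp [hq]
      refine hbig _ hmem ?_ fun e => hz1 (hfaith _ ?_)
      · have : ∀ n : ℕ, (⟨⟨Pi.mulSingle 1 (z : H), 1⟩, 0, 0⟩ : HTwist H p) ^ n =
            ⟨⟨Pi.mulSingle 1 ((z : H) ^ n), 1⟩, 0, 0⟩ := by
          intro n
          induction n with
          | zero => simp; rfl
          | succ n ih =>
            rw [pow_succ, ih, pow_succ]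
            refine HTwist.ext (RegularWreathProduct.ext (funext fun q => ?_) (by simp)) (by simp)
              (by simp)
            by_cases hq : q = 1
            · subst hq; simp
            · simp [hq]
        rw [this, show (z : H) ^ r = 1 from congrArg Subtype.val (hz ▸ pow_orderOf_eq_one z)]
        simp; rfl
      · rw [hχh, indTheta_zHat χ₀ hmem, indTheta_zHat χ₀ (one_mem _)] at e
        have e' := mul_left_cancel₀ (by exact_mod_cast hp.ne_zero) e
        simp only [theta, Subgroup.coe_one, one_z, AddChar.map_zero_eq_one, mul_one] at e'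
        rw [← Finset.mul_prod_erase _ _ (Finset.mem_univ (1 : Multiplicative (ZMod p))),
          ← Finset.mul_prod_erase _ _ (Finset.mem_univ (1 : Multiplicative (ZMod p))),
          Finset.prod_congr rfl (g := fun _ => χ₀ 1) fun q hq => by
            simp [(Finset.mem_erase.1 hq).1]] at e'
        simp only [Pi.mulSingle_eq_same, one_w, RegularWreathProduct.one_left, Pi.one_apply,
          Subgroup.coe_one] at e'
        exact mul_right_cancel₀ (Finset.prod_ne_zero_iff.2 fun _ _ => irr_one_ne_zero hirr) e'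
    · subst r
      have hmem : (⟨1, 0, 1⟩ : HTwist H p) ∈ zHat H p := ⟨fun q => one_mem _, rfl, rfl⟩
      refine hbig _ hmem ?_ fun e => ?_
      · have : ∀ n : ℕ, (⟨1, 0, 1⟩ : HTwist H p) ^ n = ⟨1, 0, (n : ZMod p)⟩ := by
          intro n
          induction n with
          | zero => simp; rfl
          | succ n ih =>
            rw [pow_succ, ih]
            ext <;> simp
        rw [this, ZMod.natCast_self]
        rfl
      · rw [hχh, indTheta_zHat χ₀ hmem, indTheta_zHat χ₀ (one_mem _)] at e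
        have e' := mul_left_cancel₀ (by exact_mod_cast hp.ne_zero) e
        simp only [theta, Subgroup.coe_one, one_w, one_z, RegularWreathProduct.one_left, Pi.one_apply] at e'
        rw [mul_right_inj' (Finset.prod_ne_zero_iff.2 fun _ _ => irr_one_ne_zero hirr)] at e'
        exact one_ne_zero (ZMod.injective_stdAddChar e' : (1 : ZMod p) = 0)
  have hbwd : r ∣ Nat.card (Subgroup.center (HTwist H p ⧸ K)) →
      (r ∣ Nat.card (Subgroup.center H) ∨ r = p) := by
    intro h
    rcases (Nat.Prime.dvd_mul hr).1 ((h.trans hcarddvd).trans (Nat.lcm_dvd_mul _ _)) with h1 | h1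
    · exact Or.inl h1
    · exact Or.inr ((Nat.prime_dvd_prime_iff_eq hr hp).1 h1)
  have hzH : r ∣ Nat.card (Subgroup.center H) → r ∣ Nat.card H :=
    fun h => h.trans (Subgroup.card_subgroup_dvd_card _)
  refine ⟨⟨fun h => ?_, fun h => ?_⟩, hfwd, hbwd⟩
  · rw [← (Subgroup.center (HTwist H p ⧸ K)).index_mul_card, ← hidx'] at h
    rcases (Nat.Prime.dvd_mul hr).1 h with h | h
    · have h' : r ∣ p * d ^ p := ((Nat.Prime.dvd_mul hr).1 h).elim id id
      rcases (Nat.Prime.dvd_mul hr).1 h' with h'' | h''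
      · exact Or.inr ((Nat.prime_dvd_prime_iff_eq hr hp).1 h'')
      · refine Or.inl ?_
        rw [← (Subgroup.center H).index_mul_card, ← hidx]
        exact ((hr.dvd_of_dvd_pow h'').mul_right _).mul_right _
    · exact (hbwd h).imp_left hzH
  · rw [← (Subgroup.center (HTwist H p ⧸ K)).index_mul_card, ← hidx']
    rcases h with h | rfl
    · rw [← (Subgroup.center H).index_mul_card, ← hidx] at h
      rcases (Nat.Prime.dvd_mul hr).1 h with h | h
      · refine ((dvd_pow ?_ hp.ne_zero).mul_left p |>.mul_right _).mul_right _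
        exact ((Nat.Prime.dvd_mul hr).1 h).elim id id
      · exact (hfwd (Or.inl h)).mul_left _
    · exact (hfwd (Or.inr rfl)).mul_left _

/-- Every finite solvable group lies in the central quotient of a group of central type. -/
theorem exists_central_type_embedding : ∀ (n : ℕ) (G : Type u) [Group G] [Finite G],
    Nat.card G = n → Group.IsSolvable G →
    ∃ (H : Type u) (_ : Group H) (_ : Finite H) (χ : H → ℂ) (d : ℕ),
      Cfsg.IsIrrCharacter H χ ∧ (∀ h, χ h = χ 1 → h = 1) ∧ χ 1 = d ∧
      d * d = (Subgroup.center H).index ∧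
      (∃ f : G →* H ⧸ Subgroup.center H, Function.Injective f) ∧
      (∀ r : ℕ, r.Prime → ((r ∣ Nat.card H ↔ r ∣ Nat.card G) ∧
        (r ∣ Nat.card (Subgroup.center H) ↔ r ∣ Nat.card G))) ∧
      Squarefree (Nat.card (Subgroup.center H)) := by
  intro n
  induction n using Nat.strong_induction_on with
  | _ n ih =>
  intro G _ _ hn hsolv
  rcases subsingleton_or_nontrivial G with hs | hnt
  · have hc : Subgroup.center G = ⊤ := eq_top_iff.2 fun g _ => by
      rw [Subsingleton.elim g 1]; exact one_mem _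
    refine ⟨G, inferInstance, inferInstance, fun _ => 1, 1, isIrrCharacter_one,
      fun h _ => Subsingleton.elim _ _, by simp, by rw [hc]; simp,
      ⟨QuotientGroup.mk' _, fun a b _ => Subsingleton.elim _ _⟩, fun r _ => ⟨Iff.rfl, by rw [hc, Subgroup.card_top]⟩,
      by rw [hc, Subgroup.card_top, Nat.card_eq_one_iff_unique.2 ⟨hs, ⟨1⟩⟩]; exact squarefree_one⟩
  · obtain ⟨N, hN, hp⟩ := CfsgLib.Char.Wreath.exists_normal_prime_index hsolv
    set p := N.index with hpdef
    have := Fact.mk hp
    have hlt : Nat.card N < n := by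
      rw [← hn, ← N.index_mul_card]
      exact lt_mul_of_one_lt_left Nat.card_pos hp.one_lt
    obtain ⟨H₀, gH₀, fH₀, χ₀, d, hirr, hfaith, hd, hidx, ⟨f₀, hf₀⟩, hpi, hsq⟩ :=
      ih _ hlt N rfl inferInstance
    have := Fintype.ofFinite H₀
    have := Fintype.ofFinite (HTwist H₀ p)
    have := Fintype.ofFinite (tbase H₀ p)
    obtain ⟨K, hK, χ, hχ, hχf, hχ1, hχi, ⟨f, hf⟩, hχsq, hχpi⟩ :=
      step (p := p) χ₀ hirr hfaith hd hidx hsq
    obtain ⟨g, hg⟩ := CfsgLib.Char.Wreath.exists_wreath_embedding N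
    have hcQ : IsCyclic (G ⧸ N) := isCyclic_of_prime_card (p := p) rfl
    let e : (G ⧸ N) ≃* Multiplicative (ZMod p) :=
      mulEquivOfCyclicCardEq (by
        rw [← Subgroup.index_eq_card, ← hpdef]
        simp [Nat.card_eq_fintype_card])
    let j : N ≀ᵣ (G ⧸ N) →* (H₀ ⧸ Subgroup.center H₀) ≀ᵣ Multiplicative (ZMod p) :=
      { toFun := fun x => ⟨fun q => f₀ (x.left (e.symm q)), e x.right⟩
        map_one' := RegularWreathProduct.ext (funext fun q => f₀.map_one) (map_one e)
        map_mul' := fun x y => RegularWreathProduct.ext (funext fun q => by simp) (map_mul e _ _) }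
    have hj : Function.Injective j := fun x y h => by
      refine RegularWreathProduct.ext (funext fun q => ?_) (e.injective (congrArg RegularWreathProduct.right h :))
      have := congrFun (congrArg RegularWreathProduct.left h) (e q)
      simpa using hf₀ this
    refine ⟨HTwist H₀ p ⧸ K, inferInstance, inferInstance, χ, p * d ^ p, hχ, hχf, hχ1, hχi,
      ⟨f.comp (j.comp g), hf.comp (hj.comp hg)⟩, fun r hr => ?_, hχsq⟩
    have hG : r ∣ Nat.card G ↔ r ∣ Nat.card N ∨ r = p := by
      rw [← N.index_mul_card, Nat.Prime.dvd_mul hr, Nat.prime_dvd_prime_iff_eq hr hp, or_comm]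
    obtain ⟨h1, h2, h3⟩ := hχpi r hr
    refine ⟨h1.trans ((or_congr_left (hpi r hr).1).trans hG.symm), ?_⟩
    rw [hG, ← (hpi r hr).2]
    exact ⟨h3, h2⟩

end CfsgLib.Char.CentralEmbed
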