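import Cfsg.Agent.Lib.Char.Restrict
import Cfsg.Agent.Lib.CharNormal.Clifford
import Cfsg.Agent.Lib.CharNormal.Gallagher

/-!
# An invariant character across an abelian chief factor

`chief_trichotomy`: irreducible restriction, full ramification or a full orbit.
-/

namespace CfsgLib.Char

open CfsgLib.CharNormal
open scoped ComplexConjugate commutatorElement

variable {G : Type*} [Group G] [Fintype G]

omit [Fintype G] in
/-- Elements with `β = 1` for a linear character, as a subgroup. -/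
theorem forall_eq_one_of_closure_eq [Finite G] {K : Subgroup G} {S : Set G} {lam : K → ℂ}
    (hl : Cfsg.IsCharacter K lam) (h1 : lam 1 = 1) (hS : Subgroup.closure S = K)
    (h : ∀ x, (hx : x ∈ K) → x ∈ S → lam ⟨x, hx⟩ = 1) (k : K) : lam k = 1 := by
  let B : Subgroup K := (linearHom hl h1).ker
  have hle : Subgroup.closure S ≤ B.map K.subtype := by
    rw [Subgroup.closure_le]
    intro x hx
    have hxK : x ∈ K := hS ▸ Subgroup.subset_closure hx
    refine ⟨⟨x, hxK⟩, ?_, rfl⟩
    rw [SetLike.mem_coe, MonoidHom.mem_ker]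
    exact Units.ext ((linearHom_apply hl h1 _).trans (h x hxK hx))
  rw [hS] at hle
  obtain ⟨b, hb, he⟩ := hle k.2
  have hbk : b = k := Subtype.ext he
  subst hbk
  have := congrArg Units.val (MonoidHom.mem_ker.mp hb)
  rwa [linearHom_apply] at this

/-- The trichotomy for a `G`-invariant character over an abelian chief factor `K / L`. -/
theorem chief_trichotomy (K L : Subgroup G) [hK : K.Normal] [hL : L.Normal] [Fintype K] [Fintype L]
    (hLK : L < K) (hchief : ∀ M : Subgroup G, M.Normal → L ≤ M → M ≤ K → M = L ∨ M = K)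
    (hab : ⁅K, K⁆ ≤ L) (ϑ : K → ℂ) (hϑ : Cfsg.IsIrrCharacter K ϑ)
    (hinv : ∀ (g : G) (n : K), ϑ ⟨g * n * g⁻¹, hK.conj_mem (n : G) n.2 g⟩ = ϑ n) :
    Cfsg.IsIrrCharacter L (fun x : L => ϑ ⟨(x : G), hLK.le x.2⟩) ∨
      (∃ (φ : L → ℂ) (e : ℕ), Cfsg.IsIrrCharacter L φ ∧
        (fun x : L => ϑ ⟨(x : G), hLK.le x.2⟩) = (e : ℂ) • φ ∧ e ^ 2 = L.relIndex K) ∨
      (∃ F : Finset (L → ℂ), (∀ φ ∈ F, Cfsg.IsIrrCharacter L φ) ∧ F.card = L.relIndex K ∧
        (fun x : L => ϑ ⟨(x : G), hLK.le x.2⟩) = ∑ φ ∈ F, φ) := by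
  classical
  set r : L → ℂ := fun x : L => ϑ ⟨(x : G), hLK.le x.2⟩ with hr
  let N : Subgroup K := L.subgroupOf K
  have := Fintype.ofFinite N
  have hNn : N.Normal := inferInstance
  have hcommQ : ∀ a b : K ⧸ N, a * b = b * a := by
    intro a b
    obtain ⟨x, rfl⟩ := QuotientGroup.mk'_surjective N a
    obtain ⟨y, rfl⟩ := QuotientGroup.mk'_surjective N b
    rw [← map_mul, ← map_mul, QuotientGroup.mk'_eq_mk']
    refine ⟨(x * y)⁻¹ * (y * x), ?_, by group⟩
    rw [Subgroup.mem_subgroupOf]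
    apply hab
    have e : (((x * y)⁻¹ * (y * x) : K) : G) = ⁅(y : G)⁻¹, (x : G)⁻¹⁆ := by
      push_cast
      rw [commutatorElement_def]
      group
    rw [e]
    exact Subgroup.commutator_mem_commutator (K.inv_mem y.2) (K.inv_mem x.2)
  let eL : N ≃* L := Subgroup.subgroupOfEquivOfLe hLK.le
  have hrN : r ∘ eL = fun n : N => ϑ n := funext fun n => congrArg ϑ (Subtype.ext rfl)
  have hnorm : Cfsg.classInner r r = Cfsg.classInner (fun n : N => ϑ n) (fun n : N => ϑ n) := by
    rw [← hrN]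
    exact (classInner_comp_mulEquiv eL r r).symm
  have hrel : L.relIndex K = N.index := rfl
  let S : Set G := (L : Set G) ∪ {x | ∃ h : x ∈ K, ϑ ⟨x, h⟩ ≠ 0}
  have hUn : (Subgroup.closure S).Normal := ⟨fun u hu g => by
    have hle : Subgroup.closure S ≤ (Subgroup.closure S).comap (MulAut.conj g).toMonoidHom := by
      rw [Subgroup.closure_le]
      intro x hx
      rw [SetLike.mem_coe, Subgroup.mem_comap]
      apply Subgroup.subset_closure
      show g * x * g⁻¹ ∈ S
      rcases hx with hx | ⟨hxK, hx⟩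
      · exact Or.inl (hL.conj_mem x hx g)
      · exact Or.inr ⟨hK.conj_mem x hxK g, by rwa [hinv g ⟨x, hxK⟩]⟩
    exact hle hu⟩
  have hUK : Subgroup.closure S ≤ K := by
    rw [Subgroup.closure_le]
    rintro x (hx | ⟨hx, -⟩)
    · exact hLK.le hx
    · exact hx
  have hLU : L ≤ Subgroup.closure S := fun x hx => Subgroup.subset_closure (Or.inl hx)
  rcases hchief _ hUn hLU hUK with hU | hU
  swap
  · -- the support generates `K`
    left
    refine irr_of_norm_one (isCharacter_comp (isCharacter_of_isIrr hϑ)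
      (Subgroup.inclusion hLK.le)) ?_
    rw [hnorm]
    have := Fintype.ofFinite (K ⧸ N)
    have hlin : ∀ β : Cfsg.IrrCharacter (K ⧸ N), (β : K ⧸ N → ℂ) 1 = 1 := fun β =>
      irr_one_eq_one_of_comm hcommQ β.2
    have hterm : ∀ β : Cfsg.IrrCharacter (K ⧸ N),
        Cfsg.classInner (ϑ * ((β : K ⧸ N → ℂ) ∘ QuotientGroup.mk)) ϑ =
          if (β : K ⧸ N → ℂ) = fun _ => 1 then 1 else 0 := by
      intro β
      have hlc : Cfsg.IsCharacter K ((β : K ⧸ N → ℂ) ∘ QuotientGroup.mk) :=
        isCharacter_of_isIrr (isIrr_comp_mk' N β.2)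
      have hl1 : ((β : K ⧸ N → ℂ) ∘ QuotientGroup.mk) 1 = 1 := hlin β
      split_ifs with hβ
      · rw [show ϑ * ((β : K ⧸ N → ℂ) ∘ QuotientGroup.mk) = ϑ from funext fun k => by simp [hβ]]
        exact classInner_irr_self hϑ
      · refine classInner_irr_ne (isIrr_mul_linear hϑ hlc hl1) hϑ fun he => hβ (funext fun q => ?_)
        obtain ⟨k, rfl⟩ := QuotientGroup.mk_surjective q
        refine forall_eq_one_of_closure_eq hlc hl1 hU (fun x hx hxS => ?_) k
        rcases hxS with hxL | ⟨hxK, hx0⟩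
        · show (β : K ⧸ N → ℂ) _ = 1
          rw [(QuotientGroup.eq_one_iff _).mpr (show (⟨x, hx⟩ : K) ∈ N from hxL), hlin β]
        · have := congrFun he ⟨x, hxK⟩
          simp only [Pi.mul_apply] at this
          exact mul_left_cancel₀ hx0 (this.trans (mul_one _).symm)
    have hsum : ∑ β : Cfsg.IrrCharacter (K ⧸ N),
        Cfsg.classInner (ϑ * ((β : K ⧸ N → ℂ) ∘ QuotientGroup.mk)) ϑ =
          Cfsg.classInner (fun n : N => ϑ n) (fun n : N => ϑ n) := by
      simp only [classInner_def, Pi.mul_apply, Function.comp_apply]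
      rw [← Finset.mul_sum, Finset.sum_comm]
      have hk : ∀ k : K, ∑ β : Cfsg.IrrCharacter (K ⧸ N),
          ϑ k * (β : K ⧸ N → ℂ) k * conj (ϑ k) =
            if k ∈ N then (Nat.card (K ⧸ N) : ℂ) * (ϑ k * conj (ϑ k)) else 0 := by
        intro k
        have h := sum_degree_mul_apply ((k : K ⧸ N))
        simp only [hlin, one_mul] at h
        calc ∑ β : Cfsg.IrrCharacter (K ⧸ N), ϑ k * (β : K ⧸ N → ℂ) k * conj (ϑ k)
            = (ϑ k * conj (ϑ k)) * ∑ β : Cfsg.IrrCharacter (K ⧸ N), (β : K ⧸ N → ℂ) k := by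
              rw [Finset.mul_sum]
              exact Finset.sum_congr rfl fun β _ => by ring
          _ = _ := by
              rw [h]
              simp only [QuotientGroup.eq_one_iff]
              split_ifs <;> ring
      rw [Finset.sum_congr rfl fun k _ => hk k, ← Finset.sum_filter,
        Finset.sum_subtype _ (p := fun k => k ∈ N) (fun k => by simp)
          (fun k => (Nat.card (K ⧸ N) : ℂ) * (ϑ k * conj (ϑ k))), ← Finset.mul_sum, ← mul_assoc]
      congr 1
      rw [Subgroup.card_eq_card_quotient_mul_card_subgroup N, Nat.cast_mul, mul_inv,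
        mul_right_comm, inv_mul_cancel₀ (by exact_mod_cast (Nat.card_pos (α := K ⧸ N)).ne'),
        one_mul]
    rw [← hsum, Finset.sum_congr rfl fun β _ => hterm β,
      Finset.sum_eq_single (irrOne : Cfsg.IrrCharacter (K ⧸ N))]
    · rw [if_pos]
      exact funext irrOne_apply
    · intro β _ hne
      rw [if_neg fun h => hne (Subtype.ext (h.trans (funext irrOne_apply).symm))]
    · simp
  -- the character vanishes off `L`
  have hzero : ∀ k : K, k ∉ N → ϑ k = 0 := by
    intro k hk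
    by_contra h0
    exact hk (Subgroup.mem_subgroupOf.mpr
      (hU ▸ Subgroup.subset_closure (Or.inr ⟨k.2, h0⟩) : (k : G) ∈ L))
  have hn2 : Cfsg.classInner (fun n : N => ϑ n) (fun n : N => ϑ n) = (N.index : ℂ) := by
    have h1 := card_mul_classInner ϑ ϑ
    rw [classInner_irr_self hϑ, mul_one] at h1
    have h2 : ∑ k : K, ϑ k * conj (ϑ k) = ∑ n : N, ϑ n * conj (ϑ n) := by
      rw [← Finset.sum_subtype (Finset.univ.filter fun k => k ∈ N) (p := fun k => k ∈ N)
        (fun k => by simp) (fun k => ϑ k * conj (ϑ k)), Finset.sum_filter]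
      refine Finset.sum_congr rfl fun k _ => ?_
      by_cases hk : k ∈ N
      · rw [if_pos hk]
      · rw [if_neg hk, hzero k hk, zero_mul]
    rw [classInner_def, ← h2, ← h1, ← N.index_mul_card, Nat.cast_mul, mul_comm (N.index : ℂ),
      ← mul_assoc, inv_mul_cancel₀ (card_subgroup_ne_zero N), one_mul]
  obtain ⟨θ, hθ, hθ0⟩ := exists_constituent (isCharacter_res N (isCharacter_of_isIrr hϑ))
    (fun h => irr_one_ne_zero hϑ (by simpa using congrFun h 1))
  obtain ⟨e, he⟩ := classInner_char_nat (isCharacter_res N (isCharacter_of_isIrr hϑ))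
    (isCharacter_of_isIrr hθ)
  have horb : (fun n : N => ϑ n) = (e : ℂ) • ∑ ψ ∈ orbit N ⟨θ, hθ⟩, (ψ : N → ℂ) := by
    have := res_eq_smul_sum_orbit N hϑ ⟨θ, hθ⟩ hθ0
    rwa [show Cfsg.classInner (fun n : N => ϑ n) ((⟨θ, hθ⟩ : Cfsg.IrrCharacter N) : N → ℂ) =
      (e : ℂ) from he] at this
  have het : e * e * (orbit N ⟨θ, hθ⟩).card = N.index := by
    have horth : ∀ ψ ∈ orbit N ⟨θ, hθ⟩,
        Cfsg.classInner (∑ φ ∈ orbit N ⟨θ, hθ⟩, (φ : N → ℂ)) (ψ : N → ℂ) = 1 := by
      intro ψ hψ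
      rw [classInner_sum_left, Finset.sum_eq_single ψ (fun φ _ hne =>
        classInner_irr_ne φ.2 ψ.2 fun h => hne (Subtype.ext h)) (fun h => absurd hψ h)]
      exact classInner_irr_self ψ.2
    rw [horb, classInner_smul_left, classInner_smul_right, classInner_sum_right,
      Finset.sum_congr rfl horth, map_natCast, Finset.sum_const, nsmul_one] at hn2
    rw [← mul_assoc] at hn2
    exact_mod_cast hn2
  set T : Subgroup K := inertia N θ with hT
  have hNT : N ≤ T := le_inertia N (isClassFunction_of_isIrr hθ)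
  rw [card_orbit_eq_index] at het
  have hTn : (T.map K.subtype).Normal := by
    refine ⟨?_⟩
    rintro _ ⟨t, ht, rfl⟩ g
    let a : K := ⟨g * (t : G) * g⁻¹, hK.conj_mem _ t.2 g⟩
    refine ⟨a, ?_, rfl⟩
    let eg : N ≃* N :=
      { toFun := fun n => ⟨⟨g * ((n : K) : G) * g⁻¹, hK.conj_mem _ (n : K).2 g⟩,
          Subgroup.mem_subgroupOf.mpr (hL.conj_mem _ (Subgroup.mem_subgroupOf.mp n.2) g)⟩
        invFun := fun n => ⟨⟨g⁻¹ * ((n : K) : G) * g, by simpa using hK.conj_mem _ (n : K).2 g⁻¹⟩,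
          Subgroup.mem_subgroupOf.mpr (by
            simpa using hL.conj_mem _ (Subgroup.mem_subgroupOf.mp n.2) g⁻¹)⟩
        left_inv := fun n => by ext; simp [mul_assoc]
        right_inv := fun n => by ext; simp [mul_assoc]
        map_mul' := fun m n => by ext; simp [mul_assoc] }
    have hθg : Cfsg.IsIrrCharacter N (θ ∘ eg) := isIrr_comp_mulEquiv hθ eg
    have hθg0 : Cfsg.classInner (fun n : N => ϑ n) (θ ∘ eg) ≠ 0 := by
      have e1 : (fun n : N => ϑ n) = (fun n : N => ϑ n) ∘ eg :=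
        funext fun n => (hinv g (n : K)).symm
      rw [e1, classInner_comp_mulEquiv]
      exact hθ0
    obtain ⟨k, hk⟩ := exists_conj_of_constituents N hϑ hθ hθg hθ0 hθg0
    rw [SetLike.mem_coe, mem_inertia]
    have hkt : conjFun N (k * t * k⁻¹) θ = θ := by
      refine (mem_inertia N).mp (?_ : k * t * k⁻¹ ∈ T)
      have hc : k * t * k⁻¹ * t⁻¹ ∈ N := by
        rw [← QuotientGroup.eq_one_iff]
        simp only [QuotientGroup.mk_mul, QuotientGroup.mk_inv]
        rw [hcommQ (k : K ⧸ N) t]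
        group
      simpa using T.mul_mem (hNT hc) ht
    funext n
    obtain ⟨m, rfl⟩ := eg.surjective n
    have h1 : eg ⟨(t * (m : K) * t⁻¹ : K), hNn.conj_mem _ m.2 t⟩ =
        ⟨a * (eg m : K) * a⁻¹, hNn.conj_mem _ (eg m).2 a⟩ := by
      ext
      simp [eg, a, mul_assoc]
    have h2 : θ (eg ⟨(t * (m : K) * t⁻¹ : K), hNn.conj_mem _ m.2 t⟩) = θ (eg m) := by
      rw [show ∀ x : N, θ (eg x) = conjFun N k θ x from fun x => (congrFun hk x).symm,
        show ∀ x : N, θ (eg x) = conjFun N k θ x from fun x => (congrFun hk x).symm]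
      have h3 := congrFun hkt ⟨(k * (m : K) * k⁻¹ : K), hNn.conj_mem _ m.2 k⟩
      simp only [conjFun_apply] at h3 ⊢
      convert h3 using 2
      ext
      simp [mul_assoc]
    rw [conjFun_apply, ← h2, h1]
  have hback : ∀ ψ : Cfsg.IrrCharacter N,
      Cfsg.IsIrrCharacter L ((ψ : N → ℂ) ∘ eL.symm) := fun ψ => isIrr_comp_mulEquiv ψ.2 eL.symm
  have hrL : ∀ x : L, r x = (fun n : N => ϑ n) (eL.symm x) := fun x =>
    congrArg ϑ (Subtype.ext rfl)
  rcases hchief _ hTn (fun x hx => ⟨⟨x, hLK.le hx⟩, hNT (Subgroup.mem_subgroupOf.mpr hx), rfl⟩)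
    (Subgroup.map_subtype_le T) with hTL | hTK
  · right; right
    have hTN : T = N := by
      rw [← Subgroup.comap_map_eq_self_of_injective K.subtype_injective T, hTL]
      rfl
    rw [← hT, hTN] at het
    have he1 : e = 1 := by
      have h0 : 0 < N.index := Nat.pos_of_ne_zero Subgroup.index_ne_zero_of_finite
      have : e * e = 1 := Nat.eq_of_mul_eq_mul_right h0 (by rw [het, one_mul])
      exact Nat.eq_one_of_mul_eq_one_right this
    have hinj : Function.Injective fun ψ : Cfsg.IrrCharacter N => (ψ : N → ℂ) ∘ eL.symm :=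
      fun ψ₁ ψ₂ h => Subtype.ext (eL.symm.surjective.injective_comp_right h)
    refine ⟨(orbit N ⟨θ, hθ⟩).image fun ψ : Cfsg.IrrCharacter N => (ψ : N → ℂ) ∘ eL.symm, ?_, ?_, ?_⟩
    · intro φ hφ
      obtain ⟨ψ, -, rfl⟩ := Finset.mem_image.mp hφ
      exact hback ψ
    · rw [Finset.card_image_of_injective _ hinj, card_orbit_eq_index, ← hT, hTN, hrel]
    · rw [Finset.sum_image fun a _ b _ h => hinj h]
      funext x
      rw [hrL x, horb, he1]
      simp
  · right; left
    have hTtop : T = ⊤ := by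
      rw [← Subgroup.comap_map_eq_self_of_injective K.subtype_injective T, hTK]
      exact Subgroup.subgroupOf_self K
    rw [← hT, hTtop, Subgroup.index_top, mul_one] at het
    have hone : orbit N ⟨θ, hθ⟩ = {⟨θ, hθ⟩} :=
      orbit_eq_singleton N fun k =>
        (mem_inertia N).mp (show k ∈ T from hTtop ▸ Subgroup.mem_top k)
    refine ⟨θ ∘ eL.symm, e, hback ⟨θ, hθ⟩, ?_, by rw [sq, het, hrel]⟩
    funext x
    rw [hrL x, horb, hone]
    simp

end CfsgLib.Char
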