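import Cfsg.Agent.Lib.Char.TI
import Cfsg.Agent.Lib.Char.ClassAlgebra
import Cfsg.Agent.Lib.Char.Linear
import Cfsg.Agent.Lib.CharNormal.Clifford
import Cfsg.Agent.Lib.CharNormal.Gallagher
import Mathlib.GroupTheory.Transfer

/-!
# Characters of small degree when all nonidentity elements of an abelian Sylow subgroup have the
same centralizer

The normalizer level is axiomatized by a normal subgroup `C` with an idempotent central
endomorphism `π` (the projection on the Sylow subgroup).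
-/

set_option linter.unusedSectionVars false

namespace CfsgLib.Char.EqualCentralizers

open CfsgLib.Char CfsgLib.CharNormal
open scoped ComplexConjugate

section Multiplicity

variable {A : Type*} [Group A] [Fintype A] {B : Type*} [Group B] [Fintype B]

theorem inner_comp_eq_sum {Θ : A → ℂ} (hΘ : Cfsg.IsCharacter A Θ) (f : B →* A) (γ : B → ℂ) :
    Cfsg.classInner (Θ ∘ f) γ = ∑ a : Cfsg.IrrCharacter A,
      Cfsg.classInner Θ a * Cfsg.classInner ((a : A → ℂ) ∘ f) γ := by
  have h : Θ ∘ f = ∑ a : Cfsg.IrrCharacter A,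
      Cfsg.classInner Θ a • ((a : A → ℂ) ∘ f) := by
    conv_lhs => rw [classFun_eq_sum (isClassFunction_of_isCharacter hΘ)]
    funext x
    simp
  rw [h, classInner_sum_left]
  simp only [classInner_smul_left]

theorem exists_constituent_comp {Θ : A → ℂ} (hΘ : Cfsg.IsCharacter A Θ) (f : B →* A)
    {γ : B → ℂ} (h : Cfsg.classInner (Θ ∘ f) γ ≠ 0) :
    ∃ a : Cfsg.IrrCharacter A, Cfsg.classInner Θ a ≠ 0 ∧
      Cfsg.classInner ((a : A → ℂ) ∘ f) γ ≠ 0 := by
  rw [inner_comp_eq_sum hΘ f γ] at h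
  obtain ⟨a, -, ha⟩ := Finset.exists_ne_zero_of_sum_ne_zero h
  exact ⟨a, left_ne_zero_of_mul ha, right_ne_zero_of_mul ha⟩

theorem inner_comp_ne_zero {Θ : A → ℂ} (hΘ : Cfsg.IsCharacter A Θ) (f : B →* A)
    {γ : B → ℂ} (hγ : Cfsg.IsCharacter B γ) (a : Cfsg.IrrCharacter A)
    (h1 : Cfsg.classInner Θ a ≠ 0) (h2 : Cfsg.classInner ((a : A → ℂ) ∘ f) γ ≠ 0) :
    Cfsg.classInner (Θ ∘ f) γ ≠ 0 := by
  choose m hm using fun b : Cfsg.IrrCharacter A =>
    classInner_char_nat hΘ (isCharacter_of_isIrr b.2)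
  choose k hk using fun b : Cfsg.IrrCharacter A =>
    classInner_char_nat (isCharacter_comp (isCharacter_of_isIrr b.2) f) hγ
  rw [inner_comp_eq_sum hΘ f γ]
  simp only [hm, hk, ← Nat.cast_mul, ← Nat.cast_sum, Nat.cast_ne_zero]
  intro h
  have h3 := (Finset.sum_eq_zero_iff.mp h) a (Finset.mem_univ a)
  rw [hm] at h1
  rw [hk] at h2
  rcases mul_eq_zero.mp h3 with e | e
  · exact h1 (by rw [e, Nat.cast_zero])
  · exact h2 (by rw [e, Nat.cast_zero])

/-- There are at most `Θ 1` distinct constituents. -/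
theorem card_le_degree {Θ : A → ℂ} (hΘ : Cfsg.IsCharacter A Θ) {d : ℕ} (hd : Θ 1 = d)
    {ι : Type*} [Fintype ι] (a : ι → Cfsg.IrrCharacter A) (ha : Function.Injective a)
    (h : ∀ i, Cfsg.classInner Θ (a i) ≠ 0) : Fintype.card ι ≤ d := by
  classical
  obtain ⟨m, hm, hmi⟩ := char_decomp hΘ
  choose e he0 he using fun b : Cfsg.IrrCharacter A => exists_degree_pos b.2
  have hsum : d = ∑ b, m b * e b := by
    have h1 := congrFun hm 1
    simp only [Finset.sum_apply, Pi.smul_apply, smul_eq_mul, he, hd] at h1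
    exact_mod_cast h1
  calc Fintype.card ι = ∑ _b ∈ Finset.univ.image a, 1 := by
        rw [← Finset.card_eq_sum_ones, Finset.card_image_of_injective _ ha, Finset.card_univ]
    _ ≤ ∑ b ∈ Finset.univ.image a, m b * e b := by
        refine Finset.sum_le_sum fun b hb => ?_
        obtain ⟨i, -, rfl⟩ := Finset.mem_image.mp hb
        refine Nat.mul_pos (Nat.pos_of_ne_zero fun h0 => h i ?_) (he0 _)
        rw [hmi, h0, Nat.cast_zero]
    _ ≤ d := hsum ▸ Finset.sum_le_sum_of_subset (Finset.subset_univ _)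

/-- A character containing the trivial one with multiplicity its degree is constant. -/
theorem eq_const_of_inner_one {Θ : A → ℂ} (hΘ : Cfsg.IsCharacter A Θ)
    (h : Cfsg.classInner Θ (fun _ => 1) = Θ 1) (x : A) : Θ x = Θ 1 := by
  classical
  obtain ⟨m, hm, hmi⟩ := char_decomp hΘ
  choose e he0 he using fun b : Cfsg.IrrCharacter A => exists_degree_pos b.2
  have h1 := congrFun hm 1
  simp only [Finset.sum_apply, Pi.smul_apply, smul_eq_mul, he] at h1
  have he1 : e irrOne = 1 := by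
    have := he (irrOne : Cfsg.IrrCharacter A)
    rw [irrOne_apply] at this
    exact_mod_cast this.symm
  rw [show (fun _ => 1 : A → ℂ) = ((irrOne : Cfsg.IrrCharacter A) : A → ℂ) from rfl, hmi, h1]
    at h
  have h2 : m irrOne = ∑ b, m b * e b := by exact_mod_cast h
  rw [← Finset.add_sum_erase _ _ (Finset.mem_univ (irrOne : Cfsg.IrrCharacter A)), he1, mul_one]
    at h2
  have hz : ∑ b ∈ Finset.univ.erase (irrOne : Cfsg.IrrCharacter A), m b * e b = 0 := by omega
  have h3 : ∀ b, b ≠ irrOne → m b = 0 := fun b hb => by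
    have := (Finset.sum_eq_zero_iff.mp hz) b (by simp [hb])
    rcases mul_eq_zero.mp this with e0 | e0
    · exact e0
    · exact absurd e0 (he0 b).ne'
  rw [hm]
  simp only [Finset.sum_apply, Pi.smul_apply, smul_eq_mul]
  rw [Finset.sum_eq_single irrOne (fun b _ hb => by simp [h3 b hb]) (by simp),
    Finset.sum_eq_single irrOne (fun b _ hb => by simp [h3 b hb]) (by simp),
    irrOne_apply, irrOne_apply]

end Multiplicity

section Normalizer

variable {N : Type*} [Group N] [Fintype N] (C : Subgroup N) [hCn : C.Normal] [Fintype C]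

/-- `π` is the projection of `C` on a central direct factor on which `N/C` acts freely. -/
structure IsProj (π : C →* C) : Prop where
  central : ∀ c d : C, π c * d = d * π c
  idem : ∀ c : C, π (π c) = π c
  equiv : ∀ (g : N) (c : C), π (MulAut.conjNormal g c) = MulAut.conjNormal g (π c)
  fpf : ∀ g : N, g ∉ C → ∀ c : C, MulAut.conjNormal g (π c) = π c → π c = 1

variable {C} {π : C →* C} (hπ : IsProj C π)

/-- The projection on the complementary factor. -/
def IsProj.compl : C →* C :=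
  MonoidHom.mk' (fun c => (π c)⁻¹ * c) fun a b => by
    rw [map_mul, mul_inv_rev, mul_assoc, mul_assoc, ← mul_assoc (π a)⁻¹ a b]
    have h : (π b)⁻¹ * ((π a)⁻¹ * a) = ((π a)⁻¹ * a) * (π b)⁻¹ :=
      ((show Commute (π b) ((π a)⁻¹ * a) from hπ.central b _).inv_left).eq
    rw [← mul_assoc, h]
    simp only [mul_assoc]

theorem IsProj.compl_apply (c : C) : hπ.compl c = (π c)⁻¹ * c := rfl

theorem IsProj.compl_proj (c : C) : hπ.compl (π c) = 1 := by
  rw [hπ.compl_apply, hπ.idem, inv_mul_cancel]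

theorem IsProj.compl_of_proj_eq_one {c : C} (h : π c = 1) : hπ.compl c = c := by
  rw [hπ.compl_apply, h, inv_one, one_mul]

theorem IsProj.compl_equiv (g : N) (c : C) :
    hπ.compl (MulAut.conjNormal g c) = MulAut.conjNormal g (hπ.compl c) := by
  rw [hπ.compl_apply, hπ.compl_apply, hπ.equiv, map_mul, map_inv]

include hπ in
/-- Only the trivial linear character of the factor is fixed outside `C`. -/
theorem hom_eq_one_of_fixed {g : N} (hg : g ∉ C) {μ : C →* ℂˣ}
    (h : ∀ c, μ (MulAut.conjNormal g (π c)) = μ (π c)) (c : C) : μ (π c) = 1 := by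
  let T : π.range → π.range := fun u =>
    ⟨MulAut.conjNormal g u.1 * (u.1 : C)⁻¹, π.range.mul_mem (by
      obtain ⟨a, ha⟩ := u.2
      exact ⟨MulAut.conjNormal g a, by rw [hπ.equiv, ha]⟩) (π.range.inv_mem u.2)⟩
  have hT : Function.Injective T := by
    intro u v huv
    obtain ⟨_, a, rfl⟩ := u
    obtain ⟨_, b, rfl⟩ := v
    have h1 : MulAut.conjNormal g (π a) * (π a)⁻¹ = MulAut.conjNormal g (π b) * (π b)⁻¹ :=
      congrArg Subtype.val huv
    have h2 : MulAut.conjNormal g (π (b⁻¹ * a)) = π (b⁻¹ * a) := by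
      rw [map_mul π, map_inv π, map_mul, map_inv]
      calc (MulAut.conjNormal g (π b))⁻¹ * MulAut.conjNormal g (π a)
          = (MulAut.conjNormal g (π b))⁻¹ *
              (MulAut.conjNormal g (π a) * (π a)⁻¹) * π a := by group
        _ = (π b)⁻¹ * π a := by rw [h1]; group
    have h3 := hπ.fpf g hg _ h2
    rw [map_mul, map_inv, inv_mul_eq_one] at h3
    exact Subtype.ext h3.symm
  obtain ⟨⟨_, a, rfl⟩, hu⟩ := (Finite.injective_iff_surjective.mp hT) ⟨π c, c, rfl⟩
  have h4 : MulAut.conjNormal g (π a) * (π a)⁻¹ = π c := congrArg Subtype.val hu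
  rw [← h4, map_mul, h, map_inv, mul_inv_cancel]

include hπ in
/-- Irreducible characters of `C` split. -/
theorem exists_split {α : C → ℂ} (hα : Cfsg.IsIrrCharacter C α) :
    ∃ μ : C →* ℂˣ, (∀ c, μ (π c) = μ c) ∧
      (∀ c, α c = (μ c : ℂ) * α (hπ.compl c)) ∧ (∀ c, α (π c) = (μ c : ℂ) * α 1) := by
  have h1 := irr_one_ne_zero hα
  have hmul : ∀ c d : C, α (π c * d) = α (π c) * α d / α 1 := by
    intro c d
    have h := sum_char_conj_mul hα (π c) d
    have hb : ∀ b : C, b * π c * b⁻¹ * d = π c * d := fun b => by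
      rw [← hπ.central c b, mul_inv_cancel_right]
    simp only [hb, Finset.sum_const, Finset.card_univ, nsmul_eq_mul] at h
    rw [← Nat.card_eq_fintype_card, mul_assoc, mul_div_assoc] at h
    exact mul_left_cancel₀ card_ne_zero' h
  let f : C →* ℂ :=
    { toFun := fun c => α (π c) / α 1
      map_one' := by rw [map_one, div_self h1]
      map_mul' := fun a b => by rw [map_mul, hmul]; field_simp }
  refine ⟨f.toHomUnits, fun c => Units.ext (show α (π (π c)) / α 1 = α (π c) / α 1 by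
    rw [hπ.idem]), fun c => ?_, fun c => (div_mul_cancel₀ _ h1).symm⟩
  conv_lhs => rw [show c = π c * hπ.compl c by rw [hπ.compl_apply, mul_inv_cancel_left]]
  rw [hmul]
  show _ = α (π c) / α 1 * _
  ring

/-- The character `c ↦ μ(c) θ(σ c)`. -/
noncomputable def twist (α : C → ℂ) (μ : C →* ℂˣ) : C → ℂ :=
  fun c => (μ c : ℂ) * α (hπ.compl c)

theorem twist_proj (α : C → ℂ) {μ : C →* ℂˣ} (hμ : ∀ c, μ (π c) = μ c) (c : C) :
    twist hπ α μ (π c) = (μ c : ℂ) * α 1 := by
  rw [twist, hπ.compl_proj, hμ]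

theorem twist_compl (α : C → ℂ) {μ : C →* ℂˣ} (hμ : ∀ c, μ (π c) = μ c) (c : C) :
    twist hπ α μ (hπ.compl c) = α (hπ.compl c) := by
  have h1 : π (hπ.compl c) = 1 := by
    rw [hπ.compl_apply, map_mul, map_inv, hπ.idem, inv_mul_cancel]
  have h2 : μ (hπ.compl c) = 1 := by rw [← hμ, h1, map_one]
  rw [twist, hπ.compl_of_proj_eq_one h1, h2, Units.val_one, one_mul]

theorem isIrr_twist {α : C → ℂ} (hα : Cfsg.IsIrrCharacter C α) (μ : C →* ℂˣ) :
    Cfsg.IsIrrCharacter C (twist hπ α μ) := by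
  obtain ⟨μ₀, -, h0, -⟩ := exists_split hπ hα
  have h : twist hπ α μ = α * fun c => ((μ * μ₀⁻¹) c : ℂ) := by
    funext c
    simp only [twist, Pi.mul_apply, MonoidHom.mul_apply, MonoidHom.inv_apply, Units.val_mul]
    rw [h0 c]
    have := (μ₀ c).mul_inv
    linear_combination (-((μ c : ℂ) * α (hπ.compl c))) * this
  rw [h]
  exact isIrr_mul_linear hα (isCharacter_of_isIrr (isIrrCharacter_units_hom _)) (by simp)

theorem indFun_apply_mem (θ : C → ℂ) (c : C) :
    Cfsg.indFun C θ c = (Nat.card C : ℂ)⁻¹ * ∑ g : N, θ (MulAut.conjNormal g c) := by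
  rw [indFun_apply]
  congr 1
  refine Fintype.sum_equiv (Equiv.inv N) _ _ fun g => ?_
  rw [← extendByZero_coe θ (MulAut.conjNormal _ c)]
  simp [MulAut.conjNormal_apply]

theorem indFun_apply_notMem (θ : C → ℂ) {n : N} (hn : n ∉ C) : Cfsg.indFun C θ n = 0 := by
  refine indFun_eq_zero_of_forall C fun x hx => absurd ?_ hn
  simpa [mul_assoc] using hCn.conj_mem _ hx x

include hπ in
theorem isIrr_indFun {α : C → ℂ} (hα : Cfsg.IsIrrCharacter C α) {μ : C →* ℂˣ}
    (hμ : ∀ c, μ (π c) = μ c) (hμ1 : μ ≠ 1) (hαμ : ∀ c, α (π c) = (μ c : ℂ) * α 1) :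
    Cfsg.IsIrrCharacter N (Cfsg.indFun C α) := by
  classical
  refine irr_of_norm_one (isCharacter_indFun C (isCharacter_of_isIrr hα)) ?_
  rw [frobenius_reciprocity C α (isClassFunction_indFun C α)]
  have hres : (fun c : C => Cfsg.indFun C α c) =
      (Nat.card C : ℂ)⁻¹ • ∑ g : N, conjFun C g α := by
    funext c
    rw [indFun_apply_mem, Pi.smul_apply, Finset.sum_apply, smul_eq_mul]
    refine congrArg _ (Finset.sum_congr rfl fun g _ => ?_)
    rw [conjFun_eq_comp, Function.comp_apply]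
  rw [hres, classInner_smul_right, classInner_sum_right]
  have hterm : ∀ g : N, Cfsg.classInner α (conjFun C g α) = if g ∈ C then 1 else 0 := by
    intro g
    split_ifs with hg
    · rw [conjFun_of_mem C (isClassFunction_of_isIrr hα) hg, classInner_irr_self hα]
    · refine classInner_irr_ne hα (isIrr_conjFun C hα g) fun he => hμ1 (MonoidHom.ext fun c => ?_)
      have hfix : ∀ c, μ (MulAut.conjNormal g (π c)) = μ (π c) := by
        intro c
        refine Units.ext (mul_right_cancel₀ (irr_one_ne_zero hα) ?_)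
        rw [← hαμ, ← hαμ, hπ.idem, hπ.equiv, hπ.idem]
        have := congrFun he (π c)
        rw [conjFun_eq_comp, Function.comp_apply] at this
        exact this.symm
      rw [← hμ c, hom_eq_one_of_fixed hπ hg hfix c, MonoidHom.one_apply]
  simp only [hterm, Finset.sum_ite, Finset.sum_const_zero, add_zero, Finset.sum_const,
    nsmul_one, ← Fintype.card_subtype, map_inv₀, map_natCast]
  rw [← Nat.card_eq_fintype_card]
  exact inv_mul_cancel₀ (card_subgroup_ne_zero C)

variable (π) in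
/-- Restriction to the factor, pulled back to `C`. -/
abbrev pHom : C →* N := C.subtype.comp π

/-- Restriction to the complementary factor, pulled back to `C`. -/
abbrev IsProj.vHom : C →* N := C.subtype.comp hπ.compl

variable (π) in
/-- The multiplicity of the trivial character on the factor. -/
noncomputable def fix (Θ : N → ℂ) : ℂ := Cfsg.classInner (Θ ∘ pHom π) (fun _ => 1)

include hπ in
/-- The induced characters: the facts needed. -/
theorem indFun_facts (α : C → ℂ) {μ : C →* ℂˣ}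
    (hμ : ∀ c, μ (π c) = μ c) (hμ1 : μ ≠ 1) (hαμ : ∀ c, α (π c) = (μ c : ℂ) * α 1) :
    fix π (Cfsg.indFun C α) = 0 := by
  have h0 : ∑ c : C, (μ c : ℂ) = 0 := by
    obtain ⟨a, ha⟩ : ∃ a, μ a ≠ 1 := by
      by_contra h
      push Not at h
      exact hμ1 (MonoidHom.ext h)
    have h := Fintype.sum_equiv (Equiv.mulLeft a) (fun c => ((μ (a * c) : ℂˣ) : ℂ))
      (fun c => (μ c : ℂ)) fun c => rfl
    simp only [map_mul, Units.val_mul, ← Finset.mul_sum] at h
    have : ((μ a : ℂ) - 1) * ∑ c : C, (μ c : ℂ) = 0 := by linear_combination h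
    exact (mul_eq_zero.mp this).resolve_left
      (sub_ne_zero.mpr fun e => ha (Units.ext (by simpa using e)))
  have hterm : ∀ g : N, ∑ c : C, α (MulAut.conjNormal g (π c)) = 0 := by
    intro g
    simp only [← hπ.equiv, hαμ, ← Finset.sum_mul]
    rw [Fintype.sum_equiv (MulAut.conjNormal g : MulAut C).toEquiv
      (fun c => (μ (MulAut.conjNormal g c) : ℂ)) (fun c => (μ c : ℂ)) fun c => rfl, h0, zero_mul]
  rw [fix, classInner_one_right]
  simp only [Function.comp_apply, MonoidHom.coe_comp, Subgroup.coe_subtype, indFun_apply_mem,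
    ← Finset.mul_sum]
  rw [Finset.sum_comm]
  simp [hterm]

theorem indFun_vres (α : C → ℂ) :
    Cfsg.indFun C α ∘ hπ.vHom =
      (Nat.card C : ℂ)⁻¹ • ∑ g : N, conjFun C g (α ∘ hπ.compl) := by
  funext c
  rw [Function.comp_apply, Pi.smul_apply, Finset.sum_apply, smul_eq_mul]
  show Cfsg.indFun C α ((hπ.compl c : C) : N) = _
  rw [indFun_apply_mem]
  refine congrArg _ (Finset.sum_congr rfl fun g _ => ?_)
  rw [conjFun_eq_comp, Function.comp_apply, Function.comp_apply, hπ.compl_equiv]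

include hπ in
/-- A character of `N` nontrivial on the factor is induced. -/
theorem exists_eq_indFun {ξ : N → ℂ} (hξ : Cfsg.IsIrrCharacter N ξ) (hnt : fix π ξ ≠ ξ 1) :
    ∃ α : C → ℂ, Cfsg.IsIrrCharacter C α ∧ ∃ μ : C →* ℂˣ, (∀ c, μ (π c) = μ c) ∧ μ ≠ 1 ∧
      (∀ c, α (π c) = (μ c : ℂ) * α 1) ∧ ξ = Cfsg.indFun C α := by
  have hres := isCharacter_res C (isCharacter_of_isIrr hξ)
  obtain ⟨m, hm, hmi⟩ := char_decomp hres
  by_contra hcon
  push Not at hcon
  apply hnt
  have hconst : ∀ c : C, ξ (π c : N) = ξ 1 := by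
    intro c
    have h1 := congrFun hm (π c)
    have h2 := congrFun hm 1
    simp only [Finset.sum_apply, Pi.smul_apply, smul_eq_mul] at h1 h2
    rw [show ξ 1 = ξ ((1 : C) : N) from rfl, h1, h2]
    refine Finset.sum_congr rfl fun α _ => ?_
    by_cases hm0 : m α = 0
    · simp [hm0]
    obtain ⟨μ, hμ, -, hαμ⟩ := exists_split hπ α.2
    rw [hαμ c]
    by_cases hμ1 : μ = 1
    · simp [hμ1]
    refine absurd ?_ (hcon α α.2 μ hμ hμ1 hαμ)
    by_contra hne
    have h := classInner_irr_ne (isIrr_indFun hπ α.2 hμ hμ1 hαμ) hξ (Ne.symm hne)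
    rw [frobenius_reciprocity C _ (isClassFunction_of_isIrr hξ), ← classInner_conj_symm, hmi,
      map_natCast, Nat.cast_eq_zero] at h
    exact hm0 h
  rw [fix, classInner_one_right]
  simp only [Function.comp_apply, MonoidHom.coe_comp, Subgroup.coe_subtype, hconst,
    Finset.sum_const, Finset.card_univ, nsmul_eq_mul, ← Nat.card_eq_fintype_card]
  rw [inv_mul_cancel_left₀ (card_subgroup_ne_zero C)]

include hπ in
theorem fix_eq_zero {ξ : N → ℂ} (hξ : Cfsg.IsIrrCharacter N ξ) (hnt : fix π ξ ≠ ξ 1) :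
    fix π ξ = 0 := by
  obtain ⟨α, -, μ, hμ, hμ1, hαμ, rfl⟩ := exists_eq_indFun hπ hξ hnt
  exact indFun_facts hπ α hμ hμ1 hαμ

include hπ in
theorem apply_notMem_eq_zero {ξ : N → ℂ} (hξ : Cfsg.IsIrrCharacter N ξ) (hnt : fix π ξ ≠ ξ 1)
    {n : N} (hn : n ∉ C) : ξ n = 0 := by
  obtain ⟨α, -, μ, -, -, -, rfl⟩ := exists_eq_indFun hπ hξ hnt
  exact indFun_apply_notMem α hn

/-- Two nontrivial characters with a common constituent on the complementary factor agree there. -/
theorem vres_eq_of_common {ξ η : N → ℂ} (hξ : Cfsg.IsIrrCharacter N ξ) (hξn : fix π ξ ≠ ξ 1)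
    (hη : Cfsg.IsIrrCharacter N η) (hηn : fix π η ≠ η 1) {θ : C → ℂ}
    (hθ : Cfsg.IsIrrCharacter C θ) (h1 : Cfsg.classInner (ξ ∘ hπ.vHom) θ ≠ 0)
    (h2 : Cfsg.classInner (η ∘ hπ.vHom) θ ≠ 0) : ξ ∘ hπ.vHom = η ∘ hπ.vHom := by
  have key : ∀ ξ : N → ℂ, Cfsg.IsIrrCharacter N ξ → fix π ξ ≠ ξ 1 →
      Cfsg.classInner (ξ ∘ hπ.vHom) θ ≠ 0 →
      ξ ∘ hπ.vHom = (Nat.card C : ℂ)⁻¹ • ∑ g : N, conjFun C g θ := by
    intro ξ hξ hn h
    obtain ⟨α, hα, μ, hμ, -, hαμ, rfl⟩ := exists_eq_indFun hπ hξ hn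
    have hα' : Cfsg.IsIrrCharacter C (α ∘ hπ.compl) := by
      have e : α ∘ hπ.compl = twist hπ α 1 := by funext c; simp [twist]
      exact e ▸ isIrr_twist hπ hα 1
    rw [indFun_vres, classInner_smul_left, classInner_sum_left] at h
    obtain ⟨g, -, hg⟩ := Finset.exists_ne_zero_of_sum_ne_zero (right_ne_zero_of_mul h)
    have e : conjFun C g (α ∘ hπ.compl) = θ := by
      by_contra hne
      exact hg (classInner_irr_ne (isIrr_conjFun C hα' g) hθ hne)
    rw [indFun_vres, ← e]
    simp only [conjFun_conjFun]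
    congr 1
    exact (Fintype.sum_equiv (Equiv.mulLeft g) _ _ fun x => rfl).symm
  rw [key ξ hξ hξn h1, key η hη hηn h2]

include hπ in
/-- The linear characters of the factor. -/
theorem card_factor_hom : ∃ L : π.range → (C →* ℂˣ), Function.Injective L ∧
    (∀ i c, (L i) (π c) = (L i) c) ∧ ∃ i₀, L i₀ = 1 := by
  have : IsMulCommutative π.range := ⟨⟨fun u v => by
    obtain ⟨_, a, rfl⟩ := u
    exact Subtype.ext (hπ.central a v.1)⟩⟩
  let : CommGroup π.range := { (inferInstance : Group π.range) with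
    mul_comm := mul_comm' }
  have : HasEnoughRootsOfUnity ℂ (Monoid.exponent π.range) := by
    have : NeZero (Monoid.exponent π.range : ℂ) :=
      ⟨by exact_mod_cast Monoid.exponent_ne_zero_of_finite⟩
    infer_instance
  obtain ⟨φ⟩ := CommGroup.monoidHom_mulEquiv_of_hasEnoughRootsOfUnity π.range ℂ
  refine ⟨fun u => (φ.symm u).comp π.rangeRestrict, fun u v h => ?_, fun i c => ?_,
    1, by simp⟩
  · refine φ.symm.injective (MonoidHom.ext fun w => ?_)
    obtain ⟨_, a, rfl⟩ := w
    exact DFunLike.congr_fun h a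
  · simp only [MonoidHom.comp_apply]
    exact congrArg _ (Subtype.ext (hπ.idem c))

/-- A character containing a whole family has degree at least `q - 1`. -/
theorem family_degree {ξ : N → ℂ} (hξ : Cfsg.IsIrrCharacter N ξ) (hnt : fix π ξ ≠ ξ 1)
    {Θ : N → ℂ} (hΘ : Cfsg.IsCharacter N Θ) {d : ℕ} (hd : Θ 1 = d)
    (h : ∀ η : N → ℂ, Cfsg.IsIrrCharacter N η → fix π η ≠ η 1 →
      η ∘ hπ.vHom = ξ ∘ hπ.vHom → Cfsg.classInner Θ η ≠ 0) :
    Nat.card π.range ≤ d + 1 := by
  classical
  have := Fintype.ofFinite π.range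
  obtain ⟨α, hα, μ₀, hμ₀, -, -, rfl⟩ := exists_eq_indFun hπ hξ hnt
  obtain ⟨L, hL, hLπ, i₀, hi₀⟩ := card_factor_hom hπ
  have hcard : Fintype.card {i // i ≠ i₀} ≤ d := by
    refine card_le_degree (Θ := fun c : C => Θ c) (isCharacter_res C hΘ) hd
      (fun i => ⟨twist hπ α (L i.1), isIrr_twist hπ hα _⟩) (fun i j e => Subtype.ext ?_) fun i => ?_
    · refine hL (MonoidHom.ext fun c => Units.ext (mul_right_cancel₀ (irr_one_ne_zero hα) ?_))
      rw [← twist_proj hπ α (hLπ i.1), ← twist_proj hπ α (hLπ j.1)]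
      exact congrFun (congrArg Subtype.val e) (π c)
    · set β := twist hπ α (L i.1) with hβdef
      have hβ : Cfsg.IsIrrCharacter C β := isIrr_twist hπ hα _
      have hβ1 : β 1 = α 1 := by simp [hβdef, twist]
      have hβμ : ∀ c, β (π c) = ((L i.1) c : ℂ) * β 1 := fun c => by
        rw [hβ1]; exact twist_proj hπ α (hLπ i.1) c
      have hne : L i.1 ≠ 1 := fun e => i.2 (hL (e.trans hi₀.symm))
      have hind := isIrr_indFun hπ hβ (hLπ i.1) hne hβμ
      have hfix := indFun_facts hπ β (hLπ i.1) hne hβμ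
      have hv : Cfsg.indFun C β ∘ hπ.vHom = Cfsg.indFun C α ∘ hπ.vHom := by
        rw [indFun_vres, indFun_vres,
          show β ∘ hπ.compl = α ∘ hπ.compl from funext fun c => twist_compl hπ α (hLπ i.1) c]
      intro h0
      refine h _ hind (by rw [hfix]; exact (irr_one_ne_zero hind).symm) hv ?_
      rw [← classInner_conj_symm, frobenius_reciprocity C _ (isClassFunction_of_isCharacter hΘ),
        ← classInner_conj_symm, h0, map_zero, map_zero]
  rw [Fintype.card_subtype_compl, Fintype.card_subtype_eq] at hcard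
  rw [Nat.card_eq_fintype_card]
  omega

/-- A member of the family with no common constituent on the factor. -/
theorem exists_disjoint {ξ : N → ℂ} (hξ : Cfsg.IsIrrCharacter N ξ) (hnt : fix π ξ ≠ ξ 1)
    {d : ℕ} (hd : ξ 1 = d) (hq : d + 1 < Nat.card π.range) :
    ∃ η : N → ℂ, Cfsg.IsIrrCharacter N η ∧ fix π η ≠ η 1 ∧ η ∘ hπ.vHom = ξ ∘ hπ.vHom ∧
      Cfsg.classInner (η ∘ pHom π) (ξ ∘ pHom π) = 0 := by
  classical
  have := Fintype.ofFinite π.range
  obtain ⟨α, hα, μ₀, hμ₀, -, -, hind₀⟩ := exists_eq_indFun hπ hξ hnt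
  obtain ⟨L, hL, hLπ, i₀, hi₀⟩ := card_factor_hom hπ
  obtain ⟨i, hi, hi0⟩ : ∃ i, i ≠ i₀ ∧
      Cfsg.classInner (ξ ∘ pHom π) (fun c => ((L i) c : ℂ)) = 0 := by
    by_contra hcon
    push Not at hcon
    have hcard : Fintype.card {i // i ≠ i₀} ≤ d := by
      refine card_le_degree (isCharacter_comp (isCharacter_of_isIrr hξ) (pHom π))
        (by rw [Function.comp_apply, map_one, hd])
        (fun i => ⟨fun c => ((L i.1) c : ℂ), isIrrCharacter_units_hom _⟩)
        (fun i j e => Subtype.ext (hL (MonoidHom.ext fun c => Units.ext ?_))) fun i => hcon i.1 i.2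
      exact congrFun (congrArg Subtype.val e) c
    rw [Fintype.card_subtype_compl, Fintype.card_subtype_eq] at hcard
    rw [Nat.card_eq_fintype_card] at hq
    omega
  set β := twist hπ α (L i) with hβdef
  have hβ : Cfsg.IsIrrCharacter C β := isIrr_twist hπ hα _
  have hβ1 : β 1 = α 1 := by simp [hβdef, twist]
  have hβμ : ∀ c, β (π c) = ((L i) c : ℂ) * β 1 := fun c => by
    rw [hβ1]; exact twist_proj hπ α (hLπ i) c
  have hne : L i ≠ 1 := fun e => hi (hL (e.trans hi₀.symm))
  have hindb := isIrr_indFun hπ hβ (hLπ i) hne hβμ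
  refine ⟨_, hindb, by rw [indFun_facts hπ β (hLπ i) hne hβμ]; exact (irr_one_ne_zero hindb).symm,
    by rw [hind₀, indFun_vres, indFun_vres,
      show β ∘ hπ.compl = α ∘ hπ.compl from funext fun c => twist_compl hπ α (hLπ i) c], ?_⟩
  have hp : Cfsg.indFun C β ∘ pHom π =
      ((Nat.card C : ℂ)⁻¹ * β 1) • ∑ g : N, conjFun C g (fun c => ((L i) c : ℂ)) := by
    funext c
    rw [Function.comp_apply, Pi.smul_apply, Finset.sum_apply, smul_eq_mul]
    show Cfsg.indFun C β ((π c : C) : N) = _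
    rw [indFun_apply_mem, mul_assoc]
    congr 1
    rw [Finset.mul_sum]
    refine Finset.sum_congr rfl fun g _ => ?_
    rw [conjFun_eq_comp, Function.comp_apply, ← hπ.equiv, hβμ, mul_comm]
  have hinv : ∀ g : N, conjFun C g (ξ ∘ pHom π) = ξ ∘ pHom π := by
    intro g
    funext c
    rw [conjFun_eq_comp, Function.comp_apply]
    show ξ ((π (MulAut.conjNormal g c) : C) : N) = ξ ((π c : C) : N)
    rw [hπ.equiv, MulAut.conjNormal_apply]
    exact isClassFunction_of_isIrr hξ _ g
  rw [hp, classInner_smul_left, classInner_sum_left, Finset.sum_eq_zero, mul_zero]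
  intro g _
  rw [← hinv g, classInner_conjFun, ← classInner_conj_symm, hi0, map_zero]

end Normalizer

end CfsgLib.Char.EqualCentralizers
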