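import Cfsg.Agent.Lib.Char.EqualCentralizers

/-!
# Small degrees: the argument in the whole group
-/

set_option linter.unusedSectionVars false

namespace CfsgLib.Char.EqualCentralizers

open CfsgLib.Char CfsgLib.CharNormal
open scoped ComplexConjugate

variable {G : Type*} [Group G] [Fintype G] {N : Subgroup G} [Fintype N] {C : Subgroup N}
  [hCn : C.Normal] [Fintype C] {π : C →* C} (hπ : IsProj C π)
  (hA : ∀ c : C, π c ≠ 1 → ∀ g : G, g * ((c : N) : G) * g⁻¹ ∈ N → g ∈ N)

/-- The trivial intersection set. -/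
def tiSet (π : C →* C) : Set G := {g | g = 1 ∨ ∃ c : C, π c ≠ 1 ∧ g = ((c : N) : G)}

include hA in
theorem tiSet_ti (g : G) (hg : g ∉ N) (t : G) (ht : t ∈ tiSet π)
    (ht' : g * t * g⁻¹ ∈ tiSet π) : t = 1 := by
  rcases ht with rfl | ⟨c, hc, rfl⟩
  · rfl
  refine absurd (hA c hc g ?_) hg
  rcases ht' with h | ⟨d, -, h⟩
  · rw [h]; exact N.one_mem
  · rw [h]; exact (d : N).2

/-- The multiplicity function of a character of the group on the normalizer. -/
noncomputable abbrev mult (ψ : G → ℂ) (ξ : N → ℂ) : ℂ :=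
  Cfsg.classInner (ψ ∘ N.subtype) ξ

include hπ in
theorem diff_vanish {ξ η : N → ℂ} (hξ : Cfsg.IsIrrCharacter N ξ) (hξn : fix π ξ ≠ ξ 1)
    (hη : Cfsg.IsIrrCharacter N η) (hηn : fix π η ≠ η 1)
    (hv : η ∘ hπ.vHom = ξ ∘ hπ.vHom) (n : N) (hn : (n : G) ∉ tiSet π) :
    (ξ - η) n = 0 := by
  rw [Pi.sub_apply]
  by_cases hC : n ∈ C
  · have h1 : π ⟨n, hC⟩ = 1 := by
      by_contra h
      exact hn (Or.inr ⟨⟨n, hC⟩, h, rfl⟩)
    have h := congrFun hv ⟨n, hC⟩
    simp only [Function.comp_apply, MonoidHom.coe_comp, Subgroup.coe_subtype,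
      hπ.compl_of_proj_eq_one h1] at h
    rw [h, sub_self]
  · rw [apply_notMem_eq_zero hπ hξ hξn hC, apply_notMem_eq_zero hπ hη hηn hC, sub_self]

include hπ in
theorem diff_one {ξ η : N → ℂ} (hv : η ∘ hπ.vHom = ξ ∘ hπ.vHom) : (ξ - η) 1 = 0 := by
  have h := congrFun hv 1
  simp only [Function.comp_apply, map_one] at h
  rw [Pi.sub_apply, h, sub_self]

include hπ hA in
/-- The difference of two members of a family induces to a difference of two characters. -/
theorem pair {ξ η : N → ℂ} (hξ : Cfsg.IsIrrCharacter N ξ) (hξn : fix π ξ ≠ ξ 1)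
    (hη : Cfsg.IsIrrCharacter N η) (hηn : fix π η ≠ η 1)
    (hv : η ∘ hπ.vHom = ξ ∘ hπ.vHom) (hne : ξ ≠ η) [DecidableEq (Cfsg.IrrCharacter G)] :
    ∃ a b : Cfsg.IrrCharacter G, a ≠ b ∧
      Cfsg.indFun N (ξ - η) = (a : G → ℂ) - b ∧
      (∀ ψ : Cfsg.IrrCharacter G, mult (ψ : G → ℂ) ξ - mult (ψ : G → ℂ) η =
        (if ψ = a then 1 else 0) - (if ψ = b then 1 else 0)) ∧
      (∀ n : N, (a : G → ℂ) n - (b : G → ℂ) n = ξ n - η n) := by
  classical
  have hcl := isClassFunction_sub (isClassFunction_of_isIrr hξ) (isClassFunction_of_isIrr hη)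
  have hvan := diff_vanish hπ hξ hξn hη hηn hv
  have h2 : Cfsg.classInner (ξ - η) (ξ - η) = 2 := by
    rw [classInner_sub_left, classInner_sub_right, classInner_sub_right, classInner_irr_self hξ,
      classInner_irr_self hη, classInner_irr_ne hξ hη hne, classInner_irr_ne hη hξ hne.symm]
    norm_num
  have hgen : Cfsg.IsGeneralizedCharacter G (Cfsg.indFun N (ξ - η)) :=
    isGen_indFun N (isGen_sub (isGen_of_irr hξ) (isGen_of_irr hη))
  obtain ⟨a, b, hab, hF⟩ := gen_norm_two hgen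
    (by rw [classInner_indFun_of_TI N (tiSet π) (tiSet_ti hA) hcl hvan hvan (diff_one hπ hv), h2])
    (by rw [indFun_one, diff_one hπ hv, mul_zero])
  refine ⟨a, b, hab, hF, fun ψ => ?_, fun n => ?_⟩
  · have h := frobenius_reciprocity N (ξ - η) (isClassFunction_of_isIrr ψ.2)
    rw [hF, classInner_sub_left, classInner_irrCharacter, classInner_irrCharacter,
      classInner_sub_left] at h
    have h' := congrArg conj h
    simp only [map_sub, classInner_conj_symm, apply_ite conj, map_one, map_zero] at h'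
    simp only [eq_comm (a := a) (b := ψ), eq_comm (a := b) (b := ψ)] at h'
    exact h'.symm
  · show _ = (ξ - η) n
    show ((a : G → ℂ) - (b : G → ℂ)) n = (ξ - η) n
    rw [← congrFun hF n]
    by_cases hn : (n : G) ∈ tiSet π
    · rcases eq_or_ne n 1 with rfl | hn1
      · rw [Subgroup.coe_one, indFun_one, diff_one hπ hv, mul_zero]
      · exact indFun_eq_of_TI N (tiSet π) (tiSet_ti hA) hcl hvan hn hn1
    · rw [hvan n hn]
      refine indFun_eq_zero_of_forall N fun x hx => ?_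
      by_contra h
      have hm : x⁻¹ * (n : G) * x ∈ tiSet π := by
        by_contra h'; exact h (hvan ⟨_, hx⟩ h')
      rcases hm with h1 | ⟨c, hc, h1⟩
      · refine hn (Or.inl ?_)
        calc (n : G) = x * (x⁻¹ * (n : G) * x) * x⁻¹ := by group
          _ = 1 := by rw [h1]; group
      · have hxN : x ∈ N := hA c hc x (by rw [← h1]; simp [mul_assoc])
        refine hn (Or.inr ⟨MulAut.conjNormal (⟨x, hxN⟩ : N) c, ?_, ?_⟩)
        · rw [hπ.equiv, ne_eq, map_eq_one_iff _ (MulEquiv.injective _)]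
          exact hc
        · rw [MulAut.conjNormal_apply]
          simp only [Subgroup.coe_mul, Subgroup.coe_inv]
          rw [← h1]
          group

include hπ hA in
/-- If the multiplicity is positive and vanishes at another member, it equals one. -/
theorem mult_eq_one {ξ η : N → ℂ} (hξ : Cfsg.IsIrrCharacter N ξ) (hξn : fix π ξ ≠ ξ 1)
    (hη : Cfsg.IsIrrCharacter N η) (hηn : fix π η ≠ η 1) (hv : η ∘ hπ.vHom = ξ ∘ hπ.vHom)
    (ψ : Cfsg.IrrCharacter G) (h1 : mult (ψ : G → ℂ) ξ ≠ 0) (h0 : mult (ψ : G → ℂ) η = 0) :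
    mult (ψ : G → ℂ) ξ = 1 := by
  classical
  have hne : ξ ≠ η := fun e => h1 (e ▸ h0)
  obtain ⟨a, b, hab, -, hm, -⟩ := pair hπ hA hξ hξn hη hηn hv hne
  obtain ⟨k, hk⟩ : ∃ k : ℕ, mult (ψ : G → ℂ) ξ = k := classInner_char_nat
    (isCharacter_comp (isCharacter_of_isIrr ψ.2) _) (isCharacter_of_isIrr hξ)
  have h := hm ψ
  rw [h0, sub_zero, hk] at h
  rw [hk] at h1 ⊢
  split_ifs at h with ha hb hb
  · exact absurd (ha.symm.trans hb) hab
  · simpa using h
  · have : ((k + 1 : ℕ) : ℂ) = ((0 : ℕ) : ℂ) := by push_cast; linear_combination h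
    exact absurd (Nat.cast_inj.mp this) (Nat.succ_ne_zero k)
  · exact absurd (by simpa using h) h1

include hπ in
theorem fix_diff {ξ η : N → ℂ} (hξ : Cfsg.IsIrrCharacter N ξ) (hξn : fix π ξ ≠ ξ 1)
    (hη : Cfsg.IsIrrCharacter N η) (hηn : fix π η ≠ η 1) (a b : G → ℂ)
    (h : ∀ n : N, a n - b n = ξ n - η n) :
    fix π (a ∘ N.subtype) = fix π (b ∘ N.subtype) := by
  have e : (a ∘ N.subtype) ∘ pHom π - (b ∘ N.subtype) ∘ pHom π =
      ξ ∘ pHom π - η ∘ pHom π := funext fun c => h _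
  have h' := congrArg (fun F => Cfsg.classInner F (fun _ => 1)) e
  simp only [classInner_sub_left] at h'
  refine sub_eq_zero.mp (h'.trans ?_)
  show fix π ξ - fix π η = 0
  rw [fix_eq_zero hπ hξ hξn, fix_eq_zero hπ hη hηn, sub_zero]

include hπ hA in
/-- Characters separating two pairs with a common member have equal fixed parts. -/
theorem fix_eq_of_separate {ξ η η' : N → ℂ} (hξ : Cfsg.IsIrrCharacter N ξ)
    (hξn : fix π ξ ≠ ξ 1) (hη : Cfsg.IsIrrCharacter N η) (hηn : fix π η ≠ η 1)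
    (hη' : Cfsg.IsIrrCharacter N η') (hηn' : fix π η' ≠ η' 1)
    (hv : η ∘ hπ.vHom = ξ ∘ hπ.vHom) (hv' : η' ∘ hπ.vHom = ξ ∘ hπ.vHom)
    (ψ ψ' : Cfsg.IrrCharacter G) (hs : mult (ψ : G → ℂ) ξ ≠ mult (ψ : G → ℂ) η)
    (hs' : mult (ψ' : G → ℂ) ξ ≠ mult (ψ' : G → ℂ) η') :
    fix π ((ψ : G → ℂ) ∘ N.subtype) = fix π ((ψ' : G → ℂ) ∘ N.subtype) := by
  classical
  have hne : ξ ≠ η := fun e => hs (e ▸ rfl)
  have hne' : ξ ≠ η' := fun e => hs' (e ▸ rfl)
  obtain ⟨a, b, hab, hF, hm, hn⟩ := pair hπ hA hξ hξn hη hηn hv hne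
  obtain ⟨c, d, hcd, hF', hm', hn'⟩ := pair hπ hA hξ hξn hη' hηn' hv' hne'
  have fab := fix_diff hπ hξ hξn hη hηn _ _ hn
  have fcd := fix_diff hπ hξ hξn hη' hηn' _ _ hn'
  have hψ : ψ = a ∨ ψ = b := by
    by_contra h
    push Not at h
    exact hs (sub_eq_zero.mp (by rw [hm, if_neg h.1, if_neg h.2, sub_zero]))
  have hψ' : ψ' = c ∨ ψ' = d := by
    by_contra h
    push Not at h
    exact hs' (sub_eq_zero.mp (by rw [hm', if_neg h.1, if_neg h.2, sub_zero]))
  by_cases he : η = η'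
  · subst he
    have hψ'' : ψ' = a ∨ ψ' = b := by
      by_contra h
      push Not at h
      exact hs' (sub_eq_zero.mp (by rw [hm, if_neg h.1, if_neg h.2, sub_zero]))
    rcases hψ with rfl | rfl <;> rcases hψ'' with rfl | rfl
    exacts [rfl, fab, fab.symm, rfl]
  have hin : Cfsg.classInner ((a : G → ℂ) - (b : G → ℂ)) ((c : G → ℂ) - (d : G → ℂ)) = 1 := by
    rw [← hF, ← hF', classInner_indFun_of_TI N (tiSet π) (tiSet_ti hA)
      (isClassFunction_sub (isClassFunction_of_isIrr hξ) (isClassFunction_of_isIrr hη'))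
      (diff_vanish hπ hξ hξn hη hηn hv) (diff_vanish hπ hξ hξn hη' hηn' hv') (diff_one hπ hv),
      classInner_sub_left, classInner_sub_right, classInner_sub_right, classInner_irr_self hξ,
      classInner_irr_ne hξ hη' hne', classInner_irr_ne hη hξ hne.symm,
      classInner_irr_ne hη hη' he]
    norm_num
  rw [irr_sub_inner] at hin
  have key : fix π ((a : G → ℂ) ∘ N.subtype) = fix π ((c : G → ℂ) ∘ N.subtype) := by
    by_cases h1 : a = c
    · rw [h1]
    by_cases h2 : b = d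
    · rw [fab, h2, fcd]
    rw [if_neg h1, if_neg h2] at hin
    by_cases h3 : a = d
    · rw [h3, fcd]
    by_cases h4 : b = c
    · rw [fab, h4]
    · rw [if_neg h3, if_neg h4] at hin
      norm_num at hin
  rcases hψ with rfl | rfl <;> rcases hψ' with rfl | rfl
  exacts [key, key.trans fcd, fab.symm.trans key, fab.symm.trans (key.trans fcd)]

/-- A zero of the multiplicity in each family. -/
theorem exists_zero {ψ : G → ℂ} (hψ : Cfsg.IsCharacter G ψ) {d : ℕ} (hd : ψ 1 = d)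
    (hq : d + 1 < Nat.card π.range) {ξ : N → ℂ} (hξ : Cfsg.IsIrrCharacter N ξ)
    (hξn : fix π ξ ≠ ξ 1) :
    ∃ η : N → ℂ, Cfsg.IsIrrCharacter N η ∧ fix π η ≠ η 1 ∧
      η ∘ hπ.vHom = ξ ∘ hπ.vHom ∧ mult ψ η = 0 := by
  by_contra hcon
  push Not at hcon
  have := family_degree hπ hξ hξn (isCharacter_comp hψ N.subtype) (d := d)
    (by rw [Function.comp_apply, map_one, hd]) hcon
  omega

include hπ in
/-- A nontrivial constituent on the normalizer. -/
theorem exists_nontrivial {ψ : G → ℂ} (hψ : Cfsg.IsCharacter G ψ)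
    (hB : fix π (ψ ∘ N.subtype) ≠ ψ 1) :
    ∃ ξ : N → ℂ, Cfsg.IsIrrCharacter N ξ ∧ fix π ξ ≠ ξ 1 ∧ mult ψ ξ ≠ 0 := by
  by_contra hcon
  push Not at hcon
  apply hB
  have hc := isCharacter_comp hψ N.subtype
  have h1 := congrFun (classFun_eq_sum (isClassFunction_of_isCharacter hc)) 1
  simp only [Finset.sum_apply, Pi.smul_apply, smul_eq_mul] at h1
  rw [fix, inner_comp_eq_sum hc, show ψ 1 = (ψ ∘ N.subtype) 1 from rfl, h1]
  refine Finset.sum_congr rfl fun a _ => ?_
  by_cases h : Cfsg.classInner (ψ ∘ N.subtype) (a : N → ℂ) = 0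
  · rw [h, zero_mul, zero_mul]
  · congr 1
    by_contra h'
    exact h (hcon a a.2 h')

include hπ hA in
/-- The weight of an irreducible character on the trivial intersection set. -/
theorem sum_ti_le {χ : G → ℂ} (hχ : Cfsg.IsIrrCharacter G χ) [DecidableEq C] :
    ∑ c ∈ (Finset.univ : Finset C).filter (fun c => π c ≠ 1), Complex.normSq (χ ((c : N) : G)) ≤
      Nat.card N := by
  classical
  set δ : N → ℂ := fun n => if h : n ∈ C then (if π ⟨n, h⟩ ≠ 1 then 1 else 0) else 0 with hδ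
  have hcl : Cfsg.IsClassFunction N δ := by
    intro n g
    by_cases hn : n ∈ C
    · have hn' : g * n * g⁻¹ ∈ C := hCn.conj_mem n hn g
      have e : (⟨g * n * g⁻¹, hn'⟩ : C) = MulAut.conjNormal g ⟨n, hn⟩ :=
        Subtype.ext (MulAut.conjNormal_apply g ⟨n, hn⟩).symm
      simp only [hδ, dif_pos hn, dif_pos hn', e, hπ.equiv, ne_eq,
        map_eq_one_iff _ (MulEquiv.injective _)]
    · have hn' : g * n * g⁻¹ ∉ C := fun h => hn (by
        simpa [mul_assoc] using hCn.conj_mem _ h g⁻¹)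
      simp only [hδ, dif_neg hn, dif_neg hn']
  have hvan : ∀ n : N, (n : G) ∉ tiSet π → δ n = 0 := by
    intro n hn
    simp only [hδ]
    split_ifs with h h1
    · exact absurd (Or.inr ⟨⟨n, h⟩, h1, rfl⟩) hn
    all_goals rfl
  have hval : ∀ g : G, ∃ r : ℝ, r ≤ 1 ∧ Cfsg.indFun N δ g = (r : ℂ) := by
    intro g
    by_cases hx : ∃ x : G, ∃ c : C, π c ≠ 1 ∧ x⁻¹ * g * x = ((c : N) : G)
    · obtain ⟨x, c, hc, hx⟩ := hx
      refine ⟨1, le_rfl, ?_⟩
      have hc1 : (c : N) ≠ 1 := fun e => hc (by rw [show c = 1 from Subtype.ext e, map_one])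
      have h := indFun_eq_of_TI N (tiSet π) (tiSet_ti hA) hcl hvan
        (t := (c : N)) (Or.inr ⟨c, hc, rfl⟩) hc1
      have h' := isClassFunction_indFun N δ g x⁻¹
      rw [inv_inv, hx, h] at h'
      rw [← h']
      simp [hδ, hc]
    · push Not at hx
      refine ⟨0, zero_le_one, ?_⟩
      rw [Complex.ofReal_zero]
      refine indFun_eq_zero_of_forall N fun x hxN => ?_
      simp only [hδ]
      split_ifs with h h1
      · exact absurd rfl (hx x ⟨_, h⟩ h1)
      all_goals rfl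
  choose r hr1 hr using hval
  have hfr := frobenius_reciprocity N δ
    (χ := fun g => χ g * conj (χ g)) (isClassFunction_mul (isClassFunction_of_isIrr hχ)
      (isClassFunction_conj (isClassFunction_of_isIrr hχ)))
  simp only [classInner_def, hr, Complex.mul_conj, Complex.conj_ofReal] at hfr
  have hsum : ∑ n : N, δ n * (Complex.normSq (χ n) : ℂ) =
      ((∑ c ∈ (Finset.univ : Finset C).filter (fun c => π c ≠ 1),
        Complex.normSq (χ ((c : N) : G)) : ℝ) : ℂ) := by
    rw [← Finset.sum_filter_add_sum_filter_not Finset.univ (· ∈ C),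
      Finset.sum_eq_zero (s := Finset.univ.filter fun n => ¬ n ∈ C) (fun n hn => by
        simp only [hδ, dif_neg (Finset.mem_filter.mp hn).2, zero_mul]),
      add_zero, Finset.sum_subtype (p := (· ∈ C)) _ (by simp), Finset.sum_filter, Complex.ofReal_sum]
    refine Finset.sum_congr rfl fun c _ => ?_
    simp only [hδ, dif_pos c.2]
    split_ifs <;> simp
  have hnorm : ∑ g : G, Complex.normSq (χ g) = Nat.card G := by
    have h := card_mul_classInner χ χ
    rw [classInner_irr_self hχ, mul_one] at h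
    simp only [Complex.mul_conj] at h
    exact_mod_cast h.symm
  rw [hsum] at hfr
  set S : ℝ := ∑ c ∈ (Finset.univ : Finset C).filter (fun c => π c ≠ 1),
    Complex.normSq (χ ((c : N) : G))
  have hR : (Nat.card G : ℝ)⁻¹ * ∑ g : G, r g * Complex.normSq (χ g) =
      (Nat.card N : ℝ)⁻¹ * S := by
    refine Complex.ofReal_injective ?_
    push_cast at hfr ⊢
    exact hfr
  have hG : (0 : ℝ) < Nat.card G := by exact_mod_cast Nat.card_pos
  have hN : (0 : ℝ) < Nat.card N := by exact_mod_cast Nat.card_pos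
  have hle : (Nat.card G : ℝ)⁻¹ * ∑ g : G, r g * Complex.normSq (χ g) ≤ 1 := by
    rw [inv_mul_le_iff₀ hG, mul_one, ← hnorm]
    exact Finset.sum_le_sum fun g _ => mul_le_of_le_one_left (Complex.normSq_nonneg _) (hr1 g)
  rw [hR, inv_mul_le_iff₀ hN, mul_one] at hle
  exact hle

include hπ hA in
/-- A small character restricts irreducibly to the normalizer. -/
theorem res_eq {χ : G → ℂ} (hχ : Cfsg.IsIrrCharacter G χ) {x : ℕ} (hx : χ 1 = x)
    (hq : x * x + 1 < Nat.card π.range) {ξ : N → ℂ} (hξ : Cfsg.IsIrrCharacter N ξ)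
    (hξn : fix π ξ ≠ ξ 1) (hm : mult χ ξ = 1) (n : N) : χ n = ξ n := by
  classical
  have hres := isCharacter_comp (isCharacter_of_isIrr hχ) N.subtype
  set ρ : N → ℂ := χ ∘ N.subtype - ξ with hρ
  suffices h0 : ρ = 0 by
    have := congrFun h0 n
    rw [hρ, Pi.sub_apply, Pi.zero_apply, sub_eq_zero] at this
    exact this
  have hρc : Cfsg.IsCharacter N ρ := by
    refine isCharacter_of_classInner_nat
      (isClassFunction_sub (isClassFunction_of_isCharacter hres) (isClassFunction_of_isIrr hξ))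
      fun a ha => ?_
    rw [hρ, classInner_sub_left, classInner_irr hξ ha]
    split_ifs with h
    · exact ⟨0, by rw [← h, Nat.cast_zero]; exact sub_eq_zero.mpr hm⟩
    · rw [sub_zero]; exact classInner_char_nat hres (isCharacter_of_isIrr ha)
  by_contra h0
  -- the norm on the normalizer
  have hξρ : Cfsg.classInner ρ ξ = 0 := by
    rw [hρ, classInner_sub_left, classInner_irr_self hξ]
    exact sub_eq_zero.mpr hm
  have hρξ : Cfsg.classInner ξ ρ = 0 := by rw [← classInner_conj_symm, hξρ, map_zero]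
  have hχN : Cfsg.classInner (χ ∘ N.subtype) (χ ∘ N.subtype) =
      1 + Cfsg.classInner ρ ρ := by
    rw [show χ ∘ N.subtype = ξ + ρ by rw [hρ]; abel, classInner_add_left, classInner_add_right,
      classInner_add_right, classInner_irr_self hξ, hξρ, hρξ]
    ring
  have hsq : ∀ f : N → ℂ, (Nat.card N : ℂ) * Cfsg.classInner f f =
      ((∑ c : C, Complex.normSq (f c) +
        ∑ n ∈ (Finset.univ : Finset N).filter (fun n => ¬ n ∈ C),
          Complex.normSq (f n) : ℝ) : ℂ) := by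
    intro f
    rw [card_mul_classInner, ← Finset.sum_subtype ((Finset.univ : Finset N).filter (· ∈ C))
      (by simp) (fun n => Complex.normSq (f n)), Finset.sum_filter_add_sum_filter_not]
    simp [Complex.mul_conj]
  have hoff : ∀ n : N, n ∉ C → χ n = ρ n := fun n hn => by
    simp only [hρ, Pi.sub_apply, apply_notMem_eq_zero hπ hξ hξn hn, sub_zero]
    rfl
  obtain ⟨k, hk⟩ := classInner_char_nat hρc hρc
  have hρC := isCharacter_res C hρc
  obtain ⟨l, hl⟩ := classInner_char_nat hρC hρC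
  have hl0 : l ≠ 0 := by
    intro e
    rw [e, Nat.cast_zero] at hl
    have h1 := congrFun (eq_zero_of_classInner_self_eq_zero hl) 1
    refine h0 (funext fun n => ?_)
    have := norm_char_le hρc n
    rw [show ρ 1 = ρ ((1 : C) : N) from rfl, h1] at this
    simpa using this
  have e1 := hsq (χ ∘ N.subtype)
  have e2 := hsq ρ
  rw [hχN, hk, mul_add, mul_one] at e1
  rw [hk] at e2
  rw [e2, Finset.sum_congr rfl (fun n hn => show Complex.normSq ((χ ∘ N.subtype) n) =
    Complex.normSq (ρ n) by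
      rw [Function.comp_apply, Subgroup.coe_subtype, hoff n (Finset.mem_filter.mp hn).2])] at e1
  have e3 : (Nat.card N : ℝ) + ∑ c : C, Complex.normSq (ρ c) =
      ∑ c : C, Complex.normSq (χ ((c : N) : G)) := by
    have : (Nat.card N : ℝ) + (∑ c : C, Complex.normSq (ρ c) +
        ∑ n ∈ (Finset.univ : Finset N).filter (fun n => ¬ n ∈ C), Complex.normSq (ρ n)) =
        ∑ c : C, Complex.normSq ((χ ∘ N.subtype) c) +
          ∑ n ∈ (Finset.univ : Finset N).filter (fun n => ¬ n ∈ C), Complex.normSq (ρ n) := by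
      refine Complex.ofReal_injective ?_
      push_cast at e1 ⊢
      exact e1
    simp only [Function.comp_apply, Subgroup.coe_subtype] at this
    linarith
  have e4 : (Nat.card C : ℝ) ≤ ∑ c : C, Complex.normSq (ρ c) := by
    have h := card_mul_classInner (fun c : C => ρ c) (fun c : C => ρ c)
    simp only [hl, Complex.mul_conj] at h
    have h' : (Nat.card C : ℝ) * l = ∑ c : C, Complex.normSq (ρ c) := by exact_mod_cast h
    rw [← h']
    exact le_mul_of_one_le_right (Nat.cast_nonneg _) (by exact_mod_cast Nat.pos_of_ne_zero hl0)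
  have e7 := Finset.sum_filter_add_sum_filter_not Finset.univ (fun c : C => π c ≠ 1)
    (fun c : C => Complex.normSq (χ ((c : N) : G)))
  have e5 := sum_ti_le hπ hA hχ
  have e6 : ∑ c ∈ (Finset.univ : Finset C).filter (fun c => ¬ π c ≠ 1),
      Complex.normSq (χ ((c : N) : G)) ≤ (Nat.card π.ker : ℝ) * ((x : ℝ) * x) := by
    have hcard : ((Finset.univ : Finset C).filter (fun c => ¬ π c ≠ 1)).card =
        Nat.card π.ker := by
      rw [← Fintype.card_subtype, ← Nat.card_eq_fintype_card]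
      exact Nat.card_congr (Equiv.subtypeEquivRight fun c => by simp [MonoidHom.mem_ker])
    refine le_trans (Finset.sum_le_card_nsmul _ _ ((x : ℝ) * x) fun c _ => ?_) ?_
    · have h := norm_char_le (isCharacter_of_isIrr hχ) ((c : N) : G)
      rw [hx, Complex.natCast_re] at h
      rw [Complex.normSq_eq_norm_sq, sq]
      exact mul_le_mul h h (norm_nonneg _) (Nat.cast_nonneg _)
    · rw [hcard, nsmul_eq_mul]
  have hC : Nat.card π.ker * Nat.card π.range = Nat.card C := by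
    rw [← Subgroup.index_ker, mul_comm, Subgroup.index_mul_card]
  have hlt : (Nat.card π.ker : ℝ) * ((x : ℝ) * x) < Nat.card C := by
    have : Nat.card π.ker * (x * x) < Nat.card C := by
      rw [← hC]
      exact Nat.mul_lt_mul_of_pos_left (by omega) Nat.card_pos
    exact_mod_cast this
  linarith

include hπ hA in
/-- No irreducible character has small degree larger than one. -/
theorem false_of_small
    (hB : ∀ ψ : G → ℂ, Cfsg.IsIrrCharacter G ψ → ψ ≠ (fun _ => 1) →
      fix π (ψ ∘ N.subtype) ≠ ψ 1)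
    {χ : G → ℂ} (hχ : Cfsg.IsIrrCharacter G χ) {x : ℕ} (hx : χ 1 = x) (hx2 : 2 ≤ x)
    (hq : x * x + 1 < Nat.card π.range) : False := by
  classical
  have hxx : x ≤ x * x := Nat.le_mul_self x
  have hχ1 : χ ≠ fun _ => 1 := fun e => by
    rw [e] at hx
    have : x = 1 := by simpa using hx.symm
    omega
  have hχc := isCharacter_of_isIrr hχ
  obtain ⟨ξ, hξ, hξn, hmξ⟩ := exists_nontrivial hπ hχc (hB χ hχ hχ1)
  obtain ⟨η₁, hη₁, hη₁n, hv₁, h0₁⟩ := exists_zero hπ hχc hx (by omega) hξ hξn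
  have hm1 := mult_eq_one hπ hA hξ hξn hη₁ hη₁n hv₁ ⟨χ, hχ⟩ hmξ h0₁
  have hres := res_eq hπ hA hχ hx hq hξ hξn hm1
  have hξ1 : ξ 1 = x := by rw [← hres 1, Subgroup.coe_one, hx]
  -- a disjoint companion
  obtain ⟨η, hη, hηn, hv, hdis⟩ := exists_disjoint hπ hξ hξn hξ1 (by omega)
  have hγ := isCharacter_comp (isCharacter_of_isIrr hξ) (pHom π)
  have hnorm : Cfsg.classInner (ξ ∘ pHom π) (ξ ∘ pHom π) ≠ 1 := by
    intro h
    have hirr := irr_of_norm_one hγ h
    obtain ⟨μ, -, hsplit, -⟩ := exists_split hπ hirr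
    have hγe : ξ ∘ pHom π = (x : ℂ) • fun c => (μ c : ℂ) := by
      funext c
      rw [hsplit c, Pi.smul_apply, smul_eq_mul, mul_comm]
      congr 1
      show ξ ((π (hπ.compl c) : C) : N) = _
      rw [hπ.compl_apply, map_mul, map_inv, hπ.idem, inv_mul_cancel]
      exact hξ1
    rw [hγe, classInner_smul_left, classInner_smul_right,
      classInner_irr_self (isIrrCharacter_units_hom μ), map_natCast, mul_one] at h
    have : x * x = 1 := by exact_mod_cast h
    omega
  have hne : ξ ≠ η := by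
    rintro rfl
    rw [eq_zero_of_classInner_self_eq_zero hdis, classInner_zero_left] at hnorm
    have h1 := congrFun (eq_zero_of_classInner_self_eq_zero hdis) 1
    simp only [Function.comp_apply, map_one, Pi.zero_apply] at h1
    exact irr_one_ne_zero hξ h1
  have hmη : mult χ η = 0 := by
    rw [mult, show χ ∘ N.subtype = ξ from funext hres]
    exact classInner_irr_ne hξ hη hne
  obtain ⟨a, b, -, -, hm, hn⟩ := pair hπ hA hξ hξn hη hηn hv hne
  have ha : (⟨χ, hχ⟩ : Cfsg.IrrCharacter G) = a := by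
    have h := hm ⟨χ, hχ⟩
    rw [hm1, hmη, sub_zero] at h
    by_contra hne'
    rw [if_neg hne'] at h
    split_ifs at h <;> norm_num at h
  set X : G → ℂ := (b : G → ℂ) with hX
  have hXN : ∀ n : N, X n = η n := fun n => by
    have h := hn n
    rw [← ha] at h
    rw [← hres n] at h
    linear_combination -h
  have hXc : Cfsg.IsCharacter G X := isCharacter_of_isIrr b.2
  have hX1 : X 1 = x := by
    rw [← hξ1, show X 1 = X ((1 : N) : G) from rfl, hXN]
    exact (sub_eq_zero.mp (diff_one hπ hv)).symm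
  -- the two products
  set F₁ : G → ℂ := χ * fun g => conj (χ g) with hF₁
  set F₂ : G → ℂ := χ * fun g => conj (X g) with hF₂
  have hF₁c : Cfsg.IsCharacter G F₁ := isCharacter_mul hχc (isCharacter_conj hχc)
  have hF₂c : Cfsg.IsCharacter G F₂ := isCharacter_mul hχc (isCharacter_conj hXc)
  have hfix₁ : fix π (F₁ ∘ N.subtype) = Cfsg.classInner (ξ ∘ pHom π) (ξ ∘ pHom π) := by
    rw [fix, classInner_one_right, classInner_def]
    simp [hF₁, hres]
  have hfix₂ : fix π (F₂ ∘ N.subtype) = 0 := by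
    rw [← map_zero (starRingEnd ℂ), ← hdis, classInner_conj_symm, fix, classInner_one_right,
      classInner_def]
    simp [hF₂, hres, hXN]
  -- a nonprincipal constituent of the first product with a fixed vector
  obtain ⟨ψ, hψ1, hψF, hψfix⟩ : ∃ ψ : Cfsg.IrrCharacter G, (ψ : G → ℂ) ≠ (fun _ => 1) ∧
      Cfsg.classInner F₁ ψ ≠ 0 ∧ fix π ((ψ : G → ℂ) ∘ N.subtype) ≠ 0 := by
    by_contra hcon
    push Not at hcon
    apply hnorm
    rw [← hfix₁]
    show Cfsg.classInner (F₁ ∘ ⇑(N.subtype.comp (pHom π))) (fun _ => 1) = 1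
    rw [inner_comp_eq_sum hF₁c, Finset.sum_eq_single irrOne (fun ψ _ hψ => ?_) (by simp)]
    · have h1 : Cfsg.classInner F₁ ((irrOne : Cfsg.IrrCharacter G) : G → ℂ) = 1 := by
        show Cfsg.classInner F₁ (fun _ => 1) = 1
        rw [classInner_one_right]
        refine Eq.trans ?_ (classInner_irr_self hχ)
        rw [classInner_def]
        rfl
      rw [h1, one_mul]
      exact classInner_irr_self (isIrrCharacter_one (G := C))
    · by_cases h : Cfsg.classInner F₁ (ψ : G → ℂ) = 0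
      · rw [h, zero_mul]
      · have h2 : fix π ((ψ : G → ℂ) ∘ N.subtype) = 0 :=
          hcon ψ (fun e => hψ (Subtype.ext e)) h
        rw [show Cfsg.classInner ((ψ : G → ℂ) ∘ ⇑(N.subtype.comp (pHom π))) (fun _ => 1) = 0
          from h2, mul_zero]
  obtain ⟨d, hd0, hd⟩ := exists_degree_pos ψ.2
  have hdle : d ≤ x * x := by
    have h := constituent_degree_le hF₁c ψ.2 hψF
    simp only [hF₁, Pi.mul_apply, hx, hd, map_natCast] at h
    norm_num at h
    exact_mod_cast h
  obtain ⟨ξ₁, hξ₁, hξ₁n, hmξ₁⟩ :=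
    exists_nontrivial hπ (isCharacter_of_isIrr ψ.2) (hB ψ ψ.2 hψ1)
  obtain ⟨η₀, hη₀, hη₀n, hv₀, h0₀⟩ :=
    exists_zero hπ (isCharacter_of_isIrr ψ.2) hd (by omega) hξ₁ hξ₁n
  obtain ⟨θ, hθ, hθ0⟩ := exists_constituent
    (isCharacter_comp (isCharacter_of_isIrr hξ₁) hπ.vHom)
    (fun e => irr_one_ne_zero hξ₁ (by simpa using congrFun e 1))
  have hψθ : Cfsg.classInner (((ψ : G → ℂ) ∘ N.subtype) ∘ hπ.vHom) θ ≠ 0 :=
    inner_comp_ne_zero (isCharacter_comp (isCharacter_of_isIrr ψ.2) _) hπ.vHom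
      (isCharacter_of_isIrr hθ) ⟨ξ₁, hξ₁⟩ hmξ₁ hθ0
  have hFθ : Cfsg.classInner (F₂ ∘ ⇑(N.subtype.comp hπ.vHom)) θ ≠ 0 := by
    have e : F₂ ∘ ⇑(N.subtype.comp hπ.vHom) = F₁ ∘ ⇑(N.subtype.comp hπ.vHom) := by
      funext c
      have h := congrFun hv c
      simp only [Function.comp_apply, MonoidHom.coe_comp, Subgroup.coe_subtype] at h
      simp [hF₁, hF₂, hres, hXN, h]
    rw [e]
    exact inner_comp_ne_zero hF₁c _ (isCharacter_of_isIrr hθ) ψ hψF hψθ
  obtain ⟨ψ₂, hψ₂F, hψ₂θ⟩ := exists_constituent_comp hF₂c _ hFθ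
  have hψ₂fix : fix π ((ψ₂ : G → ℂ) ∘ N.subtype) = 0 := by
    by_contra h
    exact inner_comp_ne_zero hF₂c (N.subtype.comp (pHom π)) isCharacter_one ψ₂ hψ₂F h hfix₂
  obtain ⟨⟨ξ₂, hξ₂⟩, hmξ₂, hξ₂θ⟩ :=
    exists_constituent_comp (isCharacter_comp (isCharacter_of_isIrr ψ₂.2) N.subtype) hπ.vHom hψ₂θ
  have hξ₂n : fix π ξ₂ ≠ ξ₂ 1 := by
    intro h
    refine inner_comp_ne_zero (isCharacter_comp (isCharacter_of_isIrr ψ₂.2) N.subtype) (pHom π)
      isCharacter_one ⟨ξ₂, hξ₂⟩ hmξ₂ ?_ hψ₂fix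
    show fix π ξ₂ ≠ 0
    rw [h]
    exact irr_one_ne_zero hξ₂
  obtain ⟨d₂, hd₂0, hd₂⟩ := exists_degree_pos ψ₂.2
  have hd₂le : d₂ ≤ x * x := by
    have h := constituent_degree_le hF₂c ψ₂.2 hψ₂F
    simp only [hF₂, Pi.mul_apply, hx, hd₂, hX1, map_natCast] at h
    norm_num at h
    exact_mod_cast h
  obtain ⟨η₂, hη₂, hη₂n, hv₂, h0₂⟩ :=
    exists_zero hπ (isCharacter_of_isIrr ψ₂.2) hd₂ (by omega) hξ₂ hξ₂n
  have hfam := vres_eq_of_common hπ hξ₁ hξ₁n hξ₂ hξ₂n hθ hθ0 hξ₂θ
  have hs1 : mult (ψ : G → ℂ) ξ₁ ≠ mult (ψ : G → ℂ) η₀ := by rw [h0₀]; exact hmξ₁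
  have hs2 : mult (ψ₂ : G → ℂ) ξ₂ ≠ mult (ψ₂ : G → ℂ) η₂ := by rw [h0₂]; exact hmξ₂
  apply hψfix
  rw [← hψ₂fix]
  by_cases he : ξ₁ = ξ₂
  · subst he
    exact fix_eq_of_separate hπ hA hξ₁ hξ₁n hη₀ hη₀n hη₂ hη₂n hv₀ hv₂ ψ ψ₂ hs1 hs2
  obtain ⟨a', b', hab', -, hm', -⟩ := pair hπ hA hξ₁ hξ₁n hξ₂ hξ₂n hfam.symm he
  have hs3 : mult (a' : G → ℂ) ξ₁ ≠ mult (a' : G → ℂ) ξ₂ := by
    intro h
    have := hm' a'
    rw [h, sub_self, if_pos rfl, if_neg hab'] at this
    norm_num at this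
  rw [fix_eq_of_separate hπ hA hξ₁ hξ₁n hη₀ hη₀n hξ₂ hξ₂n hv₀ hfam.symm ψ a' hs1 hs3]
  exact fix_eq_of_separate hπ hA hξ₂ hξ₂n hξ₁ hξ₁n hη₂ hη₂n hfam hv₂ a' ψ₂ hs3.symm hs2

end CfsgLib.Char.EqualCentralizers
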