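import Cfsg.Agent.Lib.Char.EqualCentralizersGlobal
import Cfsg.Agent.Lib.CharNormal.Kernel

/-!
# Small degrees: reduction to the abstract setting
-/

namespace CfsgLib.Char.EqualCentralizers

open CfsgLib.Char CfsgLib.CharNormal
open scoped ComplexConjugate

variable {G : Type*} [Group G] [Finite G] {p : ℕ} [Fact p.Prime] (P : Sylow p G)

theorem mem_sylow_of_normalizer {y : G} (hy : y ∈ Subgroup.normalizer ((P : Subgroup G) : Set G))
    (hq : y ^ Nat.card P = 1) : y ∈ (P : Subgroup G) := by
  obtain ⟨k, hk⟩ := IsPGroup.iff_card.mp P.isPGroup'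
  have hz : IsPGroup p (Subgroup.zpowers y) := by
    refine IsPGroup.iff_card.mpr ?_
    rw [Nat.card_zpowers]
    obtain ⟨i, -, hi⟩ := (Nat.dvd_prime_pow Fact.out).mp (hk ▸ orderOf_dvd_of_pow_eq_one hq)
    exact ⟨i, hi⟩
  have h := hz.to_sup_of_normal_right' P.isPGroup' (Subgroup.zpowers_le.mpr hy)
  rw [← P.is_maximal' h le_sup_right]
  exact Subgroup.mem_sup_left (Subgroup.mem_zpowers y)

/-- The dichotomy for a nonprincipal irreducible character of small degree. -/
theorem small_degree
    (hstar : ∀ x ∈ (P : Subgroup G), x ≠ 1 → Subgroup.centralizer ({x} : Set G) =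
      Subgroup.centralizer ((P : Subgroup G) : Set G))
    (hK : ¬ ∃ K : Subgroup G, K.Normal ∧ K ≠ ⊤ ∧ (P : Subgroup G) ≤ K)
    {χ : G → ℂ} (hχ : Cfsg.IsIrrCharacter G χ) (hχ1 : χ ≠ fun _ => 1)
    {x : ℕ} (hx : χ 1 = x) (hq : x * x + 1 < Nat.card P) :
    (∃ K : Subgroup G, K.Normal ∧ K.index = Nat.card P) ∧ x = 1 := by
  classical
  have := Fintype.ofFinite G
  set S : Set G := ((P : Subgroup G) : Set G) with hS
  set q := Nat.card P with hqdef
  -- the Sylow subgroup is abelian
  have hPC : (P : Subgroup G) ≤ Subgroup.centralizer S := by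
    intro u hu
    rcases eq_or_ne u 1 with rfl | hu1
    · exact one_mem _
    rw [← hstar u hu hu1]
    exact Subgroup.mem_centralizer_singleton_iff.mpr rfl
  have hcomm : ∀ c ∈ Subgroup.centralizer S, ∀ u ∈ (P : Subgroup G), u * c = c * u :=
    fun c hc u hu => Subgroup.mem_centralizer_iff.mp hc u hu
  have hq0 : ∀ u ∈ (P : Subgroup G), u ^ q = 1 := fun u hu =>
    congrArg Subtype.val (pow_card_eq_one' (G := (P : Subgroup G)) (x := ⟨u, hu⟩))
  -- kernels
  have hker : ∀ ψ : G → ℂ, Cfsg.IsIrrCharacter G ψ → ψ ≠ (fun _ => 1) →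
      ¬ ∀ u ∈ (P : Subgroup G), ψ u = ψ 1 := by
    intro ψ hψ hψ1 hall
    have hc := isCharacter_of_isIrr hψ
    refine hK ⟨charKer hc, charKer_normal hc, fun htop => hψ1 ?_, fun u hu => hall u hu⟩
    obtain ⟨d, hd0, hd⟩ := exists_degree_pos hψ
    have he : ψ = fun _ => (d : ℂ) := funext fun g => by
      rw [← hd]; exact mem_charKer.mp (htop ▸ Subgroup.mem_top g : g ∈ charKer hc)
    have h := classInner_irr_self hψ
    rw [he, classInner_def] at h
    simp only [map_natCast, Finset.sum_const, Finset.card_univ, nsmul_eq_mul,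
      ← Nat.card_eq_fintype_card] at h
    rw [inv_mul_cancel_left₀ card_ne_zero'] at h
    have h2 : d * d = 1 := by exact_mod_cast h
    rw [he, Nat.eq_one_of_mul_eq_one_left h2, Nat.cast_one]
  set N := Subgroup.normalizer S with hN
  by_cases hx2 : 2 ≤ x
  · -- the projection
    exfalso
    let C : Subgroup N := (Subgroup.centralizer S).subgroupOf N
    have hCn : C.Normal := Subgroup.normal_subgroupOf_centralizer_normalizer S
    have hmemC : ∀ c : C, ((c : N) : G) ∈ Subgroup.centralizer S := fun c => c.2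
    let ι : C →* G := N.subtype.comp C.subtype
    have hι : Function.Injective ι := Subtype.val_injective.comp Subtype.val_injective
    let Pc : Subgroup C := (P : Subgroup G).comap ι
    have hPcard : Nat.card Pc = q := by
      refine Nat.card_congr (Equiv.ofBijective (fun u : Pc => (⟨ι u.1, u.2⟩ : (P : Subgroup G)))
        ⟨fun u v h => Subtype.ext (hι (congrArg Subtype.val h :)), fun u => ?_⟩)
      exact ⟨⟨⟨⟨u.1, Subgroup.le_normalizer u.2⟩, hPC u.2⟩, u.2⟩, rfl⟩
    have hcenter : Pc ≤ Subgroup.center C := fun u hu => Subgroup.mem_center_iff.mpr fun c =>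
      hι (by rw [map_mul, map_mul]; exact (hcomm _ (hmemC c) _ hu).symm)
    have hPn : Pc.Normal := ⟨fun u hu c => by
      rw [Subgroup.mem_center_iff.mp (hcenter hu) c, mul_inv_cancel_right]; exact hu⟩
    have hdvd : Pc.index ∣ (P : Subgroup G).index := by
      refine Nat.dvd_of_mul_dvd_mul_left (Nat.card_pos (α := Pc)) ?_
      rw [Subgroup.card_mul_index, hPcard, hqdef, Subgroup.card_mul_index]
      exact Subgroup.card_dvd_of_injective ι hι
    have hcop : Nat.Coprime Pc.index q :=
      Nat.Coprime.coprime_dvd_left hdvd P.card_coprime_index.symm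
    obtain ⟨M, hM0, hM1⟩ := Nat.chineseRemainder hcop 0 1
    obtain ⟨i, hi⟩ : Pc.index ∣ M := Nat.modEq_zero_iff_dvd.mp hM0
    obtain ⟨j, hj⟩ : (Subgroup.center C).index ∣ Pc.index := Subgroup.index_dvd_of_le hcenter
    let π : C →* C := MonoidHom.mk' (fun c => c ^ M) fun a b => by
      have h : (a * b) ^ (Subgroup.center C).index =
          a ^ (Subgroup.center C).index * b ^ (Subgroup.center C).index :=
        congrArg Subtype.val ((MonoidHom.transferCenterPow C).map_mul a b)
      have hc : Commute (a ^ (Subgroup.center C).index) (b ^ (Subgroup.center C).index) :=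
        (Subgroup.mem_center_iff.mp ((Subgroup.center C).pow_index_mem b) _)
      rw [hi, hj, mul_assoc, pow_mul, h, hc.mul_pow, ← pow_mul, ← pow_mul]
    have hπP : ∀ c : C, π c ∈ Pc := fun c => by
      show c ^ M ∈ Pc
      rw [hi, pow_mul]
      exact Pc.pow_mem (Pc.pow_index_mem c) _
    have hπid : ∀ u ∈ Pc, π u = u := fun u hu => by
      show u ^ M = u
      have h1 : u ^ q = 1 := hι (by rw [map_pow, map_one]; exact hq0 _ hu)
      conv_rhs => rw [← pow_one u]
      exact pow_eq_pow_iff_modEq.mpr (hM1.of_dvd (orderOf_dvd_of_pow_eq_one h1))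
    have hrange : π.range = Pc :=
      le_antisymm (fun _ ⟨c, hc⟩ => hc ▸ hπP c) fun u hu => ⟨u, hπid u hu⟩
    have hnt : ∀ c : C, π c ≠ 1 → ι (π c) ≠ 1 := fun c hc h => hc (hι (by rw [h, map_one]))
    have hπ : IsProj C π :=
      { central := fun c d => (Subgroup.mem_center_iff.mp (hcenter (hπP c)) d).symm
        idem := fun c => hπid _ (hπP c)
        equiv := fun g c => (map_pow (MulAut.conjNormal g : MulAut C) c M).symm
        fpf := fun g hg c h => by
          by_contra hne
          refine hg ?_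
          show (g : G) ∈ Subgroup.centralizer S
          rw [← hstar _ (hπP c) (hnt c hne), Subgroup.mem_centralizer_singleton_iff]
          have h' : (g : G) * ι (π c) * (g : G)⁻¹ = ι (π c) := congrArg ι h
          exact mul_inv_eq_iff_eq_mul.mp h' }
    have hA : ∀ c : C, π c ≠ 1 → ∀ g : G, g * ((c : N) : G) * g⁻¹ ∈ N → g ∈ N := by
      intro c hc g hg
      set u := ι (π c) with hu
      have huP : u ∈ (P : Subgroup G) := hπP c
      have hu1 : u ≠ 1 := hnt c hc
      set u' := g * u * g⁻¹ with hu'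
      have hu'P : u' ∈ (P : Subgroup G) := by
        refine mem_sylow_of_normalizer P ?_ ?_
        · have e : u' = (g * ((c : N) : G) * g⁻¹) ^ M := by
            rw [conj_pow, hu', hu]
            exact congrArg (fun z => g * z * g⁻¹) (map_pow ι c M)
          rw [e]
          exact N.pow_mem hg _
        · rw [hu', conj_pow, hq0 u huP, mul_one, mul_inv_cancel]
      have hu'1 : u' ≠ 1 := fun e => hu1 (conj_eq_one_iff.mp e)
      have hmem : ∀ y ∈ (P : Subgroup G), g * y * g⁻¹ ∈ (P : Subgroup G) := by
        intro y hy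
        refine mem_sylow_of_normalizer P (Subgroup.centralizer_le_normalizer _ ?_) ?_
        · rw [← hstar u' hu'P hu'1, Subgroup.mem_centralizer_singleton_iff, hu']
          simp only [mul_assoc, inv_mul_cancel_left]
          rw [← mul_assoc y u, hcomm u (hPC huP) y hy, mul_assoc]
        · rw [conj_pow, hq0 y hy, mul_one, mul_inv_cancel]
      have hmap : (P : Subgroup G).map (MulAut.conj g : G ≃* G).toMonoidHom = P := by
        refine Subgroup.eq_of_le_of_card_ge ?_ (le_of_eq ?_)
        · rintro _ ⟨y, hy, rfl⟩; exact hmem y hy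
        · exact (Subgroup.card_map_of_injective (MulEquiv.injective _)).symm
      intro y
      refine ⟨hmem y, fun hy => ?_⟩
      have hy' : g * y * g⁻¹ ∈ (P : Subgroup G).map (MulAut.conj g : G ≃* G).toMonoidHom := by
        rw [hmap]; exact hy
      obtain ⟨z, hz, hzy⟩ := hy'
      have : z = y := (MulAut.conj g : G ≃* G).injective hzy
      exact this ▸ hz
    refine false_of_small hπ hA (fun ψ hψ hψ1 hfix => hker ψ hψ hψ1 fun u hu => ?_) hχ hx hx2
      (by rw [hrange, hPcard]; exact hq)
    have h := eq_const_of_inner_one (isCharacter_comp (isCharacter_comp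
      (isCharacter_of_isIrr hψ) N.subtype) (pHom π))
      (by rw [Function.comp_apply, map_one, Function.comp_apply, map_one]; exact hfix)
      ⟨⟨u, Subgroup.le_normalizer hu⟩, hPC hu⟩
    simp only [Function.comp_apply, map_one, MonoidHom.coe_comp, Subgroup.coe_subtype] at h
    rw [hπid _ hu] at h
    exact h
  · obtain ⟨d, hd0, hd⟩ := exists_degree_pos hχ
    have hdx : d = x := by rw [hx] at hd; exact_mod_cast hd.symm
    have hx1 : x = 1 := by omega
    refine ⟨?_, hx1⟩
    have hlin : χ 1 = 1 := by rw [hx, hx1, Nat.cast_one]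
    have hc := isCharacter_of_isIrr hχ
    have hNC : N ≤ Subgroup.centralizer S := by
      intro g hg
      by_contra hgC
      let T : ↥(P : Subgroup G) → ↥(P : Subgroup G) := fun u =>
        ⟨g * u.1 * g⁻¹ * (u.1)⁻¹, (P : Subgroup G).mul_mem ((hg u.1).mp u.2)
          ((P : Subgroup G).inv_mem u.2)⟩
      have hT : Function.Injective T := by
        intro u v h
        have h' : g * u.1 * g⁻¹ * (u.1)⁻¹ = g * v.1 * g⁻¹ * (v.1)⁻¹ := congrArg Subtype.val h
        by_contra hne
        refine hgC ?_
        have hw : (v.1)⁻¹ * u.1 ≠ 1 := fun e => hne (Subtype.ext (inv_mul_eq_one.mp e).symm)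
        rw [← hstar _ ((P : Subgroup G).mul_mem ((P : Subgroup G).inv_mem v.2) u.2) hw,
          Subgroup.mem_centralizer_singleton_iff]
        calc g * ((v.1)⁻¹ * u.1)
            = (g * v.1 * g⁻¹)⁻¹ * (g * u.1 * g⁻¹ * (u.1)⁻¹) * u.1 * g := by group
          _ = (v.1)⁻¹ * u.1 * g := by rw [h']; group
      refine hker χ hχ hχ1 fun w hw => ?_
      obtain ⟨u, hu⟩ := Finite.injective_iff_surjective.mp hT ⟨w, hw⟩
      have hu' : g * u.1 * g⁻¹ * (u.1)⁻¹ = w := congrArg Subtype.val hu
      rw [← hu', linear_map_mul hc hlin, isClassFunction_of_isIrr hχ, ← linear_map_mul hc hlin,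
        mul_inv_cancel]
    exact ⟨(MonoidHom.transferSylow P hNC).ker, MonoidHom.normal_ker _,
      (MonoidHom.ker_transferSylow_isComplement' P hNC).symm.index_eq_card⟩

end CfsgLib.Char.EqualCentralizers
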