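import Cfsg.Agent.Lib.Char.Linear
import Cfsg.Agent.Lib.Char.Integral
import Cfsg.Agent.Lib.CharNormal.Kernel
import Cfsg.Prelude.Def_Transfer

/-!
# Irreducible characters of extraspecial groups
-/

namespace CfsgLib.Char

open CfsgLib.CharNormal
open scoped ComplexConjugate commutatorElement

variable {P : Type*} [Group P] [Fintype P] {p n : ℕ} [Fact p.Prime]

/-- A character is linear, or has degree `p ^ n` and vanishes off the centre. -/
theorem extraspecial_irr (hP : Cfsg.IsExtraspecial p P) (hcard : Nat.card P = p ^ (2 * n + 1))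
    {χ : P → ℂ} (hχ : Cfsg.IsIrrCharacter P χ) :
    (χ 1 = 1 ∧ ∀ z ∈ Subgroup.center P, χ z = 1) ∨
      (χ 1 = (p : ℂ) ^ n ∧ (∀ x, x ∉ Subgroup.center P → χ x = 0) ∧
        ∀ z ∈ Subgroup.center P, z ≠ 1 → χ z ≠ χ 1) := by
  classical
  obtain ⟨⟨-, -, hcomm⟩, hZ⟩ := hP
  set Z := Subgroup.center P with hZdef
  by_cases hker : ∀ z ∈ Z, χ z = χ 1
  · have h1 : χ 1 = 1 := by
      have hn : Z.Normal := inferInstance
      obtain ⟨β, hβ, hβe⟩ := exists_irr_eq_comp_mk' Z hχ hker
      have hab : ∀ a b : P ⧸ Z, a * b = b * a := by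
        intro a b
        obtain ⟨a, rfl⟩ := QuotientGroup.mk_surjective a
        obtain ⟨b, rfl⟩ := QuotientGroup.mk_surjective b
        rw [← QuotientGroup.mk_mul, ← QuotientGroup.mk_mul, QuotientGroup.eq]
        have : ⁅b⁻¹, a⁻¹⁆ ∈ commutator P :=
          Subgroup.commutator_mem_commutator (Subgroup.mem_top _) (Subgroup.mem_top _)
        rw [hcomm, commutatorElement_def, inv_inv, inv_inv] at this
        simpa [mul_assoc] using this
      rw [← hβe]
      exact irr_one_eq_one_of_comm hab hβ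
    exact Or.inl ⟨h1, fun z hz => (hker z hz).trans h1⟩
  · refine Or.inr ?_
    obtain ⟨m, ρ, hirr, hρ⟩ := id hχ
    have hgen : ∀ z ∈ Z, z ≠ 1 → χ z ≠ χ 1 := by
      intro z hz hz1 he
      apply hker
      have hK : ∀ w ∈ Subgroup.zpowers z, w ∈ charKer (isCharacter_of_isIrr hχ) :=
        fun w hw => Subgroup.zpowers_le.mpr (mem_charKer.mpr he) hw
      intro w hw
      refine mem_charKer.mp (hK w ?_)
      have hone : (⟨z, hz⟩ : Z) ≠ 1 := fun e => hz1 (congrArg Subtype.val e)
      obtain ⟨i, hi⟩ := Subgroup.mem_zpowers_iff.mp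
        (mem_zpowers_of_prime_card (p := p) hZ hone (g' := (⟨w, hw⟩ : Z)))
      exact Subgroup.mem_zpowers_iff.mpr ⟨i, congrArg Subtype.val hi⟩
    have hsc : ∀ z ∈ Z, ∃ ω : ℂ, ρ z = ω • LinearMap.id := fun z hz =>
      exists_eq_smul_id ρ _ fun g => by
        rw [← Module.End.mul_eq_comp, ← Module.End.mul_eq_comp, ← map_mul, ← map_mul,
          Subgroup.mem_center_iff.mp hz g]
    have hvan : ∀ x, x ∉ Z → χ x = 0 := by
      intro x hx
      obtain ⟨y, hy⟩ : ∃ y, y * x ≠ x * y := by
        by_contra hall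
        push Not at hall
        exact hx (Subgroup.mem_center_iff.mpr hall)
      set z := y * x * y⁻¹ * x⁻¹ with hzdef
      have hz : z ∈ Z := by
        have := Subgroup.commutator_mem_commutator (Subgroup.mem_top y) (Subgroup.mem_top x)
        rw [← commutator_def, hcomm, commutatorElement_def] at this
        exact this
      have hz1 : z ≠ 1 := fun e => hy (mul_inv_eq_iff_eq_mul.mp (mul_inv_eq_one.mp e))
      obtain ⟨ω, hω⟩ := hsc z hz
      have hzx : z * x = y * x * y⁻¹ := inv_mul_cancel_right _ _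
      have h1 : χ (z * x) = ω * χ x := by
        rw [← hρ]
        show LinearMap.trace ℂ _ (ρ (z * x)) = ω * LinearMap.trace ℂ _ (ρ x)
        rw [map_mul, hω, Module.End.mul_eq_comp, LinearMap.smul_comp, LinearMap.id_comp, map_smul,
          smul_eq_mul]
      rw [hzx, isClassFunction_of_isIrr hχ] at h1
      have hω1 : ω ≠ 1 := by
        rintro rfl
        refine hgen z hz hz1 ?_
        rw [← hρ]
        show LinearMap.trace ℂ _ (ρ z) = LinearMap.trace ℂ _ (ρ 1)
        rw [hω, one_smul, map_one]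
        rfl
      have h2 : (1 - ω) * χ x = 0 := by linear_combination h1
      exact (mul_eq_zero.mp h2).resolve_left (sub_ne_zero.mpr (Ne.symm hω1))
    refine ⟨?_, hvan, hgen⟩
    have hm : χ 1 = (m : ℂ) := by rw [← hρ]; simp
    have hnorm : ∀ z ∈ Z, χ z * conj (χ z) = (m : ℂ) ^ 2 := fun z hz => by
      have := (norm_character_eq_iff ρ z).mpr (hsc z hz)
      rw [hρ, Module.finrank_fin_fun] at this
      rw [Complex.mul_conj, Complex.normSq_eq_norm_sq, this]
      push_cast
      rfl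
    have h1 := card_mul_classInner χ χ
    rw [classInner_irr_self hχ, mul_one, hcard,
      ← Finset.sum_filter_add_sum_filter_not Finset.univ (· ∈ Z),
      Finset.sum_eq_zero (s := Finset.univ.filter fun x => x ∉ Z) (fun x hx => by
        rw [hvan x (Finset.mem_filter.mp hx).2, zero_mul]), add_zero,
      Finset.sum_congr rfl fun x hx => hnorm x (Finset.mem_filter.mp hx).2, Finset.sum_const,
      ← Fintype.card_subtype, ← Nat.card_eq_fintype_card, nsmul_eq_mul, hZ] at h1
    have h2 : p * p ^ (2 * n) = p * m ^ 2 := by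
      have : p ^ (2 * n + 1) = p * m ^ 2 := by exact_mod_cast h1
      rw [← this, pow_succ, mul_comm]
    have h3 : (p ^ n) ^ 2 = m ^ 2 := by
      rw [← pow_mul, mul_comm n 2]
      exact Nat.eq_of_mul_eq_mul_left (Fact.out : p.Prime).pos h2
    rw [hm, ← (Nat.pow_left_injective two_ne_zero h3)]
    push_cast
    rfl

theorem extraspecial_n_pos (hP : Cfsg.IsExtraspecial p P) (hcard : Nat.card P = p ^ (2 * n + 1)) :
    0 < n := by
  rcases Nat.eq_zero_or_pos n with rfl | h
  · exfalso
    obtain ⟨⟨-, -, hcomm⟩, hZ⟩ := hP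
    have htop : Subgroup.center P = ⊤ :=
      Subgroup.eq_top_of_card_eq _ (by rw [hZ, hcard, mul_zero, zero_add, pow_one])
    have hbot : commutator P = ⊥ := by
      rw [eq_bot_iff, commutator_def, Subgroup.commutator_le]
      intro a _ b _
      rw [Subgroup.mem_bot, commutatorElement_eq_one_iff_mul_comm]
      exact (Subgroup.mem_center_iff.mp (htop ▸ Subgroup.mem_top b) a)
    rw [hcomm, htop] at hbot
    have h1 : Nat.card P = 1 := by
      rw [← Subgroup.card_top, hbot, Subgroup.card_bot]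
    rw [hcard, mul_zero, zero_add, pow_one] at h1
    exact (Fact.out : p.Prime).ne_one h1
  · exact h

/-- There are `p - 1` characters of degree `p ^ n`. -/
theorem extraspecial_card_irr (hP : Cfsg.IsExtraspecial p P)
    (hcard : Nat.card P = p ^ (2 * n + 1)) :
    Nat.card {χ : Cfsg.IrrCharacter P // (χ : P → ℂ) 1 = (p : ℂ) ^ n} = p - 1 := by
  classical
  have hn := extraspecial_n_pos hP hcard
  have hne : ((p : ℂ) ^ n) ≠ 1 := by
    exact_mod_cast (Nat.one_lt_pow hn.ne' (Fact.out : p.Prime).one_lt).ne'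
  have hsum := sum_degree_mul_apply (1 : P)
  rw [if_pos rfl, ← Finset.sum_filter_add_sum_filter_not Finset.univ
    (fun χ : Cfsg.IrrCharacter P => (χ : P → ℂ) 1 = 1)] at hsum
  have hlin : (Finset.univ.filter fun χ : Cfsg.IrrCharacter P => (χ : P → ℂ) 1 = 1).card =
      p ^ (2 * n) := by
    rw [← Fintype.card_subtype, ← Nat.card_eq_fintype_card, card_linear, hP.1.2.2]
    have h := (Subgroup.center P).index_mul_card
    rw [hP.2, hcard, pow_succ] at h
    exact Nat.eq_of_mul_eq_mul_right (Fact.out : p.Prime).pos h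
  have hother : (Finset.univ.filter fun χ : Cfsg.IrrCharacter P => ¬ (χ : P → ℂ) 1 = 1) =
      Finset.univ.filter fun χ : Cfsg.IrrCharacter P => (χ : P → ℂ) 1 = (p : ℂ) ^ n := by
    refine Finset.filter_congr fun χ _ => ⟨fun h => ?_, fun h e => hne (h.symm.trans e)⟩
    rcases extraspecial_irr hP hcard χ.2 with ⟨h1, -⟩ | ⟨h1, -, -⟩
    · exact absurd h1 h
    · exact h1
  have e1 : ∀ χ ∈ Finset.univ.filter (fun χ : Cfsg.IrrCharacter P => (χ : P → ℂ) 1 = 1),
      (χ : P → ℂ) 1 * (χ : P → ℂ) 1 = 1 := fun χ hχ => by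
    rw [(Finset.mem_filter.mp hχ).2, mul_one]
  have e2 : ∀ χ ∈ Finset.univ.filter (fun χ : Cfsg.IrrCharacter P => (χ : P → ℂ) 1 = (p : ℂ) ^ n),
      (χ : P → ℂ) 1 * (χ : P → ℂ) 1 = ((p : ℂ) ^ n) ^ 2 := fun χ hχ => by
    rw [(Finset.mem_filter.mp hχ).2, sq]
  rw [hother, Finset.sum_congr rfl e1, Finset.sum_congr rfl e2,
    Finset.sum_const, Finset.sum_const, hlin, ← Fintype.card_subtype, ← Nat.card_eq_fintype_card,
    hcard, nsmul_eq_mul, nsmul_eq_mul, mul_one, ← pow_mul, mul_comm n 2] at hsum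
  set M := Nat.card {χ : Cfsg.IrrCharacter P // (χ : P → ℂ) 1 = (p : ℂ) ^ n}
  have h : p ^ (2 * n) + M * p ^ (2 * n) = p ^ (2 * n + 1) := by exact_mod_cast hsum
  have h2 : (M + 1) * p ^ (2 * n) = p * p ^ (2 * n) := by rw [pow_succ] at h; linarith
  have := Nat.eq_of_mul_eq_mul_right (pow_pos (Fact.out : p.Prime).pos _) h2
  omega

end CfsgLib.Char
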