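import Cfsg.Agent.Lib.Char.Extension
import Cfsg.Agent.Lib.CharNormal.Gallagher
import Cfsg.Agent.Lib.Transfer.Basic
import Mathlib.Data.ZMod.Basic
import Cfsg.Prelude.Def_Blocks

/-!
# The order of `O^p(G)` modulo `p`
-/

namespace CfsgLib.Char

open CfsgLib.CharNormal
open scoped ComplexConjugate

variable {G : Type*} [Group G] [Finite G] {p : ℕ} [hp : Fact p.Prime]

/-- A natural degree. -/
theorem charDegree_cast {H : Type*} [Group H] {χ : H → ℂ} (hχ : Cfsg.IsCharacter H χ) :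
    χ 1 = (Cfsg.charDegree χ : ℂ) := by
  obtain ⟨n, hn⟩ := exists_degree hχ
  rw [Cfsg.charDegree, hn, Complex.natCast_re, Nat.floor_natCast]

theorem detChar_linFun (f : G →* ℂˣ) : Cfsg.detChar (linFun f) = linFun f := by
  obtain ⟨n, σ, hσ⟩ := (isCharacter_linFun f).1
  obtain rfl : n = 1 := by
    have h := congrFun hσ 1
    rw [Representation.char_one, (isCharacter_linFun f).2] at h
    simpa using h
  funext g
  conv_lhs => rw [← hσ]
  rw [detChar_eq, ← congrFun hσ g, ← LinearMap.det_toMatrix (Pi.basisFun ℂ (Fin 1)),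
    Matrix.det_fin_one, Representation.character,
    LinearMap.trace_eq_matrix_trace ℂ (Pi.basisFun ℂ (Fin 1))]
  simp [Matrix.trace]

theorem exists_detHom {H : Type*} [Group H] [Finite H] {χ : H → ℂ} (hχ : Cfsg.IsCharacter H χ) :
    ∃ f : H →* ℂˣ, linFun f = Cfsg.detChar χ := by
  obtain ⟨n, σ, rfl⟩ := hχ
  exact ⟨detHom σ, (detChar_eq_detHom σ).symm⟩

/-- The linear characters of `O^p(G)` have order prime to `p`. -/
theorem not_dvd_orderOf_pResidual (f : Cfsg.pResidual p G →* ℂˣ) : ¬ p ∣ orderOf f := by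
  intro hd
  have ho : orderOf f ≠ 0 := by
    refine (IsOfFinOrder.orderOf_pos (isOfFinOrder_iff_pow_eq_one.mpr
      ⟨Nat.card (Cfsg.pResidual p G), Nat.card_pos, MonoidHom.ext fun n => ?_⟩)).ne'
    rw [MonoidHom.pow_apply, ← map_pow, pow_card_eq_one', map_one]; rfl
  set h := f ^ (orderOf f / p) with hh
  have hh1 : h ^ p = 1 := by
    rw [hh]
    exact ((pow_mul f _ p).symm.trans (by rw [Nat.div_mul_cancel hd])).trans (pow_orderOf_eq_one f)
  have hA : IsPGroup p h.range := by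
    rintro ⟨_, y, rfl⟩
    refine ⟨1, Subtype.ext ?_⟩
    rw [pow_one, SubmonoidClass.coe_pow, ← MonoidHom.pow_apply, hh1]
    rfl
  have hone : h = 1 := MonoidHom.ext fun x =>
    congrArg Subtype.val (CfsgLib.Transfer.hom_pResidual_eq_one hA h.rangeRestrict x)
  have h2 : orderOf f ∣ orderOf f / p := orderOf_dvd_of_pow_eq_one hone
  have h3 : 0 < orderOf f / p := Nat.div_pos (Nat.le_of_dvd (Nat.pos_of_ne_zero ho) hd) hp.out.pos
  exact absurd (Nat.le_of_dvd h3 h2)
    (not_le.mpr (Nat.div_lt_self (Nat.pos_of_ne_zero ho) hp.out.one_lt))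

variable (p) in
/-- The characters of `p'`-degree and `p'`-determinantal order. -/
def IsPrimeChar (χ : G → ℂ) : Prop := ¬ p ∣ Cfsg.charDegree χ ∧ ¬ p ∣ Cfsg.detOrder χ

section Restriction

variable {N : Subgroup G} [hN : N.Normal] {k : ℕ} (hk : N.index = p ^ k)
  (hlin : ∀ f : N →* ℂˣ, ¬ p ∣ orderOf f)

include hk hlin in
/-- Invariant characters of `O^p(G)` of `p'`-degree have a unique prime extension. -/
theorem existsUnique_prime_ext [Fintype G] {θ : N → ℂ}
    (hθ : Cfsg.IsIrrCharacter N θ)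
    (hinv : ∀ g : G, conjFun N g θ = θ) (hd : ¬ p ∣ Cfsg.charDegree θ) :
    ∃! χ : Cfsg.IrrCharacter G, (∀ n : N, (χ : G → ℂ) n = θ n) ∧
      IsPrimeChar p (χ : G → ℂ) := by
  have hdeg := charDegree_cast (isCharacter_of_isIrr hθ)
  have hcop : Nat.Coprime N.index (Cfsg.charDegree θ) :=
    hk ▸ Nat.Coprime.pow_left k ((Nat.Prime.coprime_iff_not_dvd hp.out).mpr hd)
  have hinv' : ∀ (g : G) (n : N), θ ⟨g * n * g⁻¹, hN.conj_mem (n : G) n.2 g⟩ = θ n :=
    fun g n => congrFun (hinv g) n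
  obtain ⟨l, hl⟩ := exists_detHom (isCharacter_of_isIrr hθ)
  have hlo : ¬ p ∣ orderOf (Cfsg.detChar θ) := by
    rw [← hl, orderOf_linFun]; exact hlin l
  have hlc : Cfsg.IsCharacter N (Cfsg.detChar θ) ∧ Cfsg.detChar θ 1 = 1 :=
    hl ▸ isCharacter_linFun l
  obtain ⟨f, ⟨hf, hfo⟩, hfu⟩ := canonical_linear_extension N hlc
    (det_invariant N (isCharacter_of_isIrr hθ) hinv')
    (hk ▸ Nat.Coprime.pow_left k ((Nat.Prime.coprime_iff_not_dvd hp.out).mpr hlo))
  have hext := (extend_iff_det N hθ hinv' hdeg hcop).mpr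
    ⟨linFun f, (isCharacter_linFun f).1, (isCharacter_linFun f).2, hf⟩
  obtain ⟨χ, ⟨hχ, hχN, hχd⟩, hu⟩ :=
    existsUnique_ext_det N hθ hdeg hcop hext (isCharacter_linFun f) hf
  have hdegeq : ∀ η : G → ℂ, (∀ n : N, η n = θ n) → Cfsg.charDegree η = Cfsg.charDegree θ :=
    fun η hη => by
      show ⌊(η 1).re⌋₊ = ⌊(θ 1).re⌋₊
      rw [show η 1 = θ 1 from hη 1]
  refine ⟨⟨χ, hχ⟩, ⟨hχN, ?_, ?_⟩, ?_⟩
  · rw [hdegeq χ hχN]; exact hd
  · rw [Cfsg.detOrder, hχd, orderOf_linFun, hfo]; exact hlo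
  · rintro ⟨η, hη⟩ ⟨hηN, -, hηo⟩
    refine Subtype.ext (hu η ⟨hη, hηN, ?_⟩)
    obtain ⟨f', hf'⟩ := exists_detHom (isCharacter_of_isIrr hη)
    have hrestrict : ∀ n : N, linFun f' n = Cfsg.detChar θ n := by
      intro n
      rw [hf']
      obtain ⟨d', σ, rfl⟩ := isCharacter_of_isIrr hη
      have e : Representation.character (σ.comp N.subtype) = θ := funext hηN
      rw [detChar_eq, ← e, detChar_eq]
      rfl
    have hηo' : ¬ p ∣ orderOf f' := by rw [← orderOf_linFun, hf']; exact hηo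
    rw [← hf', hfu f' hrestrict
      (hk ▸ Nat.Coprime.pow_left k ((Nat.Prime.coprime_iff_not_dvd hp.out).mpr hηo'))]

include hk hlin in
/-- A prime character restricts irreducibly to an invariant character. -/
theorem res_of_prime [Fintype G] {χ : G → ℂ} (hχ : Cfsg.IsIrrCharacter G χ)
    (hd : ¬ p ∣ Cfsg.charDegree χ) :
    Cfsg.IsIrrCharacter N (fun n : N => χ n) := by
  classical
  have := Fintype.ofFinite N
  obtain ⟨θ, hθ, h0⟩ := exists_constituent (isCharacter_res N (isCharacter_of_isIrr hχ))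
    fun e => irr_one_ne_zero hχ (by simpa using congrFun e 1)
  obtain ⟨m, hm⟩ := classInner_char_nat (isCharacter_res N (isCharacter_of_isIrr hχ))
    (isCharacter_of_isIrr hθ)
  have hdeg := degree_eq_mul_card_orbit N hχ ⟨θ, hθ⟩ h0
  simp only [hm, charDegree_cast (isCharacter_of_isIrr hθ), charDegree_cast (isCharacter_of_isIrr hχ)]
    at hdeg
  have hdeg' : Cfsg.charDegree χ = m * (orbit N ⟨θ, hθ⟩).card * Cfsg.charDegree θ := by
    exact_mod_cast hdeg
  have horb : (orbit N ⟨θ, hθ⟩).card = 1 := by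
    obtain ⟨i, -, hi⟩ := (Nat.dvd_prime_pow hp.out).mp (hk ▸ card_orbit_dvd_index N ⟨θ, hθ⟩)
    rcases Nat.eq_zero_or_pos i with rfl | hi0
    · simpa using hi
    refine absurd ?_ hd
    rw [hdeg', hi]
    exact Dvd.dvd.mul_right (Dvd.dvd.mul_left (dvd_pow_self p hi0.ne') m) _
  have hinv : ∀ g : G, conjFun N g θ = θ := by
    intro g
    obtain ⟨ψ, hψ⟩ := Finset.card_eq_one.mp horb
    have h1 : conjIrr N g ⟨θ, hθ⟩ ∈ orbit N ⟨θ, hθ⟩ := (mem_orbit N).mpr ⟨g, rfl⟩
    have h2 := self_mem_orbit N (⟨θ, hθ⟩ : Cfsg.IrrCharacter N)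
    rw [hψ, Finset.mem_singleton] at h1 h2
    exact congrArg Subtype.val (h1.trans h2.symm)
  have hθd : ¬ p ∣ Cfsg.charDegree θ := fun h => hd (hdeg' ▸ Dvd.dvd.mul_left h _)
  obtain ⟨χ₀, ⟨hχ₀N, -⟩, -⟩ := existsUnique_prime_ext hk hlin hθ hinv hθd
  obtain ⟨β, hβ, rfl⟩ := exists_eq_mul_comp_mk' N (isCharacter_of_isIrr χ₀.2)
    (by rw [show (fun n : N => (χ₀ : G → ℂ) n) = θ from funext hχ₀N]; exact hθ) hχ
    (by rw [show (fun n : N => (χ₀ : G → ℂ) n) = θ from funext hχ₀N]; exact h0)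
  obtain ⟨b, hb0, hb⟩ := exists_degree_pos hβ
  have := Fintype.ofFinite (G ⧸ N)
  have hb1 : b = 1 := by
    have hdvd : b ∣ p ^ k := hk ▸ degree_dvd_card hβ hb
    obtain ⟨i, -, hi⟩ := (Nat.dvd_prime_pow hp.out).mp hdvd
    rcases Nat.eq_zero_or_pos i with rfl | hi0
    · simpa using hi
    refine absurd ?_ hd
    have h1 : Cfsg.charDegree ((χ₀ : G → ℂ) * (β ∘ QuotientGroup.mk)) =
        Cfsg.charDegree θ * b := by
      have := charDegree_cast (isCharacter_of_isIrr hχ)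
      simp only [Pi.mul_apply, Function.comp_apply, QuotientGroup.mk_one, hb] at this
      rw [show (χ₀ : G → ℂ) 1 = θ 1 from hχ₀N 1, charDegree_cast (isCharacter_of_isIrr hθ),
        ← Nat.cast_mul] at this
      exact_mod_cast this.symm
    rw [h1, hi]
    exact Dvd.dvd.mul_left (dvd_pow_self p hi0.ne') _
  have hres : (fun n : N => ((χ₀ : G → ℂ) * (β ∘ QuotientGroup.mk)) n) = θ := funext fun n => by
    rw [Pi.mul_apply, comp_mk'_const N n.2, apply_comp_mk'_one, hb, hb1, Nat.cast_one, mul_one]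
    exact hχ₀N n
  rw [hres]
  exact hθ

include hk hlin in
/-- The order of a normal subgroup like `O^p(G)` modulo `p`. -/
theorem card_pResidual_modEq [Fintype G] [DecidablePred fun χ : Cfsg.IrrCharacter G =>
      IsPrimeChar p (χ : G → ℂ)] :
    (Nat.card N : ZMod p) =
      ∑ χ ∈ (Finset.univ : Finset (Cfsg.IrrCharacter G)).filter
        (fun χ : Cfsg.IrrCharacter G => IsPrimeChar p (χ : G → ℂ)), (Cfsg.charDegree (χ : G → ℂ) : ZMod p) ^ 2 := by
  classical
  have := Fintype.ofFinite N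
  let T : Finset (Cfsg.IrrCharacter N) := Finset.univ.filter fun θ =>
    (∀ g : G, conjFun N g (θ : N → ℂ) = θ) ∧ ¬ p ∣ Cfsg.charDegree (θ : N → ℂ)
  set F : Cfsg.IrrCharacter N → ZMod p := fun θ => (Cfsg.charDegree (θ : N → ℂ) : ZMod p) ^ 2
    with hF
  have hsum : (Nat.card N : ZMod p) = ∑ θ, F θ := by
    have h := sum_degree_sq (G := N)
    rw [Finset.sum_congr rfl fun (θ : Cfsg.IrrCharacter N) _ => show (θ : N → ℂ) 1 ^ 2 =
      ((Cfsg.charDegree (θ : N → ℂ) ^ 2 : ℕ) : ℂ) by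
        rw [charDegree_cast (isCharacter_of_isIrr θ.2)]; push_cast; rfl, ← Nat.cast_sum] at h
    rw [← Nat.cast_injective h]
    push_cast
    rfl
  rw [hsum]
  -- characters outside `T` do not contribute
  have hzero : ∑ θ ∈ Tᶜ, F θ = 0 := by
    rw [← Finset.sum_fiberwise_of_maps_to (t := Tᶜ.image (orbit N)) (g := orbit N)
      fun θ hθ => Finset.mem_image_of_mem _ hθ]
    refine Finset.sum_eq_zero fun O hO => ?_
    obtain ⟨θ, hθT, rfl⟩ := Finset.mem_image.mp hO
    have hconst : ∀ ψ ∈ orbit N θ, F ψ = F θ := by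
      intro ψ hψ
      obtain ⟨g, hg⟩ := (mem_orbit N).mp hψ
      simp only [hF, Cfsg.charDegree, ← hg, conjFun_apply_one]
    by_cases hdvd : p ∣ Cfsg.charDegree (θ : N → ℂ)
    · refine Finset.sum_eq_zero fun ψ hψ => ?_
      have hmem : ψ ∈ orbit N θ := (Finset.mem_filter.mp hψ).2 ▸ self_mem_orbit N ψ
      rw [hconst ψ hmem]
      simp [hF, (ZMod.natCast_eq_zero_iff _ _).mpr hdvd]
    have hfib : Tᶜ.filter (fun ψ => orbit N ψ = orbit N θ) = orbit N θ := by
      ext ψ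
      simp only [Finset.mem_filter, Finset.mem_compl]
      constructor
      · rintro ⟨-, h⟩; exact h ▸ self_mem_orbit N ψ
      · intro hψ
        obtain ⟨g, hg⟩ := (mem_orbit N).mp hψ
        refine ⟨fun hψT => Finset.mem_compl.mp hθT (Finset.mem_filter.mpr
          ⟨Finset.mem_univ _, fun x => ?_, hdvd⟩), ?_⟩
        · have hinv := (Finset.mem_filter.mp hψT).2.1
          have e : (θ : N → ℂ) = (ψ : N → ℂ) := by
            have h := hinv g⁻¹
            rw [← hg, conjFun_inv_conjFun] at h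
            rw [h, hg]
          rw [e]; exact hinv x
        · ext φ
          rw [mem_orbit, mem_orbit]
          constructor
          · rintro ⟨x, hx⟩
            exact ⟨g * x, by rw [← hx, ← hg, conjFun_conjFun]⟩
          · rintro ⟨x, hx⟩
            exact ⟨g⁻¹ * x, by rw [← hg, conjFun_conjFun, mul_inv_cancel_left, hx]⟩
    rw [hfib, Finset.sum_congr rfl hconst, Finset.sum_const, nsmul_eq_mul]
    obtain ⟨i, -, hi⟩ := (Nat.dvd_prime_pow hp.out).mp (hk ▸ card_orbit_dvd_index N θ)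
    rcases Nat.eq_zero_or_pos i with rfl | hi0
    · refine absurd (Finset.mem_filter.mpr ⟨Finset.mem_univ _, fun x => ?_, hdvd⟩)
        (Finset.mem_compl.mp hθT)
      obtain ⟨ψ, hψ⟩ := Finset.card_eq_one.mp (hi.trans (pow_zero p))
      have h1 : conjIrr N x θ ∈ orbit N θ := (mem_orbit N).mpr ⟨x, rfl⟩
      have h2 := self_mem_orbit N θ
      rw [hψ, Finset.mem_singleton] at h1 h2
      exact congrArg Subtype.val (h1.trans h2.symm)
    · rw [hi, Nat.cast_pow, ZMod.natCast_self, zero_pow hi0.ne', zero_mul]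
  rw [← Finset.sum_add_sum_compl T, hzero, add_zero]
  symm
  refine Finset.sum_bij
    (fun χ hχ => (⟨_, res_of_prime hk hlin χ.2 (Finset.mem_filter.mp hχ).2.1⟩ : Cfsg.IrrCharacter N))
    (fun χ hχ => Finset.mem_filter.mpr ⟨Finset.mem_univ _,
      fun g => conjFun_res N (isClassFunction_of_isIrr χ.2) g, (Finset.mem_filter.mp hχ).2.1⟩)
    (fun χ hχ χ' hχ' he => ?_) (fun θ hθ => ?_) (fun χ hχ => rfl)
  · have hd := (Finset.mem_filter.mp hχ).2.1
    obtain ⟨η, -, hu⟩ := existsUnique_prime_ext hk hlin (res_of_prime hk hlin χ.2 hd)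
      (fun g => conjFun_res N (isClassFunction_of_isIrr χ.2) g) hd
    rw [hu χ ⟨fun n => rfl, (Finset.mem_filter.mp hχ).2⟩,
      hu χ' ⟨fun n => (congrFun (congrArg Subtype.val he) n).symm, (Finset.mem_filter.mp hχ').2⟩]
  · obtain ⟨-, hinv, hd⟩ := Finset.mem_filter.mp hθ
    obtain ⟨χ, ⟨hχN, hχp⟩, -⟩ := existsUnique_prime_ext hk hlin θ.2 hinv hd
    exact ⟨χ, Finset.mem_filter.mpr ⟨Finset.mem_univ _, hχp⟩, Subtype.ext (funext hχN)⟩

end Restriction

/-- Thompson: a normal `p`-complement from the degrees. -/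
theorem pResidual_coprime_of_degrees [Fintype G]
    (hdeg : ∀ χ : Cfsg.IrrCharacter G, Cfsg.charDegree (χ : G → ℂ) ≠ 1 →
      p ∣ Cfsg.charDegree (χ : G → ℂ)) : (Nat.card (Cfsg.pResidual p G)).Coprime p := by
  classical
  have : (Cfsg.pResidual p G).Characteristic := CfsgLib.Transfer.pResidual_characteristic
  refine ((Nat.Prime.coprime_iff_not_dvd hp.out).mpr ?_).symm
  intro hd
  obtain ⟨k, hk⟩ := CfsgLib.Transfer.index_pResidual (G := G) (p := p)
  have h := card_pResidual_modEq (G := G) (p := p) hk not_dvd_orderOf_pResidual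
  rw [(ZMod.natCast_eq_zero_iff _ _).mpr hd] at h
  -- the prime characters form a group of order prime to `p`
  have hfin : Finite (G →* ℂˣ) :=
    Finite.of_injective (fun f : G →* ℂˣ => (⟨linFun f, isIrrCharacter_units_hom f⟩ :
      Cfsg.IrrCharacter G)) fun f f' e => linFun_injective (congrArg Subtype.val e)
  have hord : ∀ f : G →* ℂˣ, ¬ p ∣ orderOf f ↔ (orderOf f).Coprime p := fun f =>
    ((Nat.Prime.coprime_iff_not_dvd hp.out).symm.trans Nat.coprime_comm)
  let A : Subgroup (G →* ℂˣ) :=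
    { carrier := {f | ¬ p ∣ orderOf f}
      one_mem' := by
        show ¬ p ∣ orderOf (1 : G →* ℂˣ)
        rw [orderOf_one]; exact hp.out.not_dvd_one
      mul_mem' := fun {a b} ha hb hab => by
        rcases hp.out.dvd_mul.mp (hab.trans (Commute.all a b).orderOf_mul_dvd_mul_orderOf) with
          h' | h'
        exacts [ha h', hb h']
      inv_mem' := fun {a} ha => by
        show ¬ p ∣ orderOf a⁻¹
        exact fun h' => ha (h'.trans (orderOf_dvd_of_pow_eq_one (MonoidHom.ext fun g => by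
          rw [MonoidHom.pow_apply, MonoidHom.inv_apply, inv_pow, ← MonoidHom.pow_apply, pow_orderOf_eq_one, MonoidHom.one_apply, inv_one]))) }
  have hA : ¬ p ∣ Nat.card A := by
    intro hA
    obtain ⟨a, ha⟩ := exists_prime_orderOf_dvd_card' p hA
    exact a.2 (by rw [Subgroup.orderOf_coe, ha])
  refine hA ((ZMod.natCast_eq_zero_iff _ _).mp ?_)
  rw [h]
  have := Fintype.ofFinite A
  rw [Nat.card_eq_fintype_card, Fintype.card, Finset.card_eq_sum_ones, Nat.cast_sum]
  refine Finset.sum_bij (fun f _ => (⟨linFun f.1, isIrrCharacter_units_hom f.1⟩ :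
    Cfsg.IrrCharacter G)) (fun f _ => ?_) (fun f _ f' _ e => Subtype.ext (linFun_injective
      (congrArg Subtype.val e))) (fun χ hχ => ?_) fun f _ => ?_
  · refine Finset.mem_filter.mpr ⟨Finset.mem_univ _, ?_, ?_⟩
    · show ¬ p ∣ ⌊(linFun f.1 1).re⌋₊
      rw [(isCharacter_linFun f.1).2, Complex.one_re, Nat.floor_one]
      exact hp.out.not_dvd_one
    · show ¬ p ∣ orderOf (Cfsg.detChar (linFun f.1))
      rw [detChar_linFun, orderOf_linFun]
      exact f.2
  · obtain ⟨-, hχd, hχo⟩ := Finset.mem_filter.mp hχ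
    have h1 : Cfsg.charDegree (χ : G → ℂ) = 1 := by
      by_contra h'; exact hχd (hdeg χ h')
    have hlin : (χ : G → ℂ) 1 = 1 := by
      rw [charDegree_cast (isCharacter_of_isIrr χ.2), h1, Nat.cast_one]
    obtain ⟨f, hf⟩ := exists_linHom (isCharacter_of_isIrr χ.2) hlin
    refine ⟨⟨f, ?_⟩, Finset.mem_univ _, Subtype.ext hf⟩
    show ¬ p ∣ orderOf f
    rw [← orderOf_linFun, ← detChar_linFun, hf]
    exact hχo
  · show ((1 : ℕ) : ZMod p) = (Cfsg.charDegree (linFun f.1) : ZMod p) ^ 2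
    rw [show Cfsg.charDegree (linFun f.1) = 1 by
      rw [Cfsg.charDegree, (isCharacter_linFun f.1).2, Complex.one_re, Nat.floor_one]]
    simp

end CfsgLib.Char
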