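import Cfsg.Agent.Lib.Char.Ortho

/-!
# Brauer's permutation lemma, real classes and characters
-/

namespace CfsgLib.Char

open scoped ComplexConjugate

variable {G : Type*} [Group G]

instance instFiniteConjClassesChar [Finite G] : Finite (ConjClasses G) :=
  Finite.of_surjective _ ConjClasses.mk_surjective

/-- Brauer's permutation lemma: compatible permutations of the irreducible characters and of
the classes have equally many fixed points. -/
theorem card_fixed_eq [Finite G] (σ : Cfsg.IrrCharacter G ≃ Cfsg.IrrCharacter G)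
    (π : ConjClasses G ≃ ConjClasses G)
    (h : ∀ (χ : Cfsg.IrrCharacter G) (g g' : G), ConjClasses.mk g' = π (ConjClasses.mk g) →
      (σ χ : G → ℂ) g' = (χ : G → ℂ) g) :
    Nat.card {χ : Cfsg.IrrCharacter G // σ χ = χ} =
      Nat.card {C : ConjClasses G // π C = C} := by
  classical
  have := Fintype.ofFinite G
  have := Fintype.ofFinite (ConjClasses G)
  have h1 : ∑ χ : Cfsg.IrrCharacter G, Cfsg.classInner ((σ χ : Cfsg.IrrCharacter G) : G → ℂ) χ =
      (Nat.card {χ : Cfsg.IrrCharacter G // σ χ = χ} : ℂ) := by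
    simp only [classInner_irrCharacter, Finset.sum_boole]
    rw [Nat.card_eq_fintype_card, Fintype.card_subtype]
  have h2 : ∀ C : ConjClasses G, π C = C → ∀ g : G, ConjClasses.mk g = C →
      ∑ χ : Cfsg.IrrCharacter G, (σ χ : G → ℂ) g * conj ((χ : G → ℂ) g) =
        (Nat.card (Subgroup.centralizer ({g} : Set G)) : ℂ) := by
    intro C hC g hg
    rw [Finset.sum_congr rfl fun χ _ => by rw [h χ g g (by rw [hg, hC])],
      second_orthogonality, if_pos (IsConj.refl g)]
  have h3 : ∀ C : ConjClasses G, π C ≠ C → ∀ g : G, ConjClasses.mk g = C →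
      ∑ χ : Cfsg.IrrCharacter G, (σ χ : G → ℂ) g * conj ((χ : G → ℂ) g) = 0 := by
    intro C hC g hg
    obtain ⟨g', hg'⟩ := ConjClasses.mk_surjective (π.symm C)
    rw [Finset.sum_congr rfl fun χ _ => by
        rw [h χ g' g (by rw [hg', hg, Equiv.apply_symm_apply])],
      second_orthogonality, if_neg]
    intro hc
    have hcc := (ConjClasses.mk_eq_mk_iff_isConj.mpr hc).trans hg
    rw [hg'] at hcc
    exact hC ((congrArg π hcc).symm.trans (π.apply_symm_apply C))
  have h4 : ∑ χ : Cfsg.IrrCharacter G, Cfsg.classInner ((σ χ : Cfsg.IrrCharacter G) : G → ℂ) χ =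
      (Nat.card {C : ConjClasses G // π C = C} : ℂ) := by
    simp only [classInner_def, ← Finset.mul_sum]
    rw [Finset.sum_comm, ← Finset.sum_fiberwise Finset.univ ConjClasses.mk]
    have hf : ∀ C : ConjClasses G, ∑ g ∈ Finset.univ.filter (fun g => ConjClasses.mk g = C),
        ∑ χ : Cfsg.IrrCharacter G, (σ χ : G → ℂ) g * conj ((χ : G → ℂ) g) =
          if π C = C then (Nat.card G : ℂ) else 0 := by
      intro C
      split_ifs with hC
      · obtain ⟨g₀, hg₀⟩ := ConjClasses.mk_surjective C
        have hc : ∀ g ∈ Finset.univ.filter (fun g => ConjClasses.mk g = C),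
            (Nat.card (Subgroup.centralizer ({g} : Set G))) =
              Nat.card (Subgroup.centralizer ({g₀} : Set G)) := by
          intro g hg
          have hcj : IsConj g₀ g := ConjClasses.mk_eq_mk_iff_isConj.mp
            (hg₀.trans (Finset.mem_filter.mp hg).2.symm)
          have e1 := card_isConj_mul_card_centralizer g
          rw [show Nat.card {x : G // IsConj g x} = Nat.card {x : G // IsConj g₀ x} from
              Nat.card_congr (Equiv.subtypeEquivRight fun x =>
                ⟨fun e => hcj.trans e, fun e => hcj.symm.trans e⟩),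
            ← card_isConj_mul_card_centralizer g₀] at e1
          have : Nonempty {x : G // IsConj g₀ x} := ⟨⟨g₀, IsConj.refl g₀⟩⟩
          exact Nat.eq_of_mul_eq_mul_left Nat.card_pos e1
        rw [Finset.sum_congr rfl fun g hg => by
          rw [h2 C hC g (Finset.mem_filter.mp hg).2, hc g hg]]
        rw [Finset.sum_const, nsmul_eq_mul, ← card_isConj_mul_card_centralizer g₀, Nat.cast_mul]
        congr 2
        rw [Nat.card_eq_fintype_card, Fintype.card_subtype]
        congr 1
        ext x
        simp only [Finset.mem_filter, Finset.mem_univ, true_and, ← hg₀,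
          ConjClasses.mk_eq_mk_iff_isConj]
        exact isConj_comm
      · exact Finset.sum_eq_zero fun g hg => h3 C hC g (Finset.mem_filter.mp hg).2
    simp only [hf, Finset.sum_ite, Finset.sum_const_zero, add_zero, Finset.sum_const, nsmul_eq_mul]
    rw [Nat.card_eq_fintype_card, ← Fintype.card_subtype, mul_comm _ (Fintype.card G : ℂ),
      ← mul_assoc, inv_mul_cancel₀ (by exact_mod_cast Fintype.card_ne_zero), one_mul,
      Nat.card_eq_fintype_card]
  exact_mod_cast h1.symm.trans h4

/-- Complex conjugation on irreducible characters. -/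
noncomputable def irrConj [Finite G] (χ : Cfsg.IrrCharacter G) : Cfsg.IrrCharacter G :=
  ⟨fun g => conj ((χ : G → ℂ) g), by
    have := Fintype.ofFinite G
    refine irr_of_norm_one (isCharacter_conj (isCharacter_of_isIrr χ.2)) ?_
    have h := classInner_irr_self χ.2
    rw [← classInner_conj_symm] at h
    simpa [classInner_def, map_sum, mul_comm] using h⟩

theorem irrConj_apply [Finite G] (χ : Cfsg.IrrCharacter G) (g : G) :
    (irrConj χ : G → ℂ) g = conj ((χ : G → ℂ) g) := rfl

theorem irrConj_irrConj [Finite G] (χ : Cfsg.IrrCharacter G) : irrConj (irrConj χ) = χ :=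
  Subtype.ext (funext fun g => by simp [irrConj_apply])

theorem irrConj_eq_self_iff [Finite G] (χ : Cfsg.IrrCharacter G) :
    irrConj χ = χ ↔ ∀ g, ((χ : G → ℂ) g).im = 0 := by
  rw [Subtype.ext_iff, funext_iff]
  simp [irrConj_apply, Complex.conj_eq_iff_im]

/-- The inverse class. -/
def classInv (C : ConjClasses G) : ConjClasses G :=
  Quotient.liftOn C (fun g => ConjClasses.mk g⁻¹) fun a b hab => by
    obtain ⟨c, rfl⟩ := isConj_iff.mp hab
    exact ConjClasses.mk_eq_mk_iff_isConj.mpr (isConj_iff.mpr ⟨c, by simp [mul_assoc]⟩)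

theorem classInv_mk (g : G) : classInv (ConjClasses.mk g) = ConjClasses.mk g⁻¹ := rfl

theorem card_real_irr [Finite G] :
    Nat.card {χ : Cfsg.IrrCharacter G // irrConj χ = χ} =
      Nat.card {C : ConjClasses G // classInv C = C} := by
  refine card_fixed_eq (Function.Involutive.toPerm irrConj irrConj_irrConj)
    (Function.Involutive.toPerm classInv fun C => ?_) fun χ g g' hg' => ?_
  · obtain ⟨g, rfl⟩ := ConjClasses.mk_surjective C
    simp [classInv_mk]
  · have hcj : IsConj g' g⁻¹ := ConjClasses.mk_eq_mk_iff_isConj.mp hg'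
    show conj ((χ : G → ℂ) g') = (χ : G → ℂ) g
    rw [isClassFunction_iff.mp (isClassFunction_of_isIrr χ.2) _ _ hcj,
      ← char_inv (isCharacter_of_isIrr χ.2), inv_inv]

/-- In a group of odd order only the identity is conjugate to its inverse. -/
theorem eq_one_of_isConj_inv (hodd : Odd (Nat.card G)) [Finite G] {g : G} (h : IsConj g g⁻¹) :
    g = 1 := by
  obtain ⟨c, hc⟩ := isConj_iff.mp h
  have h2 : Commute (c ^ 2) g := by
    have hinv : c * g⁻¹ * c⁻¹ = g := by
      calc c * g⁻¹ * c⁻¹ = (c * g * c⁻¹)⁻¹ := by group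
        _ = g := by rw [hc, inv_inv]
    show c ^ 2 * g = g * c ^ 2
    calc c ^ 2 * g = c * (c * g * c⁻¹) * c⁻¹ * c ^ 2 := by rw [sq]; group
      _ = g * c ^ 2 := by rw [hc, hinv]
  have hc2 : Commute c g := by
    obtain ⟨k, hk⟩ := hodd
    have h1 : c ^ (2 * k + 1) = 1 := hk ▸ pow_card_eq_one'
    have hcinv : c = ((c ^ 2) ^ k)⁻¹ :=
      eq_inv_of_mul_eq_one_left (by rw [← pow_mul, ← pow_succ', h1])
    rw [hcinv]
    exact (h2.pow_left k).inv_left
  have hgg : g ^ 2 = 1 := by
    have : g = g⁻¹ := by rw [← hc, hc2.eq, mul_inv_cancel_right]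
    rw [sq]; nth_rewrite 1 [this]; exact inv_mul_cancel g
  exact orderOf_eq_one_iff.mp (Nat.eq_one_of_dvd_coprimes
    (Nat.coprime_two_left.mpr hodd) (orderOf_dvd_of_pow_eq_one hgg) (orderOf_dvd_natCard g))

/-- In a group of odd order the trivial character is the only real irreducible character. -/
theorem irr_real_eq_one [Finite G] (hodd : Odd (Nat.card G)) {χ : Cfsg.IrrCharacter G}
    (h : irrConj χ = χ) : χ = irrOne := by
  have hone : irrConj (irrOne (G := G)) = irrOne := (irrConj_eq_self_iff _).mpr fun g => by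
    simp [irrOne_apply]
  have hcard : Nat.card {χ : Cfsg.IrrCharacter G // irrConj χ = χ} = 1 := by
    rw [card_real_irr]
    refine Nat.card_eq_one_iff_exists.mpr ⟨⟨ConjClasses.mk 1, by simp [classInv_mk]⟩, fun ⟨C, hC⟩ => ?_⟩
    obtain ⟨g, rfl⟩ := ConjClasses.mk_surjective C
    have := eq_one_of_isConj_inv hodd (ConjClasses.mk_eq_mk_iff_isConj.mp hC).symm
    subst this; rfl
  obtain ⟨a, ha⟩ := Nat.card_eq_one_iff_exists.mp hcard
  exact congrArg Subtype.val ((ha ⟨χ, h⟩).trans (ha ⟨irrOne, hone⟩).symm)

end CfsgLib.Char
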