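import Cfsg.Agent.Lib.Char.Ito
import Cfsg.Agent.Lib.Char.PermLemma
import Cfsg.Agent.Lib.CharNormal.Kernel
import Mathlib.Algebra.GCDMonoid.Finset

/-!
# Characters of a group with a normal subgroup containing the centralizers of its elements

For `K ◁ N` with `C(k) ≤ K` for `k ∈ K∖1` (a Frobenius kernel) the characters not trivial on `K`
are induced from `K`.
-/

namespace CfsgLib.Char

open CfsgLib.CharNormal
open scoped ComplexConjugate

variable {N : Type*} [Group N] [Fintype N] (K : Subgroup N) [K.Normal] [Fintype K]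

/-- A character taking on `K` a value different from its degree. -/
def IsRelevant (χ : N → ℂ) : Prop := ∃ k ∈ K, χ k ≠ χ 1

omit [Fintype N] [K.Normal] [Fintype K] in
theorem not_relevant_iff (χ : N → ℂ) : ¬ IsRelevant K χ ↔ ∀ k ∈ K, χ k = χ 1 := by
  simp [IsRelevant]

/-- No nonprincipal character of `K` is fixed by an element outside `K`. -/
theorem inertia_le_of_centralizer_le
    (hC : ∀ k ∈ K, k ≠ 1 → Subgroup.centralizer ({k} : Set N) ≤ K) {θ : K → ℂ}
    (hθ : Cfsg.IsIrrCharacter K θ) (hne : θ ≠ fun _ => 1) : inertia K θ ≤ K := by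
  classical
  intro g hg
  by_contra hgK
  let e : K ≃* K := (MulAut.conjNormal g : MulAut K)
  let σ : Cfsg.IrrCharacter K ≃ Cfsg.IrrCharacter K :=
    { toFun := conjIrr K g
      invFun := conjIrr K g⁻¹
      left_inv := fun χ => Subtype.ext (conjFun_inv_conjFun K g _)
      right_inv := fun χ => Subtype.ext (conjFun_conjFun_inv K g _) }
  let π : ConjClasses K ≃ ConjClasses K :=
    { toFun := ConjClasses.map e.symm.toMonoidHom
      invFun := ConjClasses.map e.toMonoidHom
      left_inv := fun C => by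
        obtain ⟨x, rfl⟩ := ConjClasses.mk_surjective C
        exact congrArg ConjClasses.mk (e.apply_symm_apply x)
      right_inv := fun C => by
        obtain ⟨x, rfl⟩ := ConjClasses.mk_surjective C
        exact congrArg ConjClasses.mk (e.symm_apply_apply x) }
  have hcomp : ∀ (χ : Cfsg.IrrCharacter K) (x y : K),
      ConjClasses.mk y = π (ConjClasses.mk x) → (σ χ : K → ℂ) y = (χ : K → ℂ) x := by
    intro χ x y hxy
    have h1 : IsConj y (e.symm x) := ConjClasses.mk_eq_mk_iff_isConj.mp hxy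
    have h2 := isClassFunction_iff.mp (isClassFunction_of_isIrr (σ χ).2) _ _ h1
    rw [h2]
    show (χ : K → ℂ) (e (e.symm x)) = _
    rw [e.apply_symm_apply]
  have hcard := card_fixed_eq σ π hcomp
  have hfix : ∀ C : ConjClasses K, π C = C → C = ConjClasses.mk 1 := by
    intro C hCf
    obtain ⟨x, rfl⟩ := ConjClasses.mk_surjective C
    by_contra hx
    have hxc : IsConj (e.symm x) x := ConjClasses.mk_eq_mk_iff_isConj.mp hCf
    obtain ⟨k, hk⟩ := isConj_iff.mp hxc
    have hk' : (k : N) * (g⁻¹ * x * g) * (k : N)⁻¹ = x := by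
      simpa [e, MulAut.conjNormal_symm_apply] using congrArg Subtype.val hk
    have hx1 : (x : N) ≠ 1 := fun h => hx (congrArg ConjClasses.mk (Subtype.ext h))
    have hmem : (k : N) * g⁻¹ ∈ K := hC x x.2 hx1 (by
      rw [Subgroup.mem_centralizer_singleton_iff]
      calc (k : N) * g⁻¹ * x = (k : N) * (g⁻¹ * x * g) * (k : N)⁻¹ * ((k : N) * g⁻¹) := by group
        _ = _ := by rw [hk'])
    exact hgK (by simpa using K.inv_mem (K.mul_mem (K.inv_mem k.2) hmem))
  have h1 : Nat.card {C : ConjClasses K // π C = C} ≤ 1 :=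
    Finite.card_le_one_iff_subsingleton.mpr
      ⟨fun a b => Subtype.ext ((hfix _ a.2).trans (hfix _ b.2).symm)⟩
  rw [← hcard, Finite.card_le_one_iff_subsingleton] at h1
  refine hne ?_
  have := congrArg (fun z : {χ : Cfsg.IrrCharacter K // σ χ = χ} => (z.1 : K → ℂ))
    (h1.elim ⟨⟨θ, hθ⟩, Subtype.ext ((mem_inertia K).mp hg)⟩
      ⟨irrOne, Subtype.ext (funext fun _ => rfl)⟩)
  exact this.trans (funext irrOne_apply)

/-- A relevant character is induced from a nonprincipal character of `K`. -/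
theorem exists_eq_indFun_of_relevant
    (hC : ∀ k ∈ K, k ≠ 1 → Subgroup.centralizer ({k} : Set N) ≤ K) {χ : N → ℂ}
    (hχ : Cfsg.IsIrrCharacter N χ) (hrel : IsRelevant K χ) :
    ∃ θ : K → ℂ, Cfsg.IsIrrCharacter K θ ∧ χ = Cfsg.indFun K θ := by
  classical
  obtain ⟨θ, hθ, h0⟩ := exists_constituent (isCharacter_res K (isCharacter_of_isIrr hχ))
    (fun h => irr_one_ne_zero hχ (by simpa using congrFun h 1))
  have hne : θ ≠ fun _ => 1 := by
    rintro rfl
    exact hrel.elim fun k hk => hk.2 (res_eq_degree_of_constituent_one K hχ h0 k hk.1)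
  have hT : inertia K θ = K :=
    le_antisymm (inertia_le_of_centralizer_le K hC hθ hne)
      (le_inertia K (isClassFunction_of_isIrr hθ))
  obtain ⟨ψ, hψ, hind, -⟩ := clifford_correspondence K hθ K
    (fun g => by rw [← mem_inertia K, hT]) le_rfl hχ h0
  exact ⟨ψ, hψ, hind.symm⟩

/-- Relevant characters vanish outside `K`. -/
theorem relevant_apply_eq_zero
    (hC : ∀ k ∈ K, k ≠ 1 → Subgroup.centralizer ({k} : Set N) ≤ K) {χ : N → ℂ}
    (hχ : Cfsg.IsIrrCharacter N χ) (hrel : IsRelevant K χ) {x : N} (hx : x ∉ K) : χ x = 0 := by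
  obtain ⟨θ, -, rfl⟩ := exists_eq_indFun_of_relevant K hC hχ hrel
  refine indFun_eq_zero_of_forall _ fun y hy => absurd ?_ hx
  simpa [mul_assoc] using ‹K.Normal›.conj_mem _ hy y

/-- The degree of a relevant character. -/
theorem exists_relevant_degree
    (hC : ∀ k ∈ K, k ≠ 1 → Subgroup.centralizer ({k} : Set N) ≤ K) {χ : N → ℂ}
    (hχ : Cfsg.IsIrrCharacter N χ) (hrel : IsRelevant K χ) :
    ∃ d : ℕ, 0 < d ∧ d ∣ Nat.card K ∧ χ 1 = ((K.index * d : ℕ) : ℂ) := by
  obtain ⟨θ, hθ, rfl⟩ := exists_eq_indFun_of_relevant K hC hχ hrel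
  obtain ⟨d, hd0, hd⟩ := exists_degree_pos hθ
  exact ⟨d, hd0, degree_dvd_card hθ hd, by rw [indFun_one, hd, Nat.cast_mul]⟩

omit [Fintype K] in
/-- The characters trivial on `K` have square degree sum `[N : K]`. -/
theorem sum_degree_sq_not_relevant [DecidablePred fun χ : Cfsg.IrrCharacter N =>
      IsRelevant K (χ : N → ℂ)] :
    ∑ χ ∈ Finset.univ.filter (fun χ : Cfsg.IrrCharacter N => ¬ IsRelevant K (χ : N → ℂ)),
        (χ : N → ℂ) 1 ^ 2 = (K.index : ℂ) := by
  classical
  have := Fintype.ofFinite (N ⧸ K)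
  rw [Subgroup.index_eq_card, ← sum_degree_sq (G := N ⧸ K)]
  refine (Finset.sum_bij (fun ψ _ => (inflEquiv K ψ).1) ?_ ?_ ?_ ?_).symm
  · intro ψ _
    rw [Finset.mem_filter]
    exact ⟨Finset.mem_univ _, (not_relevant_iff K _).mpr (inflEquiv K ψ).2⟩
  · intro a _ b _ h
    exact (inflEquiv K).injective (Subtype.ext h)
  · intro χ hχ
    obtain ⟨ψ, hψ⟩ := (inflEquiv K).surjective
      ⟨χ, (not_relevant_iff K _).mp (Finset.mem_filter.mp hχ).2⟩
    exact ⟨ψ, Finset.mem_univ _, congrArg Subtype.val hψ⟩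
  · intro ψ _
    rfl

omit [K.Normal] [Fintype K] in
/-- A class function orthogonal to the degree-zero differences of relevant characters is constant
on the nonidentity elements of `K`. -/
theorem apply_eq_of_orthogonal {F : N → ℂ} (hF : Cfsg.IsClassFunction N F)
    (h : ∀ χ ξ : N → ℂ, Cfsg.IsIrrCharacter N χ → IsRelevant K χ → Cfsg.IsIrrCharacter N ξ →
      IsRelevant K ξ → Cfsg.classInner F (ξ 1 • χ - χ 1 • ξ) = 0)
    {a b : N} (ha : a ∈ K) (ha1 : a ≠ 1) (hb : b ∈ K) (hb1 : b ≠ 1) : F a = F b := by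
  classical
  obtain ⟨c, hc⟩ : ∃ c : ℂ, ∀ χ : Cfsg.IrrCharacter N, IsRelevant K (χ : N → ℂ) →
      Cfsg.classInner F χ = c * (χ : N → ℂ) 1 := by
    by_cases hex : ∃ ξ : Cfsg.IrrCharacter N, IsRelevant K (ξ : N → ℂ)
    · obtain ⟨ξ, hξ⟩ := hex
      refine ⟨Cfsg.classInner F ξ / (ξ : N → ℂ) 1, fun χ hχ => ?_⟩
      have h1 := h _ _ χ.2 hχ ξ.2 hξ
      rw [classInner_sub_right, classInner_smul_right, classInner_smul_right,
        char_conj_one (isCharacter_of_isIrr χ.2), char_conj_one (isCharacter_of_isIrr ξ.2)] at h1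
      have := irr_one_ne_zero ξ.2
      field_simp
      linear_combination h1
    · exact ⟨0, fun χ hχ => absurd ⟨χ, hχ⟩ hex⟩
  set t : N → ℂ := fun x => ∑ χ ∈ Finset.univ.filter
    (fun χ : Cfsg.IrrCharacter N => ¬ IsRelevant K (χ : N → ℂ)),
      (Cfsg.classInner F χ - c * (χ : N → ℂ) 1) * (χ : N → ℂ) x with ht
  have hval : ∀ x : N, x ≠ 1 → F x = t x := by
    intro x hx
    have h1 := congrFun (classFun_eq_sum hF) x
    simp only [Finset.sum_apply, Pi.smul_apply, smul_eq_mul] at h1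
    have h2 := sum_degree_mul_apply x
    rw [if_neg hx] at h2
    calc F x = F x - c * ∑ χ : Cfsg.IrrCharacter N, (χ : N → ℂ) 1 * (χ : N → ℂ) x := by
          rw [h2, mul_zero, sub_zero]
      _ = ∑ χ : Cfsg.IrrCharacter N,
            (Cfsg.classInner F χ - c * (χ : N → ℂ) 1) * (χ : N → ℂ) x := by
          rw [h1, Finset.mul_sum, ← Finset.sum_sub_distrib]
          exact Finset.sum_congr rfl fun χ _ => by ring
      _ = t x := by
          simp only [ht]
          rw [← Finset.sum_filter_add_sum_filter_not Finset.univ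
            (fun χ : Cfsg.IrrCharacter N => IsRelevant K (χ : N → ℂ)),
            Finset.sum_eq_zero (fun χ hχ => by
              rw [hc χ (Finset.mem_filter.mp hχ).2, sub_self, zero_mul]), zero_add]
  rw [hval a ha1, hval b hb1]
  refine Finset.sum_congr rfl fun χ hχ => ?_
  rw [(not_relevant_iff K _).mp (Finset.mem_filter.mp hχ).2 a ha,
    (not_relevant_iff K _).mp (Finset.mem_filter.mp hχ).2 b hb]

/-- With two relevant characters none is constant on the nonidentity elements of `K`. -/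
theorem exists_ne_of_relevant
    (hC : ∀ k ∈ K, k ≠ 1 → Subgroup.centralizer ({k} : Set N) ≤ K) {χ ξ : N → ℂ}
    (hχ : Cfsg.IsIrrCharacter N χ) (hχr : IsRelevant K χ) (hξ : Cfsg.IsIrrCharacter N ξ)
    (hξr : IsRelevant K ξ) (hne : χ ≠ ξ) :
    ∃ a ∈ K, ∃ b ∈ K, a ≠ 1 ∧ b ≠ 1 ∧ χ a ≠ χ b := by
  classical
  by_contra hcon
  push Not at hcon
  obtain ⟨k₀, hk₀, hk₀χ⟩ := hχr
  have hk1 : k₀ ≠ 1 := fun e => hk₀χ (e ▸ rfl)
  have hval : ∀ k : K, k ≠ 1 → χ k = χ k₀ := fun k hk =>
    hcon k k.2 k₀ hk₀ (fun e => hk (Subtype.ext e)) hk1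
  have hin : ∀ η : N → ℂ, Cfsg.IsIrrCharacter N η →
      (Nat.card N : ℂ) * Cfsg.classInner χ η =
        (χ 1 - χ k₀) * conj (η 1) + χ k₀ * ∑ k : K, conj (η k) := by
    intro η _
    rw [card_mul_classInner,
      ← Finset.sum_subset (Finset.subset_univ (Finset.univ.filter fun x => x ∈ K))
        (fun x _ hx => by
          rw [relevant_apply_eq_zero K hC hχ ⟨k₀, hk₀, hk₀χ⟩ (by simpa using hx), zero_mul]),
      Finset.sum_subtype _ (p := fun x => x ∈ K) (fun x => by simp) (fun x => χ x * conj (η x)),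
      Finset.mul_sum, ← Finset.add_sum_erase _ _ (Finset.mem_univ (1 : K)),
      ← Finset.add_sum_erase _ (fun k : K => χ k₀ * conj (η k)) (Finset.mem_univ (1 : K)),
      Finset.sum_congr rfl fun k hk => by rw [hval k (Finset.ne_of_mem_erase hk)]]
    simp only [OneMemClass.coe_one]
    ring
  have hsum : ∀ η : N → ℂ, Cfsg.IsIrrCharacter N η → IsRelevant K η →
      ∑ k : K, conj (η k) = 0 := by
    intro η hη hηr
    by_contra h0
    obtain ⟨k, hk, hkη⟩ := hηr
    refine hkη (res_eq_degree_of_constituent_one K hη ?_ k hk)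
    rw [classInner_one_right]
    refine mul_ne_zero (inv_ne_zero (card_subgroup_ne_zero K)) fun h1 => h0 ?_
    rw [← map_sum, h1, map_zero]
  have h1 := hin ξ hξ
  rw [classInner_irr_ne hχ hξ hne, mul_zero, hsum ξ hξ hξr, mul_zero, add_zero,
    char_conj_one (isCharacter_of_isIrr hξ)] at h1
  exact hk₀χ (sub_eq_zero.mp ((mul_eq_zero.mp h1.symm).resolve_right (irr_one_ne_zero hξ))).symm

/-- The reduced degrees of the relevant characters have greatest common divisor one. -/
theorem gcd_degree_eq_one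
    (hC : ∀ k ∈ K, k ≠ 1 → Subgroup.centralizer ({k} : Set N) ≤ K)
    (d : Cfsg.IrrCharacter N → ℕ)
    (hd : ∀ χ : Cfsg.IrrCharacter N, IsRelevant K (χ : N → ℂ) →
      (χ : N → ℂ) 1 = ((K.index * d χ : ℕ) : ℂ))
    [DecidablePred fun χ : Cfsg.IrrCharacter N => IsRelevant K (χ : N → ℂ)]
    (hex : ∃ χ : Cfsg.IrrCharacter N, IsRelevant K (χ : N → ℂ)) :
    (Finset.univ.filter fun χ : Cfsg.IrrCharacter N => IsRelevant K (χ : N → ℂ)).gcd d = 1 := by
  classical
  set R := Finset.univ.filter fun χ : Cfsg.IrrCharacter N => IsRelevant K (χ : N → ℂ) with hR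
  set g := R.gcd d
  obtain ⟨χ₀, hχ₀⟩ := hex
  have hi : 0 < K.index := Nat.pos_of_ne_zero Subgroup.index_ne_zero_of_finite
  have h1 : g ∣ Nat.card K := by
    obtain ⟨e, -, he, he1⟩ := exists_relevant_degree K hC χ₀.2 hχ₀
    have hed : e = d χ₀ := Nat.eq_of_mul_eq_mul_left hi
      (Nat.cast_injective (R := ℂ) (he1.symm.trans (hd χ₀ hχ₀)))
    exact (Finset.gcd_dvd (Finset.mem_filter.mpr ⟨Finset.mem_univ χ₀, hχ₀⟩)).trans (hed ▸ he)
  have h2 : K.index * K.index * (∑ χ ∈ R, d χ * d χ) + K.index = K.index * Nat.card K := by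
    have h := sum_degree_sq (G := N)
    rw [← Finset.sum_filter_add_sum_filter_not Finset.univ
      (fun χ : Cfsg.IrrCharacter N => IsRelevant K (χ : N → ℂ)), sum_degree_sq_not_relevant,
      Finset.sum_congr rfl fun χ hχ => by rw [hd χ (Finset.mem_filter.mp hχ).2],
      ← K.index_mul_card] at h
    rw [Finset.mul_sum, ← hR] at *
    have h' : ∑ χ ∈ R, (K.index * d χ) ^ 2 + K.index = K.index * Nat.card K := by exact_mod_cast h
    rw [← h']
    congr 1
    exact Finset.sum_congr rfl fun χ _ => by ring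
  have h3 : K.index * (∑ χ ∈ R, d χ * d χ) + 1 = Nat.card K := by
    refine Nat.eq_of_mul_eq_mul_left hi ?_
    rw [← h2]
    ring
  have h4 : g ∣ K.index * ∑ χ ∈ R, d χ * d χ :=
    dvd_mul_of_dvd_right (Finset.dvd_sum fun χ hχ => dvd_mul_of_dvd_left (Finset.gcd_dvd hχ) _) _
  rw [← h3] at h1
  exact Nat.dvd_one.mp ((Nat.dvd_add_right h4).mp h1)

end CfsgLib.Char
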