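import Cfsg.Agent.Lib.Char.BrauerInduction
import Cfsg.Agent.Lib.Char.Ito
import Cfsg.Agent.Lib.Char.Product
import Cfsg.Agent.Lib.CharNormal.CongrP

/-!
# Invariant characters of normal subgroups of `p`-power index

`exists_elementary_invariant_mult`: some `p`-elementary `E` with `E N = G` has an invariant
irreducible character of `E ∩ N` occurring in `ϑ` with multiplicity prime to `p`.
-/

namespace CfsgLib.Char

open CfsgLib.CharNormal
open scoped ComplexConjugate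

variable {G : Type*} [Group G]

/-- Conjugation by elements of `E` on `E ⊓ N`. -/
def conjInf (E N : Subgroup G) [hN : N.Normal] : E →* MulAut ↥(E ⊓ N) where
  toFun g :=
    { toFun := fun x => ⟨(g : G) * x * (g : G)⁻¹,
        E.mul_mem (E.mul_mem g.2 x.2.1) (E.inv_mem g.2), hN.conj_mem _ x.2.2 _⟩
      invFun := fun x => ⟨(g : G)⁻¹ * x * g,
        E.mul_mem (E.mul_mem (E.inv_mem g.2) x.2.1) g.2, hN.conj_mem' _ x.2.2 _⟩
      left_inv := fun x => Subtype.ext (by simp [mul_assoc])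
      right_inv := fun x => Subtype.ext (by simp [mul_assoc])
      map_mul' := fun x y => Subtype.ext (by simp [mul_assoc]) }
  map_one' := MulEquiv.ext fun x => Subtype.ext (by simp)
  map_mul' g h := MulEquiv.ext fun x => Subtype.ext (by simp [mul_assoc])

theorem conjInf_apply (E N : Subgroup G) [N.Normal] (g : E) (x : ↥(E ⊓ N)) :
    ((conjInf E N g x : ↥(E ⊓ N)) : G) = (g : G) * x * (g : G)⁻¹ := rfl

variable [Fintype G]

/-- The value of the twisted inner product at an induced function. -/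
theorem classInner_indFun_mul_invariant (N : Subgroup G) [hN : N.Normal] [Fintype N] {ϑ : N → ℂ}
    (hinv : ∀ (g : G) (n : N), ϑ ⟨g * n * g⁻¹, hN.conj_mem (n : G) n.2 g⟩ = ϑ n)
    (E : Subgroup G) (ψ : E → ℂ) [Fintype ↥(E ⊓ N)] :
    Cfsg.classInner ((fun n : N => Cfsg.indFun E ψ n) * ϑ) ϑ = ((E ⊔ N).index : ℂ) *
      Cfsg.classInner ((fun x : ↥(E ⊓ N) => ψ ⟨x, x.2.1⟩) * fun x : ↥(E ⊓ N) => ϑ ⟨x, x.2.2⟩)
        (fun x : ↥(E ⊓ N) => ϑ ⟨x, x.2.2⟩) := by
  classical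
  set ϑD : ↥(E ⊓ N) → ℂ := fun x => ϑ ⟨x, x.2.2⟩ with hϑD
  set ψD : ↥(E ⊓ N) → ℂ := fun x => ψ ⟨x, x.2.1⟩ with hψD
  have hinner : ∀ x : G, ∑ n : N, Cfsg.extendByZero E ψ (x⁻¹ * n * x) * (ϑ n * conj (ϑ n)) =
      ∑ d : ↥(E ⊓ N), ψD d * (ϑD d * conj (ϑD d)) := by
    intro x
    have h1 : ∑ n : N, Cfsg.extendByZero E ψ (x⁻¹ * n * x) * (ϑ n * conj (ϑ n)) =
        ∑ n : N, Cfsg.extendByZero E ψ (n : G) * (ϑ n * conj (ϑ n)) := by
      refine Fintype.sum_equiv (MulAut.conjNormal x⁻¹ : MulAut N).toEquiv _ _ fun n => ?_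
      have e1 : ((MulAut.conjNormal x⁻¹ : MulAut N) n : G) = x⁻¹ * n * x := by
        rw [MulAut.conjNormal_apply, inv_inv]
      have e2 : ϑ ((MulAut.conjNormal x⁻¹ : MulAut N) n) = ϑ n := by
        conv_rhs => rw [← hinv x⁻¹ n]
        exact congrArg ϑ (Subtype.ext (MulAut.conjNormal_apply x⁻¹ n))
      show _ = Cfsg.extendByZero E ψ ((MulAut.conjNormal x⁻¹ : MulAut N) n : G) * _
      rw [MulEquiv.toEquiv_eq_coe, MulEquiv.coe_toEquiv, e1, e2]
    rw [h1]
    refine (Finset.sum_of_injOn (fun d : ↥(E ⊓ N) => (⟨d, d.2.2⟩ : N)) ?_ ?_ ?_ ?_).symm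
    · intro a _ b _ e
      exact Subtype.ext (congrArg (fun z : N => (z : G)) e)
    · intro a _; exact Finset.mem_univ _
    · intro n _ hn
      have : (n : G) ∉ E := fun h => hn ⟨⟨n, h, n.2⟩, Finset.mem_univ _, rfl⟩
      rw [extendByZero_of_notMem _ this, zero_mul]
    · intro d _
      show _ = Cfsg.extendByZero E ψ (d : G) * _
      rw [extendByZero_of_mem _ d.2.1]
  have hidx : ((E ⊔ N).index : ℂ) * Nat.card N * Nat.card E =
      (Nat.card G : ℂ) * Nat.card ↥(E ⊓ N) := by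
    have h1 : Nat.card ↥(E ⊓ N) * N.relIndex E = Nat.card E := by
      have := (N.subgroupOf E).card_mul_index
      rwa [← Nat.card_congr (Subgroup.subgroupOfEquivOfLe (show E ⊓ N ≤ E from inf_le_left)).toEquiv,
        Subgroup.inf_subgroupOf_left] at *
    have h2 : N.relIndex (E ⊔ N) * (E ⊔ N).index = N.index :=
      Subgroup.relIndex_mul_index le_sup_right
    rw [Subgroup.relIndex_sup_right] at h2
    have h3 := N.index_mul_card
    have h4 : (E ⊔ N).index * Nat.card N * Nat.card E = Nat.card G * Nat.card ↥(E ⊓ N) := by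
      rw [← h1, ← h3, ← h2]; ring
    exact_mod_cast h4
  have hN0 : (Nat.card N : ℂ) ≠ 0 := by exact_mod_cast Nat.card_pos.ne'
  have hE0 : (Nat.card E : ℂ) ≠ 0 := by exact_mod_cast Nat.card_pos.ne'
  have hD0 : (Nat.card ↥(E ⊓ N) : ℂ) ≠ 0 := by exact_mod_cast Nat.card_pos.ne'
  simp only [mul_assoc] at hinner
  simp only [classInner_def, Pi.mul_apply, indFun_apply, mul_assoc, Finset.sum_mul,
    ← Finset.mul_sum]
  rw [Finset.sum_comm]
  simp only [hinner, Finset.sum_const, Finset.card_univ, nsmul_eq_mul, ← Nat.card_eq_fintype_card]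
  field_simp
  linear_combination (-(∑ d : ↥(E ⊓ N), ψD d * ϑD d * conj (ϑD d))) * hidx

/-- If every invariant constituent has multiplicity divisible by `p`, so is the inner product. -/
theorem congrP_classInner_of_invariant {p : ℕ} (hp : p.Prime) (N : Subgroup G) [hN : N.Normal]
    {ϑ : N → ℂ} (hϑ : Cfsg.IsIrrCharacter N ϑ)
    (hinv : ∀ (g : G) (n : N), ϑ ⟨g * n * g⁻¹, hN.conj_mem (n : G) n.2 g⟩ = ϑ n)
    (E : Subgroup G) (hE : Cfsg.IsElementary p E) {ψ : E → ℂ} (hψ : Cfsg.IsCharacter E ψ)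
    [Fintype ↥(E ⊓ N)]
    (hno : ∀ φ : ↥(E ⊓ N) → ℂ, Cfsg.IsIrrCharacter ↥(E ⊓ N) φ →
      (∀ (g : E) (x : ↥(E ⊓ N)), φ (conjInf E N g x) = φ x) → ∀ m : ℕ, ¬ p ∣ m →
      Cfsg.classInner (fun x : ↥(E ⊓ N) => ϑ ⟨x, x.2.2⟩) φ ≠ m) :
    CongrP p (Cfsg.classInner
      ((fun x : ↥(E ⊓ N) => ψ ⟨x, x.2.1⟩) * fun x : ↥(E ⊓ N) => ϑ ⟨x, x.2.2⟩)
        (fun x : ↥(E ⊓ N) => ϑ ⟨x, x.2.2⟩)) 0 := by
  classical
  have : Fact p.Prime := ⟨hp⟩
  set ϑD : ↥(E ⊓ N) → ℂ := fun x => ϑ ⟨x, x.2.2⟩ with hϑD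
  set ψD : ↥(E ⊓ N) → ℂ := fun x => ψ ⟨x, x.2.1⟩ with hψD
  have hϑDc : Cfsg.IsCharacter ↥(E ⊓ N) ϑD :=
    isCharacter_comp (isCharacter_of_isIrr hϑ) (Subgroup.inclusion inf_le_right)
  have hψDc : Cfsg.IsCharacter ↥(E ⊓ N) ψD := isCharacter_comp hψ (Subgroup.inclusion inf_le_left)
  obtain ⟨x, hx, -, r, hr⟩ := hE
  obtain ⟨a, ha, hai⟩ := char_decomp hϑDc
  letI : MulAction E (Cfsg.IrrCharacter ↥(E ⊓ N)) :=
    { smul := fun g φ => ⟨(φ : ↥(E ⊓ N) → ℂ) ∘ conjInf E N g⁻¹, isIrr_comp_mulEquiv φ.2 _⟩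
      one_smul := fun φ => Subtype.ext (funext fun d => show (φ : ↥(E ⊓ N) → ℂ) (conjInf E N 1⁻¹ d) = _ by
        rw [inv_one, map_one]; rfl)
      mul_smul := fun g h φ => Subtype.ext (funext fun d => show (φ : ↥(E ⊓ N) → ℂ) (conjInf E N (g * h)⁻¹ d) =
        (φ : ↥(E ⊓ N) → ℂ) (conjInf E N h⁻¹ (conjInf E N g⁻¹ d)) by rw [mul_inv_rev, map_mul]; rfl) }
  have hsmul : ∀ (g : E) (φ : Cfsg.IrrCharacter ↥(E ⊓ N)) (d : ↥(E ⊓ N)),
      ((g • φ : Cfsg.IrrCharacter ↥(E ⊓ N)) : ↥(E ⊓ N) → ℂ) d = (φ : ↥(E ⊓ N) → ℂ) (conjInf E N g⁻¹ d) := fun _ _ _ => rfl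
  have hψinv : ∀ (g : E) (d : ↥(E ⊓ N)), ψD (conjInf E N g d) = ψD d := fun g d =>
    (congrArg ψ (Subtype.ext rfl)).trans (isClassFunction_of_isCharacter hψ ⟨d, d.2.1⟩ g)
  have hϑinv : ∀ (g : E) (d : ↥(E ⊓ N)), ϑD (conjInf E N g d) = ϑD d := fun g d =>
    (congrArg ϑ (Subtype.ext rfl)).trans (hinv g ⟨d, d.2.2⟩)
  have hainv : ∀ (g : E) (φ : Cfsg.IrrCharacter ↥(E ⊓ N)), a (g • φ) = a φ := by
    intro g φ
    have h1 : Cfsg.classInner ϑD ((g • φ : Cfsg.IrrCharacter ↥(E ⊓ N)) : ↥(E ⊓ N) → ℂ) =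
        Cfsg.classInner ϑD (φ : ↥(E ⊓ N) → ℂ) := by
      rw [← classInner_comp_mulEquiv (conjInf E N g⁻¹) ϑD (φ : ↥(E ⊓ N) → ℂ)]
      congr 1
      exact funext fun d => (hϑinv g⁻¹ d).symm
    rw [hai, hai] at h1
    exact_mod_cast h1
  let P : Sylow p E := default
  have hfix : ∀ φ : Cfsg.IrrCharacter ↥(E ⊓ N), (∀ g : (P : Subgroup E), (g : E) • φ = φ) → p ∣ a φ := by
    intro φ hφ
    by_contra hnd
    have hzn : (Subgroup.zpowers x).Normal := ⟨fun w hw g => by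
      rw [Subgroup.mem_center_iff.mp (Subgroup.zpowers_le.mpr hx hw) g, mul_inv_cancel_right]
      exact hw⟩
    have hall : ∀ g : E, g • φ = φ := by
      have hxs : x ∈ MulAction.stabilizer E φ := by
        refine MulAction.mem_stabilizer_iff.mpr (Subtype.ext (funext fun d => ?_))
        rw [hsmul]
        refine congrArg (φ : ↥(E ⊓ N) → ℂ) (Subtype.ext ?_)
        rw [conjInf_apply]
        have h1 := congrArg (fun z : E => (z : G))
          (Subgroup.mem_center_iff.mp (Subgroup.inv_mem _ hx) ⟨d, d.2.1⟩)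
        simp only [Subgroup.coe_mul] at h1
        rw [← h1, mul_inv_cancel_right]
      have htop' : MulAction.stabilizer E φ = ⊤ := by
        rw [← Subgroup.index_eq_one]
        have h1 := hr ▸ Subgroup.index_dvd_of_le (Subgroup.zpowers_le.mpr hxs)
        obtain ⟨j, -, hj⟩ := (Nat.dvd_prime_pow hp).mp h1
        rcases Nat.eq_zero_or_pos j with rfl | hj0
        · simpa using hj
        · exact absurd ((dvd_pow_self p hj0.ne').trans (hj ▸ Subgroup.index_dvd_of_le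
            (fun g hg => MulAction.mem_stabilizer_iff.mpr (hφ ⟨g, hg⟩) :
              (P : Subgroup E) ≤ MulAction.stabilizer E φ))) P.not_dvd_index
      exact fun g => MulAction.mem_stabilizer_iff.mp (htop' ▸ Subgroup.mem_top g)
    refine hno φ φ.2 (fun g d => ?_) (a φ) hnd ?_
    · have h1 := congrFun (congrArg Subtype.val (hall g⁻¹)) d
      rwa [hsmul, inv_inv] at h1
    · convert hai φ
  -- orbit count on pairs
  choose B hB using fun φ φ' : Cfsg.IrrCharacter ↥(E ⊓ N) => classInner_char_nat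
    (isCharacter_mul hψDc (isCharacter_of_isIrr φ.2)) (isCharacter_of_isIrr φ'.2)
  have hexp : Cfsg.classInner (ψD * ϑD) ϑD =
      ∑ q : Cfsg.IrrCharacter ↥(E ⊓ N) × Cfsg.IrrCharacter ↥(E ⊓ N), ((a q.1 * a q.2 * B q.1 q.2 : ℕ) : ℂ) := by
    conv_lhs => rw [ha]
    rw [Finset.mul_sum, classInner_sum_left, Fintype.sum_prod_type]
    refine Finset.sum_congr rfl fun φ _ => ?_
    rw [classInner_sum_right]
    refine Finset.sum_congr rfl fun φ' _ => ?_
    rw [mul_smul_comm, classInner_smul_left, classInner_smul_right, map_natCast, hB]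
    push_cast
    ring
  rw [hexp]
  refine (congrP_sum_fixed P.2 (X := Cfsg.IrrCharacter ↥(E ⊓ N) × Cfsg.IrrCharacter ↥(E ⊓ N)) _
    (fun q => isIntegral_natCast _) fun g q => ?_).trans ?_
  · obtain ⟨φ, φ'⟩ := q
    show ((a ((g : E) • φ) * a ((g : E) • φ') * B ((g : E) • φ) ((g : E) • φ') : ℕ) : ℂ) = _
    have hBi : B ((g : E) • φ) ((g : E) • φ') = B φ φ' := by
      have h1 : ((B ((g : E) • φ) ((g : E) • φ') : ℕ) : ℂ) = B φ φ' := by
        rw [← hB, ← hB, ← classInner_comp_mulEquiv (conjInf E N (g : E)⁻¹) (ψD * (φ : ↥(E ⊓ N) → ℂ))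
          (φ' : ↥(E ⊓ N) → ℂ)]
        congr 1
        funext d
        simp only [Pi.mul_apply, Function.comp_apply, hψinv, hsmul]
      exact_mod_cast h1
    rw [hainv, hainv, hBi]
  · refine CongrP.trans (CongrP.sum (g := fun _ => (0 : ℂ)) fun q hq => ?_)
      (by simp only [Finset.sum_const_zero]; exact .refl _)
    obtain ⟨φ, φ'⟩ := q
    have hfx := (Finset.mem_filter.mp hq).2
    obtain ⟨t, ht⟩ := hfix φ fun g => congrArg Prod.fst (hfx g)
    refine ⟨((t * a φ' * B φ φ' : ℕ) : ℂ), isIntegral_natCast _, ?_⟩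
    simp only [ht]; push_cast; ring

/-- An invariant character of a normal subgroup of `p`-power index has, on some `p`-elementary
supplement, an invariant constituent of multiplicity prime to `p`. -/
theorem exists_elementary_invariant_mult {p : ℕ} (hp : p.Prime) (N : Subgroup G) [hN : N.Normal]
    (hind : ∃ k : ℕ, N.index = p ^ k) {ϑ : N → ℂ} (hϑ : Cfsg.IsIrrCharacter N ϑ)
    (hinv : ∀ (g : G) (n : N), ϑ ⟨g * n * g⁻¹, hN.conj_mem (n : G) n.2 g⟩ = ϑ n) :
    ∃ (E : Subgroup G) (φ : ↥(E ⊓ N) → ℂ), Cfsg.IsElementary p E ∧ E ⊔ N = ⊤ ∧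
      Cfsg.IsIrrCharacter ↥(E ⊓ N) φ ∧ (∀ (g : E) (x : ↥(E ⊓ N)), φ (conjInf E N g x) = φ x) ∧
      ∃ m : ℕ, ¬ p ∣ m ∧ ∀ [Fintype ↥(E ⊓ N)],
        Cfsg.classInner (fun x : ↥(E ⊓ N) => ϑ ⟨x, x.2.2⟩) φ = m := by
  classical
  have : Fact p.Prime := ⟨hp⟩
  have := Fintype.ofFinite N
  let T : (G → ℂ) → ℂ := fun f => Cfsg.classInner ((fun n : N => f n) * ϑ) ϑ
  by_contra hno
  simp only [not_exists, not_and] at hno
  let V : AddSubgroup (G → ℂ) :=
    { carrier := {f | CongrP p (T f) 0}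
      zero_mem' := by
        show CongrP p (Cfsg.classInner ((fun n : N => (0 : ℂ)) * ϑ) ϑ) 0
        rw [show ((fun _ : N => (0 : ℂ)) * ϑ) = 0 from funext fun n => zero_mul _, classInner_zero_left]
        exact .refl _
      add_mem' := fun {a b} (ha : CongrP p (T a) 0) (hb : CongrP p (T b) 0) => by
        show CongrP p (Cfsg.classInner ((fun n : N => a n + b n) * ϑ) ϑ) 0
        rw [show ((fun n : N => a n + b n) * ϑ) =
          (fun n : N => a n) * ϑ + (fun n : N => b n) * ϑ from funext fun n => add_mul _ _ _,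
          classInner_add_left]
        simpa using ha.add hb
      neg_mem' := fun {a} (ha : CongrP p (T a) 0) => by
        show CongrP p (Cfsg.classInner ((fun n : N => -(a n)) * ϑ) ϑ) 0
        rw [show ((fun n : N => -(a n)) * ϑ) = -((fun n : N => a n) * ϑ) from
          funext fun n => neg_mul _ _, classInner_neg_left]
        simpa using ha.mul_left (isIntegral_one.neg) }
  have hle : elemSpan p G ≤ V := by
    rw [elemSpan, AddSubgroup.closure_le]
    rintro _ ⟨E, ψ, hE, hψ, rfl⟩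
    show CongrP p (T (Cfsg.indFun E ψ)) 0
    have := Fintype.ofFinite ↥(E ⊓ N)
    simp only [T]
    rw [classInner_indFun_mul_invariant N hinv E ψ]
    by_cases htop : E ⊔ N = ⊤
    · rw [htop, Subgroup.index_top, Nat.cast_one, one_mul]
      refine congrP_classInner_of_invariant hp N hϑ hinv E hE hψ fun φ hφ hφi m hm he => ?_
      refine hno E φ hE htop hφ hφi m hm fun {inst} => ?_
      convert he
    · obtain ⟨c, hc⟩ := classInner_char_nat (isCharacter_mul
        (isCharacter_comp hψ (Subgroup.inclusion (inf_le_left : E ⊓ N ≤ E)))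
        (isCharacter_comp (isCharacter_of_isIrr hϑ) (Subgroup.inclusion (inf_le_right : E ⊓ N ≤ N))))
        (isCharacter_comp (isCharacter_of_isIrr hϑ) (Subgroup.inclusion (inf_le_right : E ⊓ N ≤ N)))
      obtain ⟨k, hk⟩ := hind
      obtain ⟨j, -, hj⟩ := (Nat.dvd_prime_pow hp).mp
        (hk ▸ Subgroup.index_dvd_of_le (le_sup_right : N ≤ E ⊔ N))
      have hj0 : j ≠ 0 := fun h => htop (Subgroup.index_eq_one.mp (by rw [hj, h, pow_zero]))
      obtain ⟨t, ht⟩ := dvd_pow_self p hj0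
      refine ⟨(t : ℂ) * c, (isIntegral_natCast t).mul (isIntegral_natCast c), ?_⟩
      rw [hj, ht]
      refine Eq.trans ?_ (mul_assoc _ _ _)
      rw [sub_zero, Nat.cast_mul]
      exact congrArg _ hc
  obtain ⟨m, hm, hmem⟩ := exists_const_mem_elemSpan (G := G) hp
  have hV : ∀ f : G → ℂ, f ∈ V → CongrP p (T f) 0 := fun f hf => hf
  have h1 := hV _ (hle hmem)
  have h2 : T (fun _ => (m : ℂ)) = (m : ℂ) := by
    have e : ((fun _ : N => (m : ℂ)) * ϑ) = (m : ℂ) • ϑ := funext fun n => rfl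
    simp only [T, e, classInner_smul_left, classInner_irr_self hϑ, mul_one]
  rw [h2] at h1
  exact hm (by simpa using CongrP.int_dvd (p := p) (a := m) (b := 0) (by exact_mod_cast h1))

end CfsgLib.Char
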