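import Cfsg.Agent.Lib.Char.Restrict
import Cfsg.Agent.Lib.CharNormal.Clifford
import Mathlib.GroupTheory.Nilpotent
import Mathlib.GroupTheory.Solvable

/-!
# Tools for monomiality arguments

* `commutator_le_of_solvable_chief`: chief factors of a solvable quotient are abelian;
* `classInner_res_ne_zero`: constituents of constituents of restrictions;
* `isIrr_of_indFun_isIrr`: a character inducing irreducibly is irreducible;
* `exists_multiple_of_degree`: a character containing `θ` with full degree is a multiple of it;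
* `commute_of_abelian_sylow_nilpotent`: nilpotent groups with abelian Sylow subgroups are abelian.
-/

namespace CfsgLib.Char

open scoped ComplexConjugate commutatorElement

/-- A chief factor of `G` above `N` with `G / N` solvable is abelian. -/
theorem commutator_le_of_solvable_chief {G : Type*} [Group G] (N K L : Subgroup G) [N.Normal]
    [K.Normal] [L.Normal] (hsolv : Group.IsSolvable (G ⧸ N)) (hNL : N ≤ L) (hLK : L < K)
    (hchief : ∀ M : Subgroup G, M.Normal → L ≤ M → M ≤ K → M = L ∨ M = K) : ⁅K, K⁆ ≤ L := by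
  have hle : L ⊔ ⁅K, K⁆ ≤ K := sup_le hLK.le (Subgroup.commutator_le_right K K)
  rcases hchief _ inferInstance le_sup_left hle with h | h
  · exact h ▸ le_sup_right
  · exfalso
    have : Group.IsSolvable (G ⧸ L) := by
      have := hsolv
      refine Group.isSolvable_of_surjective (f := QuotientGroup.map N L (MonoidHom.id G) hNL) ?_
      intro q
      obtain ⟨x, rfl⟩ := QuotientGroup.mk'_surjective L q
      exact ⟨QuotientGroup.mk' N x, rfl⟩
    set Kb := K.map (QuotientGroup.mk' L) with hKb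
    have hperf : ⁅Kb, Kb⁆ = Kb := by
      rw [hKb, ← Subgroup.map_commutator]
      conv_rhs => rw [← h, Subgroup.map_sup, QuotientGroup.map_mk'_self, bot_sup_eq]
    obtain ⟨n, hn⟩ := (Group.isSolvable_def (G ⧸ L)).mp this
    have hd : ∀ m, Kb ≤ derivedSeries (G ⧸ L) m := by
      intro m
      induction m with
      | zero => exact le_top
      | succ m ih =>
        rw [derivedSeries_succ, ← hperf]
        exact Subgroup.commutator_mono ih ih
    have hbot : Kb = ⊥ := le_bot_iff.mp (hn ▸ hd n)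
    rw [hKb, Subgroup.map_eq_bot_iff, QuotientGroup.ker_mk'] at hbot
    exact hLK.not_ge hbot

variable {G : Type*} [Group G] [Fintype G]

/-- If `ψ` is a constituent of `χ` and `θ` one of `ψ ∘ f`, then `θ` is one of `χ ∘ f`. -/
theorem classInner_res_ne_zero {L : Type*} [Group L] [Fintype L] (f : L →* G) {χ ψ : G → ℂ}
    {θ : L → ℂ} (hχ : Cfsg.IsCharacter G χ) (hψ : Cfsg.IsIrrCharacter G ψ)
    (hθ : Cfsg.IsCharacter L θ) (h1 : Cfsg.classInner χ ψ ≠ 0)
    (h2 : Cfsg.classInner (fun x => ψ (f x)) θ ≠ 0) :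
    Cfsg.classInner (fun x => χ (f x)) θ ≠ 0 := by
  classical
  obtain ⟨m, hm, hmi⟩ := char_decomp hχ
  choose k hk using fun φ : Cfsg.IrrCharacter G =>
    classInner_char_nat (isCharacter_comp (isCharacter_of_isIrr φ.2) f) hθ
  have he : Cfsg.classInner (fun x => χ (f x)) θ =
      ((∑ φ : Cfsg.IrrCharacter G, m φ * k φ : ℕ) : ℂ) := by
    have : (fun x => χ (f x)) =
        ∑ φ : Cfsg.IrrCharacter G, (m φ : ℂ) • fun x => (φ : G → ℂ) (f x) := by
      funext x
      simp [congrFun hm (f x)]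
    rw [this, classInner_sum_left, Nat.cast_sum]
    refine Finset.sum_congr rfl fun φ _ => ?_
    rw [classInner_smul_left, Nat.cast_mul, ← hk φ]
    rfl
  rw [he, Nat.cast_ne_zero]
  intro h0
  have := (Finset.sum_eq_zero_iff.mp h0) ⟨ψ, hψ⟩ (Finset.mem_univ _)
  rcases mul_eq_zero.mp this with h | h
  · exact h1 (by rw [hmi ⟨ψ, hψ⟩, h, Nat.cast_zero])
  · refine h2 ?_
    have e := hk ⟨ψ, hψ⟩
    rw [h, Nat.cast_zero] at e
    exact e

/-- A character which induces an irreducible character is irreducible. -/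
theorem isIrr_of_indFun_isIrr (H : Subgroup G) [Fintype H] {ψ : H → ℂ}
    (hψ : Cfsg.IsCharacter H ψ) (h : Cfsg.IsIrrCharacter G (Cfsg.indFun H ψ)) :
    Cfsg.IsIrrCharacter H ψ := by
  classical
  obtain ⟨m, hm, -⟩ := char_decomp hψ
  choose d hd0 hd using fun α : Cfsg.IrrCharacter H => exists_degree_pos α.2
  have hlin : Cfsg.indFun H ψ = ∑ α : Cfsg.IrrCharacter H, (m α : ℂ) • Cfsg.indFun H α := by
    conv_lhs => rw [hm]
    rw [indFun_sum]
    exact Finset.sum_congr rfl fun α _ => indFun_smul H _ _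
  have h1 := classInner_irr_self h
  conv_lhs at h1 => arg 1; rw [hlin]
  rw [classInner_sum_left] at h1
  obtain ⟨α, -, hα⟩ := Finset.exists_ne_zero_of_sum_ne_zero (h1 ▸ one_ne_zero)
  rw [classInner_smul_left, mul_ne_zero_iff, Nat.cast_ne_zero] at hα
  have hle := constituent_degree_le (isCharacter_indFun H (isCharacter_of_isIrr α.2)) h hα.2
  rw [indFun_one, indFun_one, congrFun hm 1] at hle
  simp only [Finset.sum_apply, Pi.smul_apply, smul_eq_mul, hd] at hle
  norm_cast at hle
  have hsum := Nat.le_of_mul_le_mul_left hle (Nat.pos_of_ne_zero Subgroup.index_ne_zero_of_finite)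
  rw [← Finset.add_sum_erase _ _ (Finset.mem_univ α)] at hsum
  have hm1 : m α = 1 := by
    have : m α * d α ≤ 1 * d α := by omega
    have := Nat.le_of_mul_le_mul_right this (hd0 α)
    have := Nat.pos_of_ne_zero hα.1
    omega
  have hz : ∀ φ ≠ α, m φ = 0 := by
    intro φ hφ
    have h0 : ∑ φ ∈ Finset.univ.erase α, m φ * d φ = 0 := by rw [hm1] at hsum; omega
    have := (Finset.sum_eq_zero_iff.mp h0) φ (Finset.mem_erase.mpr ⟨hφ, Finset.mem_univ φ⟩)
    exact (mul_eq_zero.mp this).resolve_right (hd0 φ).ne'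
  rw [hm, Finset.sum_eq_single α (fun φ _ hφ => by simp [hz φ hφ]) (by simp), hm1]
  simpa using α.2

/-- A character which contains `θ` with the full degree is a multiple of `θ`. -/
theorem exists_multiple_of_degree {χ θ : G → ℂ} (hχ : Cfsg.IsCharacter G χ)
    (hθ : Cfsg.IsIrrCharacter G θ) {e : ℕ} (he : Cfsg.classInner χ θ = e)
    (hdeg : χ 1 = (e : ℂ) * θ 1) : χ = (e : ℂ) • θ := by
  classical
  obtain ⟨m, hm, hmi⟩ := char_decomp hχ
  choose d hd0 hd using fun α : Cfsg.IrrCharacter G => exists_degree_pos α.2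
  have hme : m ⟨θ, hθ⟩ = e := by
    have := (hmi ⟨θ, hθ⟩).symm.trans he
    exact_mod_cast this
  have h1 := congrFun hm 1
  simp only [Finset.sum_apply, Pi.smul_apply, smul_eq_mul, hd] at h1
  rw [hdeg, show θ 1 = (d ⟨θ, hθ⟩ : ℂ) from hd ⟨θ, hθ⟩] at h1
  have h2 : e * d ⟨θ, hθ⟩ = ∑ α, m α * d α := by exact_mod_cast h1
  rw [← Finset.add_sum_erase _ _ (Finset.mem_univ (⟨θ, hθ⟩ : Cfsg.IrrCharacter G)), hme] at h2
  have h0 : ∑ α ∈ Finset.univ.erase (⟨θ, hθ⟩ : Cfsg.IrrCharacter G), m α * d α = 0 := by omega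
  rw [hm, Finset.sum_eq_single (⟨θ, hθ⟩ : Cfsg.IrrCharacter G) _ (by simp), hme]
  intro α _ hα
  have := (Finset.sum_eq_zero_iff.mp h0) α (Finset.mem_erase.mpr ⟨hα, Finset.mem_univ α⟩)
  rw [(mul_eq_zero.mp this).resolve_right (hd0 α).ne', Nat.cast_zero, zero_smul]

/-- A finite nilpotent group with abelian Sylow subgroups is abelian. -/
theorem commute_of_abelian_sylow_nilpotent {P : Type*} [Group P] [Finite P] [Group.IsNilpotent P]
    (h : ∀ (p : ℕ) [Fact p.Prime] (S : Sylow p P), ∀ a ∈ S, ∀ b ∈ S, a * b = b * a) (x y : P) :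
    x * y = y * x := by
  obtain ⟨e⟩ := ((Group.isNilpotent_of_finite_tfae (G := P)).out 0 4).mp ‹_›
  obtain ⟨u, rfl⟩ := e.surjective x
  obtain ⟨v, rfl⟩ := e.surjective y
  rw [← map_mul, ← map_mul]
  congr 1
  funext p S
  have : Fact (p : ℕ).Prime := ⟨Nat.prime_of_mem_primeFactors p.2⟩
  exact Subtype.ext (h p S _ (u p S).2 _ (v p S).2)

end CfsgLib.Char
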