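import Cfsg.Agent.Lib.Char.PiSection
import Cfsg.Agent.Lib.CharNormal.Kernel

/-!
# The Brauer–Suzuki normal complement criterion
-/

namespace CfsgLib.Char

open CfsgLib.CharNormal
open scoped ComplexConjugate

variable {G : Type*} [Group G] [Fintype G] {H : Subgroup G}

/-- A `π`-element is conjugate into `H`. -/
theorem exists_conj_mem_of_elementary {m n : ℕ} (hcard : Nat.card G = m * n)
    (hH : Nat.card H = n) (hcop : Nat.Coprime m n)
    (helem : ∀ (E : Subgroup G) (p : ℕ), p.Prime → Cfsg.IsElementary p E →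
      Nat.card E ∣ Nat.card H → ∃ g : G, E.map (MulAut.conj g).toMonoidHom ≤ H)
    (x : G) : ∃ a : G, a * piPart m n x * a⁻¹ ∈ H := by
  obtain ⟨p, hp, hpp⟩ := Nat.exists_infinite_primes (Nat.card G + 1)
  set v := piPart m n x
  have hE : Cfsg.IsElementary p (Subgroup.zpowers v) := by
    refine ⟨⟨v, Subgroup.mem_zpowers v⟩, Subgroup.mem_center_iff.mpr fun w => Subtype.ext ?_,
      ?_, 0, ?_⟩
    · obtain ⟨i, hi⟩ := Subgroup.mem_zpowers_iff.mp w.2
      show (w : G) * v = v * (w : G)
      rw [← hi]
      exact ((Commute.refl v).zpow_left i).eq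
    · rw [Subgroup.orderOf_mk]
      refine ((hpp.coprime_iff_not_dvd).mpr fun h => ?_).symm
      have := Nat.le_of_dvd Nat.card_pos (h.trans (orderOf_dvd_natCard v))
      omega
    · rw [pow_zero, Subgroup.index_eq_one, eq_top_iff]
      intro w _
      obtain ⟨i, hi⟩ := Subgroup.mem_zpowers_iff.mp w.2
      exact Subgroup.mem_zpowers_iff.mpr ⟨i, Subtype.ext hi⟩
  have hd : Nat.card (Subgroup.zpowers v) ∣ Nat.card H := by
    rw [Nat.card_zpowers, hH]
    exact orderOf_dvd_of_pow_eq_one (piPart_pow_eq_one (pow_eq_one_of_dvd hcard.dvd x))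
  obtain ⟨a, ha⟩ := helem _ p hpp hE hd
  exact ⟨a, ha ⟨v, Subgroup.mem_zpowers v, rfl⟩⟩

/-- Centralisers of elements of `H` have the same `π`-part in `G` as in `H`. -/
theorem card_centralizer_dvd {m n : ℕ} (hcard : Nat.card G = m * n)
    (hH : Nat.card H = n)
    (hfus : ∀ x ∈ H, ∀ y ∈ H, IsConj x y → ∃ h ∈ H, h * x * h⁻¹ = y)
    (helem : ∀ (E : Subgroup G) (p : ℕ), p.Prime → Cfsg.IsElementary p E →
      Nat.card E ∣ Nat.card H → ∃ g : G, E.map (MulAut.conj g).toMonoidHom ≤ H)
    (hcop : Nat.Coprime m n) (h : H) :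
    Nat.card (Subgroup.centralizer ({(h : G)} : Set G)) ∣
      Nat.card (Subgroup.centralizer ({h} : Set H)) * m := by
  set C := Subgroup.centralizer ({(h : G)} : Set G) with hC
  rw [Nat.dvd_iff_prime_pow_dvd_dvd]
  intro q j hq hqj
  rcases Nat.eq_zero_or_pos j with rfl | hj0
  · simp
  have : Fact q.Prime := ⟨hq⟩
  have hmn : q ^ j ∣ m * n := hcard ▸ hqj.trans (Subgroup.card_subgroup_dvd_card C)
  by_cases hqn : q ∣ n
  · obtain ⟨u, c, huc, hu, hc, ⟨a, hua⟩, hcc⟩ := exists_pPart_split hq (h : G)
    let Q : Sylow q C := default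
    set Q' : Subgroup G := (Q : Subgroup C).map C.subtype
    have hhC : (h : G) ∈ C := Subgroup.mem_centralizer_singleton_iff.mpr rfl
    have huC : u ∈ C := Subgroup.zpowers_le.mpr hhC hu
    have huQ : u ∈ Q' := by
      refine ⟨⟨u, huC⟩, ?_, rfl⟩
      have hcent : (⟨u, huC⟩ : C) ∈ Subgroup.center C := Subgroup.mem_center_iff.mpr fun w => by
        obtain ⟨i, hi⟩ := Subgroup.mem_zpowers_iff.mp hu
        refine Subtype.ext ?_
        show (w : G) * u = u * (w : G)
        rw [← hi]
        exact ((show Commute (w : G) (h : G) from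
          Subgroup.mem_centralizer_singleton_iff.mp w.2).zpow_right i).eq
      have hp' : IsPGroup q (Subgroup.zpowers (⟨u, huC⟩ : C)) :=
        IsPGroup.of_card (n := a) (by rw [Nat.card_zpowers, Subgroup.orderOf_mk, hua])
      have hn' : (Subgroup.zpowers (⟨u, huC⟩ : C)).Normal := ⟨fun w hw g => by
        rw [Subgroup.mem_center_iff.mp (Subgroup.zpowers_le.mpr hcent hw) g, mul_inv_cancel_right]
        exact hw⟩
      obtain ⟨P, hP⟩ := hp'.exists_le_sylow
      obtain ⟨g, hgQ⟩ := MulAction.exists_smul_eq C P Q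
      have hmem := hP (Subgroup.mem_zpowers (⟨u, huC⟩ : C))
      rw [← hgQ]
      refine ⟨⟨u, huC⟩, hmem, ?_⟩
      show g * _ * g⁻¹ = _
      rw [Subgroup.mem_center_iff.mp hcent g, mul_inv_cancel_right]
    have hcC : c ∈ C := Subgroup.zpowers_le.mpr hhC hc
    have hcom : ∀ y ∈ Q', c * y = y * c := by
      rintro _ ⟨w, -, rfl⟩
      obtain ⟨i, hi⟩ := Subgroup.mem_zpowers_iff.mp hc
      rw [← hi]
      exact (((show Commute (w : G) (h : G) from
        Subgroup.mem_centralizer_singleton_iff.mp w.2).zpow_right i).eq).symm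
    have hle : Subgroup.zpowers c ≤ Subgroup.centralizer (Q' : Set G) :=
      Subgroup.zpowers_le.mpr (Subgroup.mem_centralizer_iff.mpr fun y hy => (hcom y hy).symm)
    let f : Subgroup.zpowers c × Q' →* G := MonoidHom.noncommCoprod (Subgroup.zpowers c).subtype
      Q'.subtype fun z y => (Subgroup.mem_centralizer_iff.mp (hle z.2) y y.2).symm
    obtain ⟨k, hk⟩ := IsPGroup.iff_card.mp Q.2
    have hQcard : Nat.card Q' = q ^ k := by
      rw [Subgroup.card_map_of_injective C.subtype_injective]; exact hk
    have hfinj : Function.Injective f := by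
      refine (injective_iff_map_eq_one f).mpr fun ⟨z, y⟩ hzy => ?_
      have he : (z : G) * (y : G) = 1 := hzy
      have hz1 : orderOf (z : G) ∣ orderOf c :=
        Nat.card_zpowers c ▸ Subgroup.orderOf_dvd_natCard _ z.2
      have hz2 : orderOf (z : G) ∣ q ^ k := by
        rw [eq_inv_of_mul_eq_one_left he, orderOf_inv, ← hQcard]
        exact Subgroup.orderOf_dvd_natCard _ y.2
      have hz : (z : G) = 1 :=
        orderOf_eq_one_iff.mp (Nat.eq_one_of_dvd_coprimes (Nat.Coprime.pow_right k hcc) hz1 hz2)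
      rw [hz, one_mul] at he
      exact Prod.ext (Subtype.ext hz) (Subtype.ext he)
    set E := f.range
    have hEcard : Nat.card E = orderOf c * q ^ k := by
      rw [← Nat.card_congr (MonoidHom.ofInjective hfinj).toEquiv, Nat.card_prod, Nat.card_zpowers,
        hQcard]
    have hcn : orderOf c ∣ n := by
      have h1 : orderOf c ∣ orderOf (h : G) := by
        rw [← Nat.card_zpowers (h : G)]
        exact Subgroup.orderOf_dvd_natCard _ hc
      exact h1.trans (hH ▸ Subgroup.orderOf_dvd_natCard _ h.2)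
    have hqkn : q ^ k ∣ n := by
      have h1 : q ^ k ∣ m * n :=
        hcard ▸ (hQcard ▸ Subgroup.card_subgroup_dvd_card Q')
      exact (Nat.Coprime.pow_left k ((hq.coprime_iff_not_dvd).mpr fun hm =>
        hq.not_dvd_one (hcop ▸ Nat.dvd_gcd hm hqn))).dvd_of_dvd_mul_left h1
    have hEn : Nat.card E ∣ Nat.card H := by
      rw [hEcard, hH]
      exact Nat.Coprime.mul_dvd_of_dvd_of_dvd (Nat.Coprime.pow_right k hcc) hcn hqkn
    have hEl : Cfsg.IsElementary q E := by
      refine isElementary_of_mulEquiv (MonoidHom.ofInjective hfinj) ?_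
      refine ⟨(⟨c, Subgroup.mem_zpowers c⟩, 1), Subgroup.mem_center_iff.mpr fun ⟨z, y⟩ => ?_, ?_,
        k, ?_⟩
      · obtain ⟨i, hi⟩ := Subgroup.mem_zpowers_iff.mp z.2
        refine Prod.ext (Subtype.ext ?_) (by simp)
        show (z : G) * c = c * (z : G)
        rw [← hi]
        exact ((Commute.refl c).zpow_left i).eq
      · rw [Prod.orderOf_mk, orderOf_one, Nat.lcm_one_right, Subgroup.orderOf_mk]
        exact hcc
      · have h1 := (Subgroup.zpowers ((⟨c, Subgroup.mem_zpowers c⟩, 1) :
            Subgroup.zpowers c × Q')).index_mul_card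
        rw [Nat.card_zpowers, Prod.orderOf_mk, orderOf_one, Nat.lcm_one_right, Subgroup.orderOf_mk,
          Nat.card_prod, Nat.card_zpowers, hQcard, mul_comm (orderOf c)] at h1
        exact Nat.eq_of_mul_eq_mul_right (orderOf_pos c) h1
    obtain ⟨g, hg⟩ := helem E q hq hEl hEn
    have hEsub : ∀ y ∈ Q', y ∈ E := fun y hy => ⟨(1, ⟨y, hy⟩), one_mul y⟩
    have hgh : g * (h : G) * g⁻¹ ∈ H := hg ⟨h, ⟨(⟨c, Subgroup.mem_zpowers c⟩, ⟨u, huQ⟩), by
      show c * u = (h : G)
      rw [huc]; exact hcom u huQ⟩, rfl⟩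
    obtain ⟨w, hw, hwe⟩ := hfus _ hgh _ h.2 (isConj_iff.mpr ⟨g⁻¹, by group⟩)
    -- conjugate `Q'` into the centraliser in `H`
    let R : Subgroup H :=
      (Q'.map (MulAut.conj (w * g)).toMonoidHom).subgroupOf H
    have hRle : R ≤ Subgroup.centralizer ({h} : Set H) := by
      intro r hr
      obtain ⟨y, hy, hye⟩ := Subgroup.mem_subgroupOf.mp hr
      refine Subgroup.mem_centralizer_singleton_iff.mpr (Subtype.ext ?_)
      obtain ⟨y', -, rfl⟩ := hy
      have hcy : (y' : G) * h = h * y' := Subgroup.mem_centralizer_singleton_iff.mp y'.2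
      have hye' : w * g * (y' : G) * (w * g)⁻¹ = (r : G) := hye
      have hh : w * g * (h : G) * (w * g)⁻¹ = h := by
        simpa [mul_assoc] using hwe
      show (r : G) * h = h * r
      rw [← hye']
      have h2 := congrArg (MulAut.conj (w * g)) hcy
      rw [map_mul (MulAut.conj (w * g)), map_mul (MulAut.conj (w * g)), MulAut.conj_apply,
        MulAut.conj_apply, hh] at h2
      exact h2
    have hmapH : Q'.map (MulAut.conj (w * g)).toMonoidHom ≤ H := by
      rintro _ ⟨y, hy, rfl⟩
      show w * g * y * (w * g)⁻¹ ∈ H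
      have h1 := H.mul_mem (H.mul_mem hw (hg ⟨y, hEsub y hy, rfl⟩)) (H.inv_mem hw)
      simpa [mul_assoc] using h1
    have hRcard : Nat.card R = q ^ k := by
      rw [Nat.card_congr (Subgroup.subgroupOfEquivOfLe hmapH).toEquiv,
        Subgroup.card_map_of_injective (MulAut.conj (w * g)).injective, hQcard]
    have hqjk : q ^ j ∣ q ^ k := by
      rw [← hk]
      exact Q.pow_dvd_card_of_pow_dvd_card hqj
    exact Dvd.dvd.mul_right (hqjk.trans (hRcard ▸ Subgroup.card_dvd_of_le hRle)) m
  · exact Dvd.dvd.mul_left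
      ((Nat.Coprime.pow_left j ((hq.coprime_iff_not_dvd).mpr hqn)).dvd_of_dvd_mul_right hmn) _

/-- The Brauer–Suzuki criterion for a normal complement of a Hall subgroup. -/
theorem exists_normal_complement_of_fusion (hHall : Nat.Coprime (Nat.card H) H.index)
    (hfus : ∀ x ∈ H, ∀ y ∈ H, IsConj x y → ∃ h ∈ H, h * x * h⁻¹ = y)
    (helem : ∀ (E : Subgroup G) (p : ℕ), p.Prime → Cfsg.IsElementary p E →
      Nat.card E ∣ Nat.card H → ∃ g : G, E.map (MulAut.conj g).toMonoidHom ≤ H) :
    ∃ K : Subgroup G, K.Normal ∧ K ⊔ H = ⊤ ∧ K ⊓ H = ⊥ := by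
  classical
  have := Fintype.ofFinite H
  set m := H.index with hm
  set n := Nat.card H with hn
  have hcop : Nat.Coprime m n := hHall.symm
  have hcard : Nat.card G = m * n := H.index_mul_card.symm
  have hGn : ∀ x : G, x ^ (m * n) = 1 := pow_eq_one_of_dvd hcard.dvd
  choose a ha using fun x : G => exists_conj_mem_of_elementary hcard rfl hcop helem x
  let T : G → ConjClasses H := fun x => ConjClasses.mk ⟨_, ha x⟩
  have hT : ∀ (x b : G) (hb : b * piPart m n x * b⁻¹ ∈ H), T x = ConjClasses.mk ⟨_, hb⟩ := by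
    intro x b hb
    refine ConjClasses.mk_eq_mk_iff_isConj.mpr (isConj_iff.mpr ?_)
    obtain ⟨w, hw, hwe⟩ := hfus _ (ha x) _ hb (isConj_iff.mpr ⟨b * (a x)⁻¹, by group⟩)
    exact ⟨⟨w, hw⟩, Subtype.ext hwe⟩
  have hTiff : ∀ (x : G) (h : H), T x = ConjClasses.mk h ↔ IsConj (piPart m n x) (h : G) := by
    intro x h
    constructor
    · intro e
      obtain ⟨w, hw⟩ := isConj_iff.mp (ConjClasses.mk_eq_mk_iff_isConj.mp e)
      exact isConj_iff.mpr ⟨(w : G) * a x, by
        rw [← congrArg Subtype.val hw, Subgroup.coe_mul, Subgroup.coe_mul, Subgroup.coe_inv]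
        simp [mul_assoc]⟩
    · intro e
      obtain ⟨b, hb⟩ := isConj_iff.mp e
      have hbH : b * piPart m n x * b⁻¹ ∈ H := hb ▸ h.2
      rw [hT x b hbH]
      exact congrArg ConjClasses.mk (Subtype.ext hb)
  -- sizes of the sections
  have hge : ∀ h : H, m * Nat.card {y : H // IsConj h y} ≤ Nat.card {x : G // T x = ConjClasses.mk h} := by
    intro h
    rw [Nat.card_congr (Equiv.subtypeEquivRight fun x => hTiff x h)]
    set S := {x : G // IsConj (piPart m n x) (h : G)}
    set N := Nat.card S
    have hd1 : m ∣ N := dvd_card_section hcard hcop (h : G)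
    set C := Subgroup.centralizer ({(h : G)} : Set G) with hC
    have hd2 : C.index ∣ N := by
      let Ω := {v : G // IsConj v (h : G)}
      let F : S → Ω := fun x => ⟨piPart m n x.1, x.2⟩
      have hfib : ∀ v : Ω, Nat.card {x : S // F x = v} = Nat.card {x : G // piPart m n x = (h : G)} := by
        intro v
        obtain ⟨b, hb⟩ := isConj_iff.mp v.2
        exact Nat.card_congr
          { toFun := fun x => ⟨b * x.1.1 * b⁻¹, by
              rw [piPart_conj, show piPart m n x.1.1 = v.1 from congrArg Subtype.val x.2, hb]⟩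
            invFun := fun y => ⟨⟨b⁻¹ * y.1 * b, by
              have : piPart m n (b⁻¹ * y.1 * b⁻¹⁻¹) = b⁻¹ * (h : G) * b⁻¹⁻¹ := by
                rw [piPart_conj, y.2]
              rw [inv_inv] at this
              rw [this]
              exact isConj_iff.mpr ⟨b, by group⟩⟩, by
              refine Subtype.ext ?_
              show piPart m n (b⁻¹ * y.1 * b) = v.1
              have : piPart m n (b⁻¹ * y.1 * b⁻¹⁻¹) = b⁻¹ * (h : G) * b⁻¹⁻¹ := by
                rw [piPart_conj, y.2]
              rw [inv_inv] at this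
              rw [this]
              have h3 := congrArg (fun z => b⁻¹ * z * b) hb
              simpa [mul_assoc] using h3.symm⟩
            left_inv := fun x => Subtype.ext (Subtype.ext (by simp [mul_assoc]))
            right_inv := fun y => Subtype.ext (by simp [mul_assoc]) }
      have : Fintype Ω := Fintype.ofFinite Ω
      have hN : N = Nat.card Ω * Nat.card {x : G // piPart m n x = (h : G)} := by
        rw [show N = Nat.card (Σ v : Ω, {x : S // F x = v}) from
          (Nat.card_congr (Equiv.sigmaFiberEquiv F)).symm, Nat.card_sigma,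
          Finset.sum_congr rfl fun v _ => hfib v, Finset.sum_const, Finset.card_univ, smul_eq_mul,
          Nat.card_eq_fintype_card (α := Ω)]
      rw [hN, hC, ← card_isConj_eq_index,
        Nat.card_congr (Equiv.subtypeEquivRight (p := fun x => IsConj (h : G) x)
          (q := fun x => IsConj x (h : G)) fun x => isConj_comm)]
      exact Dvd.intro _ rfl
    have hcl : Nat.card {y : H // IsConj h y} ∣ N := by
      -- the class in `H` divides `C.index * m`
      have h1 := card_centralizer_dvd hcard rfl hfus helem hcop h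
      rw [← hC] at h1
      obtain ⟨t, ht⟩ := h1
      have h2 := card_isConj_mul_card_centralizer h
      rw [← hn] at h2
      have h3 : Nat.card {y : H // IsConj h y} ∣ C.index := by
        refine ⟨t, ?_⟩
        refine Nat.eq_of_mul_eq_mul_right (Nat.card_pos (α := C)) ?_
        calc C.index * Nat.card C = m * n := by rw [C.index_mul_card, hcard]
          _ = Nat.card {y : H // IsConj h y} * (Nat.card (Subgroup.centralizer ({h} : Set H)) * m) := by
            rw [← h2]; ring
          _ = _ := by rw [ht]; ring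
      exact h3.trans hd2
    have hcop2 : Nat.Coprime m (Nat.card {y : H // IsConj h y}) := by
      refine hcop.coprime_dvd_right
        ⟨Nat.card (Subgroup.centralizer ({h} : Set H)), ?_⟩
      have h2 := card_isConj_mul_card_centralizer h
      rw [← hn] at h2
      exact h2.symm
    have : Nonempty S := ⟨⟨(h : G), by
      rw [piPart_eq_self hcop (by
        have : h ^ n = 1 := pow_card_eq_one'
        exact_mod_cast congrArg (fun z : H => (z : G)) this)]⟩⟩
    exact Nat.le_of_dvd Nat.card_pos (hcop2.mul_dvd_of_dvd_of_dvd hd1 hcl)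
  have := Fintype.ofFinite (ConjClasses H)
  have hclass : ∀ h : H, Nat.card {y : H // ConjClasses.mk y = ConjClasses.mk h} =
      Nat.card {y : H // IsConj h y} := fun h =>
    Nat.card_congr (Equiv.subtypeEquivRight fun y =>
      ConjClasses.mk_eq_mk_iff_isConj.trans isConj_comm)
  have heq : ∀ C : ConjClasses H,
      m * Nat.card {y : H // ConjClasses.mk y = C} = Nat.card {x : G // T x = C} := by
    have hle : ∀ C : ConjClasses H,
        m * Nat.card {y : H // ConjClasses.mk y = C} ≤ Nat.card {x : G // T x = C} := fun C => by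
      obtain ⟨h, rfl⟩ := ConjClasses.mk_surjective C
      rw [hclass]; exact hge h
    have hs : ∑ C : ConjClasses H, m * Nat.card {y : H // ConjClasses.mk y = C} =
        ∑ C : ConjClasses H, Nat.card {x : G // T x = C} := by
      rw [← Finset.mul_sum, ← Nat.card_sigma, ← Nat.card_sigma,
        Nat.card_congr (Equiv.sigmaFiberEquiv T),
        Nat.card_congr (Equiv.sigmaFiberEquiv (fun y : H => ConjClasses.mk y)), ← hn, hcard]
    exact fun C => (Finset.sum_eq_sum_iff_of_le fun C _ => hle C).mp hs C (Finset.mem_univ C)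
  -- extensions
  let ext : (H → ℂ) → G → ℂ := fun χ x => χ ⟨_, ha x⟩
  have hext : ∀ χ : H → ℂ, Cfsg.IsClassFunction H χ → ∀ (x b : G)
      (hb : b * piPart m n x * b⁻¹ ∈ H), ext χ x = χ ⟨_, hb⟩ := fun χ hχ x b hb =>
    isClassFunction_iff.mp hχ _ _ (ConjClasses.mk_eq_mk_iff_isConj.mp (hT x b hb))
  have hsum : ∀ f : H → ℂ, Cfsg.IsClassFunction H f → ∑ x : G, ext f x = (m : ℂ) * ∑ h : H, f h := by
    intro f hf
    rw [← Finset.sum_fiberwise Finset.univ T (ext f),
      ← Finset.sum_fiberwise Finset.univ (fun y : H => ConjClasses.mk y) f, Finset.mul_sum]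
    refine Finset.sum_congr rfl fun C _ => ?_
    obtain ⟨h, rfl⟩ := ConjClasses.mk_surjective C
    rw [Finset.sum_congr rfl (g := fun _ => f h) fun x hx =>
        isClassFunction_iff.mp hf _ _ (ConjClasses.mk_eq_mk_iff_isConj.mp (Finset.mem_filter.mp hx).2),
      Finset.sum_congr rfl (g := fun _ => f h) fun y hy =>
        isClassFunction_iff.mp hf _ _ (ConjClasses.mk_eq_mk_iff_isConj.mp (Finset.mem_filter.mp hy).2),
      Finset.sum_const, Finset.sum_const, ← Fintype.card_subtype, ← Fintype.card_subtype,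
      ← Nat.card_eq_fintype_card, ← Nat.card_eq_fintype_card, ← heq, nsmul_eq_mul, nsmul_eq_mul]
    push_cast
    ring
  have hirr : ∀ χ : Cfsg.IrrCharacter H, Cfsg.IsIrrCharacter G (ext χ) := by
    intro χ
    have hχc := isClassFunction_of_isIrr χ.2
    have hgen : Cfsg.IsGeneralizedCharacter G (ext χ) := by
      refine isGen_of_elementary (fun x b => ?_) fun E p hp hE => ?_
      · have hb : (a x * b⁻¹) * piPart m n (b * x * b⁻¹) * (a x * b⁻¹)⁻¹ ∈ H := by
          rw [piPart_conj]
          simpa [mul_assoc] using ha x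
        rw [hext _ hχc _ _ hb]
        refine congrArg (χ : H → ℂ) (Subtype.ext ?_)
        show a x * b⁻¹ * piPart m n (b * x * b⁻¹) * (a x * b⁻¹)⁻¹ = a x * piPart m n x * (a x)⁻¹
        rw [piPart_conj]
        group
      · have := Fintype.ofFinite E
        have := isNilpotent_of_isElementary hp hE
        have hd : Nat.card E ∣ m * n := hcard ▸ Subgroup.card_subgroup_dvd_card E
        set B := piSubgroup hcop hd
        have hB' : Cfsg.IsElementary p (B.map E.subtype) :=
          isElementary_of_mulEquiv (B.equivMapOfInjective E.subtype E.subtype_injective)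
            (isElementary_subgroup hp hE B)
        obtain ⟨b, hb⟩ := helem _ p hp hB' (by
          rw [Subgroup.card_map_of_injective E.subtype_injective]
          exact card_piSubgroup_dvd hcop hd)
        have hmem : ∀ x : E, b * piPart m n (x : G) * b⁻¹ ∈ H := fun x =>
          hb ⟨piPart m n (x : G), ⟨piPart m n x, piPart_pow_eq_one (pow_eq_one_of_dvd hd x),
            map_piPart E.subtype m n x⟩, rfl⟩
        let ψ : E →* H := MonoidHom.mk' (fun x => ⟨_, hmem x⟩) fun x y => by
          refine Subtype.ext ?_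
          show b * piPart m n ((x * y : E) : G) * b⁻¹ =
            b * piPart m n (x : G) * b⁻¹ * (b * piPart m n (y : G) * b⁻¹)
          rw [← Subgroup.coe_subtype, ← map_piPart, piPart_mul hcop hd, map_mul, map_piPart,
            map_piPart, Subgroup.coe_subtype]
          group
        have : (fun e : E => ext χ e) = (χ : H → ℂ) ∘ ψ :=
          funext fun x => hext _ hχc _ _ (hmem x)
        rw [this]
        exact isGen_of_char (isCharacter_comp (isCharacter_of_isIrr χ.2) ψ)
    refine gen_norm_one_pos hgen ?_ ?_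
    · have h1 := hsum (fun h => (χ : H → ℂ) h * conj ((χ : H → ℂ) h))
        (isClassFunction_mul hχc (isClassFunction_conj hχc))
      rw [show ∑ h : H, (χ : H → ℂ) h * conj ((χ : H → ℂ) h) = (Nat.card H : ℂ) by
        rw [← card_mul_classInner, classInner_irr_self χ.2, mul_one]] at h1
      rw [classInner_def, inv_mul_eq_iff_eq_mul₀ card_ne_zero', mul_one, hcard, hn, Nat.cast_mul]
      exact h1
    · have h1 : (1 : G) * piPart m n 1 * (1 : G)⁻¹ ∈ H := by simp [piPart]
      rw [hext _ hχc 1 1 h1, show (⟨_, h1⟩ : H) = 1 from Subtype.ext (by simp [piPart])]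
      obtain ⟨d, hd0, hd⟩ := exists_degree_pos χ.2
      rw [hd]
      simpa using hd0
  -- the complement
  let K : Subgroup G := ⨅ χ : Cfsg.IrrCharacter H, charKer (isCharacter_of_isIrr (hirr χ))
  have hKn : K.Normal := Subgroup.normal_iInf_normal fun χ => charKer_normal _
  have hKmem : ∀ x, x ∈ K ↔ piPart m n x = 1 := by
    intro x
    simp only [K, Subgroup.mem_iInf, mem_charKer]
    have h1 : (1 : G) * piPart m n 1 * (1 : G)⁻¹ ∈ H := by simp [piPart]
    have hone : ∀ χ : Cfsg.IrrCharacter H, ext χ 1 = (χ : H → ℂ) 1 := fun χ => by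
      rw [hext _ (isClassFunction_of_isIrr χ.2) 1 1 h1,
        show (⟨_, h1⟩ : H) = 1 from Subtype.ext (by simp [piPart])]
    constructor
    · intro hall
      set y : H := ⟨_, ha x⟩
      have hy : y = 1 := by
        by_contra hne
        have hs := sum_degree_mul_apply y
        have hs1 := sum_degree_mul_apply (1 : H)
        rw [if_pos rfl] at hs1
        rw [if_neg hne] at hs
        have hall' : ∀ χ : Cfsg.IrrCharacter H, (χ : H → ℂ) y = (χ : H → ℂ) 1 := fun χ =>
          (hall χ).trans (hone χ)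
        simp only [hall', hs1] at hs
        exact card_ne_zero' hs
      have h2 : a x * piPart m n x * (a x)⁻¹ = 1 := congrArg Subtype.val hy
      simpa [mul_assoc] using congrArg (fun z => (a x)⁻¹ * z * a x) h2
    · intro hx χ
      rw [hone]
      exact congrArg (χ : H → ℂ) (Subtype.ext
        (show a x * piPart m n x * (a x)⁻¹ = 1 by rw [hx, mul_one, mul_inv_cancel]))
  refine ⟨K, hKn, ?_, ?_⟩
  · have hK : Nat.card K = m := by
      have h := heq (ConjClasses.mk 1)
      have h1 : Nat.card {y : H // ConjClasses.mk y = ConjClasses.mk (1 : H)} = 1 := by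
        rw [Nat.card_eq_one_iff_unique]
        exact ⟨⟨fun u v => Subtype.ext ((isConj_one_left.mp (ConjClasses.mk_eq_mk_iff_isConj.mp u.2)).trans
          (isConj_one_left.mp (ConjClasses.mk_eq_mk_iff_isConj.mp v.2)).symm)⟩, ⟨⟨1, rfl⟩⟩⟩
      rw [h1, mul_one] at h
      rw [h]
      refine Nat.card_congr (Equiv.subtypeEquivRight fun x => ?_)
      rw [hKmem, hTiff, Subgroup.coe_one]
      exact ⟨fun e => e ▸ IsConj.refl _, fun e => isConj_one_left.mp e⟩
    refine (Subgroup.isComplement'_of_coprime ?_ ?_).sup_eq_top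
    · rw [hK, hcard]
    · rw [hK]; exact hcop
  · rw [eq_bot_iff]
    rintro x ⟨hxK, hxH⟩
    rw [Subgroup.mem_bot, ← (hKmem x).mp hxK, piPart_eq_self hcop]
    exact orderOf_dvd_iff_pow_eq_one.mp (Subgroup.orderOf_dvd_natCard _ hxH)

end CfsgLib.Char
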