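import Cfsg.Agent.Lib.Blocks.Orth
import Cfsg.Agent.Lib.Blocks.PrincipalSection
import Cfsg.Agent.Lib.Blocks.GaloisInv
import Cfsg.Agent.Lib.Char.Burnside
import Cfsg.Agent.Lib.Char.Linear
import Cfsg.Agent.Lib.CharNormal.Kernel
import Cfsg.Agent.Lib.Cores.Fitting
import Cfsg.Agent.Lib.Solvable.Fitting
import Cfsg.Agent.Lib.Solvable.CoprimeAction
import Cfsg.Agent.Lib.PGroup.CoprimeHall
import Cfsg.Agent.Lib.ThreeTransp.Solv

/-!
Kazarin's theorem: an element with a class of prime power size lies in the solvable radical.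

If `x` is a `q`-element and `q` does not divide the class size, no character in the principal `q`-block
vanishes at `x`; weak block orthogonality gives such a character of degree prime to `p` whose kernel does
not contain a given normal subgroup `N` with cyclic `q`-quotient, and Burnside's lemma then puts `x` in
its centre.
-/

set_option autoImplicit false

open scoped Pointwise ComplexConjugate

namespace CfsgLib.PrimePowerClass

open Cfsg Subgroup Module
open scoped IsMulCommutative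

universe u

theorem comm_mem {G : Type u} [Group G] {N : Subgroup G} (hN : N.Normal) (x u : G) (hu : u ∈ N) :
    u⁻¹ * x⁻¹ * u * x ∈ N := by
  rw [mul_assoc, mul_assoc, ← mul_assoc x⁻¹]
  exact mul_mem (inv_mem hu) (by simpa using hN.conj_mem u hu x⁻¹)

/-- With `G = N⟨x⟩`: `x` centralises a nontrivial quotient of `N`. -/
theorem exists_lt_normal {G : Type u} [Group G] [Fintype G] {p q a j : ℕ} (hp : p.Prime) (hq : q.Prime)
    (hpq : p ≠ q) (N : Subgroup G) [N.Normal] (x : G) (hgen : N ⊔ zpowers x = ⊤)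
    (hxo : orderOf x = q ^ j) (hidx : (centralizer ({x} : Set G)).index = p ^ a)
    (hqN : q ∣ Nat.card N) :
    ∃ M : Subgroup G, M.Normal ∧ M < N ∧ ∀ n ∈ N, n⁻¹ * x⁻¹ * n * x ∈ M := by
  classical
  haveI := Fact.mk hq
  obtain ⟨Mi, hM⟩ := CfsgLib.Blocks.exists_isPModular hq
  haveI := hM.2.1
  obtain ⟨y, hy⟩ := exists_prime_orderOf_dvd_card' q hqN
  have hqy : q ∣ orderOf (y : G) := by rw [orderOf_coe, hy]
  -- the quotient is a cyclic `q`-group
  have hquot : ∀ g : G ⧸ N, ∃ i : ℕ, (QuotientGroup.mk' N x) ^ i = g := by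
    intro g
    obtain ⟨g, rfl⟩ := QuotientGroup.mk'_surjective N g
    obtain ⟨n, hn, z, hz, rfl⟩ := CfsgLib.Solvable.exists_mul_of_mem_sup
      (le_normalizer_of_normal (H := N)) (hgen.ge (mem_top g))
    obtain ⟨i, rfl⟩ := (isOfFinOrder_of_finite x).mem_powers_iff_mem_zpowers.2 hz
    exact ⟨i, by rw [map_mul, show QuotientGroup.mk' N n = 1 from (QuotientGroup.eq_one_iff _).2 hn,
      one_mul, map_pow]⟩
  have hcommQ : ∀ u v : G ⧸ N, u * v = v * u := fun u v => by
    obtain ⟨i, rfl⟩ := hquot u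
    obtain ⟨k, rfl⟩ := hquot v
    rw [← pow_add, ← pow_add, add_comm]
  have hpowQ : ∀ u : G ⧸ N, u ^ (q ^ j) = 1 := fun u => by
    obtain ⟨i, rfl⟩ := hquot u
    rw [← pow_mul, mul_comm, pow_mul, ← map_pow, ← hxo, pow_orderOf_eq_one, map_one, one_pow]
  haveI := Fintype.ofFinite (G ⧸ N)
  set B := principalBlock Mi G with hBdef
  -- characters trivial on `N` lie in the principal block
  have hinB : ∀ χ : IrrCharacter G, (∀ n ∈ N, (χ : G → ℂ) n = (χ : G → ℂ) 1) → χ ∈ B := by
    intro χ hker g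
    obtain ⟨ψ, hψ, hψe⟩ := CfsgLib.CharNormal.exists_irr_eq_comp_mk' N χ.2 hker
    have h1 : ψ 1 = 1 := CfsgLib.Char.irr_one_eq_one_of_comm hcommQ hψ
    obtain ⟨m, ρ, hirr, rfl⟩ := hψ
    rw [Representation.char_one] at h1
    obtain ⟨z, hz, hsum⟩ := CfsgLib.Char.exists_roots_char ρ (g : G ⧸ N)
    have hm : finrank ℂ (Fin m → ℂ) = 1 := by exact_mod_cast h1
    have hval : (χ : G → ℂ) g ^ (q ^ j) = 1 := by
      rw [← hψe, Function.comp_apply, hsum]
      have hu : ∀ i₁ i₂ : Fin (finrank ℂ (Fin m → ℂ)), i₁ = i₂ := fun i₁ i₂ => by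
        ext; omega
      let i₀ : Fin (finrank ℂ (Fin m → ℂ)) := ⟨0, by omega⟩
      rw [Finset.sum_eq_single i₀ (fun b _ hb => absurd (hu b i₀) hb) (by simp)]
      obtain ⟨c, hc⟩ := orderOf_dvd_of_pow_eq_one (hpowQ (g : G ⧸ N))
      rw [hc, pow_mul, hz i₀, one_pow]
    have hone : (χ : G → ℂ) 1 = 1 := by
      rw [← hψe, Function.comp_apply, QuotientGroup.mk_one, Representation.char_one]
      exact h1
    have hint : IsIntegral ℤ ((χ : G → ℂ) g) :=
      IsIntegral.of_pow (pow_pos hq.pos j) (by rw [hval]; exact isIntegral_one)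
    have hz' : CfsgLib.Blocks.res Mi ⟨_, CfsgLib.Blocks.algInt_le_locRing Mi hint⟩ = 1 :=
      CfsgLib.Blocks.res_pPow_rootOfUnity Mi hM (Subtype.ext (by simpa using hval))
    let L : CfsgLib.Blocks.locRing Mi := ⟨_, CfsgLib.Blocks.algInt_le_locRing Mi hint⟩
    have : MemLocalIdeal Mi ((((centralizer ({g} : Set G)).index : CfsgLib.Blocks.locRing Mi) * (1 - L) : CfsgLib.Blocks.locRing Mi) : ℂ) := by
      rw [← CfsgLib.Blocks.res_eq_zero_iff, map_mul, map_sub, map_one, hz', sub_self, mul_zero]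
    convert this using 1
    simp only [centralChar, hone, L, Subring.coe_mul, AddSubgroupClass.coe_sub, Subring.coe_natCast, Subring.coe_one]
    ring
  have hS : ∑ χ : IrrCharacter G, (if (∀ n ∈ N, (χ : G → ℂ) n = (χ : G → ℂ) 1) then
      (χ : G → ℂ) 1 * conj ((χ : G → ℂ) y) else 0) = (Nat.card (G ⧸ N) : ℂ) := by
    rw [← Finset.sum_filter, ← (CfsgLib.Char.sum_degree_mul_apply (G := G ⧸ N) 1).trans (if_pos rfl)]
    refine (Finset.sum_bij' (fun χ hχ => (CfsgLib.CharNormal.inflEquiv N).symm ⟨χ, (Finset.mem_filter.1 hχ).2⟩)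
      (fun ψ _ => (CfsgLib.CharNormal.inflEquiv N ψ).1) (fun _ _ => Finset.mem_univ _)
      (fun ψ _ => Finset.mem_filter.2 ⟨Finset.mem_univ _, (CfsgLib.CharNormal.inflEquiv N ψ).2⟩)
      (fun χ hχ => by simp) (fun ψ _ => by simp) (fun χ hχ => ?_))
    have h2 := (Finset.mem_filter.1 hχ).2
    rw [h2 y y.2, CfsgLib.Char.char_conj_one (CfsgLib.Char.isCharacter_of_isIrr χ.2),
      ← QuotientGroup.mk_one N, ← CfsgLib.CharNormal.inflEquiv_apply N, Equiv.apply_symm_apply]
  haveI := Classical.decPred (· ∈ B)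
  have hW := CfsgLib.Blocks.weak_orthogonality hM (CfsgLib.Blocks.isPBlock_principalBlock (G := G))
    (x := 1) (y := (y : G)) (by rw [orderOf_one]; exact hq.not_dvd_one) hqy
  obtain ⟨χ, hχB, hχN, hχp⟩ : ∃ χ : IrrCharacter G, χ ∈ B ∧
      ¬ (∀ n ∈ N, (χ : G → ℂ) n = (χ : G → ℂ) 1) ∧ ∀ d : ℕ, (χ : G → ℂ) 1 = d → ¬ p ∣ d := by
    by_contra hne
    push_neg at hne
    set R : ℂ := ∑ χ : IrrCharacter G, (if χ ∈ B ∧ ¬ (∀ n ∈ N, (χ : G → ℂ) n = (χ : G → ℂ) 1) then
      ((χ : G → ℂ) 1 / p) * conj ((χ : G → ℂ) y) else 0) with hR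
    have hRint : IsIntegral ℤ R := by
      refine IsIntegral.sum _ fun χ _ => ?_
      split_ifs with hc
      · obtain ⟨d, hd, e, rfl⟩ := hne χ hc.1 (by
          obtain ⟨n, hn, hn'⟩ := not_forall₂.1 hc.2
          exact ⟨n, hn, hn'⟩)
        rw [hd, Nat.cast_mul, mul_div_cancel_left₀ _ (Nat.cast_ne_zero.2 hp.ne_zero)]
        refine (isIntegral_algebraMap (x := (e : ℤ))).mul ?_
        rw [← CfsgLib.Char.char_inv (CfsgLib.Char.isCharacter_of_isIrr χ.2)]
        obtain ⟨m, ρ, hirr, hρ⟩ := χ.2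
        rw [← hρ]
        exact CfsgLib.Char.character_isIntegral ρ _
      · exact isIntegral_zero
    have hsum : (Nat.card (G ⧸ N) : ℂ) + (p : ℂ) * R = 0 := by
      rw [← hW, ← hS, hR, Finset.mul_sum, ← Finset.sum_add_distrib]
      refine Finset.sum_congr rfl fun χ _ => ?_
      by_cases hk : ∀ n ∈ N, (χ : G → ℂ) n = (χ : G → ℂ) 1
      · rw [if_pos hk, if_neg (fun h => h.2 hk), mul_zero, add_zero, if_pos (hinB χ hk)]
      · rw [if_neg hk, zero_add]
        by_cases hb : χ ∈ B
        · rw [if_pos hb, if_pos ⟨hb, hk⟩, ← mul_assoc,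
            mul_div_cancel₀ _ (Nat.cast_ne_zero.2 hp.ne_zero)]
        · rw [if_neg hb, if_neg (fun h => hb h.1), mul_zero]
    have hr : R = ((-(Nat.card (G ⧸ N) : ℚ) / p : ℚ) : ℂ) := by
      push_cast
      rw [eq_div_iff (Nat.cast_ne_zero.2 hp.ne_zero)]
      linear_combination hsum
    obtain ⟨z, hz⟩ := (CfsgLib.Blocks.isIntegral_rat_iff _).1 (hr ▸ hRint)
    rw [eq_div_iff (Nat.cast_ne_zero.2 hp.ne_zero)] at hz
    have hdvd : (p : ℤ) ∣ (Nat.card (G ⧸ N) : ℤ) := ⟨-z, by
      have h1 : ((z * p : ℤ) : ℚ) = ((-(Nat.card (G ⧸ N) : ℤ) : ℤ) : ℚ) := by push_cast; exact hz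
      have h2 := Int.cast_injective h1
      linarith⟩
    obtain ⟨i, hi⟩ := (IsPGroup.iff_card (p := q) (G := G ⧸ N)).1 (fun u => ⟨j, hpowQ u⟩)
    rw [hi] at hdvd
    exact hpq ((Nat.prime_dvd_prime_iff_eq hp hq).1 (hp.dvd_of_dvd_pow (Int.natCast_dvd_natCast.1 hdvd)))
  obtain ⟨m, ρ, hirr, hρ⟩ := χ.2
  have hdeg : (χ : G → ℂ) 1 = (finrank ℂ (Fin m → ℂ) : ℂ) := by rw [← hρ, Representation.char_one]
  have hcop : Nat.Coprime (finrank ℂ (Fin m → ℂ)) (centralizer ({x} : Set G)).index := by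
    rw [hidx]; exact Nat.Coprime.pow_right _ (hp.coprime_iff_not_dvd.2 (hχp _ hdeg)).symm
  have hne0 : ρ.character x ≠ 0 := by
    intro h0
    have hb : MemLocalIdeal Mi (centralChar (fun _ : G => (1 : ℂ)) x - centralChar (χ : G → ℂ) x) :=
      hχB x
    rw [centralChar, centralChar, ← hρ, h0] at hb
    simp only [mul_one, div_one, mul_zero, zero_div, sub_zero] at hb
    have : q ∣ (centralizer ({x} : Set G)).index :=
      (CfsgLib.Blocks.res_natCast_eq_zero_iff Mi hM _).1 ((CfsgLib.Blocks.res_eq_zero_iff Mi _).2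
        (by simpa using hb))
    rw [hidx] at this
    exact hpq.symm ((Nat.prime_dvd_prime_iff_eq hq hp).1 (hq.dvd_of_dvd_pow this))
  obtain ⟨ω, hω⟩ := (CfsgLib.Char.norm_character_eq_iff ρ x).1
    ((CfsgLib.Char.zero_or_norm_eq ρ x hcop).resolve_left hne0)
  let ρ' : G →* Module.End ℂ (Fin m → ℂ) := ρ
  let K : Subgroup G := ρ'.ker
  refine ⟨N ⊓ K, inferInstance, lt_of_le_of_ne inf_le_left fun e => hχN fun n hn => ?_, fun n hn => ⟨?_, ?_⟩⟩
  · have hnk : ρ n = 1 := MonoidHom.mem_ker.1 (inf_eq_left.1 e hn)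
    rw [← hρ]
    simp only [Representation.character, hnk, map_one]
  · show n⁻¹ * x⁻¹ * n * x ∈ N
    exact comm_mem ‹N.Normal› x n hn
  · show ρ _ = 1
    have hc : ρ n * ρ x = ρ x * ρ n := by
      rw [hω]
      exact LinearMap.ext fun v => by simp
    have e1 : ρ (n⁻¹ * x⁻¹ * n * x) = ρ (n⁻¹ * x⁻¹) * (ρ n * ρ x) := by simp only [map_mul, mul_assoc]
    rw [e1, hc, ← map_mul, ← map_mul, show n⁻¹ * x⁻¹ * (x * n) = 1 by group, map_one]

/-- A `q`-element with `p`-power class size relative to a normal subgroup without nilpotent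
normal subgroups centralises it. -/
theorem commute_aux {p q : ℕ} (hp : p.Prime) (hq : q.Prime) (hpq : p ≠ q) : ∀ (n : ℕ) (G : Type u) [Group G] [Finite G]
    (N : Subgroup G), N.Normal → Nat.card N = n → ∀ x : G, (∃ j, orderOf x = q ^ j) →
      (∃ a, (centralizer ({x} : Set G)).relIndex N = p ^ a) →
      (∀ S : Subgroup N, S.Normal → Group.IsNilpotent S → S = ⊥) → ∀ u ∈ N, x * u = u * x := by
  intro n
  induction n using Nat.strong_induction_on with
  | _ n ih =>
  intro G _ _ N hNn hn x ⟨j, hxo⟩ ⟨a, ha⟩ hrad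
  -- commutators with `x`
  have hbot : ∀ S : Subgroup N, Group.IsNilpotent S → (∀ (u : G) (hu : u ∈ N), (⟨u⁻¹ * x⁻¹ * u * x, comm_mem hNn x u hu⟩ : N) ∈ S) →
      S.Normal → ∀ u ∈ N, x * u = u * x := by
    intro S hS hmem hSn u hu
    have h1 := hmem u hu
    rw [hrad S hSn hS, mem_bot] at h1
    have h2 : u⁻¹ * x⁻¹ * u * x = 1 := congrArg Subtype.val h1
    calc x * u = x * u * (u⁻¹ * x⁻¹ * u * x) := by rw [h2, mul_one]
      _ = u * x := by group
  haveI := hNn
  set G1 := N ⊔ zpowers x with hG1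
  have hx1 : x ∈ G1 := mem_sup_right (mem_zpowers x)
  haveI hN1n : (N.subgroupOf G1).Normal := inferInstance
  set x1 : G1 := ⟨x, hx1⟩
  have hgen1 : N.subgroupOf G1 ⊔ zpowers x1 = ⊤ := by
    refine top_le_iff.1 fun g _ => ?_
    obtain ⟨m, hm, z, hz, he⟩ := CfsgLib.Solvable.exists_mul_of_mem_sup
      (le_normalizer_of_normal (H := N)) g.2
    obtain ⟨i, rfl⟩ := mem_zpowers_iff.1 hz
    rw [show g = ⟨m, mem_sup_left hm⟩ * x1 ^ i from Subtype.ext (by rw [coe_mul, coe_zpow, show ((x1 : G1) : G) = x from rfl]; exact (show (g : G) = m * x ^ i from he))]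
    exact mul_mem (mem_sup_left hm) (mem_sup_right (zpow_mem (mem_zpowers x1) i))
  have hC1 : centralizer ({x1} : Set G1) = (centralizer ({x} : Set G)).subgroupOf G1 := by
    ext g
    rw [mem_subgroupOf, mem_centralizer_singleton_iff, mem_centralizer_singleton_iff]
    exact ⟨fun h => congrArg Subtype.val h, fun h => Subtype.ext h⟩
  have hidx1 : (centralizer ({x1} : Set G1)).index = p ^ a := by
    rw [hC1]
    show (centralizer ({x} : Set G)).relIndex G1 = _
    rw [← inf_relIndex_right]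
    have hCx : zpowers x ≤ centralizer ({x} : Set G) :=
      zpowers_le.2 (mem_centralizer_singleton_iff.2 rfl)
    have hG : N ⊔ (centralizer ({x} : Set G) ⊓ G1) = G1 :=
      le_antisymm (sup_le le_sup_left inf_le_right) (sup_le le_sup_left ((le_inf hCx le_sup_right).trans le_sup_right))
    have h1 := CfsgLib.PGroup.relIndex_normalizing_sup (N := N) (H := centralizer ({x} : Set G) ⊓ G1)
      (le_normalizer_of_normal (H := N))
    rw [hG] at h1
    rw [h1, ← inf_relIndex_right, inf_assoc, inf_eq_right.2 (le_sup_left : N ≤ G1), inf_relIndex_right, ha]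
  by_cases hqN : q ∣ Nat.card N
  · haveI := Fintype.ofFinite G1
    obtain ⟨M1, hM1n, hM1lt, hM1⟩ := exists_lt_normal hp hq hpq (N.subgroupOf G1) x1 hgen1
      (j := j) (a := a) (by rw [← orderOf_coe]; exact hxo) hidx1
      (by rwa [Nat.card_congr (subgroupOfEquivOfLe (le_sup_left : N ≤ G1)).toEquiv])
    set M := M1.map G1.subtype with hM
    have hMN : M ≤ N := by
      rw [hM, map_le_iff_le_comap]; exact hM1lt.le
    have hMN' : ∀ u ∈ N, ∀ m ∈ M, u⁻¹ * m * u ∈ M := by
      rintro u hu _ ⟨m, hm, rfl⟩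
      exact ⟨⟨u, mem_sup_left hu⟩⁻¹ * m * ⟨u, mem_sup_left hu⟩,
        by simpa using hM1n.conj_mem m hm ⟨u, mem_sup_left hu⟩⁻¹, rfl⟩
    haveI hMsub : (M.subgroupOf N).Normal := ⟨fun m hm g => by
      rw [mem_subgroupOf] at hm ⊢
      have := hMN' (g⁻¹ : N) (g⁻¹).2 _ hm
      simpa using this⟩
    have hradM : ∀ S : Subgroup M1, S.Normal → Group.IsNilpotent S → S = ⊥ := by
      intro S hSn hS
      let e : M1 ≃* M.subgroupOf N :=
        (equivMapOfInjective M1 G1.subtype G1.subtype_injective).trans (subgroupOfEquivOfLe hMN).symm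
      haveI : (S.map e.toMonoidHom).Normal := hSn.map _ e.surjective
      have h1 := CfsgLib.Cores.le_fittingSubgroup (CfsgLib.Cores.isNilpotent_map hS e.toMonoidHom)
      have h2 := hrad _ (CfsgLib.Cores.map_subtype_fittingSubgroup_normal (M.subgroupOf N))
        (CfsgLib.Cores.isNilpotent_map CfsgLib.Cores.isNilpotent_fittingSubgroup _)
      rw [map_eq_bot_iff_of_injective _ (subtype_injective _)] at h2
      rw [h2, le_bot_iff, map_eq_bot_iff_of_injective _ e.injective] at h1
      exact h1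
    have hlt : Nat.card M1 < n := by
      rw [← hn, ← Nat.card_congr (subgroupOfEquivOfLe (le_sup_left : N ≤ G1)).toEquiv]
      exact lt_of_le_of_ne (Nat.le_of_dvd Nat.card_pos (card_dvd_of_le hM1lt.le)) fun e =>
        hM1lt.ne (Subgroup.eq_of_le_of_card_ge hM1lt.le e.ge)
    have hrel : ∃ b, (centralizer ({x1} : Set G1)).relIndex M1 = p ^ b := by
      have h1 : (centralizer ({x1} : Set G1)).relIndex M1 ∣ p ^ a := by
        rw [← hidx1, ← CfsgLib.PGroup.relIndex_normalizing_sup (le_normalizer_of_normal (H := M1))]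
        exact ⟨_, (relIndex_mul_index le_sup_right).symm⟩
      obtain ⟨b, -, hb⟩ := (Nat.dvd_prime_pow hp).1 h1
      exact ⟨b, hb⟩
    have hcM := ih _ hlt G1 M1 hM1n rfl x1 ⟨j, by rw [← orderOf_coe]; exact hxo⟩ hrel hradM
    have hcM' : ∀ m ∈ M, x * m = m * x := by
      rintro _ ⟨m, hm, rfl⟩; exact congrArg Subtype.val (hcM m hm)
    haveI : IsMulCommutative (center (M.subgroupOf N)) := inferInstance
    refine hbot ((center (M.subgroupOf N)).map (M.subgroupOf N).subtype)
      (CfsgLib.Cores.isNilpotent_map (by infer_instance) _) (fun u hu => ?_)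
      (inferInstance)
    have hd : u⁻¹ * x⁻¹ * u * x ∈ M :=
      ⟨_, hM1 ⟨u, mem_sup_left hu⟩ hu, rfl⟩
    refine ⟨⟨⟨_, hMN hd⟩, hd⟩, mem_center_iff.2 fun w => ?_, rfl⟩
    apply Subtype.ext; apply Subtype.ext
    set w' : G := ((w : N) : G)
    have hw : w' ∈ M := w.2
    have h1 : x * (u⁻¹ * (u * w' * u⁻¹) * u) = u⁻¹ * (u * w' * u⁻¹) * u * x := by
      rw [show u⁻¹ * (u * w' * u⁻¹) * u = w' by group]; exact hcM' w' hw
    have h2 : x * (u * w' * u⁻¹) = u * w' * u⁻¹ * x := hcM' _ (by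
      have := hMN' u⁻¹ (inv_mem hu) w' hw; simpa using this)
    show w' * (u⁻¹ * x⁻¹ * u * x) = u⁻¹ * x⁻¹ * u * x * w'
    calc w' * (u⁻¹ * x⁻¹ * u * x) = u⁻¹ * x⁻¹ * (x * (u * w' * u⁻¹)) * x⁻¹ * u * x := by group
      _ = u⁻¹ * x⁻¹ * (u * w' * u⁻¹ * x) * x⁻¹ * u * x := by rw [h2]
      _ = u⁻¹ * x⁻¹ * u * (w' * x) := by group
      _ = u⁻¹ * x⁻¹ * u * (x * w') := by rw [hcM' w' hw]
      _ = u⁻¹ * x⁻¹ * u * x * w' := by group
  · -- coprime action
    haveI := Fact.mk hp
    have hcop : (Nat.card (zpowers x)).Coprime (Nat.card N) := by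
      rw [Nat.card_zpowers, hxo]
      exact Nat.Coprime.pow_left _ (hq.coprime_iff_not_dvd.2 hqN)
    obtain ⟨P, hP⟩ := CfsgLib.Solvable.exists_invariant_sylow (A := zpowers x) (K := N)
      (le_normalizer_of_normal (H := N)) hcop
      (Or.inl inferInstance) p
    set C := (centralizer ({x} : Set G)).subgroupOf N with hC
    have hprod : ∀ g : N, ∃ c ∈ C, ∃ t ∈ (P : Subgroup N), g = c * t := by
      have h := CfsgLib.Solvable.mul_of_coprime_index (H := C) (K := (P : Subgroup N)) (by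
        rw [show C.index = p ^ a from ha]
        exact Nat.Coprime.pow_left _ (hp.coprime_iff_not_dvd.2 P.not_dvd_index))
      exact h
    set d : G → G := fun u => u⁻¹ * x⁻¹ * u * x with hd
    have hdN : ∀ u : N, d u ∈ N := fun u => by
      simp only [hd]
      rw [mul_assoc, mul_assoc, ← mul_assoc x⁻¹]
      exact mul_mem (inv_mem u.2) (by simpa using hNn.conj_mem u u.2 x⁻¹)
    set S := closure (Set.range fun u : N => (⟨d u, hdN u⟩ : N)) with hS
    have hSP : S ≤ P := by
      rw [hS, closure_le]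
      rintro _ ⟨u, rfl⟩
      obtain ⟨c, hc, t, ht, rfl⟩ := hprod u
      have hcx : (c : G) * x = x * c := mem_centralizer_singleton_iff.1 hc
      have e : d ((c * t : N) : G) = (t : G)⁻¹ * (x⁻¹ * t * x) := by
        simp only [hd, coe_mul]
        calc ((c : G) * t)⁻¹ * x⁻¹ * ((c : G) * t) * x
            = (t : G)⁻¹ * ((c : G)⁻¹ * x⁻¹ * c) * t * x := by group
          _ = (t : G)⁻¹ * (((c : G)⁻¹ * x⁻¹ * (c * x) * x⁻¹)) * t * x := by group
          _ = _ := by rw [hcx]; group
      obtain ⟨z, hz, hze⟩ := (mem_normalizer_iff.1 (inv_mem (hP (mem_zpowers x))) (t : G)).1 ⟨t, ht, rfl⟩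
      have hzt : (⟨d ((c * t : N) : G), hdN _⟩ : N) = t⁻¹ * z := by
        apply Subtype.ext
        show d ((c * t : N) : G) = (t : G)⁻¹ * z
        rw [e, show (z : G) = x⁻¹ * t * x by rw [show (z : G) = N.subtype z from rfl, hze, inv_inv]]
      rw [SetLike.mem_coe, show (fun u : N => (⟨d u, hdN u⟩ : N)) (c * t) = t⁻¹ * z from hzt]
      exact mul_mem (inv_mem ht) hz
    have hSn : S.Normal := by
      refine ⟨fun s hs g => ?_⟩
      have hs' : g * s * g⁻¹ ∈ (S : Set N) := by
        induction hs using closure_induction with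
        | mem y hy =>
          obtain ⟨u, rfl⟩ := hy
          have e : g * ⟨d u, hdN u⟩ * g⁻¹ = (⟨d (u * g⁻¹ : N), hdN _⟩ : N) * (⟨d (g⁻¹ : N), hdN _⟩)⁻¹ := by
            apply Subtype.ext
            simp only [hd, coe_mul, coe_inv, inv_inv]
            group
          show g * _ * g⁻¹ ∈ S
          rw [e]
          exact mul_mem (subset_closure ⟨_, rfl⟩) (inv_mem (subset_closure ⟨_, rfl⟩))
        | one => simpa using one_mem S
        | mul y z _ _ hy hz =>
          show g * (y * z) * g⁻¹ ∈ S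
          rw [show g * (y * z) * g⁻¹ = (g * y * g⁻¹) * (g * z * g⁻¹) by group]
          exact mul_mem hy hz
        | inv y _ hy =>
          show g * y⁻¹ * g⁻¹ ∈ S
          rw [show g * y⁻¹ * g⁻¹ = (g * y * g⁻¹)⁻¹ by group]
          exact inv_mem hy
      exact hs'
    exact hbot S (P.2.to_le hSP).isNilpotent (fun u hu => subset_closure ⟨⟨u, hu⟩, rfl⟩) hSn

/-- A normal solvable subgroup containing every normal solvable subgroup. -/
theorem exists_radical (G : Type u) [Group G] [Finite G] : ∃ R : Subgroup G, R.Normal ∧ Group.IsSolvable R ∧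
    ∀ N : Subgroup G, N.Normal → Group.IsSolvable N → N ≤ R := by
  obtain ⟨R, ⟨hRn, hRs⟩, hmax⟩ := Set.Finite.exists_maximal
    (s := {R : Subgroup G | R.Normal ∧ Group.IsSolvable R}) (Set.toFinite _)
    ⟨⊥, inferInstance, inferInstance⟩
  refine ⟨R, hRn, hRs, fun N hN hNs => ?_⟩
  haveI := hRn; haveI := hN
  exact le_sup_left.trans (hmax (show N ⊔ R ∈ {R : Subgroup G | R.Normal ∧ Group.IsSolvable R} from
    ⟨inferInstance, CfsgLib.ThreeTransp.isSolvable_sup_of_le_normalizer hNs hRs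
      (le_normalizer_of_normal (H := R))⟩) le_sup_right)

/-- A `p`-element with `p`-power class size lies in the `p`-core. -/
theorem mem_pCore {G : Type u} [Group G] [Finite G] {p a j : ℕ} [hp : Fact p.Prime] (x : G)
    (hxo : orderOf x = p ^ j) (hx : (centralizer ({x} : Set G)).index = p ^ a) : x ∈ pCore p G := by
  set C := centralizer ({x} : Set G)
  obtain ⟨P, hP⟩ := (IsPGroup.of_card (G := zpowers x) (p := p) (n := j)
    (by rw [Nat.card_zpowers, hxo])).exists_le_sylow
  obtain ⟨S⟩ : Nonempty (Sylow p C) := inferInstance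
  obtain ⟨Q, hQ⟩ := (S.2.map C.subtype).exists_le_sylow
  -- `x` is central in `C`
  have hxS : (⟨x, mem_centralizer_singleton_iff.2 rfl⟩ : C) ∈ (S : Subgroup C) := by
    haveI hn : (zpowers (⟨x, mem_centralizer_singleton_iff.2 rfl⟩ : C)).Normal := ⟨fun y hy g => by
      obtain ⟨i, rfl⟩ := mem_zpowers_iff.1 hy
      have hc : Commute g (⟨x, mem_centralizer_singleton_iff.2 rfl⟩ : C) :=
        Subtype.ext (mem_centralizer_singleton_iff.1 g.2)
      rw [(hc.zpow_right i).eq, mul_inv_cancel_right]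
      exact zpow_mem (mem_zpowers _) i⟩
    exact (IsPGroup.of_card (p := p) (n := j) (by rw [Nat.card_zpowers, ← orderOf_coe, hxo])).le_sylow_of_normal
      S (mem_zpowers _)
  have hxQ : x ∈ (Q : Subgroup G) := hQ ⟨_, hxS, rfl⟩
  have hprod := CfsgLib.Solvable.mul_of_coprime_index (H := (Q : Subgroup G)) (K := C) (by
    rw [hx]; exact Nat.Coprime.pow_right _ (hp.out.coprime_iff_not_dvd.2 Q.not_dvd_index).symm)
  have hle : normalClosure ({x} : Set G) ≤ (Q : Subgroup G) := by
    refine closure_le _ |>.2 fun y hy => ?_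
    obtain ⟨g, hg⟩ := isConj_iff.1 (by simpa [Group.conjugatesOfSet] using hy : y ∈ conjugatesOf x)
    obtain ⟨s, hs, c, hc, rfl⟩ := hprod g
    rw [← hg, show s * c * x * (s * c)⁻¹ = s * (c * x * c⁻¹) * s⁻¹ by group,
      mem_centralizer_singleton_iff.1 hc, mul_inv_cancel_right]
    exact mul_mem (mul_mem hs hxQ) (inv_mem hs)
  haveI := normalClosure_normal (s := ({x} : Set G))
  exact CfsgLib.Cores.le_pCore (Q.2.to_le hle) (subset_normalClosure rfl)

/-- Kazarin: elements with prime power class size lie in the solvable radical. -/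
theorem mem_radical {G : Type u} [Group G] [Finite G] {p : ℕ} (hp : p.Prime) (x : G)
    (hx : ∃ a, (centralizer ({x} : Set G)).index = p ^ a) (R : Subgroup G) [R.Normal] (hRs : Group.IsSolvable R)
    (hR : ∀ N : Subgroup G, N.Normal → Group.IsSolvable N → N ≤ R) : x ∈ R := by
  obtain ⟨a, ha⟩ := hx
  haveI := Fact.mk hp
  have hpart : ∀ q : ℕ, q.Prime → ∀ k : ℕ, (∃ j, orderOf (x ^ k) = q ^ j) → x ^ k ∈ R := by
    rintro q hq k ⟨j, hj⟩
    obtain ⟨b, -, hb⟩ := (Nat.dvd_prime_pow hp).1 (ha ▸ index_dvd_of_le (H := centralizer ({x} : Set G))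
      (K := centralizer ({x ^ k} : Set G)) fun g hg => mem_centralizer_singleton_iff.2
        ((Commute.pow_right (show Commute g x from mem_centralizer_singleton_iff.1 hg) k).eq))
    rcases eq_or_ne p q with rfl | hpq
    · haveI := IsPGroup.isNilpotent (G := pCore p G) (p := p) (CfsgLib.Cores.isPGroup_pCore p)
      haveI := CfsgLib.Cores.pCore_characteristic (G := G) p
      exact hR _ inferInstance inferInstance (mem_pCore (x ^ k) hj hb)
    · set π := QuotientGroup.mk' R
      have hrad : ∀ S : Subgroup (⊤ : Subgroup (G ⧸ R)), S.Normal → Group.IsNilpotent S → S = ⊥ := by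
        intro S hSn hS
        set S' := S.map (⊤ : Subgroup (G ⧸ R)).subtype with hS'
        haveI : S'.Normal := hSn.map _ (fun y => ⟨⟨y, mem_top y⟩, rfl⟩)
        haveI : Group.IsNilpotent S' := CfsgLib.Cores.isNilpotent_map hS _
        have h1 : S'.comap π ≤ R := hR _ inferInstance (by
          let f := π.subgroupComap S'
          refine Group.isSolvable_of_ker_le_range (Subgroup.inclusion
            (show R ≤ S'.comap π from fun r hr => by
              rw [mem_comap, show π r = 1 from (QuotientGroup.eq_one_iff r).2 hr]; exact one_mem _)) f ?_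
          intro z hz
          have : π (z : G) = 1 := congrArg Subtype.val hz
          exact ⟨⟨z, (QuotientGroup.eq_one_iff (z : G)).1 this⟩, rfl⟩)
        have h2 : S' = ⊥ := by
          rw [← map_comap_eq_self_of_surjective (QuotientGroup.mk'_surjective R) S', eq_bot_iff,
            map_le_iff_le_comap, MonoidHom.comap_bot, QuotientGroup.ker_mk']
          exact h1
        rwa [hS', map_eq_bot_iff_of_injective _ (subtype_injective _)] at h2
      have hjb : ∃ i, orderOf (π (x ^ k)) = q ^ i := by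
        obtain ⟨i, -, hi⟩ := (Nat.dvd_prime_pow hq).1 (hj ▸ orderOf_map_dvd π (x ^ k))
        exact ⟨i, hi⟩
      have hab : ∃ c, (centralizer ({π (x ^ k)} : Set (G ⧸ R))).relIndex ⊤ = p ^ c := by
        rw [relIndex_top_right]
        obtain ⟨c, -, hc⟩ := (Nat.dvd_prime_pow hp).1 (hb ▸ (index_dvd_of_le (K := centralizer ({π (x ^ k)} : Set (G ⧸ R)))
          (H := (centralizer ({x ^ k} : Set G)).map π) (by
            rintro _ ⟨g, hg, rfl⟩
            rw [mem_centralizer_singleton_iff, ← map_mul, ← map_mul, mem_centralizer_singleton_iff.1 hg])).trans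
          (index_map_dvd _ (QuotientGroup.mk'_surjective R)))
        exact ⟨c, hc⟩
      have hc := commute_aux hp hq hpq _ (G ⧸ R) ⊤ inferInstance rfl (π (x ^ k)) hjb hab hrad
      have hcen : π (x ^ k) ∈ center (G ⧸ R) := mem_center_iff.2 fun g => (hc g (mem_top g)).symm
      have hz := hrad ((center (G ⧸ R)).subgroupOf ⊤) inferInstance
        (Group.nilpotent_of_mulEquiv (subgroupOfEquivOfLe le_top).symm)
      have : (⟨π (x ^ k), mem_top _⟩ : (⊤ : Subgroup (G ⧸ R))) ∈ (center (G ⧸ R)).subgroupOf ⊤ := hcen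
      rw [hz, mem_bot] at this
      exact (QuotientGroup.eq_one_iff _).1 (congrArg Subtype.val this)
  rw [← QuotientGroup.eq_one_iff, ← orderOf_eq_one_iff]
  set o := orderOf ((x : G ⧸ R))
  by_contra hne
  obtain ⟨r, hr, hro⟩ := Nat.exists_prime_and_dvd hne
  set m := orderOf x
  have hdiv : o ∣ m / r ^ m.factorization r := by
    refine orderOf_dvd_of_pow_eq_one ?_
    rw [← QuotientGroup.mk_pow, QuotientGroup.eq_one_iff]
    refine hpart r hr _ ⟨m.factorization r, ?_⟩
    rw [orderOf_pow_of_dvd (Nat.ordCompl_pos r (orderOf_pos x).ne').ne' (Nat.ordCompl_dvd m r),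
      Nat.div_div_self (Nat.ordProj_dvd m r) (orderOf_pos x).ne']
  exact Nat.not_dvd_ordCompl hr (orderOf_pos x).ne' (hro.trans hdiv)

/-- Kazarin: the normal closure of an element with prime power class size is solvable. -/
theorem isSolvable_normalClosure {G : Type u} [Group G] [Finite G] {p : ℕ} (hp : p.Prime) (x : G)
    (hx : ∃ a, (centralizer ({x} : Set G)).index = p ^ a) : Group.IsSolvable (normalClosure ({x} : Set G)) := by
  obtain ⟨R, hRn, hRs, hR⟩ := exists_radical G
  haveI := hRn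
  refine CfsgLib.ThreeTransp.isSolvable_mono (normalClosure_le_normal ?_) hRs
  intro y hy
  rw [Set.mem_singleton_iff.1 hy]
  exact mem_radical hp x hx R hRs hR

/-- Conjugates of an element with `p`-power class size commute when the `p`-core is trivial. -/
theorem commute_conj_of_pCore_eq_bot {G : Type u} [Group G] [Finite G] {p : ℕ} [hp : Fact p.Prime] (x : G)
    (hx : ∃ a, (centralizer ({x} : Set G)).index = p ^ a) (hO : pCore p G = ⊥) (g h : G) :
    (g * x * g⁻¹) * (h * x * h⁻¹) = (h * x * h⁻¹) * (g * x * g⁻¹) := by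
  obtain ⟨R, hRn, hRs, hR⟩ := exists_radical G
  haveI := hRn; haveI := hRs
  obtain ⟨a, ha⟩ := hx
  set F := fittingSubgroup R
  haveI hFn : (F.map R.subtype).Normal := CfsgLib.Cores.map_subtype_fittingSubgroup_normal R
  have hxF : ∀ f ∈ F.map R.subtype, x * f = f * x := by
    intro f hf
    have hle : F.map R.subtype ≤ centralizer ({x} : Set G) := by
      refine (Subgroup.map_mono CfsgLib.Cores.fittingSubgroup_le_iSup_pCore).trans ?_
      rw [Subgroup.map_iSup]
      refine iSup_le fun r => ?_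
      haveI : Fact (r : ℕ).Prime := ⟨Nat.prime_of_mem_primeFactors r.2⟩
      haveI : (pCore (r : ℕ) R).Characteristic := CfsgLib.Cores.pCore_characteristic _
      haveI : ((pCore (r : ℕ) R).map R.subtype).Normal :=
        ConjAct.normal_of_characteristic_of_normal
      have hpg : IsPGroup (r : ℕ) ((pCore (r : ℕ) R).map R.subtype) :=
        (CfsgLib.Cores.isPGroup_pCore (r : ℕ)).map _
      rcases eq_or_ne (r : ℕ) p with e | e
      · have h1 : (pCore (r : ℕ) R).map R.subtype ≤ pCore p G :=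
          CfsgLib.Cores.le_pCore (by rw [← e]; exact hpg)
        rw [hO] at h1
        exact h1.trans bot_le
      · obtain ⟨S⟩ : Nonempty (Sylow r (centralizer ({x} : Set G))) := inferInstance
        obtain ⟨T, hT⟩ := (S.2.map (centralizer ({x} : Set G)).subtype).exists_le_sylow
        have hT' : (T : Subgroup G) ≤ centralizer ({x} : Set G) := by
          have hcard : Nat.card (T : Subgroup G) = Nat.card ((S : Subgroup _).map (centralizer ({x} : Set G)).subtype) := by
            rw [card_map_of_injective (subtype_injective _), Sylow.card_eq_multiplicity,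
              Sylow.card_eq_multiplicity, ← (centralizer ({x} : Set G)).card_mul_index,
              Nat.factorization_mul Nat.card_pos.ne' index_ne_zero_of_finite, Finsupp.coe_add, Pi.add_apply, ha,
              hp.out.factorization_pow, Finsupp.single_eq_of_ne e, add_zero]
          exact (Subgroup.eq_of_le_of_card_ge hT hcard.le).ge.trans (map_subtype_le _)
        exact (hpg.le_sylow_of_normal T).trans hT'
    exact (mem_centralizer_singleton_iff.1 (hle hf)).symm
  have hconj : ∀ k : G, ∃ hk : k * x * k⁻¹ ∈ R, (⟨_, hk⟩ : R) ∈ F := by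
    intro k
    have hxR := mem_radical hp.out x ⟨a, ha⟩ R hRs hR
    have hk := hRn.conj_mem x hxR k
    refine ⟨hk, CfsgLib.Solvable.centralizer_fittingSubgroup_le (mem_centralizer_iff.2 fun f hf => ?_)⟩
    apply Subtype.ext
    show (f : G) * (k * x * k⁻¹) = k * x * k⁻¹ * f
    have h1 := hxF (k⁻¹ * f * k) (by simpa using hFn.conj_mem (f : G) ⟨f, hf, rfl⟩ k⁻¹)
    calc (f : G) * (k * x * k⁻¹) = k * (k⁻¹ * f * k * x) * k⁻¹ := by group
      _ = k * (x * (k⁻¹ * f * k)) * k⁻¹ := by rw [h1]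
      _ = _ := by group
  obtain ⟨hh, hhF⟩ := hconj h
  obtain ⟨hg, hgF⟩ := hconj g
  have h1 := hxF (g⁻¹ * (h * x * h⁻¹) * g) (by simpa using hFn.conj_mem _ ⟨_, hhF, rfl⟩ g⁻¹)
  calc (g * x * g⁻¹) * (h * x * h⁻¹) = g * (x * (g⁻¹ * (h * x * h⁻¹) * g)) * g⁻¹ := by group
    _ = g * (g⁻¹ * (h * x * h⁻¹) * g * x) * g⁻¹ := by rw [h1]
    _ = _ := by group

end CfsgLib.PrimePowerClass
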