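import Cfsg.Agent.Lib.Char.BrauerInduction
import Cfsg.Agent.Lib.Char.Equiv
import Mathlib.RepresentationTheory.Character
import Mathlib.RepresentationTheory.Irreducible

/-!
# Brauer's splitting field theorem: representations over a field with enough roots of unity
-/

set_option autoImplicit false

namespace CfsgLib.Char.Splitting

open Module
open scoped ComplexConjugate

variable {G : Type*} [Group G] (K : Subfield ℂ)

/-- `θ` is the character of a representation over `K`. -/
def IsRealised (θ : G → ℂ) : Prop :=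
  ∃ (n : ℕ) (ρ : Representation K G (Fin n → K)), θ = fun g => ((ρ.character g : K) : ℂ)

variable {K}

/-- Transport along a linear equivalence. -/
noncomputable def transportK {V W : Type*} [AddCommGroup V] [Module K V] [AddCommGroup W]
    [Module K W] (ρ : Representation K G V) (e : V ≃ₗ[K] W) : Representation K G W where
  toFun g := e.conj (ρ g)
  map_one' := by ext x; simp [LinearEquiv.conj_apply_apply]
  map_mul' g h := by ext x; simp [LinearEquiv.conj_apply_apply]

theorem isRealised_char {V : Type*} [AddCommGroup V] [Module K V] [FiniteDimensional K V]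
    (ρ : Representation K G V) : IsRealised K (fun g => ((ρ.character g : K) : ℂ)) := by
  refine ⟨finrank K V, transportK ρ (finBasis K V).equivFun, funext fun g => congrArg Subtype.val ?_⟩
  exact (LinearMap.trace_conj' (ρ g) (finBasis K V).equivFun).symm

theorem IsRealised.zero : IsRealised K (0 : G → ℂ) :=
  ⟨0, Representation.trivial K G (Fin 0 → K), funext fun g => by
    simp [Representation.character, Subsingleton.elim (Representation.trivial K G (Fin 0 → K) g) 0]⟩

theorem IsRealised.add {θ η : G → ℂ} (hθ : IsRealised K θ) (hη : IsRealised K η) :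
    IsRealised K (θ + η) := by
  obtain ⟨n, ρ, rfl⟩ := hθ
  obtain ⟨m, σ, rfl⟩ := hη
  have h := isRealised_char (ρ.prod σ)
  have e : (fun g => (((ρ.prod σ).character g : K) : ℂ)) =
      (fun g => ((ρ.character g : K) : ℂ)) + fun g => ((σ.character g : K) : ℂ) := by
    funext g
    rw [Pi.add_apply, ← AddMemClass.coe_add]
    exact congrArg Subtype.val (LinearMap.trace_prodMap' (ρ g) (σ g))
  rwa [e] at h

theorem IsRealised.nsmul {θ : G → ℂ} (hθ : IsRealised K θ) : ∀ k : ℕ, IsRealised K (k • θ)
  | 0 => by simpa using IsRealised.zero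
  | k + 1 => by rw [succ_nsmul]; exact (IsRealised.nsmul hθ k).add hθ

theorem IsRealised.sum {ι : Type*} (s : Finset ι) {f : ι → G → ℂ}
    (h : ∀ i ∈ s, IsRealised K (f i)) : IsRealised K (∑ i ∈ s, f i) :=
  Finset.sum_induction f (IsRealised K) (fun _ _ => IsRealised.add) IsRealised.zero h

/-- The complexification of a representation over `K`. -/
noncomputable def complexify {n : ℕ} (ρ : Representation K G (Fin n → K)) :
    Representation ℂ G (Fin n → ℂ) :=
  (Matrix.toLinAlgEquiv' (R := ℂ) (n := Fin n)).toMonoidHom.comp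
    ((K.subtype.mapMatrix (m := Fin n)).toMonoidHom.comp
      ((LinearMap.toMatrixAlgEquiv' (R := K) (n := Fin n)).toMonoidHom.comp ρ))

theorem toMatrix'_complexify {n : ℕ} (ρ : Representation K G (Fin n → K)) (g : G) :
    LinearMap.toMatrix' (complexify ρ g) = (LinearMap.toMatrix' (ρ g)).map K.subtype :=
  LinearMap.toMatrix'_toLin' _

theorem character_complexify {n : ℕ} (ρ : Representation K G (Fin n → K)) (g : G) :
    (complexify ρ).character g = ((ρ.character g : K) : ℂ) := by
  rw [Representation.character, Representation.character,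
    LinearMap.trace_eq_matrix_trace ℂ (Pi.basisFun ℂ (Fin n)),
    LinearMap.trace_eq_matrix_trace K (Pi.basisFun K (Fin n)), LinearMap.toMatrix_eq_toMatrix',
    LinearMap.toMatrix_eq_toMatrix', toMatrix'_complexify]
  exact (AddMonoidHom.map_trace K.subtype.toAddMonoidHom _).symm

theorem IsRealised.isCharacter {θ : G → ℂ} (h : IsRealised K θ) : Cfsg.IsCharacter G θ := by
  obtain ⟨n, ρ, rfl⟩ := h
  exact ⟨n, complexify ρ, funext fun g => character_complexify ρ g⟩

variable [Fintype G]

/-- Induction principle over the decomposition into simple representations. -/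
theorem IsRealised.induction {P : (G → ℂ) → Prop} (h0 : P 0)
    (hadd : ∀ θ η, P θ → P η → P (θ + η))
    (hsimple : ∀ (n : ℕ) (ρ : Representation K G (Fin n → K)), ρ.IsIrreducible →
      P (fun g => ((ρ.character g : K) : ℂ)))
    {θ : G → ℂ} (hθ : IsRealised K θ) : P θ := by
  classical
  obtain ⟨n, ρ, rfl⟩ := hθ
  induction n using Nat.strong_induction_on with
  | _ n ih =>
  rcases Nat.eq_zero_or_pos n with rfl | hn
  · convert h0
    simp [Representation.character, Subsingleton.elim (ρ _) 0]
  by_cases hirr : ρ.IsIrreducible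
  · exact hsimple n ρ hirr
  obtain ⟨U, hU0, hU1⟩ : ∃ U : Subrepresentation ρ, U.toSubmodule ≠ ⊥ ∧ U.toSubmodule ≠ ⊤ := by
    by_contra hcon
    push Not at hcon
    refine hirr { exists_pair_ne := ⟨⊥, ⊤, fun e => ?_⟩, eq_bot_or_eq_top := fun U => ?_ }
    · have h : (⊥ : Submodule K (Fin n → K)) = ⊤ := congrArg Subrepresentation.toSubmodule e
      have h2 := congrArg (fun S : Submodule K (Fin n → K) => finrank K S) h
      simp only [finrank_bot, finrank_top, Module.finrank_fin_fun] at h2
      omega
    · rcases eq_or_ne U.toSubmodule ⊥ with h | h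
      · exact Or.inl (Subrepresentation.toSubmodule_injective h)
      · exact Or.inr (Subrepresentation.toSubmodule_injective (hcon U h))
  have : NeZero (Nat.card G : K) := ⟨Nat.cast_ne_zero.mpr Nat.card_pos.ne'⟩
  obtain ⟨U', hc⟩ := exists_isCompl U
  have hc' : IsCompl U.toSubmodule U'.toSubmodule :=
    ⟨disjoint_iff.mpr (congrArg Subrepresentation.toSubmodule hc.disjoint.eq_bot),
      codisjoint_iff.mpr (congrArg Subrepresentation.toSubmodule hc.codisjoint.eq_top)⟩
  let e : (U.toRepresentation.prod U'.toRepresentation).Equiv ρ :=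
    Representation.Equiv.mk (Submodule.prodEquivOfIsCompl _ _ hc') fun g => by
      refine LinearMap.ext fun x => ?_
      show ((U.toRepresentation g x.1 : Fin n → K)) + (U'.toRepresentation g x.2 : Fin n → K) =
        ρ g ((x.1 : Fin n → K) + x.2)
      rw [map_add]
      rfl
  have hdim := Submodule.finrank_add_eq_of_isCompl hc'
  rw [Module.finrank_fin_fun] at hdim
  have hpos : 0 < finrank K U.toSubmodule :=
    Nat.pos_of_ne_zero fun h => hU0 (Submodule.finrank_eq_zero.mp h)
  have hpos' : 0 < finrank K U'.toSubmodule := Nat.pos_of_ne_zero fun h => hU1 (by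
    have h' : U'.toSubmodule = ⊥ := Submodule.finrank_eq_zero.mp h
    have h'' := hc'.sup_eq_top
    rwa [h', sup_bot_eq] at h'')
  have h1 := ih _ (by omega) (transportK U.toRepresentation (finBasis K U.toSubmodule).equivFun)
  have h2 := ih _ (by omega) (transportK U'.toRepresentation (finBasis K U'.toSubmodule).equivFun)
  convert hadd _ _ h1 h2 using 1
  funext g
  rw [Pi.add_apply, ← AddMemClass.coe_add]
  refine congrArg Subtype.val ?_
  rw [← congrFun (Representation.char_iso e) g]
  exact (LinearMap.trace_prodMap' _ _).trans (congrArg₂ (· + ·)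
    (LinearMap.trace_conj' _ _).symm (LinearMap.trace_conj' _ _).symm)

/-- Distinct irreducible characters have vanishing convolution. -/
theorem sum_mul_eq_zero {χ χ' : G → ℂ} (hχ : Cfsg.IsIrrCharacter G χ)
    (hχ' : Cfsg.IsIrrCharacter G χ') (hne : χ ≠ χ') (g : G) :
    ∑ b : G, χ' b⁻¹ * χ (g * b) = 0 := by
  obtain ⟨n, ρ, hirr, rfl⟩ := id hχ
  obtain ⟨c, hc⟩ := exists_eq_smul_id ρ (∑ b : G, χ' b⁻¹ • ρ b) fun a => by
    rw [← Module.End.mul_eq_comp, ← Module.End.mul_eq_comp, Finset.sum_mul, Finset.mul_sum]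
    refine Fintype.sum_equiv (MulAut.conj a⁻¹).toEquiv _ _ fun b => ?_
    show χ' b⁻¹ • ρ b * ρ a = ρ a * χ' (a⁻¹ * b * a⁻¹⁻¹)⁻¹ • ρ (a⁻¹ * b * a⁻¹⁻¹)
    rw [smul_mul_assoc, mul_smul_comm, ← map_mul, ← map_mul,
      show (a⁻¹ * b * a⁻¹⁻¹)⁻¹ = a⁻¹ * b⁻¹ * a⁻¹⁻¹ by group,
      isClassFunction_of_isIrr hχ' b⁻¹ a⁻¹]
    congr 2
    group
  have h1 := congrArg (LinearMap.trace ℂ _) hc
  rw [map_sum, map_smul, LinearMap.trace_id] at h1
  simp only [map_smul, smul_eq_mul] at h1
  have h2 : ∑ b : G, χ' b⁻¹ * ρ.character b = 0 := by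
    have h := classInner_irr_ne hχ hχ' hne
    rw [classInner_def, mul_eq_zero] at h
    have h3 := h.resolve_left (inv_ne_zero card_ne_zero')
    rw [← h3]
    refine Finset.sum_congr rfl fun b _ => ?_
    rw [char_inv (isCharacter_of_isIrr hχ'), mul_comm]
  have hd : (finrank ℂ (Fin n → ℂ) : ℂ) ≠ 0 := by
    exact_mod_cast (finrank_pos_of_irreducible ρ).ne'
  have hc0 : c = 0 := (mul_eq_zero.mp (h1.symm.trans h2)).resolve_right hd
  have h3 := congrArg (fun T => LinearMap.trace ℂ _ (ρ g * T)) hc
  rw [hc0, zero_smul, mul_zero, map_zero, Finset.mul_sum, map_sum] at h3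
  simp only [mul_smul_comm, map_smul, smul_eq_mul, ← map_mul] at h3
  exact h3

variable (hK : ∀ z : ℂ, z ^ Monoid.exponent G = 1 → z ∈ K)

include hK

theorem irr_mem {χ : G → ℂ} (hχ : Cfsg.IsIrrCharacter G χ) (g : G) : χ g ∈ K := by
  obtain ⟨n, ρ, -, rfl⟩ := hχ
  obtain ⟨z, hz, hsum⟩ := exists_roots_char ρ g
  rw [hsum]
  exact sum_mem fun i _ => hK _ (by
    obtain ⟨k, hk⟩ := Monoid.order_dvd_exponent g
    rw [hk, pow_mul, hz i, one_pow])

/-- A simple representation over `K` has a single constituent. -/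
theorem simple_single {n : ℕ} (ρ : Representation K G (Fin n → K)) [ρ.IsIrreducible] :
    ∃ χ : G → ℂ, Cfsg.IsIrrCharacter G χ ∧ ∃ s : ℕ, 0 < s ∧
      (fun g => ((ρ.character g : K) : ℂ)) = (s : ℂ) • χ := by
  classical
  set θ : G → ℂ := fun g => ((ρ.character g : K) : ℂ) with hθ
  have hθc : Cfsg.IsCharacter G θ := IsRealised.isCharacter ⟨n, ρ, rfl⟩
  obtain ⟨mult, hm, hmi⟩ := char_decomp hθc
  let c : Cfsg.IrrCharacter G → G → K := fun χ g => ⟨χ.1 g⁻¹, irr_mem hK χ.2 _⟩
  let T : Cfsg.IrrCharacter G → Module.End K (Fin n → K) := fun χ => ∑ g, c χ g • ρ g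
  have hcomm : ∀ χ a, T χ ∘ₗ ρ a = ρ a ∘ₗ T χ := by
    intro χ a
    rw [← Module.End.mul_eq_comp, ← Module.End.mul_eq_comp, Finset.sum_mul, Finset.mul_sum]
    refine Fintype.sum_equiv (MulAut.conj a⁻¹).toEquiv _ _ fun b => ?_
    show c χ b • ρ b * ρ a = ρ a * c χ (a⁻¹ * b * a⁻¹⁻¹) • ρ (a⁻¹ * b * a⁻¹⁻¹)
    rw [smul_mul_assoc, mul_smul_comm, ← map_mul, ← map_mul]
    congr 1
    · refine Subtype.ext ?_
      show χ.1 b⁻¹ = χ.1 (a⁻¹ * b * a⁻¹⁻¹)⁻¹
      rw [show (a⁻¹ * b * a⁻¹⁻¹)⁻¹ = a⁻¹ * b⁻¹ * a⁻¹⁻¹ by group,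
        isClassFunction_of_isIrr χ.2 b⁻¹ a⁻¹]
    · congr 1
      group
  have htr : ∀ χ, ((LinearMap.trace K _ (T χ) : K) : ℂ) = (Nat.card G : ℂ) * (mult χ : ℂ) := by
    intro χ
    simp only [T, map_sum, map_smul, smul_eq_mul]
    rw [← hmi χ, card_mul_classInner, AddSubmonoidClass.coe_finset_sum]
    refine Finset.sum_congr rfl fun g _ => ?_
    rw [← char_inv (isCharacter_of_isIrr χ.2), mul_comm]
    rfl
  have hbij : ∀ χ, mult χ ≠ 0 → Function.Injective (T χ) := by
    intro χ hχ
    rcases Representation.IsIrreducible.injective_or_eq_zero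
      (f := (⟨T χ, hcomm χ⟩ : Representation.IntertwiningMap ρ ρ)) with h | h
    · exact h
    · exfalso
      have h0 : T χ = 0 := congrArg Representation.IntertwiningMap.toLinearMap h
      have h1 := htr χ
      rw [h0, map_zero, ZeroMemClass.coe_zero, eq_comm, mul_eq_zero] at h1
      exact hχ (by exact_mod_cast h1.resolve_left card_ne_zero')
  have huniq : ∀ χ χ', mult χ ≠ 0 → mult χ' ≠ 0 → χ = χ' := by
    intro χ χ' h h'
    by_contra hne
    have hz : T χ * T χ' = 0 := by
      simp only [T, Finset.sum_mul, Finset.mul_sum, smul_mul_smul_comm, ← map_mul]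
      calc ∑ b : G, ∑ a : G, (c χ a * c χ' b) • ρ (a * b)
          = ∑ b : G, ∑ g : G, (c χ (g * b⁻¹) * c χ' b) • ρ g :=
            Finset.sum_congr rfl fun b _ => Fintype.sum_equiv (Equiv.mulRight b) _ _ fun a => by
              simp only [Equiv.coe_mulRight, mul_inv_cancel_right]
        _ = ∑ g : G, (∑ b : G, c χ (g * b⁻¹) * c χ' b) • ρ g := by
            rw [Finset.sum_comm]; exact Finset.sum_congr rfl fun g _ => (Finset.sum_smul).symm
        _ = 0 := Finset.sum_eq_zero fun g _ => by
            have : ∑ b : G, c χ (g * b⁻¹) * c χ' b = 0 := by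
              refine Subtype.ext ?_
              rw [AddSubmonoidClass.coe_finset_sum, ZeroMemClass.coe_zero,
                ← sum_mul_eq_zero χ.2 χ'.2 (fun e => hne (Subtype.ext e)) g⁻¹]
              refine Finset.sum_congr rfl fun b _ => ?_
              show χ.1 (g * b⁻¹)⁻¹ * χ'.1 b⁻¹ = χ'.1 b⁻¹ * χ.1 (g⁻¹ * b)
              rw [mul_inv_rev, inv_inv, mul_comm, char_mul_comm' (isCharacter_of_isIrr χ.2)]
            rw [this, zero_smul]
    have : Nontrivial (Fin n → K) := by
      by_contra hN
      rw [not_nontrivial_iff_subsingleton] at hN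
      obtain ⟨a, b, hab⟩ := (inferInstance : Nontrivial (Subrepresentation ρ))
      exact hab (Subrepresentation.toSubmodule_injective (Subsingleton.elim _ _))
    obtain ⟨v, hv⟩ := exists_ne (0 : Fin n → K)
    have h1 := LinearMap.congr_fun hz v
    rw [Module.End.mul_apply, LinearMap.zero_apply] at h1
    exact hv (hbij χ' h' ((hbij χ h (h1.trans (map_zero _).symm)).trans (map_zero _).symm))
  obtain ⟨χ, hχ⟩ : ∃ χ, mult χ ≠ 0 := by
    by_contra hall
    push Not at hall
    have h1 := congrFun hm 1
    simp only [hθ, Representation.char_one, hall, Nat.cast_zero, zero_smul, Finset.sum_const_zero,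
      Pi.zero_apply] at h1
    have hn : n = 0 := by
      rw [Module.finrank_fin_fun] at h1
      exact_mod_cast h1
    subst hn
    obtain ⟨a, b, hab⟩ := (inferInstance : Nontrivial (Subrepresentation ρ))
    exact hab (Subrepresentation.toSubmodule_injective (Subsingleton.elim _ _))
  refine ⟨χ.1, χ.2, mult χ, Nat.pos_of_ne_zero hχ, ?_⟩
  rw [hm]
  refine Finset.sum_eq_single χ (fun α _ hα => ?_) (fun h => absurd (Finset.mem_univ _) h)
  rw [show mult α = 0 from by
    by_contra h
    exact hα (huniq α χ h hχ), Nat.cast_zero, zero_smul]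

/-- Simple representations over `K` with a common constituent have the same multiplicity. -/
theorem simple_same_mult {n n' : ℕ} (ρ : Representation K G (Fin n → K)) [ρ.IsIrreducible]
    (σ : Representation K G (Fin n' → K)) [σ.IsIrreducible] {χ : G → ℂ}
    (hχ : Cfsg.IsIrrCharacter G χ) {s t : ℕ} (hs : 0 < s) (ht : 0 < t)
    (hρ : (fun g => ((ρ.character g : K) : ℂ)) = (s : ℂ) • χ)
    (hσ : (fun g => ((σ.character g : K) : ℂ)) = (t : ℂ) • χ) : s = t := by
  have : Invertible (Nat.card G : K) := invertibleOfNonzero (Nat.cast_ne_zero.mpr Nat.card_pos.ne')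
  have h := congrArg (K.subtype) (Representation.card_inv_mul_sum_char_mul_char_eq_finrank ρ σ)
  rw [map_mul, map_inv₀, map_natCast, map_sum, map_natCast] at h
  have h' : (finrank K (Representation.IntertwiningMap ρ σ) : ℂ) = (t : ℂ) * s := by
    rw [← h]
    calc (Nat.card G : ℂ)⁻¹ * ∑ g : G, K.subtype (σ.character g * ρ.character g⁻¹)
        = Cfsg.classInner ((t : ℂ) • χ) ((s : ℂ) • χ) := by
          rw [classInner_def]
          congr 1
          refine Finset.sum_congr rfl fun g _ => ?_
          rw [map_mul, ← congrFun hσ g, ← congrFun hρ g,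
            ← char_inv (IsRealised.isCharacter (K := K) ⟨n, ρ, rfl⟩) g]
          rfl
      _ = (t : ℂ) * s := by
          rw [classInner_smul_left, classInner_smul_right, classInner_irr_self hχ, map_natCast,
            mul_one]
  have h'' : finrank K (Representation.IntertwiningMap ρ σ) = t * s := by exact_mod_cast h'
  have : Nontrivial (Representation.IntertwiningMap ρ σ) :=
    Module.finrank_pos_iff.mp (h''.symm ▸ Nat.mul_pos ht hs)
  obtain ⟨f, hf⟩ := exists_ne (0 : Representation.IntertwiningMap ρ σ)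
  have hbij := (Representation.IsIrreducible.bijective_or_eq_zero (f := f)).resolve_right hf
  let e : ρ.Equiv σ := Representation.Equiv.mk (LinearEquiv.ofBijective f.toLinearMap hbij)
    fun g => f.isIntertwining' g
  have h1 := congrFun hρ 1
  have h2 := congrFun hσ 1
  simp only [Representation.char_iso e, Pi.smul_apply, smul_eq_mul] at h1 h2
  exact_mod_cast mul_right_cancel₀ (irr_one_ne_zero hχ) (h1.symm.trans h2)

/-- A function induced from a linear character is realised. -/
theorem isRealised_indFun_linear (E : Subgroup G) (lam : E →* ℂˣ) :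
    IsRealised K (Cfsg.indFun E (fun e => (lam e : ℂ))) := by
  classical
  have := Fintype.ofFinite (G ⧸ E)
  have := Fintype.ofFinite E
  set F : G → ℂ := Cfsg.extendByZero E (fun e => (lam e : ℂ)) with hF
  have hFmem : ∀ g, F g ∈ K := by
    intro g
    by_cases hg : g ∈ E
    · rw [hF, extendByZero_of_mem _ hg]
      refine hK _ ?_
      rw [← Units.val_pow_eq_pow_val, ← map_pow,
        show (⟨g, hg⟩ : E) ^ Monoid.exponent G = 1 from Subtype.ext (Monoid.pow_exponent_eq_one g),
        map_one, Units.val_one]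
    · rw [hF, extendByZero_of_notMem _ hg]
      exact zero_mem K
  let rep : G ⧸ E → G := Quotient.out
  have hrep : ∀ x : G ⧸ E, (rep x : G ⧸ E) = x := QuotientGroup.out_eq'
  have hmul : ∀ u v : G, v ∈ E → F (u * v) = F u * F v := by
    intro u v hv
    by_cases hu : u ∈ E
    · rw [hF, extendByZero_of_mem _ hu, extendByZero_of_mem _ hv,
        extendByZero_of_mem _ (E.mul_mem hu hv), ← Units.val_mul, ← map_mul]
      rfl
    · rw [hF, extendByZero_of_notMem _ hu, extendByZero_of_notMem _ (fun h => hu (by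
        simpa using E.mul_mem h (E.inv_mem hv))), zero_mul]
  let A : G → Matrix (G ⧸ E) (G ⧸ E) K := fun g x y => ⟨F ((rep x)⁻¹ * g * rep y), hFmem _⟩
  have hmem : ∀ x y : G ⧸ E, (rep x)⁻¹ * 1 * rep y ∈ E ↔ x = y := fun x y => by
    rw [mul_one, ← QuotientGroup.eq, hrep, hrep]
  let M : G →* Matrix (G ⧸ E) (G ⧸ E) K :=
    { toFun := A
      map_one' := by
        refine Matrix.ext fun x y => Subtype.ext ?_
        show F ((rep x)⁻¹ * 1 * rep y) = _
        by_cases h : x = y
        · subst h
          rw [Matrix.one_apply_eq, hF]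
          simp [extendByZero_of_mem _ E.one_mem]
          exact map_one lam
        · rw [Matrix.one_apply_ne h, hF, extendByZero_of_notMem _ (fun h' => h ((hmem x y).mp h'))]
          rfl
      map_mul' := fun g h => by
        refine Matrix.ext fun x z => Subtype.ext ?_
        rw [Matrix.mul_apply, AddSubmonoidClass.coe_finset_sum]
        show F ((rep x)⁻¹ * (g * h) * rep z) =
          ∑ y, F ((rep x)⁻¹ * g * rep y) * F ((rep y)⁻¹ * h * rep z)
        set y₀ : G ⧸ E := ((h * rep z : G) : G ⧸ E) with hy₀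
        have hy : (rep y₀)⁻¹ * h * rep z ∈ E := by
          rw [mul_assoc, ← QuotientGroup.eq, hrep]
        rw [Finset.sum_eq_single y₀ (fun y _ hne => ?_) (fun h => absurd (Finset.mem_univ _) h),
          ← hmul _ _ hy]
        · congr 1
          group
        · have : F ((rep y)⁻¹ * h * rep z) = 0 := by
            rw [hF]
            refine extendByZero_of_notMem _ fun h' => hne ?_
            rw [mul_assoc, ← QuotientGroup.eq, hrep] at h'
            exact h'
          rw [this, mul_zero] }
  let ρ : Representation K G ((G ⧸ E) → K) :=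
    (Matrix.toLinAlgEquiv' (R := K) (n := G ⧸ E)).toMonoidHom.comp M
  convert isRealised_char ρ using 1
  funext g
  have htr : ρ.character g = Matrix.trace (A g) := by
    rw [Representation.character, LinearMap.trace_eq_matrix_trace K (Pi.basisFun K (G ⧸ E))]
    congr 1
    rw [LinearMap.toMatrix_eq_toMatrix']
    exact LinearMap.toMatrix'_toLin' _
  rw [htr, Matrix.trace, AddSubmonoidClass.coe_finset_sum, indFun_apply]
  have hsum : ∑ a : G, F (a⁻¹ * g * a) =
      ∑ x : G ⧸ E, (Nat.card E : ℂ) * F ((rep x)⁻¹ * g * rep x) := by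
    have hbij : Function.Bijective (fun p : (G ⧸ E) × E => rep p.1 * (p.2 : G)) := by
      constructor
      · rintro ⟨x, e⟩ ⟨y, f⟩ h
        have h1 := congrArg (fun a : G => (a : G ⧸ E)) h
        simp only [QuotientGroup.mk_mul_of_mem _ e.2, QuotientGroup.mk_mul_of_mem _ f.2, hrep] at h1
        subst h1
        exact Prod.ext rfl (Subtype.ext (mul_left_cancel h))
      · exact fun a => ⟨((a : G ⧸ E), ⟨(rep (a : G ⧸ E))⁻¹ * a, QuotientGroup.eq.mp (hrep _)⟩),
          by simp⟩
    rw [← Fintype.sum_bijective _ hbij _ _ fun p => rfl, Fintype.sum_prod_type]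
    refine Finset.sum_congr rfl fun x _ => ?_
    rw [Finset.sum_congr rfl (g := fun _ : E => F ((rep x)⁻¹ * g * rep x)) fun e _ => ?_,
      Finset.sum_const, Finset.card_univ, ← Nat.card_eq_fintype_card, nsmul_eq_mul]
    have hl : Cfsg.IsClassFunction E (fun e => (lam e : ℂ)) :=
      isClassFunction_of_isIrr (isIrrCharacter_units_hom lam)
    have h := extendByZero_conj_mem (fun e : E => (lam e : ℂ)) hl (E.inv_mem e.2)
      ((rep x)⁻¹ * g * rep x)
    rw [hF, ← h]
    congr 1
    group
  rw [hsum, ← Finset.mul_sum, inv_mul_cancel_left₀ (card_subgroup_ne_zero E)]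
  rfl

/-- Every character is realised over `K`. -/
theorem isRealised_of_isCharacter {θ : G → ℂ} (hθ : Cfsg.IsCharacter G θ) : IsRealised K θ := by
  classical
  suffices hirr : ∀ χ : G → ℂ, Cfsg.IsIrrCharacter G χ → IsRealised K χ by
    obtain ⟨mult, hm, -⟩ := char_decomp hθ
    rw [hm]
    refine IsRealised.sum _ fun χ _ => ?_
    rw [Nat.cast_smul_eq_nsmul ℂ]
    exact (hirr χ.1 χ.2).nsmul _
  intro χ hχ
  have hgen : χ ∈ linSpan G := by
    refine brauer_induction ⟨χ, 0, isCharacter_of_isIrr hχ, isCharacter_zero, ?_⟩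
    simp
  -- a simple representation containing `χ`
  have hex : ∃ (n : ℕ) (ρ : Representation K G (Fin n → K)) (s : ℕ), ρ.IsIrreducible ∧ 0 < s ∧
      (fun g => ((ρ.character g : K) : ℂ)) = (s : ℂ) • χ := by
    by_contra hcon
    push Not at hcon
    have hzero : ∀ η, IsRealised K η → Cfsg.classInner η χ = 0 := by
      intro η hη
      refine IsRealised.induction (P := fun η => Cfsg.classInner η χ = 0) classInner_zero_left
        (fun a b ha hb => by rw [classInner_add_left, ha, hb, add_zero]) (fun n ρ hρ => ?_) hη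
      obtain ⟨χ', hχ', s, hs, he⟩ := simple_single hK ρ
      rw [he, classInner_smul_left]
      rcases eq_or_ne χ' χ with rfl | hne
      · exact absurd he (hcon n ρ s hρ hs)
      · rw [classInner_irr_ne hχ' hχ hne, mul_zero]
    have h : Cfsg.classInner χ χ = 0 := by
      refine AddSubgroup.closure_induction (p := fun f _ => Cfsg.classInner f χ = 0) ?_
        classInner_zero_left (fun a b _ _ ha hb => by rw [classInner_add_left, ha, hb, add_zero])
        (fun a _ ha => by rw [classInner_neg_left, ha, neg_zero]) hgen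
      rintro _ ⟨E, lam, -, rfl⟩
      exact hzero _ (isRealised_indFun_linear hK E lam)
    rw [classInner_irr_self hχ] at h
    exact one_ne_zero h
  obtain ⟨n₀, ρ₀, s, hρ₀, hs, he₀⟩ := hex
  have hdvd : ∀ η, IsRealised K η → ∃ k : ℤ, Cfsg.classInner η χ = (s : ℂ) * k := by
    intro η hη
    refine IsRealised.induction (P := fun η => ∃ k : ℤ, Cfsg.classInner η χ = (s : ℂ) * k)
      ⟨0, by rw [classInner_zero_left]; simp⟩ ?_ (fun n ρ hρ => ?_) hη
    · rintro a b ⟨k, hk⟩ ⟨l, hl⟩
      exact ⟨k + l, by rw [classInner_add_left, hk, hl]; push_cast; ring⟩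
    obtain ⟨χ', hχ', t, ht, he⟩ := simple_single hK ρ
    rw [he, classInner_smul_left]
    rcases eq_or_ne χ' χ with rfl | hne
    · refine ⟨1, ?_⟩
      rw [classInner_irr_self hχ, simple_same_mult hK ρ ρ₀ hχ ht hs he he₀]
      simp
    · exact ⟨0, by rw [classInner_irr_ne hχ' hχ hne]; simp⟩
  have h : ∃ k : ℤ, Cfsg.classInner χ χ = (s : ℂ) * k := by
    refine AddSubgroup.closure_induction
      (p := fun f _ => ∃ k : ℤ, Cfsg.classInner f χ = (s : ℂ) * k) ?_
      ⟨0, by rw [classInner_zero_left]; simp⟩ ?_ ?_ hgen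
    · rintro _ ⟨E, lam, -, rfl⟩
      exact hdvd _ (isRealised_indFun_linear hK E lam)
    · rintro a b _ _ ⟨k, hk⟩ ⟨l, hl⟩
      exact ⟨k + l, by rw [classInner_add_left, hk, hl]; push_cast; ring⟩
    · rintro a _ ⟨k, hk⟩
      exact ⟨-k, by rw [classInner_neg_left, hk]; push_cast; ring⟩
  obtain ⟨k, hk⟩ := h
  rw [classInner_irr_self hχ] at hk
  have hk' : (s : ℤ) * k = 1 := by exact_mod_cast hk.symm
  have hs1 : s = 1 := by
    have := Int.eq_one_of_mul_eq_one_right (by positivity) hk'
    exact_mod_cast this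
  exact ⟨n₀, ρ₀, by rw [he₀, hs1]; simp⟩

end CfsgLib.Char.Splitting
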