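import Cfsg.Agent.Lib.Char.ThreeDegreesBasic
import Cfsg.Agent.Lib.Solvable.Fitting
import Cfsg.Agent.Lib.Solvable.WardCore
import Cfsg.Agent.Lib.Fusion.Puig
import Cfsg.Agent.Lib.Cores.Fitting

/-!
# Solvable groups all of whose degrees are squarefree

* nilpotent ones have derived length at most `2`;
* `G ⧸ F(G)` has all its `p`-cores of order dividing `p`, so it is metabelian.
-/

set_option autoImplicit false

namespace CfsgLib.SqfDeg

open CfsgLib.Char CfsgLib.CharNormal CfsgLib.ThreeDeg CfsgLib.Cores Cfsg
open scoped commutatorElement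

universe u

variable {G : Type u} [Group G]

/-- Every irreducible degree is squarefree. -/
def Sqf (G : Type u) [Group G] : Prop :=
  ∀ χ : G → ℂ, Cfsg.IsIrrCharacter G χ → Squarefree (Cfsg.charDegree χ)

theorem Sqf.quotient [Finite G] (h : Sqf G) (N : Subgroup G) [N.Normal] : Sqf (G ⧸ N) := by
  have := Fintype.ofFinite G
  intro ψ hψ
  have h1 := h _ (isIrr_comp_mk' N hψ)
  rwa [deg_of_eq (χ := ψ ∘ QuotientGroup.mk) (ψ := ψ) (by simp)] at h1

theorem Sqf.normal [Finite G] (h : Sqf G) (N : Subgroup G) [N.Normal] : Sqf N := by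
  classical
  have := Fintype.ofFinite G
  have := Fintype.ofFinite N
  intro θ hθ
  obtain ⟨χ, h0⟩ := exists_irr_over N hθ
  exact (h _ χ.2).squarefree_of_dvd (deg_dvd_of_over N χ.2 hθ h0).1

theorem pGroup_derived_two [Finite G] {p : ℕ} [hp : Fact p.Prime] (hG : IsPGroup p G) (h : Sqf G) :
    derivedSeries G 2 = ⊥ := by
  refine derived_two_of_one_degree (s := {p}) (by simp) fun χ hχ => ?_
  have := Fintype.ofFinite G
  have h1 := degree_dvd_card hχ (deg_cast hχ)
  obtain ⟨n, hn⟩ := IsPGroup.iff_card.1 hG
  obtain ⟨k, -, hk⟩ := (Nat.dvd_prime_pow hp.out).1 (hn ▸ h1)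
  rcases k with _ | k
  · exact Or.inl (by rw [hk, pow_zero])
  · have h2 := h χ hχ
    rw [hk, Nat.squarefree_pow_iff hp.out.ne_one (Nat.succ_ne_zero k)] at h2
    have h3 : k + 1 = 1 := h2.2
    rw [hk, h3]
    simp

theorem nilpotent_derived_two [Finite G] [Group.IsNilpotent G] (h : Sqf G) :
    derivedSeries G 2 = ⊥ := by
  refine Subgroup.eq_bot_of_card_eq _ (Nat.coprime_self _ |>.1 ?_)
  refine Nat.coprime_of_dvd fun p hp h1 _ => ?_
  have := Fact.mk hp
  have hN : (pPrimeCore p G).Normal := Subgroup.sSup_normal _ fun _ hM => hM.1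
  have hQ : IsPGroup p (G ⧸ pPrimeCore p G) := by
    refine IsPGroup.of_card (n := (pPrimeCore p G).index.primeFactorsList.length) ?_
    rw [← Subgroup.index]
    refine Nat.eq_prime_pow_of_unique_prime_dvd Subgroup.index_ne_zero_of_finite fun {q} hq hqd => ?_
    by_contra hne
    have := Fact.mk hq
    obtain ⟨Q⟩ : Nonempty (Sylow q G) := inferInstance
    have hQn : (Q : Subgroup G).Normal := inferInstance
    have hle : (Q : Subgroup G) ≤ pPrimeCore p G := by
      refine CfsgLib.Cores.le_pPrimeCore ?_
      obtain ⟨n, hn⟩ := IsPGroup.iff_card.1 Q.2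
      rw [hn]
      exact Nat.Coprime.pow_left _ ((Nat.coprime_primes hq hp).2 hne)
    exact Sylow.not_dvd_index Q (hqd.trans (Subgroup.index_dvd_of_le hle))
  have h2 := derived_le_of_quotient _ (pGroup_derived_two hQ (h.quotient _))
  exact (Nat.Prime.coprime_iff_not_dvd hp).1 (coprime_card_pPrimeCore (G := G) p).symm
    (h1.trans (Subgroup.card_dvd_of_le h2))

/-- The stabilizer of a point in a group of automorphisms. -/
def stab {M : Type*} [Mul M] (Q : Subgroup (MulAut M)) (m : M) : Subgroup Q where
  carrier := {q | (q : MulAut M) m = m}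
  one_mem' := rfl
  mul_mem' := fun {a b} (ha : (a : MulAut M) m = m) (hb : (b : MulAut M) m = m) => by
    show (a : MulAut M) ((b : MulAut M) m) = m
    rw [hb, ha]
  inv_mem' := fun {a} (ha : (a : MulAut M) m = m) => (MulEquiv.symm_apply_eq _).2 ha.symm

theorem mem_stab {M : Type*} [Mul M] {Q : Subgroup (MulAut M)} {m : M} {q : Q} :
    q ∈ stab Q m ↔ (q : MulAut M) m = m := Iff.rfl

section Orbit

variable {M : Type*} [CommGroup M] [Finite M] {p : ℕ} [hp : Fact p.Prime]

/-- A `p`-group of automorphisms of an abelian `p'`-group with all orbits of length dividing `p`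
has order dividing `p`. -/
theorem card_dvd_of_orbits (Q : Subgroup (MulAut M)) (hQ : IsPGroup p Q) (hcop : ¬ p ∣ Nat.card M)
    (h : ∀ m : M, (stab Q m).index ∣ p) : Nat.card Q ∣ p := by
  classical
  have hinj : Function.Injective fun m : M => m ^ p := by
    have hc : (Nat.card M).Coprime p := ((hp.out.coprime_iff_not_dvd).2 hcop).symm
    exact (powCoprime hc).injective
  have hfaith : ∀ q : Q, (∀ m, (q : MulAut M) m = m) → q = 1 := fun q hq =>
    Subtype.ext (MulEquiv.ext hq)
  have hnorm : ∀ m : M, (stab Q m).Normal := by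
    intro m
    rcases (Nat.dvd_prime hp.out).1 (h m) with h1 | h1
    · rw [Subgroup.index_eq_one] at h1
      rw [h1]
      infer_instance
    · refine Subgroup.normal_of_index_eq_minFac_card ?_
      obtain ⟨n, hn⟩ := IsPGroup.iff_card.1 hQ
      have hn0 : n ≠ 0 := by
        rintro rfl
        rw [pow_zero] at hn
        have := (stab Q m).index_dvd_card
        rw [h1, hn, Nat.dvd_one] at this
        exact hp.out.ne_one this
      rw [h1, hn, Nat.Prime.pow_minFac hp.out hn0]
  have hexp : ∀ q : Q, q ^ p = 1 := fun q => hfaith _ fun m => by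
    have := hnorm m
    have h1 : q ^ (stab Q m).index ∈ stab Q m :=
      Subgroup.pow_index_mem _ q
    obtain ⟨c, hc⟩ := h m
    have h2 : q ^ p ∈ stab Q m := by
      conv => rw [hc, pow_mul]
      exact pow_mem h1 c
    exact mem_stab.1 h2
  have hcomm : ∀ a b : Q, a * b = b * a := fun a b => by
    refine commutatorElement_eq_one_iff_mul_comm.1 (hfaith _ fun m => ?_)
    have := hnorm m
    have h1 : ⁅a, b⁆ ∈ stab Q m := by
      rw [← QuotientGroup.eq_one_iff]
      have hc : ∀ x y : Q ⧸ stab Q m, x * y = y * x := by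
        rcases (Nat.dvd_prime hp.out).1 (h m) with h2 | h2
        · have hs : Subsingleton (Q ⧸ stab Q m) :=
            (Nat.card_eq_one_iff_unique.1 h2).1
          exact fun x y => Subsingleton.elim _ _
        · have hcy := isCyclic_of_prime_card (α := Q ⧸ stab Q m) (p := p) h2
          intro x y
          obtain ⟨g, hg⟩ := hcy.exists_generator
          obtain ⟨i, rfl⟩ := hg x
          obtain ⟨j, rfl⟩ := hg y
          show g ^ i * g ^ j = g ^ j * g ^ i
          rw [← zpow_add, ← zpow_add, add_comm]
      show QuotientGroup.mk' (stab Q m) ⁅a, b⁆ = 1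
      rw [map_commutatorElement, commutatorElement_eq_one_iff_mul_comm]
      exact hc _ _
    exact mem_stab.1 h1
  -- some point moves
  by_cases hall : ∀ m : M, (stab Q m).index = 1
  · have h1 : Nat.card Q = 1 := by
      rw [Nat.card_eq_one_iff_unique]
      refine ⟨⟨fun a b => ?_⟩, ⟨1⟩⟩
      have hz : ∀ q : Q, q = 1 := fun q => hfaith q fun m => by
        have h2 : q ∈ stab Q m := by
          rw [Subgroup.index_eq_one.1 (hall m)]
          trivial
        exact mem_stab.1 h2
      rw [hz a, hz b]
    rw [h1]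
    exact one_dvd p
  push Not at hall
  obtain ⟨m₁, hm₁⟩ := hall
  have hi₁ : (stab Q m₁).index = p :=
    ((Nat.dvd_prime hp.out).1 (h m₁)).resolve_left hm₁
  by_cases hs : stab Q m₁ = ⊥
  · rw [hs, Subgroup.index_bot] at hi₁
    rw [hi₁]
  exfalso
  obtain ⟨s, hsS, hs1⟩ := (Subgroup.ne_bot_iff_exists_ne_one.1 hs : ∃ s : stab Q m₁, s ≠ 1) |>.elim
    fun s hs => (⟨s.1, s.2, fun e => hs (Subtype.ext e)⟩ : ∃ s : Q, s ∈ stab Q m₁ ∧ s ≠ 1)
  obtain ⟨m₂, hm₂⟩ : ∃ m₂, (s : MulAut M) m₂ ≠ m₂ := by
    by_contra hc
    push Not at hc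
    exact hs1 (hfaith s hc)
  set σ : MulAut M := (s : MulAut M) with hσ
  have hσp : σ ^ p = 1 := by
    rw [hσ, ← SubmonoidClass.coe_pow, hexp, OneMemClass.coe_one]
  let Nm : M → M := fun m => ∏ i ∈ Finset.range p, (σ ^ i) m
  have hNfix : ∀ m, σ (Nm m) = Nm m := by
    intro m
    have h1 : σ (Nm m) = ∏ i ∈ Finset.range p, (σ ^ (i + 1)) m := by
      show σ (∏ i ∈ Finset.range p, (σ ^ i) m) = _
      rw [map_prod]
      exact Finset.prod_congr rfl fun i _ => by rw [pow_succ', MulAut.mul_apply]
    have h2 := Finset.prod_range_succ' (fun i => (σ ^ i) m) p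
    have h3 := Finset.prod_range_succ (fun i => (σ ^ i) m) p
    rw [h1]
    rw [h3] at h2
    simp only [hσp, pow_zero] at h2
    exact (mul_right_cancel h2).symm
  have hNmul : ∀ a b, Nm (a * b) = Nm a * Nm b := fun a b => by
    show ∏ i ∈ Finset.range p, (σ ^ i) (a * b) = _
    simp only [map_mul, Finset.prod_mul_distrib]
    rfl
  have hNfixed : ∀ m, σ m = m → Nm m = m ^ p := by
    intro m hm
    have hp' : ∀ i : ℕ, (σ ^ i) m = m := by
      intro i
      induction i with
      | zero => rw [pow_zero]; rfl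
      | succ i ih => rw [pow_succ, MulAut.mul_apply, hm, ih]
    show ∏ i ∈ Finset.range p, (σ ^ i) m = _
    rw [Finset.prod_congr rfl fun i _ => hp' i, Finset.prod_const, Finset.card_range]
  have hNcomm : ∀ (u : Q) (m : M), (u : MulAut M) (Nm m) = Nm ((u : MulAut M) m) := by
    intro u m
    show (u : MulAut M) (∏ i ∈ Finset.range p, (σ ^ i) m) = _
    rw [map_prod]
    refine Finset.prod_congr rfl fun i _ => ?_
    have h1 : (u : MulAut M) * σ ^ i = σ ^ i * (u : MulAut M) := by
      have := congrArg Subtype.val (hcomm u (s ^ i))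
      simpa [hσ] using this
    exact DFunLike.congr_fun h1 m
  have hNinv : ∀ a, Nm a⁻¹ = (Nm a)⁻¹ := fun a => by
    show ∏ i ∈ Finset.range p, (σ ^ i) a⁻¹ = _
    simp only [map_inv, Finset.prod_inv_distrib]
    rfl
  set d := m₂ ^ p * (Nm m₂)⁻¹ with hd
  have hNd : Nm d = 1 := by
    rw [hd, hNmul, hNinv, hNfixed _ (hNfix m₂)]
    have h1 : Nm (m₂ ^ p) = Nm m₂ ^ p := by
      show ∏ i ∈ Finset.range p, (σ ^ i) (m₂ ^ p) = _
      simp only [map_pow]
      exact (Finset.prod_pow _ _ _)
    rw [h1, mul_inv_cancel]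
  have hdσ : σ d ≠ d := by
    intro e
    rw [hd, map_mul, map_inv, map_pow, hNfix] at e
    exact hm₂ (hinj (mul_right_cancel e))
  have hle : stab Q (m₁ * d) ≤ stab Q m₁ ⊓ stab Q d := by
    intro u hu
    have hu' : (u : MulAut M) (m₁ * d) = m₁ * d := mem_stab.1 hu
    have h1 : Nm m₁ = m₁ ^ p := hNfixed m₁ (mem_stab.1 hsS)
    have h2 : (u : MulAut M) (Nm (m₁ * d)) = Nm (m₁ * d) := by rw [hNcomm, hu']
    rw [hNmul, hNd, mul_one, h1, map_pow] at h2
    have h3 : (u : MulAut M) m₁ = m₁ := hinj h2
    rw [map_mul, h3] at hu'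
    exact ⟨mem_stab.2 h3, mem_stab.2 (mul_left_cancel hu')⟩
  have hle₁ := hle.trans inf_le_left
  have h4 : (stab Q (m₁ * d)).index = p := by
    refine Nat.dvd_antisymm (h _) ?_
    have := Subgroup.index_dvd_of_le hle₁
    rwa [hi₁] at this
  have h5 : stab Q (m₁ * d) = stab Q m₁ := by
    refine Subgroup.eq_of_le_of_card_ge hle₁ (le_of_eq ?_)
    have e1 := (stab Q (m₁ * d)).card_mul_index
    have e2 := (stab Q m₁).card_mul_index
    rw [h4, ← e2, hi₁] at e1
    exact (Nat.eq_of_mul_eq_mul_right hp.out.pos e1).symm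
  have h6 : s ∈ stab Q d := (hle (h5 ▸ hsS)).2
  exact hdσ (mem_stab.1 h6)

end Orbit

section Linear

variable (N : Subgroup G) [N.Normal]

/-- Conjugation on the linear characters of a normal subgroup. -/
noncomputable def linAut : G →* MulAut (N →* ℂˣ) where
  toFun g :=
    { toFun := fun l => l.comp (MulAut.conjNormal g⁻¹ : MulAut N).toMonoidHom
      invFun := fun l => l.comp (MulAut.conjNormal g : MulAut N).toMonoidHom
      left_inv := fun l => MonoidHom.ext fun n => by
        show l ((MulAut.conjNormal g⁻¹ : MulAut N) ((MulAut.conjNormal g : MulAut N) n)) = l n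
        rw [← MulAut.mul_apply, ← map_mul, inv_mul_cancel, map_one, MulAut.one_apply]
      right_inv := fun l => MonoidHom.ext fun n => by
        show l ((MulAut.conjNormal g : MulAut N) ((MulAut.conjNormal g⁻¹ : MulAut N) n)) = l n
        rw [← MulAut.mul_apply, ← map_mul, mul_inv_cancel, map_one, MulAut.one_apply]
      map_mul' := fun _ _ => rfl }
  map_one' := MulEquiv.ext fun l => MonoidHom.ext fun n => by
    show l ((MulAut.conjNormal (1 : G)⁻¹ : MulAut N) n) = l n
    rw [inv_one, map_one, MulAut.one_apply]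
  map_mul' g h := MulEquiv.ext fun l => MonoidHom.ext fun n => by
    show l ((MulAut.conjNormal (g * h)⁻¹ : MulAut N) n) =
      l ((MulAut.conjNormal h⁻¹ : MulAut N) ((MulAut.conjNormal g⁻¹ : MulAut N) n))
    rw [mul_inv_rev, map_mul, MulAut.mul_apply]

theorem linAut_apply (g : G) (l : N →* ℂˣ) (n : N) :
    linAut N g l n = l ((MulAut.conjNormal g⁻¹ : MulAut N) n) := rfl

end Linear

/-- If `G ⧸ F(G)` is a `p`-group and the degrees are squarefree, its order divides `p`. -/
theorem index_fitting_dvd [Finite G] {p : ℕ} [hp : Fact p.Prime] (h : Sqf G)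
    (hQ : ∀ x : G, ∃ k : ℕ, x ^ p ^ k ∈ fittingSubgroup G) :
    (fittingSubgroup G).index ∣ p := by
  classical
  have := Fintype.ofFinite G
  set F := fittingSubgroup G with hF
  have hFn : F.Normal := fittingSubgroup_normal
  have hOn : (pPrimeCore p G).Normal := Subgroup.sSup_normal _ fun _ hM => hM.1
  set N := pPrimeCore p G ⊓ F with hN
  have hNn : N.Normal := Subgroup.normal_inf_normal _ _
  have hNcop : (Nat.card N).Coprime p :=
    (coprime_card_pPrimeCore (G := G) p).coprime_dvd_left (Subgroup.card_dvd_of_le inf_le_left)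
  have hpN : ¬ p ∣ Nat.card N := (hp.out.coprime_iff_not_dvd).1 hNcop.symm
  have hNnil : Group.IsNilpotent N := by
    have := isNilpotent_fittingSubgroup (G := G)
    exact Group.nilpotent_of_mulEquiv (Subgroup.subgroupOfEquivOfLe (inf_le_right : N ≤ F))
  have hOp : (pCore p G).Normal := Subgroup.sSup_normal _ fun _ hM => hM.1
  have hdec : F ≤ pCore p G ⊔ N := by
    rw [hF, fittingSubgroup_eq_iSup_pCore]
    refine iSup_le fun q => ?_
    by_cases hq : (q : ℕ) = p
    · rw [hq]; exact le_sup_left
    · have := Fact.mk (Nat.prime_of_mem_primeFactors q.2)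
      have hn : (pCore (q : ℕ) G).Normal := Subgroup.sSup_normal _ fun _ hM => hM.1
      refine le_sup_of_le_right (le_inf ?_ (pCore_le_fittingSubgroup _))
      refine CfsgLib.Cores.le_pPrimeCore ?_
      obtain ⟨n, hn⟩ := IsPGroup.iff_card.1 (isPGroup_pCore (G := G) (q : ℕ))
      rw [hn]
      exact Nat.Coprime.pow_left _ ((Nat.coprime_primes (Fact.out) hp.out).2 hq)
  have hP := isPGroup_pCore (G := G) p
  have hPN : ∀ a ∈ pCore p G, ∀ n ∈ N, a * n = n * a := by
    intro a ha n hn
    refine (Subgroup.commute_of_normal_of_disjoint _ _ hOp hNn ?_ a n ha hn)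
    rw [disjoint_iff]
    refine Subgroup.inf_eq_bot_of_coprime ?_
    obtain ⟨k, hk⟩ := IsPGroup.iff_card.1 hP
    rw [hk]
    exact (hNcop.pow_right k).symm
  have hprime_part : ∀ z ∈ F, (orderOf z).Coprime p → z ∈ N := by
    intro z hz hzc
    obtain ⟨a, ha, b, hb, rfl⟩ := Subgroup.mem_sup_of_normal_right.1 (hdec hz)
    suffices ha1 : a ∈ N from mul_mem ha1 hb
    obtain ⟨k, hk⟩ := hP ⟨a, ha⟩
    have hak : a ^ p ^ k = 1 := congrArg Subtype.val hk
    rw [← QuotientGroup.eq_one_iff]
    have h1 : ((a * b : G) : G ⧸ N) = (a : G ⧸ N) := by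
      rw [QuotientGroup.mk_mul, (QuotientGroup.eq_one_iff b).2 hb, mul_one]
    have h2 : orderOf (a : G ⧸ N) ∣ orderOf (a * b) := by
      rw [← h1]
      exact orderOf_map_dvd (QuotientGroup.mk' N) _
    have h3 : orderOf (a : G ⧸ N) ∣ p ^ k :=
      orderOf_dvd_of_pow_eq_one (by rw [← QuotientGroup.mk_pow, hak]; rfl)
    exact orderOf_eq_one_iff.1 (Nat.eq_one_of_dvd_coprimes (hzc.pow_right k) h2 h3)
  -- elements trivial on the linear characters
  set K := (linAut N).ker with hK
  have hKF : F ≤ K := by
    intro f hf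
    obtain ⟨a, ha, b, hb, rfl⟩ := Subgroup.mem_sup_of_normal_right.1 (hdec hf)
    refine mul_mem ?_ ?_
    · refine MonoidHom.mem_ker.2 (MulEquiv.ext fun l => MonoidHom.ext fun n => ?_)
      rw [linAut_apply, MulAut.one_apply]
      congr 1
      refine Subtype.ext ?_
      rw [MulAut.conjNormal_apply, hPN a⁻¹ (inv_mem ha) n n.2, mul_inv_cancel_right]
    · refine MonoidHom.mem_ker.2 (MulEquiv.ext fun l => MonoidHom.ext fun n => ?_)
      rw [linAut_apply, MulAut.one_apply]
      have e : (MulAut.conjNormal b⁻¹ : MulAut N) n = (⟨b, hb⟩ : N)⁻¹ * n * ⟨b, hb⟩ :=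
        Subtype.ext (by rw [MulAut.conjNormal_apply]; simp)
      rw [e, map_mul, map_mul, map_inv, mul_right_comm, inv_mul_cancel, one_mul]
  have hKle : K ≤ F := by
    set C := Subgroup.centralizer (N : Set G) with hC
    have hCn : C.Normal := Subgroup.normal_centralizer
    -- the centralizer is nilpotent
    have hCF : C ≤ F := by
      refine CfsgLib.Cores.le_fittingSubgroup ?_
      have hq : IsPGroup p (C ⧸ Subgroup.center C) := by
        intro q
        induction q using QuotientGroup.induction_on with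
        | H c =>
          obtain ⟨k, hk⟩ := hQ (c : G)
          -- the prime-to-`p` part of `c ^ p ^ k` lies in `N`
          obtain ⟨j, hj⟩ : ∃ j : ℕ, ((c : G) ^ p ^ k) ^ p ^ j ∈ N := by
            refine ⟨(orderOf ((c : G) ^ p ^ k)).factorization p, hprime_part _ (pow_mem hk _) ?_⟩
            rw [orderOf_pow' _ (pow_ne_zero _ hp.out.ne_zero)]
            set o := orderOf ((c : G) ^ p ^ k)
            have hdvd : p ^ o.factorization p ∣ o := Nat.ordProj_dvd o p
            rw [Nat.gcd_eq_right hdvd]
            exact (Nat.coprime_ordCompl hp.out (orderOf_pos _).ne').symm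
          refine ⟨k + j, ?_⟩
          rw [← QuotientGroup.mk_pow, QuotientGroup.eq_one_iff, Subgroup.mem_center_iff]
          intro g
          refine Subtype.ext ?_
          have h1 := (Subgroup.mem_centralizer_iff.1 g.2) _ hj
          rw [← pow_mul, ← pow_add] at h1
          simpa using h1.symm
      have := hq.isNilpotent
      exact Group.of_quotient_center_nilpotent hq.isNilpotent
    intro y hy
    -- reduce to elements of `p`-power order modulo `F`
    obtain ⟨k, hk⟩ := hQ y
    set o := orderOf y with ho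
    have hcop : (o / p ^ o.factorization p).Coprime (p ^ o.factorization p) :=
      ((Nat.coprime_ordCompl hp.out (orderOf_pos y).ne').symm).pow_right _
    set m := o / p ^ o.factorization p with hm
    have hym : y ^ m ∈ C := by
      rw [hC, Subgroup.mem_centralizer_iff]
      intro n hn
      set φ : MulAut N := MulAut.conjNormal (y ^ m) with hφ
      have hφp : φ ^ p ^ o.factorization p = 1 := by
        rw [hφ, ← map_pow, ← pow_mul, hm, Nat.div_mul_cancel (Nat.ordProj_dvd o p), ho,
          pow_orderOf_eq_one, map_one]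
      have hymK : y ^ m ∈ K := pow_mem hy m
      have hder : ∀ x : N, x⁻¹ * φ x ∈ commutator N := by
        intro x
        rw [← QuotientGroup.eq_one_iff]
        show Abelianization.of (x⁻¹ * φ x) = 1
        by_contra hne
        obtain ⟨f, hf⟩ := CommGroup.exists_apply_ne_one_of_hasEnoughRootsOfUnity
          (Abelianization N) ℂ hne
        apply hf
        set l : N →* ℂˣ := f.comp Abelianization.of with hl
        have h1 : linAut N (y ^ m)⁻¹ = 1 := MonoidHom.mem_ker.1 (inv_mem hymK)
        have h2 := DFunLike.congr_fun (DFunLike.congr_fun h1 l) x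
        rw [linAut_apply, inv_inv, MulAut.one_apply] at h2
        show l (x⁻¹ * φ x) = 1
        rw [map_mul, map_inv, h2, inv_mul_cancel]
      set Fx : Subgroup N := φ.toMonoidHom.eqLocus (MonoidHom.id N) with hFx
      have hder_inv : ∀ x ∈ commutator N, φ x ∈ commutator N := fun x hx => by
        have := (Subgroup.Characteristic.fixed (H := commutator N) inferInstance φ)
        rw [← this] at hx
        exact hx
      have hpd : ¬ p ∣ Nat.card (commutator N) :=
        fun hd => hpN (hd.trans (Subgroup.card_subgroup_dvd_card _))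
      have hsup : (⊤ : Subgroup N) ≤ Fx ⊔ commutator N := by
        intro x _
        obtain ⟨z, hz, hzf⟩ :=
          CfsgLib.Solvable.exists_fixed_in_coset hφp hpd hder_inv (hder x)
        have e : x = z * (z⁻¹ * x) := by group
        rw [e]
        exact Subgroup.mul_mem_sup (show φ z = z from hzf) hz
      have hnc : (Subgroup.normalClosure (Fx : Set N)) = ⊤ := by
        refine top_le_iff.1 (CfsgLib.Fusion.le_of_le_sup_commutator _ ⊤ ?_)
        refine hsup.trans (sup_le_sup Subgroup.le_normalClosure ?_)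
        rw [commutator_def]
      have hFxtop : Fx = ⊤ := by
        by_contra hne
        obtain ⟨M, hM, hFM⟩ := (eq_top_or_exists_le_coatom Fx).resolve_left hne
        have hMn : M.Normal := (Subgroup.NormalizerCondition.normal_of_coatom M Group.normalizerCondition_of_isNilpotent hM)
        exact hM.1 (top_le_iff.1 (hnc.ge.trans (Subgroup.normalClosure_le_normal hFM)))
      have h3 : φ ⟨n, hn⟩ = ⟨n, hn⟩ := by
        have : (⟨n, hn⟩ : N) ∈ Fx := by rw [hFxtop]; trivial
        exact this
      have h4 := congrArg Subtype.val h3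
      rw [hφ, MulAut.conjNormal_apply] at h4
      exact (eq_mul_inv_iff_mul_eq.1 h4.symm)
    have hym' : y ^ m ∈ F := hCF hym
    -- `y` is a product of powers in `F`
    obtain ⟨k', hk'⟩ : ∃ k' : ℕ, (y ^ p ^ k) ∈ F ∧ k' = k := ⟨k, hk, rfl⟩
    have hcop2 : Nat.Coprime m (p ^ k) :=
      ((Nat.coprime_ordCompl hp.out (orderOf_pos y).ne').symm).pow_right _
    have e := Nat.gcd_eq_gcd_ab m (p ^ k)
    rw [hcop2.gcd_eq_one, Nat.cast_one] at e
    rw [← zpow_one y, e, zpow_add, zpow_mul, zpow_mul, zpow_natCast, zpow_natCast]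
    exact mul_mem (zpow_mem hym' _) (zpow_mem hk _)
  -- the image is a `p`-group with small orbits
  have hker : K = F := le_antisymm hKle hKF
  set Q := (linAut N).range with hQdef
  have hidx : F.index = Nat.card Q := by
    rw [← hker, hK, Subgroup.index_ker]
  have hQp : IsPGroup p Q := by
    rintro ⟨_, x, rfl⟩
    obtain ⟨k, hk⟩ := hQ x
    exact ⟨k, Subtype.ext (by
      show linAut N x ^ p ^ k = 1
      rw [← map_pow]
      exact MonoidHom.mem_ker.1 (hKF hk))⟩
  rw [hidx]
  have hLfin : Finite (N →* ℂˣ) :=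
    Finite.of_equiv _ (Abelianization.lift (G := N) (A := ℂˣ)).symm
  refine card_dvd_of_orbits (M := N →* ℂˣ) Q hQp ?_ fun l => ?_
  · intro hd
    apply hpN
    obtain ⟨e⟩ := CommGroup.monoidHom_mulEquiv_of_hasEnoughRootsOfUnity (Abelianization N) ℂ
    rw [Nat.card_congr (Abelianization.lift (G := N) (A := ℂˣ)), Nat.card_congr e.toEquiv] at hd
    exact hd.trans (Subgroup.card_quotient_dvd_card _)
  · have hθ : Cfsg.IsIrrCharacter N (fun n => (l n : ℂ)) := isIrrCharacter_units_hom l
    have := Fintype.ofFinite N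
    obtain ⟨χ, h0⟩ := exists_irr_over N hθ
    have hdeg := degree_eq_mul_card_orbit N χ.2 ⟨_, hθ⟩ h0
    -- the inertia subgroup is the preimage of the stabilizer
    have hS : inertia N (fun n => (l n : ℂ)) =
        (stab Q l).comap (linAut N).rangeRestrict := by
      ext g
      rw [← inv_mem_iff (x := g) (H := (stab Q l).comap _), Subgroup.mem_comap,
        mem_stab, mem_inertia]
      show conjFun N g (fun n => (l n : ℂ)) = (fun n => (l n : ℂ)) ↔ linAut N g⁻¹ l = l
      constructor
      · intro e
        refine MonoidHom.ext fun n => Units.ext ?_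
        have h1 := congrFun e n
        rw [conjFun_eq_comp] at h1
        rw [linAut_apply, inv_inv]
        exact h1
      · intro e
        rw [conjFun_eq_comp]
        funext n
        have h1 := DFunLike.congr_fun e n
        rw [linAut_apply, inv_inv] at h1
        exact congrArg Units.val h1
    have hidx : (inertia N (fun n => (l n : ℂ))).index = (stab Q l).index := by
      rw [hS, Subgroup.index_comap_of_surjective _ (linAut N).rangeRestrict_surjective]
    obtain ⟨j, hj⟩ := hQp.index (stab Q l)
    have hsq : Squarefree (p ^ j) := by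
      rw [← hj, ← hidx, ← card_orbit_eq_index N ⟨_, hθ⟩]
      refine (h _ χ.2).squarefree_of_dvd ?_
      have hc := deg_cast χ.2
      obtain ⟨c, hc', hd⟩ : ∃ c : ℕ, ((c : ℂ) = Cfsg.classInner (fun n : N => (χ : G → ℂ) n)
          (fun n => (l n : ℂ))) ∧ True := by
        obtain ⟨c, hc⟩ := classInner_char_nat (isCharacter_res N (isCharacter_of_isIrr χ.2))
          (isCharacter_of_isIrr hθ)
        exact ⟨c, hc.symm, trivial⟩
      refine ⟨c, ?_⟩
      have h1 : ((Cfsg.charDegree (χ : G → ℂ) : ℕ) : ℂ) =
          ((orbit N ⟨_, hθ⟩).card * c : ℕ) := by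
        rw [← hc, hdeg]
        push_cast
        rw [hc']
        simp only [map_one, Units.val_one, mul_one]
        ring
      exact_mod_cast h1
    rcases Nat.lt_or_ge j 2 with hj2 | hj2
    · rw [hj]
      exact (pow_dvd_pow p (by omega : j ≤ 1)).trans (by rw [pow_one])
    · rw [Nat.squarefree_pow_iff hp.out.ne_one (by omega)] at hsq
      omega

/-- A solvable group with squarefree degrees has derived length at most `4`. -/
theorem derived_four [Finite G] [Group.IsSolvable G] (h : Sqf G) : derivedSeries G 4 = ⊥ := by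
  classical
  set F := fittingSubgroup G with hF
  have hFn : F.Normal := fittingSubgroup_normal
  -- the `p`-cores of the quotient are small
  have hcore : ∀ p : ℕ, p.Prime → Nat.card (pCore p (G ⧸ F)) ∣ p := by
    intro p hp
    have := Fact.mk hp
    have hCn : (pCore p (G ⧸ F)).Normal := Subgroup.sSup_normal _ fun _ hM => hM.1
    set L := (pCore p (G ⧸ F)).comap (QuotientGroup.mk' F) with hL
    have hLn : L.Normal := hCn.comap _
    have hFL : F ≤ L := by
      intro f hf
      rw [hL, Subgroup.mem_comap, QuotientGroup.mk'_apply, (QuotientGroup.eq_one_iff f).2 hf]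
      exact one_mem _
    have hfit : fittingSubgroup L = F.subgroupOf L := by
      have := fittingSubgroup_of_normal L
      rw [← hF, inf_eq_left.2 hFL] at this
      rw [← this, Subgroup.subgroupOf, Subgroup.comap_map_eq_self_of_injective L.subtype_injective]
    have hdvd := index_fitting_dvd (p := p) (h.normal L) fun x => by
      obtain ⟨k, hk⟩ := (isPGroup_pCore (G := G ⧸ F) p) ⟨_, x.2⟩
      refine ⟨k, ?_⟩
      rw [hfit, Subgroup.mem_subgroupOf, Subgroup.coe_pow, ← QuotientGroup.eq_one_iff,
        QuotientGroup.mk_pow]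
      exact congrArg Subtype.val hk
    rw [hfit] at hdvd
    have hcard : Nat.card (pCore p (G ⧸ F)) = (F.subgroupOf L).index := by
      have h1 := Subgroup.index_ker ((QuotientGroup.mk' F).comp L.subtype)
      rw [MonoidHom.range_comp, Subgroup.range_subtype, hL,
        Subgroup.map_comap_eq_self_of_surjective (QuotientGroup.mk'_surjective F),
        ← MonoidHom.comap_ker, QuotientGroup.ker_mk'] at h1
      exact h1.symm
    rwa [hcard]
  -- the commutator subgroup of the quotient lies in its abelian Fitting subgroup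
  set H := G ⧸ F
  have hFab : ∀ a ∈ fittingSubgroup H, ∀ b ∈ fittingSubgroup H, a * b = b * a := by
    have hle : fittingSubgroup H ≤ Subgroup.centralizer (fittingSubgroup H : Set H) := by
      nth_rw 1 [fittingSubgroup_eq_iSup_pCore]
      refine iSup_le fun q a ha => ?_
      have hFle : fittingSubgroup H ≤ Subgroup.centralizer ({a} : Set H) := by
        rw [fittingSubgroup_eq_iSup_pCore]
        refine iSup_le fun r b hb => ?_
        rw [Subgroup.mem_centralizer_singleton_iff]
        have := Fact.mk (Nat.prime_of_mem_primeFactors q.2)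
        have := Fact.mk (Nat.prime_of_mem_primeFactors r.2)
        by_cases hqr : (r : ℕ) = q
        · rw [hqr] at hb
          rcases (Nat.dvd_prime (Fact.out : (q : ℕ).Prime)).1 (hcore _ Fact.out) with h1 | h1
          · rw [Subgroup.eq_bot_of_card_eq _ h1, Subgroup.mem_bot] at ha hb
            rw [ha, hb]
          · have hcy := isCyclic_of_prime_card h1
            exact congrArg Subtype.val (IsMulCommutative.is_comm.comm
              (⟨b, hb⟩ : pCore (q : ℕ) H) ⟨a, ha⟩)
        · exact commute_pCore_of_ne hqr hb ha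
      exact Subgroup.mem_centralizer_iff.2 fun b hb =>
        (Subgroup.mem_centralizer_singleton_iff.1 (hFle hb))
    exact fun a ha b hb => (Subgroup.mem_centralizer_iff.1 (hle hb)) a ha
  have hcomm : commutator H ≤ fittingSubgroup H := by
    refine le_trans ?_ CfsgLib.Solvable.centralizer_fittingSubgroup_le
    rw [commutator_def, Subgroup.commutator_le]
    intro x _ y _
    rw [Subgroup.mem_centralizer_iff]
    intro z hz
    have hFle : fittingSubgroup H ≤ Subgroup.centralizer ({⁅x, y⁆} : Set H) := by
      rw [fittingSubgroup_eq_iSup_pCore]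
      refine iSup_le fun q b hb => ?_
      rw [Subgroup.mem_centralizer_singleton_iff]
      have hqp := Nat.prime_of_mem_primeFactors q.2
      have := Fact.mk hqp
      have hn : (pCore (q : ℕ) H).Normal := Subgroup.sSup_normal _ fun _ hM => hM.1
      have hcyc : IsCyclic (pCore (q : ℕ) H) := by
        rcases (Nat.dvd_prime hqp).1 (hcore _ hqp) with h1 | h1
        · have := (Nat.card_eq_one_iff_unique.1 h1).1
          infer_instance
        · exact isCyclic_of_prime_card h1
      have hab : ∀ σ τ : MulAut (pCore (q : ℕ) H), σ * τ = τ * σ := by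
        intro σ τ
        obtain ⟨i, hi⟩ := MonoidHom.map_cyclic σ.toMonoidHom
        obtain ⟨j, hj⟩ := MonoidHom.map_cyclic τ.toMonoidHom
        refine MulEquiv.ext fun z => ?_
        show σ (τ z) = τ (σ z)
        rw [show τ z = z ^ j from hj z, show σ z = z ^ i from hi z,
          show σ (z ^ j) = (z ^ j) ^ i from hi _, show τ (z ^ i) = (z ^ i) ^ j from hj _,
          ← zpow_mul, ← zpow_mul, mul_comm]
      have h1 : (MulAut.conjNormal ⁅x, y⁆ : MulAut (pCore (q : ℕ) H)) = 1 := by
        rw [map_commutatorElement, commutatorElement_eq_one_iff_mul_comm]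
        exact hab _ _
      have h2 := congrArg Subtype.val (DFunLike.congr_fun h1 (⟨b, hb⟩ : pCore (q : ℕ) H))
      rw [MulAut.conjNormal_apply, MulAut.one_apply] at h2
      exact (mul_inv_eq_iff_eq_mul.1 h2).symm
    exact (Subgroup.mem_centralizer_singleton_iff.1 (hFle hz))
  have h2 : derivedSeries H 2 = ⊥ := by
    rw [derivedSeries_succ, derivedSeries_one, eq_bot_iff, Subgroup.commutator_le]
    intro a ha b hb
    exact Subgroup.mem_bot.2 (commutatorElement_eq_one_iff_mul_comm.2
      (hFab a (hcomm ha) b (hcomm hb)))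
  have := isNilpotent_fittingSubgroup (G := G)
  have h3 : derivedSeries G 2 ≤ (derivedSeries F 0).map F.subtype := by
    rw [← derived_zero_le]
    exact derived_le_of_quotient F h2
  have h4 := derived_step (derived_step h3)
  rw [nilpotent_derived_two (h.normal F), Subgroup.map_bot] at h4
  exact le_bot_iff.1 h4

end CfsgLib.SqfDeg
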