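import Cfsg.Agent.Lib.Char.FrobeniusKernel
import Cfsg.Agent.Lib.Char.TI
import Cfsg.Prelude.Def_OddOrderChar

/-!
# Coherence data for a TI subgroup with Frobenius normalizer
-/

namespace CfsgLib.Char

open scoped ComplexConjugate

variable {G : Type*} [Group G] [Fintype G] (K : Subgroup G)

omit [Fintype G] in
theorem centralizer_subgroupOf_le
    (hC : ∀ k ∈ K, k ≠ 1 → Subgroup.centralizer ({k} : Set G) ≤ K) (N : Subgroup G) :
    ∀ k ∈ K.subgroupOf N, k ≠ 1 → Subgroup.centralizer ({k} : Set N) ≤ K.subgroupOf N := by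
  intro k hk hk1 x hx
  refine Subgroup.mem_subgroupOf.mpr (hC k (Subgroup.mem_subgroupOf.mp hk)
    (fun h => hk1 (Subtype.ext h)) ?_)
  rw [Subgroup.mem_centralizer_singleton_iff] at hx ⊢
  exact congrArg Subtype.val hx

omit [Fintype G] in
theorem isRelevant_subgroupOf_iff (N : Subgroup G) (χ : N → ℂ) :
    IsRelevant (K.subgroupOf N) χ ↔ ∃ k : N, (k : G) ∈ K ∧ χ k ≠ χ 1 :=
  ⟨fun ⟨k, hk, h⟩ => ⟨k, hk, h⟩, fun ⟨k, hk, h⟩ => ⟨k, hk, h⟩⟩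

/-- The degree-zero difference of two relevant characters. -/
theorem star_difference (N : Subgroup G) [Fintype N] [(K.subgroupOf N).Normal]
    [Fintype (K.subgroupOf N)]
    (hTI : ∀ g : G, g ∉ N → ∀ k ∈ K, g * k * g⁻¹ ∈ K → k = 1)
    (hC : ∀ k ∈ K, k ≠ 1 → Subgroup.centralizer ({k} : Set G) ≤ K)
    (S : Set (N → ℂ))
    (hS : S = {χ : N → ℂ | Cfsg.IsIrrCharacter N χ ∧ ∃ k : N, (k : G) ∈ K ∧ χ k ≠ χ 1})
    (star : (N → ℂ) → (G → ℂ)) (hstar : Cfsg.IsLinearIsometryOn (Cfsg.zspan S) star)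
    (hext : ∀ α ∈ Cfsg.zspanOn S ({1}ᶜ : Set N), star α = Cfsg.indFun N α)
    {χ ξ : N → ℂ} (hχ : χ ∈ S) (hξ : ξ ∈ S) :
    (ξ 1 • χ - χ 1 • ξ) ∈ Cfsg.zspan S ∧
      star (ξ 1 • χ - χ 1 • ξ) = Cfsg.indFun N (ξ 1 • χ - χ 1 • ξ) ∧
      star (ξ 1 • χ - χ 1 • ξ) = ξ 1 • star χ - χ 1 • star ξ ∧
      ∀ k : N, (k : G) ∈ K → k ≠ 1 →
        ξ 1 * star χ k - χ 1 * star ξ k = ξ 1 * χ k - χ 1 * ξ k := by
  have hχ' := hS ▸ hχ
  have hξ' := hS ▸ hξ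
  obtain ⟨a, ha⟩ := exists_degree (isCharacter_of_isIrr hχ'.1)
  obtain ⟨b, hb⟩ := exists_degree (isCharacter_of_isIrr hξ'.1)
  have hmemχ : χ ∈ Cfsg.zspan S := Submodule.subset_span hχ
  have hmemξ : ξ ∈ Cfsg.zspan S := Submodule.subset_span hξ
  have he : ξ 1 • χ - χ 1 • ξ = (b : ℤ) • χ + (-(a : ℤ)) • ξ := by
    funext x
    simp [ha, hb, sub_eq_add_neg]
  have h1 : (b : ℤ) • χ ∈ Cfsg.zspan S := Submodule.smul_mem _ _ hmemχ
  have h2 : (-(a : ℤ)) • ξ ∈ Cfsg.zspan S := Submodule.smul_mem _ _ hmemξ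
  have hmem : (ξ 1 • χ - χ 1 • ξ) ∈ Cfsg.zspan S := by
    rw [he]
    exact Submodule.add_mem _ h1 h2
  have hon : (ξ 1 • χ - χ 1 • ξ) ∈ Cfsg.zspanOn S ({1}ᶜ : Set N) := by
    refine ⟨hmem, fun x hx => ?_⟩
    obtain rfl : x = 1 := by simpa using hx
    simp [mul_comm]
  have hlin : star (ξ 1 • χ - χ 1 • ξ) = ξ 1 • star χ - χ 1 • star ξ := by
    conv_lhs => rw [he, hstar.1 _ h1 _ h2, hstar.2.1 _ hmemχ, hstar.2.1 _ hmemξ]
    funext x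
    simp [ha, hb, sub_eq_add_neg]
  refine ⟨hmem, hext _ hon, hlin, fun k hk hk1 => ?_⟩
  have hcl : Cfsg.IsClassFunction N (ξ 1 • χ - χ 1 • ξ) :=
    isClassFunction_sub (isClassFunction_smul (isClassFunction_of_isIrr hχ'.1) _)
      (isClassFunction_smul (isClassFunction_of_isIrr hξ'.1) _)
  have hval : Cfsg.indFun N (ξ 1 • χ - χ 1 • ξ) k = (ξ 1 • χ - χ 1 • ξ) k := by
    refine indFun_eq_of_TI N (K : Set G) hTI hcl (fun x hx => ?_) hk hk1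
    have hz : ∀ η : N → ℂ, η ∈ S → η x = 0 := fun η hη => by
      have hη' := hS ▸ hη
      exact relevant_apply_eq_zero (K.subgroupOf N) (centralizer_subgroupOf_le K hC N) hη'.1
        ((isRelevant_subgroupOf_iff K N η).mpr hη'.2) hx
    simp [hz χ hχ, hz ξ hξ]
  rw [← hext _ hon, hlin] at hval
  simpa using hval

end CfsgLib.Char
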