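import Cfsg.Agent.Lib.Char.ThreeDegreesSolvable
import Cfsg.Agent.Lib.Cores.Fitting
import Cfsg.Agent.Lib.CharNormal.MonomialDerived
import Cfsg.Agent.S4456
import Mathlib.Algebra.Polynomial.Roots

/-!
# Groups with at most three character degrees

* `no_faithful`: no faithful character of the smaller degree when a non-abelian normal subgroup
  meets all kernels of the larger degree trivially;
* `not_dvd_card_of_deg`: relative Thompson theorem;
* `derived_three`: derived length at most `3`.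
-/

set_option autoImplicit false

namespace CfsgLib.ThreeDeg

open CfsgLib.Char CfsgLib.CharNormal
open scoped ComplexConjugate

universe u

variable {G : Type u} [Group G]

theorem isIrr_conj' [Finite G] {χ : G → ℂ} (hχ : Cfsg.IsIrrCharacter G χ) :
    Cfsg.IsIrrCharacter G (fun g => conj (χ g)) := by
  have := Fintype.ofFinite G
  refine irr_of_norm_one (isCharacter_conj (isCharacter_of_isIrr hχ)) ?_
  have h : Cfsg.classInner (fun g => conj (χ g)) (fun g => conj (χ g)) =
      conj (Cfsg.classInner χ χ) := by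
    simp only [classInner_def, map_mul, map_inv₀, map_natCast, map_sum]
  rw [h, classInner_irr_self hχ, map_one]

theorem deg_conj {χ : G → ℂ} (hχ : Cfsg.IsIrrCharacter G χ) :
    Cfsg.charDegree (fun g => conj (χ g)) = Cfsg.charDegree χ :=
  deg_of_eq (χ := fun g => conj (χ g)) (ψ := χ) (char_conj_one (isCharacter_of_isIrr hχ))

theorem inner_mul_right [Fintype G] (φ χ ψ : G → ℂ) :
    Cfsg.classInner (φ * χ) ψ = Cfsg.classInner φ (ψ * fun g => conj (χ g)) := by
  simp only [classInner_def, Pi.mul_apply, map_mul, Complex.conj_conj]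
  congr 1
  exact Finset.sum_congr rfl fun g _ => by ring

theorem inner_ne_zero_symm [Fintype G] {φ ψ : G → ℂ} (h : Cfsg.classInner φ ψ ≠ 0) :
    Cfsg.classInner ψ φ ≠ 0 := by
  rw [← classInner_conj_symm]
  exact (map_ne_zero _).2 h

/-- Counting: a character of degree `m * x`, `x ≤ n`, without linear constituents. -/
theorem count_lemma [Fintype G] {m n x : ℕ} (hm : 0 < m) (hco : m.Coprime n)
    (hG : DegIn G {m, n}) {Φ : G → ℂ} (hΦ : Cfsg.IsCharacter G Φ) (h1 : Φ 1 = ((m * x : ℕ) : ℂ))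
    (hlin : ∀ l : G → ℂ, Cfsg.IsIrrCharacter G l → Cfsg.charDegree l = 1 →
      Cfsg.classInner Φ l = 0)
    (hx : x < n ∨ (x ≤ n ∧ ∃ η : G → ℂ, Cfsg.IsIrrCharacter G η ∧ Cfsg.charDegree η = m ∧
      Cfsg.classInner Φ η ≠ 0))
    {ψ : G → ℂ} (hψ : Cfsg.IsIrrCharacter G ψ) (hψn : Cfsg.charDegree ψ = n) :
    Cfsg.classInner Φ ψ = 0 := by
  classical
  obtain ⟨a, ha, hai⟩ := char_decomp hΦ
  have hdeg : ∑ c : Cfsg.IrrCharacter G, a c * Cfsg.charDegree (c : G → ℂ) = m * x := by
    have h2 := congrFun ha 1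
    rw [h1, Finset.sum_apply] at h2
    rw [Finset.sum_congr rfl fun c _ => show ((a c : ℂ) • (c : G → ℂ)) 1 =
      ((a c * Cfsg.charDegree (c : G → ℂ) : ℕ) : ℂ) by
        rw [Pi.smul_apply, smul_eq_mul, deg_cast c.2]; push_cast; rfl, ← Nat.cast_sum] at h2
    exact_mod_cast h2.symm
  let S : Finset (Cfsg.IrrCharacter G) :=
    Finset.univ.filter fun c => Cfsg.charDegree (c : G → ℂ) = n
  have hsplit : n * (∑ c ∈ S, a c) +
      ∑ c ∈ Sᶜ, a c * Cfsg.charDegree (c : G → ℂ) = m * x := by
    rw [← hdeg, ← Finset.sum_add_sum_compl S, Finset.mul_sum]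
    congr 1
    exact Finset.sum_congr rfl fun c hc => by rw [(Finset.mem_filter.1 hc).2, mul_comm]
  have hout : ∀ c ∈ Sᶜ, a c * Cfsg.charDegree (c : G → ℂ) = m * a c := by
    intro c hc
    have hcn : Cfsg.charDegree (c : G → ℂ) ≠ n := fun e =>
      Finset.mem_compl.1 hc (Finset.mem_filter.2 ⟨Finset.mem_univ _, e⟩)
    rcases hG c c.2 with e | e
    · have h0 := hlin c c.2 e
      rw [hai c] at h0
      rw [Nat.cast_eq_zero.1 h0, zero_mul, mul_zero]
    · simp only [Finset.mem_insert, Finset.mem_singleton] at e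
      rw [e.resolve_right hcn, mul_comm]
  rw [Finset.sum_congr rfl hout, ← Finset.mul_sum] at hsplit
  have hdvd : m ∣ n * ∑ c ∈ S, a c :=
    (Nat.dvd_add_left (Dvd.intro _ rfl)).1 (hsplit ▸ Dvd.intro _ rfl)
  by_contra hne
  have hψS : (⟨ψ, hψ⟩ : Cfsg.IrrCharacter G) ∈ S := Finset.mem_filter.2 ⟨Finset.mem_univ _, hψn⟩
  have hpos : 0 < ∑ c ∈ S, a c := by
    refine lt_of_lt_of_le (Nat.pos_of_ne_zero fun h => hne ?_)
      (Finset.single_le_sum (fun c _ => Nat.zero_le (a c)) hψS)
    rw [hai ⟨ψ, hψ⟩, h, Nat.cast_zero]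
  have hCm : m ≤ ∑ c ∈ S, a c := Nat.le_of_dvd hpos (hco.dvd_of_dvd_mul_left hdvd)
  have h2 : n * m ≤ n * ∑ c ∈ S, a c := Nat.mul_le_mul_left n hCm
  rcases hx with hlt | ⟨hle, η, hη, hηm, hη0⟩
  · have : m * x < m * n := Nat.mul_lt_mul_of_pos_left hlt hm
    have h3 : n * m = m * n := mul_comm _ _
    omega
  · have hηS : (⟨η, hη⟩ : Cfsg.IrrCharacter G) ∈ Sᶜ := by
      rw [Finset.mem_compl, Finset.mem_filter]
      rintro ⟨-, e⟩
      rw [show Cfsg.charDegree ((⟨η, hη⟩ : Cfsg.IrrCharacter G) : G → ℂ) = m from hηm] at e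
      subst e
      have := (Nat.coprime_self m).1 hco
      rcases hG ψ hψ with h | h
      · subst this
        exact hne (hlin ψ hψ h)
      · have h0 := hlin ψ hψ (hψn.trans this)
        exact hne h0
    have hpos' : 0 < ∑ c ∈ Sᶜ, a c := by
      refine lt_of_lt_of_le (Nat.pos_of_ne_zero fun h => hη0 ?_)
        (Finset.single_le_sum (fun c _ => Nat.zero_le (a c)) hηS)
      rw [hai ⟨η, hη⟩, h, Nat.cast_zero]
    have : 0 < m * ∑ c ∈ Sᶜ, a c := Nat.mul_pos hm hpos'
    have h3 : n * m = m * n := mul_comm _ _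
    have h4 : m * x ≤ m * n := Nat.mul_le_mul_left m hle
    omega

/-- A nonabelian normal `K ≤ G'` rules out faithful characters of the smaller degree. -/
theorem no_faithful [Fintype G] {m n : ℕ} (hm1 : 1 < m) (hmn : m < n) (hco : m.Coprime n)
    (hG : DegIn G {m, n}) (hnn : ∃ ψ : G → ℂ, Cfsg.IsIrrCharacter G ψ ∧ Cfsg.charDegree ψ = n)
    (K : Subgroup G) [K.Normal] [Fintype K] (hK : K ≤ commutator G) (hK1 : K ≠ ⊥)
    (hfaith : ∀ ψ : G → ℂ, Cfsg.IsIrrCharacter G ψ → Cfsg.charDegree ψ = n →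
      ∀ g ∈ K, ψ g = ψ 1 → g = 1)
    {χ : G → ℂ} (hχ : Cfsg.IsIrrCharacter G χ) (hχm : Cfsg.charDegree χ = m)
    (hker : ∀ g, χ g = χ 1 → g = 1) : False := by
  classical
  have hχc := isCharacter_of_isIrr hχ
  -- linear characters are trivial on `K`
  have hlinK : ∀ l : G → ℂ, Cfsg.IsIrrCharacter G l → Cfsg.charDegree l = 1 →
      ∀ g ∈ K, l g = 1 := by
    intro l hl hl1 g hg
    have h1 : l 1 = 1 := by rw [deg_cast hl, hl1, Nat.cast_one]
    have hle : commutator G ≤ (linearHom (isCharacter_of_isIrr hl) h1).ker :=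
      Abelianization.commutator_subset_ker _
    have := congrArg (fun u : ℂˣ => (u : ℂ)) (MonoidHom.mem_ker.1 (hle (hK hg)))
    simpa [linearHom_apply] using this
  -- the key orthogonality
  have key : ∀ ξ : G → ℂ, Cfsg.IsIrrCharacter G ξ → Cfsg.charDegree ξ = m →
      ∀ ψ : G → ℂ, Cfsg.IsIrrCharacter G ψ → Cfsg.charDegree ψ = n →
      Cfsg.classInner (χ * ξ) ψ = 0 := by
    intro ξ hξ hξm ψ hψ hψn
    by_cases hlin : ∀ l : G → ℂ, Cfsg.IsIrrCharacter G l → Cfsg.charDegree l = 1 →
        Cfsg.classInner (χ * ξ) l = 0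
    · refine count_lemma (x := m) (by omega) hco hG
        (isCharacter_mul hχc (isCharacter_of_isIrr hξ)) ?_ hlin (Or.inl hmn) hψ hψn
      rw [Pi.mul_apply, deg_cast hχ, deg_cast hξ, hχm, hξm]
      push_cast
      rfl
    push Not at hlin
    obtain ⟨l, hl, hl1, hne⟩ := hlin
    by_contra hψ0
    have hlone : l 1 = 1 := by rw [deg_cast hl, hl1, Nat.cast_one]
    have hl' : Cfsg.IsCharacter G (fun g => conj (l g)) :=
      isCharacter_conj (isCharacter_of_isIrr hl)
    have hl'1 : (fun g => conj (l g)) 1 = (1 : ℂ) := by simp [hlone]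
    -- `ξ = l * conj χ`
    have hξe : ξ = l * fun g => conj (χ g) := by
      rw [mul_comm χ ξ, inner_mul_right] at hne
      by_contra hne'
      have hli : Cfsg.IsIrrCharacter G (l * fun g => conj (χ g)) := by
        rw [mul_comm]
        exact isIrr_mul_linear (isIrr_conj' hχ) (isCharacter_of_isIrr hl) hlone
      exact hne (classInner_irr_ne hξ hli hne')
    set ψ' := ψ * fun g => conj (l g) with hψ'
    have hψ'i : Cfsg.IsIrrCharacter G ψ' := isIrr_mul_linear hψ hl' hl'1
    have hψ'n : Cfsg.charDegree ψ' = n := by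
      rw [← hψn]
      exact deg_of_eq (by simp [hψ', hlone])
    have h0 : Cfsg.classInner (χ * ψ') χ ≠ 0 := by
      rw [mul_comm, inner_mul_right]
      refine inner_ne_zero_symm ?_
      rw [hξe, show χ * (l * fun g => conj (χ g)) = (χ * fun g => conj (χ g)) * l from by ring,
        inner_mul_right] at hψ0
      exact hψ0
    -- every constituent is `χ` times a linear character
    have hΦ := isCharacter_mul hχc (isCharacter_of_isIrr hψ'i)
    have hΦ1 : (χ * ψ') 1 = ((m * n : ℕ) : ℂ) := by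
      rw [Pi.mul_apply, deg_cast hχ, deg_cast hψ'i, hχm, hψ'n]
      push_cast
      rfl
    have hΦlin : ∀ l₂ : G → ℂ, Cfsg.IsIrrCharacter G l₂ → Cfsg.charDegree l₂ = 1 →
        Cfsg.classInner (χ * ψ') l₂ = 0 := by
      intro l₂ hl₂ hl₂1
      rw [mul_comm, inner_mul_right]
      refine inner_eq_zero_of_deg hψ'i ?_ ?_
      · rw [mul_comm]
        exact isIrr_mul_linear (isIrr_conj' hχ) (isCharacter_of_isIrr hl₂)
          (by rw [deg_cast hl₂, hl₂1, Nat.cast_one])
      · rw [hψ'n, deg_of_cast (d := m) (χ := l₂ * fun g => conj (χ g)) (by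
          simp [deg_cast hl₂, hl₂1, deg_cast hχ, hχm])]
        omega
    obtain ⟨b, hb, hbi⟩ := char_decomp hΦ
    have hbm : ∀ c : Cfsg.IrrCharacter G, b c ≠ 0 →
        Cfsg.charDegree (c : G → ℂ) = m ∧ ∀ g ∈ K, (c : G → ℂ) g = χ g := by
      intro c hc
      have hc0 : Cfsg.classInner (χ * ψ') c ≠ 0 := by rw [hbi c]; exact_mod_cast hc
      have hcm : Cfsg.charDegree (c : G → ℂ) = m := by
        rcases hG c c.2 with e | e
        · exact absurd (hΦlin c c.2 e) hc0
        · simp only [Finset.mem_insert, Finset.mem_singleton] at e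
          refine e.resolve_right fun e => hc0 ?_
          exact count_lemma (x := n) (by omega) hco hG hΦ hΦ1 hΦlin
            (Or.inr ⟨le_rfl, χ, hχ, hχm, h0⟩) c.2 e
      refine ⟨hcm, ?_⟩
      have hpair : Cfsg.classInner ((c : G → ℂ) * fun g => conj (χ g)) ψ' ≠ 0 := by
        rw [mul_comm χ, inner_mul_right] at hc0
        exact inner_ne_zero_symm hc0
      by_cases hlin' : ∀ l₂ : G → ℂ, Cfsg.IsIrrCharacter G l₂ → Cfsg.charDegree l₂ = 1 →
          Cfsg.classInner ((c : G → ℂ) * fun g => conj (χ g)) l₂ = 0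
      · refine absurd ?_ hpair
        refine count_lemma (x := m) (by omega) hco hG
          (isCharacter_mul (isCharacter_of_isIrr c.2) (isCharacter_conj hχc)) ?_ hlin'
          (Or.inl hmn) hψ'i hψ'n
        simp [deg_cast c.2, hcm, deg_cast hχ, hχm]
      push Not at hlin'
      obtain ⟨l₂, hl₂, hl₂1, hne₂⟩ := hlin'
      rw [inner_mul_right] at hne₂
      simp only [Complex.conj_conj] at hne₂
      have hce : (c : G → ℂ) = l₂ * χ := by
        by_contra hne'
        refine hne₂ (classInner_irr_ne c.2 ?_ hne')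
        rw [mul_comm]
        exact isIrr_mul_linear hχ (isCharacter_of_isIrr hl₂)
          (by rw [deg_cast hl₂, hl₂1, Nat.cast_one])
      intro g hg
      rw [hce, Pi.mul_apply, hlinK l₂ hl₂ hl₂1 g hg, one_mul]
    have hsum : ∑ c, (b c : ℂ) = n := by
      have h2 := congrFun hb 1
      rw [hΦ1, Finset.sum_apply, Finset.sum_congr rfl fun c _ => show
        ((b c : ℂ) • (c : G → ℂ)) 1 = (b c : ℂ) * m by
          rcases eq_or_ne (b c) 0 with h | h
          · simp [h]
          · rw [Pi.smul_apply, smul_eq_mul, deg_cast c.2, (hbm c h).1], ← Finset.sum_mul] at h2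
      have hm0 : (m : ℂ) ≠ 0 := Nat.cast_ne_zero.2 (by omega)
      push_cast at h2
      exact mul_right_cancel₀ hm0 (by rw [← h2, mul_comm])
    -- hence `χ` vanishes on `K` away from the identity
    have hvan : ∀ g ∈ K, g ≠ 1 → χ g = 0 := by
      intro g hg hg1
      have h2 : χ g * ψ' g = (n : ℂ) * χ g := by
        have h3 := congrFun hb g
        rw [Finset.sum_apply, Finset.sum_congr rfl fun c _ => show
          ((b c : ℂ) • (c : G → ℂ)) g = (b c : ℂ) * χ g by
            rcases eq_or_ne (b c) 0 with h | h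
            · simp [h]
            · rw [Pi.smul_apply, smul_eq_mul, (hbm c h).2 g hg], ← Finset.sum_mul, hsum] at h3
        exact h3
      have hψg : ψ' g ≠ n := fun e => hg1 (hfaith ψ' hψ'i hψ'n g hg
        (by rw [e, deg_cast hψ'i, hψ'n]))
      by_contra hne'
      rw [mul_comm (n : ℂ)] at h2
      exact hψg (mul_left_cancel₀ hne' h2)
    refine hK1 (eq_bot_iff.2 fun g hg => Subgroup.mem_bot.2 (hker g ?_))
    refine res_eq_degree_of_constituent_one K hχ ?_ g hg
    rw [classInner_def, Finset.sum_eq_single (1 : K)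
      (fun k _ hk => by rw [hvan k k.2 fun e => hk (Subtype.ext e), zero_mul]) (by simp)]
    refine mul_ne_zero (inv_ne_zero (card_ne_zero' (G := K))) ?_
    simp [irr_one_ne_zero hχ]
  -- powers of `χ` avoid degree `n`
  have hpow : ∀ (k : ℕ) (ψ : G → ℂ), Cfsg.IsIrrCharacter G ψ → Cfsg.charDegree ψ = n →
      Cfsg.IsCharacter G (χ ^ k) ∧ Cfsg.classInner (χ ^ k) ψ = 0 := by
    intro k
    induction k with
    | zero =>
      intro ψ hψ hψn
      rw [pow_zero]
      refine ⟨isCharacter_one, inner_eq_zero_of_deg isIrrCharacter_one hψ ?_⟩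
      rw [hψn, deg_of_cast (χ := (1 : G → ℂ)) (d := 1) (by simp)]
      omega
    | succ k ih =>
      intro ψ hψ hψn
      have hck : Cfsg.IsCharacter G (χ ^ k) := (ih ψ hψ hψn).1
      refine ⟨by rw [pow_succ]; exact isCharacter_mul hck hχc, ?_⟩
      obtain ⟨a, ha, hai⟩ := char_decomp hck
      rw [pow_succ', ha, Finset.mul_sum, classInner_sum_left]
      refine Finset.sum_eq_zero fun c _ => ?_
      rw [mul_smul_comm, classInner_smul_left]
      rcases eq_or_ne (a c) 0 with h | h
      · rw [h, Nat.cast_zero, zero_mul]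
      refine mul_eq_zero_of_right _ ?_
      have hcn : Cfsg.charDegree (c : G → ℂ) ≠ n := by
        intro e
        refine h ?_
        have h2 := (ih c c.2 e).2
        rw [hai c] at h2
        exact_mod_cast h2
      rcases hG c c.2 with e | e
      · have hc1 : (c : G → ℂ) 1 = 1 := by rw [deg_cast c.2, e, Nat.cast_one]
        refine inner_eq_zero_of_deg (isIrr_mul_linear hχ (isCharacter_of_isIrr c.2) hc1) hψ ?_
        rw [hψn, deg_of_cast (χ := χ * (c : G → ℂ)) (d := m) (by
          rw [Pi.mul_apply, hc1, mul_one, deg_cast hχ, hχm])]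
        omega
      · simp only [Finset.mem_insert, Finset.mem_singleton] at e
        exact key c c.2 (e.resolve_right hcn) ψ hψ hψn
  obtain ⟨ψ, hψ, hψn⟩ := hnn
  open Polynomial in
  let V : Finset ℂ := (Finset.univ.image χ).erase (χ 1)
  open Polynomial in
  let P : ℂ[X] := ∏ v ∈ V, (X - C v)
  have hP1 : P.eval (χ 1) ≠ 0 := by
    simp only [P, Polynomial.eval_prod, Polynomial.eval_sub, Polynomial.eval_X,
      Polynomial.eval_C]
    exact Finset.prod_ne_zero_iff.2 fun v hv => sub_ne_zero.2 (Finset.ne_of_mem_erase hv).symm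
  have hPg : ∀ g : G, g ≠ 1 → P.eval (χ g) = 0 := by
    intro g hg
    simp only [P, Polynomial.eval_prod, Polynomial.eval_sub, Polynomial.eval_X,
      Polynomial.eval_C]
    refine Finset.prod_eq_zero (Finset.mem_erase.2 ⟨fun e => hg (hker g e),
      Finset.mem_image_of_mem χ (Finset.mem_univ g)⟩) ?_
    exact sub_self _
  have hsum0 : ∑ g : G, P.eval (χ g) * conj (ψ g) = 0 := by
    simp only [Polynomial.eval_eq_sum_range, Finset.sum_mul]
    rw [Finset.sum_comm]
    refine Finset.sum_eq_zero fun k _ => ?_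
    simp only [mul_assoc, ← Finset.mul_sum]
    refine mul_eq_zero_of_right _ ?_
    have h2 := (hpow k ψ hψ hψn).2
    rw [classInner_def] at h2
    exact (mul_eq_zero.1 h2).resolve_left (inv_ne_zero card_ne_zero')
  rw [Finset.sum_eq_single (1 : G) (fun g _ hg => by rw [hPg g hg, zero_mul]) (by simp)] at hsum0
  exact (mul_ne_zero hP1 ((_root_.map_ne_zero _).2 (irr_one_ne_zero hψ))) hsum0

/-- Relative Thompson: `p` does not divide a perfect normal subgroup. -/
theorem not_dvd_card_of_deg [Fintype G] {p : ℕ} [hp : Fact p.Prime] (K : Subgroup G) [K.Normal]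
    [Fintype K] (hperf : commutator K = ⊤)
    (hdeg : ∀ χ : G → ℂ, Cfsg.IsIrrCharacter G χ → (∃ g ∈ K, χ g ≠ χ 1) →
      p ∣ Cfsg.charDegree χ) :
    ¬ p ∣ Nat.card K := by
  classical
  obtain ⟨P⟩ := (inferInstance : Nonempty (Sylow p G))
  set W : Subgroup G := K ⊔ (P : Subgroup G) with hW
  have := Fintype.ofFinite W
  set K' := K.subgroupOf W with hK'
  have : K'.Normal := Subgroup.Normal.subgroupOf ‹K.Normal› W
  have := Fintype.ofFinite K'
  let eK : K' ≃* K := Subgroup.subgroupOfEquivOfLe le_sup_left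
  obtain ⟨k, hk⟩ : ∃ k, K'.index = p ^ k := by
    have h1 : K.relIndex W ∣ Nat.card (P : Subgroup G) := by
      rw [hW, sup_comm, Subgroup.relIndex_sup_right]
      exact Subgroup.relIndex_dvd_card _ _
    obtain ⟨j, hj⟩ := IsPGroup.iff_card.1 P.isPGroup'
    rw [hj] at h1
    obtain ⟨i, -, hi⟩ := (Nat.dvd_prime_pow hp.out).1 h1
    exact ⟨i, hi⟩
  have hlin : ∀ f : K' →* ℂˣ, ¬ p ∣ orderOf f := by
    intro f
    have hf : f = 1 := MonoidHom.ext fun x => by
      have h1 : (f.comp eK.symm.toMonoidHom) (eK x) = 1 :=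
        MonoidHom.mem_ker.1 (Abelianization.commutator_subset_ker (f.comp eK.symm.toMonoidHom)
          (hperf ▸ Subgroup.mem_top _))
      simpa using h1
    rw [hf, orderOf_one]
    exact hp.out.not_dvd_one
  -- the only prime character of `W` is principal
  have honly : ∀ χ : W → ℂ, Cfsg.IsIrrCharacter W χ → IsPrimeChar p χ →
      ∀ w : K', χ w = 1 := by
    intro χ hχ hpr
    have hres := res_of_prime hk hlin hχ hpr.1
    have hWidx : ¬ p ∣ W.index := fun h =>
      P.not_dvd_index (h.trans (Subgroup.index_dvd_of_le le_sup_right))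
    obtain ⟨a, ha, hai⟩ := char_decomp (isCharacter_indFun W (isCharacter_of_isIrr hχ))
    have hsum : ∑ c : Cfsg.IrrCharacter G, a c * Cfsg.charDegree (c : G → ℂ) =
        W.index * Cfsg.charDegree χ := by
      have h2 := congrFun ha 1
      rw [indFun_one, deg_cast hχ, ← Nat.cast_mul, Finset.sum_apply,
        Finset.sum_congr rfl fun (c : Cfsg.IrrCharacter G) _ => show ((a c : ℂ) • (c : G → ℂ)) 1 =
        ((a c * Cfsg.charDegree (c : G → ℂ) : ℕ) : ℂ) by
          rw [Pi.smul_apply, smul_eq_mul, deg_cast c.2]; push_cast; rfl, ← Nat.cast_sum] at h2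
      exact_mod_cast h2.symm
    obtain ⟨c, hc, hcp⟩ : ∃ c : Cfsg.IrrCharacter G, a c ≠ 0 ∧
        ¬ p ∣ Cfsg.charDegree (c : G → ℂ) := by
      by_contra h
      push Not at h
      have h3 : p ∣ W.index * Cfsg.charDegree χ := hsum ▸ Finset.dvd_sum fun c _ => by
        rcases eq_or_ne (a c) 0 with e | e
        · simp [e]
        · exact (h c e).mul_left _
      rcases (Nat.Prime.dvd_mul hp.out).1 h3 with e | e
      exacts [hWidx e, hpr.1 e]
    have hcK : ∀ g ∈ K, (c : G → ℂ) g = (c : G → ℂ) 1 := by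
      by_contra h
      push Not at h
      exact hcp (hdeg c c.2 h)
    have hcW : Cfsg.classInner (fun w : W => (c : G → ℂ) w) χ ≠ 0 := by
      have h2 := hai c
      rw [frobenius_reciprocity W χ (isClassFunction_of_isIrr c.2)] at h2
      refine inner_ne_zero_symm ?_
      rw [h2]
      exact_mod_cast hc
    intro w
    have hchi : ∀ v : K', χ v = χ 1 := fun v =>
      CfsgLib.Broline.constituent_apply_eq (isCharacter_res W (isCharacter_of_isIrr c.2)) hχ hcW
        (hcK _ v.2)
    obtain ⟨ρ, hρirr⟩ : ∃ d : ℕ, χ 1 = d := ⟨Cfsg.charDegree χ, deg_cast hχ⟩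
    have hnorm := classInner_irr_self hres
    have hfun : (fun v : K' => χ v) = fun _ => (ρ : ℂ) := funext fun v => (hchi v).trans hρirr
    rw [hfun, classInner_def] at hnorm
    simp only [map_natCast, Finset.sum_const, Finset.card_univ, nsmul_eq_mul,
      ← Nat.card_eq_fintype_card, inv_mul_cancel_left₀ (card_ne_zero' (G := K'))] at hnorm
    have h5 : ρ * ρ = 1 := by exact_mod_cast hnorm
    rw [hchi w, hρirr, Nat.eq_one_of_mul_eq_one_left h5, Nat.cast_one]
  have hcount := card_pResidual_modEq hk hlin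
  obtain ⟨χ₀, -, huniq⟩ := existsUnique_prime_ext hk hlin (θ := fun _ : K' => (1 : ℂ))
    isIrrCharacter_one (fun g => rfl) (by
      rw [deg_of_cast (χ := fun _ : K' => (1 : ℂ)) (d := 1) (by simp)]
      exact hp.out.not_dvd_one)
  have htriv : IsPrimeChar p (linFun (1 : W →* ℂˣ)) := by
    constructor
    · rw [deg_of_cast (χ := linFun (1 : W →* ℂˣ)) (d := 1) (by simp [linFun_apply])]
      exact hp.out.not_dvd_one
    · rw [Cfsg.detOrder, detChar_linFun, orderOf_linFun, orderOf_one]
      exact hp.out.not_dvd_one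
  let o : Cfsg.IrrCharacter W := ⟨linFun (1 : W →* ℂˣ), isIrrCharacter_units_hom 1⟩
  have hfilter : (Finset.univ : Finset (Cfsg.IrrCharacter W)).filter
      (fun χ : Cfsg.IrrCharacter W => IsPrimeChar p (χ : W → ℂ)) = {o} := by
    ext χ
    simp only [Finset.mem_filter, Finset.mem_univ, true_and, Finset.mem_singleton]
    constructor
    · intro h
      rw [huniq χ ⟨fun w => honly χ χ.2 h w, h⟩, huniq o ⟨fun w => by simp [o, linFun_apply], htriv⟩]
    · rintro rfl
      exact htriv
  rw [hfilter, Finset.sum_singleton,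
    show Cfsg.charDegree (o : W → ℂ) = 1 from deg_of_cast (by simp [o, linFun_apply]),
    Nat.cast_one, one_pow, Nat.card_congr eK.toEquiv] at hcount
  intro hd
  rw [(ZMod.natCast_eq_zero_iff _ _).2 hd] at hcount
  exact zero_ne_one hcount

/-- Coprime degrees: solvability from that of the proper quotients. -/
theorem isSolvable_of_coprime [Finite G] {m n : ℕ} (hm : 1 < m) (hmn : m < n) (hco : m.Coprime n)
    (hG : DegIn G {m, n})
    (hnn : ∃ ψ : G → ℂ, Cfsg.IsIrrCharacter G ψ ∧ Cfsg.charDegree ψ = n)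
    (ih : ∀ (N : Subgroup G) [N.Normal], N ≠ ⊥ → Group.IsSolvable (G ⧸ N)) :
    Group.IsSolvable G := by
  classical
  have := Fintype.ofFinite G
  by_contra hns
  have hext : ∀ (N : Subgroup G) [N.Normal], N ≠ ⊥ → ¬ Group.IsSolvable N := fun N _ hN h =>
    hns ((Group.isSolvable_iff_subgroup_quotient N).2 ⟨h, ih N hN⟩)
  have : Nontrivial G := not_subsingleton_iff_nontrivial.1 fun _ => hns inferInstance
  obtain ⟨K, hKn, hK1, hKmin⟩ := CfsgLib.Solvable.exists_minimal_normal (G := G)
  have hunique : ∀ N : Subgroup G, N.Normal → N ≠ ⊥ → K ≤ N := by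
    intro N hN hN1
    rcases hKmin (K ⊓ N) inferInstance inf_le_left with h | h
    · exfalso
      refine hext K hK1 ?_
      have := ih N hN1
      refine Group.isSolvable_of_isSolvable_injective
        (f := (QuotientGroup.mk' N).comp K.subtype) ?_
      rw [injective_iff_map_eq_one]
      intro x hx
      rw [MonoidHom.comp_apply, QuotientGroup.mk'_apply, QuotientGroup.eq_one_iff] at hx
      exact Subtype.ext (Subgroup.mem_bot.1 (h ▸ (⟨x.2, hx⟩ : (x : G) ∈ K ⊓ N)))
    · exact h ▸ inf_le_right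
  have hKK : ⁅K, K⁆ = K := by
    rcases hKmin ⁅K, K⁆ inferInstance (Subgroup.commutator_le_right K K) with h | h
    · exfalso
      refine hext K hK1 (Group.isSolvable_of_comm fun a b => Subtype.ext ?_)
      rw [Subgroup.coe_mul, Subgroup.coe_mul, ← commutatorElement_eq_one_iff_mul_comm,
        ← Subgroup.mem_bot, ← h]
      exact Subgroup.commutator_mem_commutator a.2 b.2
    · exact h
  have hperf : commutator K = ⊤ := by
    apply Subgroup.map_injective K.subtype_injective
    rw [Subgroup.map_subtype_commutator, hKK, ← MonoidHom.range_eq_map, Subgroup.range_subtype]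
  have hKG : K ≤ commutator G :=
    hKK ▸ (commutator_def G).symm ▸ Subgroup.commutator_mono le_top le_top
  have := Fintype.ofFinite K
  -- characters with kernel not above `K` are faithful
  have hfaithful : ∀ χ : G → ℂ, Cfsg.IsIrrCharacter G χ → (∃ g ∈ K, χ g ≠ χ 1) →
      ∀ g, χ g = χ 1 → g = 1 := by
    intro χ hχ ⟨x, hx, hx1⟩ g hg
    by_contra hg1
    have := charKer_normal (isCharacter_of_isIrr hχ)
    exact hx1 (hunique (charKer (isCharacter_of_isIrr hχ)) inferInstance
      (fun h => hg1 (Subgroup.mem_bot.1 (h ▸ (show g ∈ charKer (isCharacter_of_isIrr hχ) from hg))))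
      hx)
  have hle : ∀ χ : G → ℂ, Cfsg.IsIrrCharacter G χ → Cfsg.charDegree χ ≤ n := by
    intro χ hχ
    rcases hG χ hχ with e | e
    · omega
    · simp only [Finset.mem_insert, Finset.mem_singleton] at e
      omega
  have hnfaith : ∀ ψ : G → ℂ, Cfsg.IsIrrCharacter G ψ → Cfsg.charDegree ψ = n →
      ∀ g, ψ g = ψ 1 → g = 1 := by
    intro ψ hψ hψn g hg
    set J := charKer (isCharacter_of_isIrr hψ) with hJ
    have := charKer_normal (isCharacter_of_isIrr hψ)
    by_contra hg1
    have hJ1 : J ≠ ⊥ := fun h => hg1 (Subgroup.mem_bot.1 (h ▸ (show g ∈ J from hg)))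
    have hJF : J ≤ Cfsg.fittingSubgroup G := by
      by_contra h
      obtain ⟨φ, hφ, -⟩ := CfsgLib.Broline.exists_larger_degree ⟨ψ, hψ⟩ J (fun x => Iff.rfl)
        (Or.inl h)
      have := hle φ φ.2
      rw [show Cfsg.charDegree ((⟨ψ, hψ⟩ : Cfsg.IrrCharacter G) : G → ℂ) = n from hψn] at hφ
      omega
    have := CfsgLib.Cores.isNilpotent_fittingSubgroup (G := G)
    refine hext K hK1 ?_
    exact Group.isSolvable_of_isSolvable_injective
      (f := Subgroup.inclusion ((hunique J inferInstance hJ1).trans hJF))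
      (Subgroup.inclusion_injective _)
  -- all characters not trivial on `K` have degree `n`
  have hdegK : ∀ χ : G → ℂ, Cfsg.IsIrrCharacter G χ → (∃ g ∈ K, χ g ≠ χ 1) →
      Cfsg.charDegree χ = n := by
    intro χ hχ hne
    rcases hG χ hχ with e | e
    · exfalso
      obtain ⟨g, hg, hg1⟩ := hne
      have h1 : χ 1 = 1 := by rw [deg_cast hχ, e, Nat.cast_one]
      have := congrArg (fun u : ℂˣ => (u : ℂ)) (MonoidHom.mem_ker.1
        (Abelianization.commutator_subset_ker (linearHom (isCharacter_of_isIrr hχ) h1) (hKG hg)))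
      exact hg1 (by simpa [linearHom_apply, h1] using this)
    · simp only [Finset.mem_insert, Finset.mem_singleton] at e
      refine e.resolve_left fun e => ?_
      exact no_faithful hm hmn hco hG hnn K hKG hK1
        (fun ψ hψ hψn g _ => hnfaith ψ hψ hψn g) hχ e (hfaithful χ hχ hne)
  obtain ⟨θ, hθ⟩ : ∃ θ : Cfsg.IrrCharacter K, (θ : K → ℂ) 1 ≠ 1 := by
    by_contra h
    push Not at h
    exact hext K hK1 (Group.isSolvable_of_comm (comm_iff_forall_linear.2 h))
  have hd1 : Cfsg.charDegree (θ : K → ℂ) ≠ 1 := fun e =>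
    hθ (by rw [deg_cast θ.2, e, Nat.cast_one])
  obtain ⟨p, hp, hpd⟩ := Nat.exists_prime_and_dvd hd1
  have := Fact.mk hp
  obtain ⟨χ, h0⟩ := exists_irr_over (G := G) K θ.2
  have hne : ∃ g ∈ K, (χ : G → ℂ) g ≠ (χ : G → ℂ) 1 := by
    by_contra h
    push Not at h
    have h2 : ∀ x : K, (θ : K → ℂ) x = (θ : K → ℂ) 1 := fun x =>
      CfsgLib.Broline.constituent_apply_eq (isCharacter_res K (isCharacter_of_isIrr χ.2)) θ.2 h0
        (h x x.2)
    have hnorm := classInner_irr_self θ.2
    rw [classInner_def, Finset.sum_congr rfl fun x _ => show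
      (θ : K → ℂ) x * conj ((θ : K → ℂ) x) = (Cfsg.charDegree (θ : K → ℂ) : ℂ) ^ 2 by
        rw [h2 x, deg_cast θ.2, map_natCast, sq]] at hnorm
    simp only [Finset.sum_const, Finset.card_univ, nsmul_eq_mul,
      ← Nat.card_eq_fintype_card, inv_mul_cancel_left₀ (card_ne_zero' (G := K))] at hnorm
    have h5 : Cfsg.charDegree (θ : K → ℂ) ^ 2 = 1 := by exact_mod_cast hnorm
    exact hd1 ((Nat.pow_eq_one.1 h5).resolve_right two_ne_zero)
  have hpn : p ∣ n := hdegK χ χ.2 hne ▸ hpd.trans (deg_dvd_of_over K χ.2 θ.2 h0).1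
  exact not_dvd_card_of_deg K hperf (fun φ hφ h => (hdegK φ hφ h).symm ▸ hpn)
    (hpd.trans (degree_dvd_card θ.2 (deg_cast θ.2)))

/-- A common prime of all non-linear degrees. -/
theorem derived_three_of_common [Finite G] {p : ℕ} [hp : Fact p.Prime] {s : Finset ℕ}
    (hs : s.card ≤ 2) (hG : DegIn G s) (hdvd : ∀ d ∈ s, p ∣ d)
    (hnlin : ∃ χ : G → ℂ, Cfsg.IsIrrCharacter G χ ∧ Cfsg.charDegree χ ≠ 1)
    (ih : ∀ (H : Subgroup G), Nat.card H < Nat.card G → ∀ t : Finset ℕ, t.card ≤ 2 → DegIn H t →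
      derivedSeries H 3 = ⊥) :
    derivedSeries G 3 = ⊥ := by
  classical
  have := Fintype.ofFinite G
  obtain ⟨H, hHn, hHco, k, hk⟩ := Cfsg.Agent.S4456.result (G := G) p hp.out
    fun χ hne => hdvd _ ((hG χ χ.2).resolve_left hne)
  have := Fintype.ofFinite H
  have hcop : (Nat.card H).Coprime H.index := hk ▸ hHco.pow_right k
  have hlt : Nat.card H < Nat.card G := by
    obtain ⟨χ, hχ, hne⟩ := hnlin
    have hpG : p ∣ Nat.card G :=
      (hdvd _ ((hG χ hχ).resolve_left hne)).trans (degree_dvd_card hχ (deg_cast hχ))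
    refine lt_of_le_of_ne (Nat.le_of_dvd Nat.card_pos H.card_subgroup_dvd_card) fun e => ?_
    rw [← e] at hpG
    exact (Nat.Prime.coprime_iff_not_dvd hp.out).1 hHco.symm hpG
  -- the degrees of `H` are the `p'`-parts
  set t : Finset ℕ := (s.image fun d => d / p ^ d.factorization p).erase 1 with ht
  have hHdeg : DegIn H t := by
    intro θ hθ
    rw [ht, Finset.mem_erase]
    refine or_iff_not_imp_left.2 fun hne => ⟨hne, ?_⟩
    obtain ⟨χ, h0⟩ := exists_irr_over (G := G) H hθ
    obtain ⟨h1, h2⟩ := deg_dvd_of_over H χ.2 hθ h0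
    set d := Cfsg.charDegree (χ : G → ℂ) with hd
    set c := Cfsg.charDegree θ with hc
    have hcH : c ∣ Nat.card H := degree_dvd_card hθ (deg_cast hθ)
    have hpc : ¬ p ∣ c := fun h =>
      (Nat.Prime.coprime_iff_not_dvd hp.out).1 hHco.symm (h.trans hcH)
    obtain ⟨j, -, hj⟩ := (Nat.dvd_prime_pow hp.out).1 (hk ▸ h2)
    have hdc : d = p ^ j * c := by rw [← hj, Nat.div_mul_cancel h1]
    have hds : d ∈ s := by
      rcases hG χ χ.2 with e | e
      · exact absurd (Nat.dvd_one.1 (e ▸ h1)) hne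
      · exact e
    refine Finset.mem_image.2 ⟨d, hds, ?_⟩
    have hc0 : c ≠ 0 := (deg_pos hθ).ne'
    have hf : d.factorization p = j := by
      rw [hdc, Nat.factorization_mul (pow_ne_zero _ hp.out.ne_zero) hc0]
      simp [hp.out.factorization_pow, Nat.factorization_eq_zero_of_not_dvd hpc]
    rw [hf, hdc, Nat.mul_div_cancel_left _ (pow_pos hp.out.pos j)]
  have htcard : t.card ≤ 2 := (Finset.card_erase_le).trans (Finset.card_image_le.trans hs)
  -- degrees of `G / H'`
  set D : Subgroup G := (derivedSeries H 1).map H.subtype with hD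
  have : D.Normal := by rw [hD, derivedSeries_one, Subgroup.map_subtype_commutator]; infer_instance
  set s0 : Finset ℕ := s.filter fun d => ∃ j, d = p ^ j with hs0
  have hQdeg : DegIn (G ⧸ D) s0 := by
    intro β hβ
    rcases (hG.quotient D) β hβ with e | e
    · exact Or.inl e
    refine Or.inr (Finset.mem_filter.2 ⟨e, ?_⟩)
    have := Fintype.ofFinite (G ⧸ D)
    set A := H.map (QuotientGroup.mk' D) with hA
    have : A.Normal := hHn.map _ (QuotientGroup.mk'_surjective D)
    have hAc : ∀ a ∈ A, ∀ b ∈ A, a * b = b * a := by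
      rintro _ ⟨a, ha, rfl⟩ _ ⟨b, hb, rfl⟩
      rw [← commutatorElement_eq_one_iff_mul_comm, ← map_commutatorElement,
        QuotientGroup.mk'_apply, QuotientGroup.eq_one_iff, hD, derivedSeries_one,
        Subgroup.map_subtype_commutator]
      exact Subgroup.commutator_mem_commutator ha hb
    have h1 := degree_dvd_index_abelian_normal A hAc hβ (deg_cast hβ)
    have h2 : A.index ∣ p ^ k := hk ▸ Subgroup.index_map_dvd H (QuotientGroup.mk'_surjective D)
    obtain ⟨j, -, hj⟩ := (Nat.dvd_prime_pow hp.out).1 (h1.trans h2)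
    exact ⟨j, hj⟩
  rcases s0.eq_empty_or_nonempty with he | hne
  · -- abelian quotient
    have hc : ∀ a b : G ⧸ D, a * b = b * a := by
      have := Fintype.ofFinite (G ⧸ D)
      refine comm_iff_forall_linear.2 fun β => ?_
      rw [deg_cast β.2]
      rcases hQdeg β β.2 with e | e
      · rw [e, Nat.cast_one]
      · rw [he] at e; exact absurd e (Finset.notMem_empty _)
    have h1 : derivedSeries G 1 ≤ D := by
      refine derived_le_of_quotient D ?_
      rw [derivedSeries_one, eq_bot_iff, commutator_def, Subgroup.commutator_le]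
      intro a _ b _
      exact Subgroup.mem_bot.2 (commutatorElement_eq_one_iff_mul_comm.2 (hc a b))
    have h3 := derived_step (derived_step h1)
    rw [ih H hlt t htcard hHdeg, Subgroup.map_bot] at h3
    exact le_bot_iff.1 h3
  by_cases hall : s0 = s
  · -- all degrees are powers of `p`
    have ht0 : t = ∅ := by
      rw [Finset.eq_empty_iff_forall_notMem]
      intro c hc
      obtain ⟨hc1, hc'⟩ := Finset.mem_erase.1 hc
      obtain ⟨d, hd, rfl⟩ := Finset.mem_image.1 hc'
      obtain ⟨j, rfl⟩ := (Finset.mem_filter.1 (hall.ge hd)).2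
      exact hc1 (by rw [hp.out.factorization_pow, Finsupp.single_eq_same,
        Nat.div_self (pow_pos hp.out.pos _)])
    have hHab : ∀ a ∈ H, ∀ b ∈ H, a * b = b * a := fun a ha b hb => congrArg Subtype.val
      (comm_iff_forall_linear.2 (fun θ => by
        rw [deg_cast θ.2, (hHdeg θ θ.2).resolve_right (by simp [ht0]), Nat.cast_one])
        (⟨a, ha⟩ : H) ⟨b, hb⟩)
    have : Group.IsNilpotent (G ⧸ H) :=
      (IsPGroup.iff_card.2 ⟨k, by rw [← Subgroup.index_eq_card, hk]⟩ : IsPGroup p (G ⧸ H)).isNilpotent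
    have h1 := derivedSeries_eq_bot_of_monomial
      (fun χ hχ => monomial_of_abelian_coprime H hHab hcop hχ) (insert 1 s) fun χ =>
        ⟨_, Finset.mem_insert.2 (hG χ χ.2), deg_cast χ.2⟩
    exact le_bot_iff.1 ((derivedSeries_antitone G
      ((Finset.card_insert_le _ _).trans (by omega))).trans h1.le)
  have hlt0 : s0.card < s.card :=
    Finset.card_lt_card ((Finset.filter_subset _ _).ssubset_of_ne hall)
  have h1 : derivedSeries G 2 ≤ D := derived_le_of_quotient D
    (derived_two_of_one_degree (by omega) hQdeg)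
  have ht1 : t.card ≤ 1 := by
    have hsub : t ⊆ (s \ s0).image fun d => d / p ^ d.factorization p := by
      intro c hc
      obtain ⟨hc1, hc'⟩ := Finset.mem_erase.1 hc
      obtain ⟨d, hd, rfl⟩ := Finset.mem_image.1 hc'
      refine Finset.mem_image.2 ⟨d, Finset.mem_sdiff.2 ⟨hd, fun h0 => hc1 ?_⟩, rfl⟩
      obtain ⟨j, rfl⟩ := (Finset.mem_filter.1 h0).2
      rw [hp.out.factorization_pow, Finsupp.single_eq_same, Nat.div_self (pow_pos hp.out.pos _)]
    refine (Finset.card_le_card hsub).trans (Finset.card_image_le.trans ?_)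
    rw [Finset.card_sdiff_of_subset (show s0 ⊆ s from Finset.filter_subset _ _)]
    have h0 : 0 < s0.card := hne.card_pos
    omega
  have h3 := derived_step h1
  rw [derived_two_of_one_degree ht1 hHdeg, Subgroup.map_bot] at h3
  exact le_bot_iff.1 h3

/-- At most three degrees: the third derived subgroup is trivial. -/
theorem derived_three : ∀ (N : ℕ) (G : Type u) [Group G] [Finite G], Nat.card G = N →
    ∀ s : Finset ℕ, s.card ≤ 2 → DegIn G s → derivedSeries G 3 = ⊥ := by
  intro N
  induction N using Nat.strong_induction_on with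
  | _ N ih =>
  intro G _ _ hN s hs hG
  classical
  have := Fintype.ofFinite G
  set S : Finset ℕ := (Finset.univ.image
    fun χ : Cfsg.IrrCharacter G => Cfsg.charDegree (χ : G → ℂ)).erase 1 with hS
  have hSdeg : DegIn G S := fun χ hχ => (em _).imp id fun h => Finset.mem_erase.2
    ⟨h, Finset.mem_image.2 ⟨⟨χ, hχ⟩, Finset.mem_univ _, rfl⟩⟩
  have hSs : S ⊆ s := fun d hd => by
    obtain ⟨h1, h2⟩ := Finset.mem_erase.1 hd
    obtain ⟨χ, -, rfl⟩ := Finset.mem_image.1 h2
    exact (hG χ χ.2).resolve_left h1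
  have hSex : ∀ d ∈ S, ∃ χ : G → ℂ, Cfsg.IsIrrCharacter G χ ∧ Cfsg.charDegree χ = d ∧ 1 < d := by
    intro d hd
    obtain ⟨h1, h2⟩ := Finset.mem_erase.1 hd
    obtain ⟨χ, -, rfl⟩ := Finset.mem_image.1 h2
    have := deg_pos χ.2
    exact ⟨χ, χ.2, rfl, by omega⟩
  have hScard : S.card ≤ 2 := (Finset.card_le_card hSs).trans hs
  have ihH : ∀ (H : Subgroup G), Nat.card H < Nat.card G → ∀ t : Finset ℕ, t.card ≤ 2 →
      DegIn H t → derivedSeries H 3 = ⊥ := fun H hlt t ht hH =>
    ih _ (hN ▸ hlt) H rfl t ht hH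
  rcases S.eq_empty_or_nonempty with he | ⟨d₀, hd₀⟩
  · exact le_bot_iff.1 ((derivedSeries_antitone G (show 2 ≤ 3 by omega)).trans
      (derived_two_of_one_degree (by simp [he]) hSdeg).le)
  obtain ⟨χ₀, hχ₀, hd₀e, hd₀1⟩ := hSex d₀ hd₀
  by_cases hcom : ∃ p, p.Prime ∧ ∀ d ∈ S, p ∣ d
  · obtain ⟨p, hp, hdvd⟩ := hcom
    have := Fact.mk hp
    exact derived_three_of_common hScard hSdeg hdvd ⟨χ₀, hχ₀, by omega⟩ ihH
  have hScard2 : S.card = 2 := by
    refine le_antisymm hScard ?_
    by_contra h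
    push Not at h
    obtain ⟨p, hp, hpd⟩ := Nat.exists_prime_and_dvd (show d₀ ≠ 1 by omega)
    exact hcom ⟨p, hp, fun d hd => (Finset.card_le_one.1 (by omega) d hd d₀ hd₀).symm ▸ hpd⟩
  obtain ⟨m, n, hmn, hSe⟩ : ∃ m n, m < n ∧ S = {m, n} := by
    obtain ⟨a, b, hab, he⟩ := Finset.card_eq_two.1 hScard2
    rcases Nat.lt_or_gt_of_ne hab with h | h
    · exact ⟨a, b, h, he⟩
    · exact ⟨b, a, h, by rw [he, Finset.pair_comm]⟩
  obtain ⟨χm, hχm, hχmd, hm1⟩ := hSex m (by simp [hSe])
  obtain ⟨χn, hχn, hχnd, hn1⟩ := hSex n (by simp [hSe])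
  have hco : m.Coprime n := Nat.coprime_of_dvd fun p hp h1 h2 => hcom ⟨p, hp, fun d hd => by
    simp only [hSe, Finset.mem_insert, Finset.mem_singleton] at hd
    rcases hd with rfl | rfl <;> assumption⟩
  have hG2 : DegIn G {m, n} := hSe ▸ hSdeg
  have hsol : Group.IsSolvable G := by
    refine isSolvable_of_coprime hm1 hmn hco hG2 ⟨χn, hχn, hχnd⟩ fun M _ hM => ?_
    refine (Group.isSolvable_def _).2 ⟨3, ih _ ?_ (G ⧸ M) rfl S hScard (hSdeg.quotient M)⟩
    rw [← hN, ← Subgroup.index_eq_card, ← M.index_mul_card]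
    exact lt_mul_of_one_lt_right (Nat.pos_of_ne_zero Subgroup.index_ne_zero_of_finite)
      (Subgroup.one_lt_card_iff_ne_bot M |>.2 hM)
  exact derived_three_of_coprime hm1 hn1 hco hG2 ⟨χm, hχm, hχmd⟩ ⟨χn, hχn, hχnd⟩

end CfsgLib.ThreeDeg
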