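import Cfsg.Agent.Lib.Char.Ito
import Cfsg.Agent.Lib.Char.Extension
import Cfsg.Agent.Lib.Char.Restrict
import Cfsg.Agent.Lib.Char.PResidualSum
import Cfsg.Agent.Lib.Char.BrolineGarrison
import Cfsg.Agent.Lib.CharNormal.Gallagher
import Cfsg.Agent.Lib.CharNormal.TwoDegreesGeneral
import Cfsg.Agent.S0176
import Cfsg.Agent.S4458

/-!
# Tools for groups with few character degrees

* `DegIn G s`: every irreducible degree is `1` or lies in `s`;
* `deg_dvd_of_over`, `isIrr_res_coprime`: degrees and restriction to normal subgroups;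
* `monomial_of_abelian_coprime`: an abelian normal Hall subgroup with nilpotent quotient gives an
  M-group;
* `derived_step`: pushing inclusions along the derived series.
-/

set_option autoImplicit false

namespace CfsgLib.ThreeDeg

open CfsgLib.Char CfsgLib.CharNormal
open scoped ComplexConjugate

universe u

variable {G : Type u} [Group G]

/-- Every irreducible degree is `1` or in `s`. -/
def DegIn (G : Type u) [Group G] (s : Finset ℕ) : Prop :=
  ∀ χ : G → ℂ, Cfsg.IsIrrCharacter G χ → Cfsg.charDegree χ = 1 ∨ Cfsg.charDegree χ ∈ s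

theorem deg_cast {χ : G → ℂ} (hχ : Cfsg.IsIrrCharacter G χ) :
    χ 1 = (Cfsg.charDegree χ : ℂ) :=
  charDegree_cast (isCharacter_of_isIrr hχ)

theorem deg_of_eq {H : Type*} [Group H] {χ : G → ℂ} {ψ : H → ℂ} (h : χ 1 = ψ 1) :
    Cfsg.charDegree χ = Cfsg.charDegree ψ := by
  unfold Cfsg.charDegree
  rw [h]

theorem deg_of_cast {χ : G → ℂ} {d : ℕ} (h : χ 1 = (d : ℂ)) : Cfsg.charDegree χ = d := by
  simp [Cfsg.charDegree, h]

theorem deg_pos {χ : G → ℂ} (hχ : Cfsg.IsIrrCharacter G χ) : 0 < Cfsg.charDegree χ := by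
  obtain ⟨n, hn, he⟩ := exists_degree_pos hχ
  rwa [deg_of_cast he]

theorem DegIn.quotient {s : Finset ℕ} (h : DegIn G s) (N : Subgroup G) [N.Normal] [Finite G] :
    DegIn (G ⧸ N) s := by
  have := Fintype.ofFinite G
  intro ψ hψ
  have h1 := h _ (isIrr_comp_mk' N hψ)
  rwa [deg_of_eq (χ := ψ ∘ QuotientGroup.mk) (ψ := ψ) (by simp)] at h1

/-- The degree below divides the degree above, with quotient dividing the index. -/
theorem deg_dvd_of_over [Fintype G] (N : Subgroup G) [N.Normal] [Fintype N] {χ : G → ℂ}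
    (hχ : Cfsg.IsIrrCharacter G χ) {θ : N → ℂ} (hθ : Cfsg.IsIrrCharacter N θ)
    (h0 : Cfsg.classInner (fun n : N => χ n) θ ≠ 0) :
    Cfsg.charDegree θ ∣ Cfsg.charDegree χ ∧
      Cfsg.charDegree χ / Cfsg.charDegree θ ∣ N.index :=
  degree_quotient_dvd_index N hχ hθ h0 (deg_cast hχ) (deg_cast hθ)

theorem exists_under [Fintype G] (N : Subgroup G) [Fintype N] {χ : G → ℂ}
    (hχ : Cfsg.IsIrrCharacter G χ) :
    ∃ θ : N → ℂ, Cfsg.IsIrrCharacter N θ ∧ Cfsg.classInner (fun n : N => χ n) θ ≠ 0 :=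
  exists_constituent (isCharacter_res N (isCharacter_of_isIrr hχ))
    fun e => irr_one_ne_zero hχ (by simpa using congrFun e 1)

/-- A degree prime to the index restricts irreducibly. -/
theorem isIrr_res_coprime [Fintype G] (N : Subgroup G) [N.Normal] [Fintype N] {χ : G → ℂ}
    (hχ : Cfsg.IsIrrCharacter G χ) (hcop : Nat.Coprime (Cfsg.charDegree χ) N.index) :
    Cfsg.IsIrrCharacter N (fun n : N => χ n) := by
  obtain ⟨θ, hθ, h0⟩ := exists_under N hχ
  obtain ⟨h1, h2⟩ := deg_dvd_of_over N hχ hθ h0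
  have h3 : Cfsg.charDegree χ / Cfsg.charDegree θ = 1 :=
    Nat.eq_one_of_dvd_coprimes hcop (Nat.div_dvd_of_dvd h1) h2
  have h4 : Cfsg.charDegree χ = Cfsg.charDegree θ := by
    have := Nat.div_mul_cancel h1
    rw [h3, one_mul] at this
    exact this.symm
  have h5 := CfsgLib.Broline.eq_of_constituent_degree_eq
    (isCharacter_res N (isCharacter_of_isIrr hχ)) hθ h0
    (by show χ 1 = θ 1; rw [deg_cast hχ, deg_cast hθ, h4])
  rw [h5]
  exact hθ

/-- Irreducible characters of different degrees are orthogonal. -/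
theorem inner_eq_zero_of_deg [Fintype G] {χ ψ : G → ℂ} (hχ : Cfsg.IsIrrCharacter G χ)
    (hψ : Cfsg.IsIrrCharacter G ψ) (h : Cfsg.charDegree χ ≠ Cfsg.charDegree ψ) :
    Cfsg.classInner χ ψ = 0 :=
  classInner_irr_ne hχ hψ fun e => h (by rw [e])

theorem derived_step {H : Subgroup G} {i j : ℕ}
    (h : derivedSeries G i ≤ (derivedSeries H j).map H.subtype) :
    derivedSeries G (i + 1) ≤ (derivedSeries H (j + 1)).map H.subtype := by
  rw [derivedSeries_succ, derivedSeries_succ, Subgroup.map_commutator]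
  exact Subgroup.commutator_mono h h

theorem derived_le_of_quotient (N : Subgroup G) [N.Normal] {k : ℕ}
    (h : derivedSeries (G ⧸ N) k = ⊥) : derivedSeries G k ≤ N := by
  have h1 := map_derivedSeries_eq (QuotientGroup.mk'_surjective N) k
  rw [h, Subgroup.map_eq_bot_iff, QuotientGroup.ker_mk'] at h1
  exact h1

theorem derived_zero_le (H : Subgroup G) :
    H = (derivedSeries H 0).map H.subtype := by
  rw [derivedSeries_zero, ← MonoidHom.range_eq_map, Subgroup.range_subtype]

/-- At most one non-linear degree: the second derived subgroup is trivial. -/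
theorem derived_two_of_one_degree [Finite G] {s : Finset ℕ} (hs : s.card ≤ 1) (h : DegIn G s) :
    derivedSeries G 2 = ⊥ := by
  classical
  have := Fintype.ofFinite G
  have hcomm : ∀ a ∈ derivedSeries G 1, ∀ b ∈ derivedSeries G 1, a * b = b * a := by
    rw [derivedSeries_one]
    by_cases hall : ∀ χ : Cfsg.IrrCharacter G, Cfsg.charDegree (χ : G → ℂ) = 1
    · exact fun a _ b _ => comm_iff_forall_linear.2
        (fun χ => by rw [deg_cast χ.2, hall χ, Nat.cast_one]) a b
    · push Not at hall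
      obtain ⟨χ, hχ⟩ := hall
      have hχs := (h χ χ.2).resolve_left hχ
      refine Cfsg.Agent.S4458.result (Cfsg.charDegree (χ : G → ℂ))
        (fun ψ => (h ψ ψ.2).imp id fun hψ => Finset.card_le_one.1 hs _ hψ _ hχs)
        ⟨χ, rfl⟩ hχ
  rw [derivedSeries_succ, eq_bot_iff, Subgroup.commutator_le]
  intro a ha b hb
  exact Subgroup.mem_bot.2 (commutatorElement_eq_one_iff_mul_comm.2 (hcomm a ha b hb))

/-- An abelian normal Hall subgroup with nilpotent quotient gives an M-group. -/
theorem monomial_of_abelian_coprime [Fintype G] (H : Subgroup G) [H.Normal]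
    (hab : ∀ a ∈ H, ∀ b ∈ H, a * b = b * a) (hco : (Nat.card H).Coprime H.index)
    [Group.IsNilpotent (G ⧸ H)] {χ : G → ℂ} (hχ : Cfsg.IsIrrCharacter G χ) :
    ∃ (U : Subgroup G) (lam : U →* ℂˣ), χ = Cfsg.indFun U (fun h => (lam h : ℂ)) := by
  classical
  have := Fintype.ofFinite H
  obtain ⟨θ, hθ, h0⟩ := exists_under H hχ
  have hθ1 : θ 1 = 1 :=
    irr_one_eq_one_of_comm (fun a b => Subtype.ext (hab a a.2 b b.2)) hθ
  set T := inertia H θ with hT
  have hHT : H ≤ T := le_inertia H (isClassFunction_of_isIrr hθ)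
  have := Fintype.ofFinite T
  obtain ⟨ψ, hψ, hind, hψ0⟩ := clifford_correspondence H hθ T (fun g => mem_inertia H) hHT hχ h0
  set H' := H.subgroupOf T with hH'
  have : H'.Normal := Subgroup.Normal.subgroupOf ‹H.Normal› T
  have := Fintype.ofFinite H'
  let eH : H' ≃* H := Subgroup.subgroupOfEquivOfLe hHT
  let lam' : H' →* ℂˣ := (linearHom (isCharacter_of_isIrr hθ) hθ1).comp eH.toMonoidHom
  have hlam' : ∀ x : H', (lam' x : ℂ) = θ (eH x) := fun x =>
    linearHom_apply (isCharacter_of_isIrr hθ) hθ1 (eH x)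
  have hinv : ∀ t : T, conjHom t lam' = lam' := by
    intro t
    refine MonoidHom.ext fun x => Units.ext ?_
    rw [conjHom_apply, hlam', hlam']
    exact congrFun ((mem_inertia H).mp t.2) (eH x)
  have hco' : (Nat.card H').Coprime H'.index := by
    rw [Nat.card_congr eH.toEquiv]
    refine hco.coprime_dvd_right ?_
    show H.relIndex T ∣ H.index
    exact Subgroup.relIndex_dvd_index_of_normal H T
  obtain ⟨f, hf⟩ := exists_extension_coprime H' hco' lam' hinv
  let fc : T → ℂ := fun t => (f t : ℂ)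
  have hfc : Cfsg.IsIrrCharacter T fc := isIrrCharacter_units_hom f
  have hres : (fun x : H' => fc x) = fun x : H' => θ (eH x) := funext fun x => by
    show (f x : ℂ) = _
    rw [hf, hlam']
  have hresirr : Cfsg.IsIrrCharacter H' (fun x : H' => fc x) := by
    rw [hres]
    exact isIrr_comp_mulEquiv hθ eH
  have hne : Cfsg.classInner (fun x : H' => ψ x) (fun x : H' => fc x) ≠ 0 := by
    rw [hres]
    have : Cfsg.classInner (fun x : H' => ψ x) (fun x : H' => θ (eH x)) =
        Cfsg.classInner (fun n : H => ψ ⟨n, hHT n.2⟩) θ := by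
      rw [← classInner_comp_mulEquiv eH (fun n : H => ψ ⟨n, hHT n.2⟩) θ]
      rfl
    rw [this, hψ0]
    exact h0
  obtain ⟨β, hβ, hψeq⟩ := exists_eq_mul_comp_mk' H' (isCharacter_of_isIrr hfc) hresirr hψ hne
  have : Group.IsNilpotent (T ⧸ H') := by
    let g : T ⧸ H' →* G ⧸ H :=
      QuotientGroup.lift H' ((QuotientGroup.mk' H).comp T.subtype) (fun x hx => by
        rw [MonoidHom.mem_ker, MonoidHom.comp_apply, QuotientGroup.mk'_apply,
          QuotientGroup.eq_one_iff]
        exact hx)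
    suffices hg : Function.Injective g from
      Group.nilpotent_of_mulEquiv (MonoidHom.ofInjective hg).symm
    rw [injective_iff_map_eq_one]
    intro q hq
    obtain ⟨x, rfl⟩ := QuotientGroup.mk_surjective q
    rw [QuotientGroup.lift_mk, MonoidHom.comp_apply, QuotientGroup.mk'_apply,
      QuotientGroup.eq_one_iff] at hq
    exact (QuotientGroup.eq_one_iff x).mpr hq
  have := Fintype.ofFinite (T ⧸ H')
  obtain ⟨V, μ, hμ⟩ := Cfsg.Agent.S0176.result β hβ
  set W : Subgroup T := V.comap (QuotientGroup.mk' H') with hW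
  let μ' : W →* ℂˣ :=
    μ.comp (((QuotientGroup.mk' H').comp W.subtype).codRestrict V fun x => x.2)
  let ν : W →* ℂˣ := μ' * f.comp W.subtype
  have hψW : ψ = Cfsg.indFun W (fun x => (ν x : ℂ)) := by
    have h1 : (fun t : T => (β ∘ QuotientGroup.mk) t) =
        Cfsg.indFun W (fun x => (μ ⟨QuotientGroup.mk' H' x, x.2⟩ : ℂ)) := by
      funext t
      rw [indFun_comap H' V (fun y => (μ y : ℂ)) t, ← hμ]
      rfl
    rw [hψeq, mul_comm, show (β ∘ QuotientGroup.mk : T → ℂ) =
        Cfsg.indFun W (fun x => (μ ⟨QuotientGroup.mk' H' x, x.2⟩ : ℂ)) from h1,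
      indFun_mul W _ (isClassFunction_of_isIrr hfc)]
    rfl
  refine ⟨W.map T.subtype,
    ν.comp (Subgroup.equivMapOfInjective W T.subtype T.subtype_injective).symm.toMonoidHom, ?_⟩
  rw [← hind, hψW, ← indFun_map T W]
  rfl

end CfsgLib.ThreeDeg
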