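import Cfsg.Agent.Lib.Char.ThreeDegreesBasic
import Cfsg.Agent.Lib.Solvable.MinimalNormal
import Cfsg.Agent.Lib.Solvable.Basic
import Cfsg.Agent.Lib.PGroup.Basic

/-!
# Solvable groups with two coprime non-linear degrees

* `frob_structure`: a solvable non-abelian group all of whose proper quotients are abelian;
* `frob_degree`: the degree `[G:N] ψ(1)` occurs for `ψ ∈ Irr N` of degree prime to `q`;
* `derived_three_of_coprime`: derived length at most `3`.
-/

set_option autoImplicit false

namespace CfsgLib.ThreeDeg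

open CfsgLib.Char CfsgLib.CharNormal
open scoped ComplexConjugate commutatorElement

universe u

/-- A solvable non-abelian group with all proper quotients abelian is a `p`-group or a
Frobenius group with abelian complement and elementary abelian kernel. -/
theorem frob_structure {L : Type u} [Group L] [Finite L] [Group.IsSolvable L]
    (hna : ∃ a b : L, a * b ≠ b * a)
    (hmin : ∀ M : Subgroup L, M.Normal → M ≠ ⊥ → commutator L ≤ M) :
    (∃ q : ℕ, q.Prime ∧ IsPGroup q L) ∨
    ∃ q : ℕ, q.Prime ∧ IsPGroup q (commutator L) ∧ commutator L ≠ ⊥ ∧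
      (∀ a ∈ commutator L, ∀ b ∈ commutator L, a * b = b * a) ∧
      (commutator L).index ≠ 1 ∧ ¬ q ∣ (commutator L).index ∧
      ∀ s : L, s ∉ commutator L → ∀ a ∈ commutator L, ∃ x ∈ commutator L,
        s * x * s⁻¹ * x⁻¹ = a := by
  classical
  set A := commutator L with hA
  have hAne : A ≠ ⊥ := by
    intro h
    obtain ⟨a, b, hab⟩ := hna
    refine hab (commutatorElement_eq_one_iff_mul_comm.1 ?_)
    rw [← Subgroup.mem_bot, ← h, hA, commutator_def]
    exact Subgroup.commutator_mem_commutator (Subgroup.mem_top a) (Subgroup.mem_top b)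
  have hAmin : ∀ M : Subgroup L, M.Normal → M ≤ A → M = ⊥ ∨ M = A := fun M hM hle =>
    (eq_or_ne M ⊥).imp id fun h => le_antisymm hle (hmin M hM h)
  have hsA : Group.IsSolvable A := inferInstance
  have hAc := CfsgLib.Solvable.commute_of_minimal_normal A hAne hAmin hsA
  obtain ⟨q, hq, hpow⟩ :=
    CfsgLib.Solvable.exists_prime_pow_eq_one_of_minimal_normal A hAne hAmin hsA
  have := Fact.mk hq
  have hAq : IsPGroup q A := fun x => ⟨1, Subtype.ext (by rw [pow_one]; exact hpow x x.2)⟩
  by_cases hnil : Group.IsNilpotent L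
  · refine Or.inl ⟨q, hq, ?_⟩
    have hone : ∀ r : ℕ, r.Prime → r ∣ Nat.card L → r = q := by
      intro r hr hrL
      have := Fact.mk hr
      obtain ⟨R⟩ := (inferInstance : Nonempty (Sylow r L))
      have hRn : (R : Subgroup L).Normal :=
        ((Group.isNilpotent_of_finite_tfae (G := L)).out 0 3 (a := Group.IsNilpotent L)
          (b := ∀ (p : ℕ) (_ : Fact p.Prime) (P : Sylow p L), (P : Subgroup L).Normal)).1
          hnil r ‹_› R
      have hRne : (R : Subgroup L) ≠ ⊥ := R.ne_bot_of_dvd_card hrL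
      have hle := hmin _ hRn hRne
      obtain ⟨⟨x, hx⟩, hx1⟩ := (Subgroup.ne_bot_iff_exists_ne_one).1 hAne
      have hord : orderOf x = q :=
        orderOf_eq_prime (hpow x hx) fun e => hx1 (Subtype.ext e)
      obtain ⟨k, hk⟩ := R.isPGroup' ⟨x, hle hx⟩
      have h1 : orderOf x ∣ r ^ k := orderOf_dvd_of_pow_eq_one (congrArg Subtype.val hk)
      rw [hord] at h1
      exact ((Nat.prime_dvd_prime_iff_eq hq hr).1 (hq.dvd_of_dvd_pow h1)).symm
    refine IsPGroup.iff_card.mpr ⟨_, Nat.eq_prime_pow_of_unique_prime_dvd Nat.card_pos.ne'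
      fun {d} hd hdd => hone d hd hdd⟩
  · refine Or.inr ⟨q, hq, hAq, hAne, hAc, ?_⟩
    obtain ⟨C, hC, hCn⟩ : ∃ C : Subgroup L, IsCoatom C ∧ ¬ C.Normal := by
      by_contra h
      push Not at h
      exact hnil (((Group.isNilpotent_of_finite_tfae (G := L)).out 0 2 (a := Group.IsNilpotent L)
        (b := ∀ H : Subgroup L, IsCoatom H → H.Normal)).2 h)
    have hAC : ¬ A ≤ C := fun h => hCn (Subgroup.Normal.of_commutator_le (G := L) (by exact h))
    have hsup : C ⊔ A = ⊤ := hC.2 _ (lt_of_le_of_ne le_sup_left fun h => hAC (h ▸ le_sup_right))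
    have hdec : ∀ g : L, ∃ c ∈ C, ∃ a ∈ A, g = c * a := fun g => by
      have hg : g ∈ C ⊔ A := hsup ▸ Subgroup.mem_top g
      rw [Subgroup.mem_sup_of_normal_right] at hg
      obtain ⟨c, hc, a, ha, rfl⟩ := hg
      exact ⟨c, hc, a, ha, rfl⟩
    have hinf : C ⊓ A = ⊥ := by
      refine (hAmin (C ⊓ A) ⟨fun x hx g => ?_⟩ inf_le_right).resolve_right
        fun h => hAC (h ▸ inf_le_left)
      obtain ⟨c, hc, a, ha, rfl⟩ := hdec g
      have e : c * a * x * (c * a)⁻¹ = c * x * c⁻¹ := by
        rw [mul_assoc c a x, hAc a ha x hx.2]; group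
      rw [e]
      exact Subgroup.mem_inf.2 ⟨C.mul_mem (C.mul_mem hc hx.1) (C.inv_mem hc),
        (inferInstance : A.Normal).conj_mem x hx.2 c⟩
    have hCab : ∀ c ∈ C, ∀ d ∈ C, c * d = d * c := fun c hc d hd => by
      rw [← commutatorElement_eq_one_iff_mul_comm, ← Subgroup.mem_bot, ← hinf]
      refine Subgroup.mem_inf.2 ⟨?_, ?_⟩
      · rw [commutatorElement_def]
        exact C.mul_mem (C.mul_mem (C.mul_mem hc hd) (C.inv_mem hc)) (C.inv_mem hd)
      · rw [hA, commutator_def]
        exact Subgroup.commutator_mem_commutator (Subgroup.mem_top c) (Subgroup.mem_top d)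
    -- the complement acts fixed-point-freely
    have hfree : ∀ c ∈ C, c ≠ 1 → ∀ a ∈ A, c * a = a * c → a = 1 := by
      intro c hc hc1 a ha hca
      let Z : Subgroup L := A ⊓ Subgroup.centralizer {c}
      have hZ : Z.Normal := ⟨fun x hx g => by
        obtain ⟨hxA, hxc⟩ := Subgroup.mem_inf.1 hx
        rw [Subgroup.mem_centralizer_singleton_iff] at hxc
        refine Subgroup.mem_inf.2 ⟨(inferInstance : A.Normal).conj_mem x hxA g, ?_⟩
        rw [Subgroup.mem_centralizer_singleton_iff]
        obtain ⟨d, hd, b, hb, rfl⟩ := hdec g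
        have e : d * b * x * (d * b)⁻¹ = d * x * d⁻¹ := by
          rw [mul_assoc d b x, hAc b hb x hxA]; group
        have hcd : Commute c d := hCab c hc d hd
        have hxc' : Commute x c := hxc
        rw [e]
        exact ((hcd.symm.mul_left hxc').mul_left hcd.symm.inv_left).eq⟩
      rcases hAmin Z hZ inf_le_left with h | h
      · rw [← Subgroup.mem_bot, ← h]
        refine Subgroup.mem_inf.2 ⟨ha, ?_⟩
        rw [Subgroup.mem_centralizer_singleton_iff]
        exact hca.symm
      · exfalso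
        have hcZ : c ∈ Subgroup.center L := by
          rw [Subgroup.mem_center_iff]
          intro g
          obtain ⟨d, hd, b, hb, rfl⟩ := hdec g
          have hb' : b ∈ Z := h.ge hb
          have hbc : Commute b c := Subgroup.mem_centralizer_singleton_iff.1 hb'.2
          exact ((show Commute d c from hCab d hd c hc).mul_left hbc).eq
        have hzn : (Subgroup.zpowers c).Normal := ⟨fun x hx g => by
          have hxc : x ∈ Subgroup.center L := (Subgroup.zpowers_le.2 hcZ) hx
          rwa [Subgroup.mem_center_iff.1 hxc g, mul_inv_cancel_right]⟩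
        exact hAC ((hmin _ hzn (mt Subgroup.zpowers_eq_bot.1 hc1)).trans
          (Subgroup.zpowers_le.2 hc))
    have hcompl : Subgroup.IsComplement' A C := by
      refine Subgroup.isComplement'_of_disjoint_and_mul_eq_univ
        (disjoint_iff.2 (by rw [inf_comm]; exact hinf)) ?_
      rw [← Subgroup.normal_mul, sup_comm, hsup]
      rfl
    have hidx : A.index = Nat.card C := hcompl.symm.index_eq_card
    refine ⟨?_, ?_, ?_⟩
    · intro h
      rw [hidx, Subgroup.card_eq_one] at h
      rw [h, bot_sup_eq] at hsup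
      obtain ⟨a, b, hab⟩ := hna
      exact hab (hAc a (hsup ▸ Subgroup.mem_top a) b (hsup ▸ Subgroup.mem_top b))
    · intro hdvd
      obtain ⟨c, hc⟩ := exists_prime_orderOf_dvd_card' q (hidx ▸ hdvd)
      let Q : Subgroup L := A ⊔ Subgroup.zpowers (c : L)
      have hQ : IsPGroup q Q := IsPGroup.to_sup_of_normal_left hAq (IsPGroup.iff_card.mpr ⟨1, by
        rw [Nat.card_zpowers, Subgroup.orderOf_coe, hc, pow_one]⟩)
      have hA' : (A.subgroupOf Q) ≠ ⊥ := fun h => hAne (by
        rw [Subgroup.subgroupOf_eq_bot, disjoint_iff, inf_of_le_left le_sup_left] at h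
        exact h)
      obtain ⟨z, hz, hz1⟩ := (Subgroup.ne_bot_iff_exists_ne_one).1
        (CfsgLib.PGroup.inf_center_ne_bot hQ (A.subgroupOf Q) hA') |> fun ⟨z, hz1⟩ =>
          (⟨z.1, z.2, fun e => hz1 (Subtype.ext e)⟩ : ∃ z : Q, z ∈ A.subgroupOf Q ⊓
            Subgroup.center Q ∧ z ≠ 1)
      refine hz1 (Subtype.ext (hfree c c.2 ?_ z hz.1 ?_))
      · intro e
        rw [← Subgroup.orderOf_coe, e, orderOf_one] at hc
        exact hq.one_lt.ne hc
      · exact (congrArg Subtype.val (Subgroup.mem_center_iff.1 hz.2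
          ⟨c, Subgroup.mem_sup_right (Subgroup.mem_zpowers _)⟩))
    · intro s hs a ha
      obtain ⟨c, hc, b, hb, rfl⟩ := hdec s
      have hc1 : c ≠ 1 := by
        rintro rfl
        exact hs (by rw [one_mul]; exact hb)
      let f : A → A := fun x => ⟨c * x * c⁻¹ * (x : L)⁻¹,
        mul_mem ((inferInstance : A.Normal).conj_mem x x.2 c) (inv_mem x.2)⟩
      have hinj : Function.Injective f := by
        intro x y hxy
        have e : c * x * c⁻¹ * (x : L)⁻¹ = c * y * c⁻¹ * (y : L)⁻¹ := congrArg Subtype.val hxy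
        have h1 : c * ((x : L)⁻¹ * y) = ((x : L)⁻¹ * y) * c := by
          calc c * ((x : L)⁻¹ * y) = c * (x : L)⁻¹ * c⁻¹ * (c * y * c⁻¹ * (y : L)⁻¹) * y * c := by
                group
            _ = c * (x : L)⁻¹ * c⁻¹ * (c * x * c⁻¹ * (x : L)⁻¹) * y * c := by rw [e]
            _ = _ := by group
        have := hfree c hc hc1 _ (mul_mem (inv_mem x.2) y.2) h1
        exact Subtype.ext (inv_mul_eq_one.1 this)
      obtain ⟨x, hx⟩ := (Finite.injective_iff_surjective.1 hinj) ⟨a, ha⟩
      refine ⟨x, x.2, ?_⟩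
      have e : c * b * x * (c * b)⁻¹ = c * x * c⁻¹ := by
        rw [mul_assoc c b (x : L), hAc b hb x x.2]; group
      rw [e]
      exact congrArg Subtype.val hx

variable {G : Type u} [Group G]

/-- The degree `[G:N] ψ(1)` occurs. -/
theorem frob_degree [Fintype G] {q : ℕ} [hq : Fact q.Prime] (K N : Subgroup G) [K.Normal]
    [N.Normal] [Fintype K] [Fintype N] (hKN : K ≤ N) (hne : K ≠ N)
    (hab : ∀ g h : G, g * h * g⁻¹ * h⁻¹ ∈ N) (hNab : ∀ a ∈ N, ∀ b ∈ N, a * b * a⁻¹ * b⁻¹ ∈ K)
    (hNq : ∃ i, (K.subgroupOf N).index = q ^ i)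
    (hfree : ∀ s : G, s ∉ N → ∀ n ∈ N, ∃ x ∈ N, n⁻¹ * (s * x * s⁻¹ * x⁻¹) ∈ K)
    {ψ : N → ℂ} (hψ : Cfsg.IsIrrCharacter N ψ) (hd : ¬ q ∣ Cfsg.charDegree ψ) :
    ∃ χ : G → ℂ, Cfsg.IsIrrCharacter G χ ∧
      Cfsg.charDegree χ = N.index * Cfsg.charDegree ψ := by
  classical
  -- a character with trivial inertia induces irreducibly
  suffices hex : ∃ η : N → ℂ, Cfsg.IsIrrCharacter N η ∧ η 1 = ψ 1 ∧ inertia N η ≤ N by
    obtain ⟨η, hη, hη1, hle⟩ := hex
    have hT : inertia N η = N := le_antisymm hle (le_inertia N (isClassFunction_of_isIrr hη))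
    obtain ⟨χ, hχ0⟩ := exists_irr_over (G := G) N hη
    obtain ⟨η', hη', hind, h1⟩ := clifford_correspondence N hη N
      (fun g => ((SetLike.ext_iff.1 hT g).symm).trans (mem_inertia N)) le_rfl χ.2 hχ0
    have he : η' = η := by
      by_contra hne'
      exact hχ0 (h1.symm.trans (classInner_irr_ne hη' hη hne'))
    refine ⟨χ, χ.2, deg_of_cast ?_⟩
    rw [← hind, indFun_one, he, hη1, deg_cast hψ]
    push_cast
    rfl
  by_cases hTN : inertia N ψ ≤ N
  · exact ⟨ψ, hψ, rfl, hTN⟩
  obtain ⟨s, hsT, hsN⟩ := SetLike.not_le_iff_exists.1 hTN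
  set K' := K.subgroupOf N with hK'
  have : K'.Normal := Subgroup.Normal.subgroupOf ‹K.Normal› N
  have := Fintype.ofFinite K'
  have hresirr : Cfsg.IsIrrCharacter K' (fun k : K' => ψ k) := by
    refine isIrr_res_coprime K' hψ ?_
    obtain ⟨i, hi⟩ := hNq
    rw [hi]
    exact (((Nat.Prime.coprime_iff_not_dvd hq.out).2 hd).pow_left i).symm
  -- a nontrivial linear character of `N` trivial on `K`
  obtain ⟨lam, hlam, hlam1⟩ : ∃ lam : N →* ℂˣ, (∀ k ∈ K', lam k = 1) ∧ lam ≠ 1 := by
    have hQc : ∀ a b : N ⧸ K', a * b = b * a := by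
      intro a b
      obtain ⟨a, rfl⟩ := QuotientGroup.mk_surjective a
      obtain ⟨b, rfl⟩ := QuotientGroup.mk_surjective b
      rw [← commutatorElement_eq_one_iff_mul_comm, commutatorElement_def, ← QuotientGroup.mk_mul,
        ← QuotientGroup.mk_inv, ← QuotientGroup.mk_mul, ← QuotientGroup.mk_inv,
        ← QuotientGroup.mk_mul, QuotientGroup.eq_one_iff]
      exact hNab a a.2 b b.2
    obtain ⟨n, hnN, hnK⟩ := SetLike.exists_of_lt (lt_of_le_of_ne hKN hne)
    have := Fintype.ofFinite (N ⧸ K')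
    by_contra hall
    push Not at hall
    apply hnK
    have h1 : (⟨n, hnN⟩ : N) ∈ K' := by
      rw [← QuotientGroup.eq_one_iff]
      by_contra hne1
      obtain ⟨β, hβ⟩ : ∃ β : Cfsg.IrrCharacter (N ⧸ K'),
          (β : N ⧸ K' → ℂ) ((⟨n, hnN⟩ : N) : N ⧸ K') ≠ (β : N ⧸ K' → ℂ) 1 := by
        by_contra hb
        push Not at hb
        exact hne1 (isConj_one_left.1 ((isConj_iff_forall_irr _ _).2 fun χ => hb χ))
      have hb1 := irr_one_eq_one_of_comm hQc β.2
      have h2 := hall ((linearHom (isCharacter_of_isIrr β.2) hb1).comp (QuotientGroup.mk' K'))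
        (fun k hk => by
          rw [MonoidHom.comp_apply, QuotientGroup.mk'_apply, (QuotientGroup.eq_one_iff k).2 hk,
            map_one])
      refine hβ ?_
      have h3 := congrArg (fun f : N →* ℂˣ => ((f ⟨n, hnN⟩ : ℂˣ) : ℂ)) h2
      simp only [MonoidHom.comp_apply, QuotientGroup.mk'_apply, linearHom_apply,
        MonoidHom.one_apply, Units.val_one] at h3
      rw [h3, hb1]
    exact h1
  let η : N → ℂ := ψ * fun n => (lam n : ℂ)
  have hη : Cfsg.IsIrrCharacter N η := isIrr_mul_linear hψ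
    (isCharacter_of_isIrr (isIrrCharacter_units_hom lam)) (by simp)
  refine ⟨η, hη, by simp [η], fun t ht => ?_⟩
  by_contra htN
  apply hlam1
  -- free action on the linear characters
  have hfix : ∀ (g : G), g ∉ N → ∀ μ : N →* ℂˣ, (∀ k ∈ K', μ k = 1) →
      conjHom g μ = μ → μ = 1 := by
    intro g hg μ hμ he
    refine MonoidHom.ext fun n => ?_
    obtain ⟨x, hx, hxK⟩ := hfree g hg n n.2
    let y : N := ⟨g * x * g⁻¹, ‹N.Normal›.conj_mem x hx g⟩
    have h1 : μ (n⁻¹ * (y * ⟨x, hx⟩⁻¹)) = 1 := hμ _ hxK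
    have h2 : μ y = μ ⟨x, hx⟩ := by
      have := DFunLike.congr_fun he ⟨x, hx⟩
      rwa [conjHom_apply] at this
    rw [map_mul, map_mul, map_inv, map_inv, h2, mul_inv_cancel, mul_one, inv_eq_one] at h1
    exact h1
  -- `ψ` moved by `t` differs from `ψ` by a linear character
  let μ : N →* ℂˣ := lam * (conjHom t lam)⁻¹
  have hμK : ∀ k ∈ K', μ k = 1 := fun k hk => by
    show lam k * (conjHom t lam k)⁻¹ = 1
    rw [hlam k hk, conjHom_apply, hlam _ ?_, inv_one, one_mul]
    exact ‹K.Normal›.conj_mem k hk t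
  have hψt : conjFun N t ψ = ψ * fun n => (μ n : ℂ) := by
    funext n
    have h1 := congrFun ((mem_inertia N).1 ht) n
    show conjFun N t ψ n = ψ n * ((lam n * (conjHom t lam n)⁻¹ : ℂˣ) : ℂ)
    simp only [η, conjFun_apply, Pi.mul_apply] at h1
    rw [Units.val_mul, Units.val_inv_eq_inv_val, ← mul_assoc, ← h1, conjFun_apply, conjHom_apply]
    exact (mul_inv_cancel_right₀ (Units.ne_zero _) _).symm
  have hμ1 : μ = 1 := by
    refine hfix s hsN μ hμK ?_
    have hst : conjFun N (t * s) ψ = conjFun N (s * t) ψ := by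
      have e : t * s = (t * s * t⁻¹ * s⁻¹) * (s * t) := by group
      rw [e, ← conjFun_conjFun, conjFun_of_mem N (isClassFunction_of_isIrr hψ) (hab t s)]
    have h2 : (ψ * fun n => (conjHom s μ n : ℂ)) = ψ * fun n => (μ n : ℂ) := by
      rw [← hψt]
      conv_rhs => rw [← (mem_inertia N).1 hsT, conjFun_conjFun, ← hst, ← conjFun_conjFun, hψt]
      funext n
      have := congrFun ((mem_inertia N).1 hsT) n
      rw [conjFun_apply] at this
      simp only [Pi.mul_apply, conjFun_apply, conjHom_apply, this]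
    have hβ : ∀ f : N →* ℂˣ, (∀ k ∈ K', f k = 1) →
        ∃ β : N ⧸ K' → ℂ, Cfsg.IsIrrCharacter (N ⧸ K') β ∧
          β ∘ QuotientGroup.mk = fun n => (f n : ℂ) := fun f hf =>
      exists_irr_eq_comp_mk' K' (isIrrCharacter_units_hom f) fun k hk => by simp [hf k hk]
    obtain ⟨β, hβi, hβe⟩ := hβ μ hμK
    obtain ⟨β', hβi', hβe'⟩ := hβ (conjHom s μ) fun k hk => by
      rw [conjHom_apply]
      exact hμK _ (‹K.Normal›.conj_mem k hk s)
    have h3 := mul_comp_mk'_injective K' (isCharacter_of_isIrr hψ) hresirr hβi' hβi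
      (by rw [hβe, hβe']; exact h2)
    refine MonoidHom.ext fun n => Units.ext ?_
    rw [← congrFun hβe n, ← congrFun hβe' n, h3]
  refine hfix t htN lam hlam (MonoidHom.ext fun n => ?_)
  have := DFunLike.congr_fun hμ1 n
  exact (mul_inv_eq_one.1 this).symm

/-- A solvable group with coprime non-linear degrees `m`, `n` has derived length at most `3`. -/
theorem derived_three_of_coprime [Finite G] [Group.IsSolvable G] {m n : ℕ} (hm : 1 < m)
    (hn : 1 < n) (hco : m.Coprime n) (hG : DegIn G {m, n})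
    (hnm : ∃ χ : G → ℂ, Cfsg.IsIrrCharacter G χ ∧ Cfsg.charDegree χ = m)
    (hnn : ∃ χ : G → ℂ, Cfsg.IsIrrCharacter G χ ∧ Cfsg.charDegree χ = n) :
    derivedSeries G 3 = ⊥ := by
  classical
  have := Fintype.ofFinite G
  -- a normal subgroup maximal with non-abelian quotient
  let P : Subgroup G → Prop := fun K => K.Normal ∧ ¬ commutator G ≤ K
  have hP : P ⊥ := by
    refine ⟨inferInstance, fun h => ?_⟩
    obtain ⟨χ, hχ, hd⟩ := hnm
    have hc : ∀ a b : G, a * b = b * a := fun a b => by
      rw [← commutatorElement_eq_one_iff_mul_comm, ← Subgroup.mem_bot]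
      refine h ?_
      rw [commutator_def]
      exact Subgroup.commutator_mem_commutator (Subgroup.mem_top a) (Subgroup.mem_top b)
    have h1 := deg_of_cast (d := 1) (by rw [irr_one_eq_one_of_comm hc hχ, Nat.cast_one] :
      χ 1 = ((1 : ℕ) : ℂ))
    omega
  obtain ⟨K, hK, hKmax⟩ := (Set.toFinite {K : Subgroup G | P K}).exists_maximal ⟨⊥, hP⟩
  have := hK.1
  have hπ : Function.Surjective (QuotientGroup.mk' K) := QuotientGroup.mk'_surjective K
  have hmap : commutator (G ⧸ K) = (commutator G).map (QuotientGroup.mk' K) := by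
    rw [commutator_def, commutator_def, Subgroup.map_commutator,
      Subgroup.map_top_of_surjective _ hπ]
  have hna : ∃ a b : G ⧸ K, a * b ≠ b * a := by
    by_contra h
    push Not at h
    refine hK.2 ?_
    rw [commutator_def, Subgroup.commutator_le]
    intro a _ b _
    rw [← QuotientGroup.eq_one_iff]
    have := commutatorElement_eq_one_iff_mul_comm.2 (h (a : G ⧸ K) (b : G ⧸ K))
    rw [commutatorElement_def] at this ⊢
    simpa using this
  have hmin : ∀ M : Subgroup (G ⧸ K), M.Normal → M ≠ ⊥ → commutator (G ⧸ K) ≤ M := by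
    intro M hM hMne
    rw [hmap, Subgroup.map_le_iff_le_comap]
    by_contra h
    have hle : K ≤ M.comap (QuotientGroup.mk' K) := fun k hk => by
      rw [Subgroup.mem_comap, QuotientGroup.mk'_apply, (QuotientGroup.eq_one_iff k).2 hk]
      exact one_mem M
    have := hKmax (y := M.comap (QuotientGroup.mk' K)) ⟨hM.comap _, h⟩ hle
    refine hMne (eq_bot_iff.2 fun x hx => ?_)
    obtain ⟨g, rfl⟩ := hπ x
    exact Subgroup.mem_bot.2 ((QuotientGroup.eq_one_iff g).2 (this hx))
  have hin : ∀ χ : G → ℂ, Cfsg.IsIrrCharacter G χ → Cfsg.charDegree χ = 1 ∨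
      Cfsg.charDegree χ = m ∨ Cfsg.charDegree χ = n := fun χ hχ => by
    simpa using hG χ hχ
  rcases frob_structure hna hmin with ⟨q, hq, hqL⟩ | ⟨q, hq, hAq, hAne, hAc, hidx1, hqidx, hfr⟩
  · -- a `q`-group quotient is impossible
    exfalso
    have := Fact.mk hq
    obtain ⟨k, hk⟩ := IsPGroup.iff_card.1 hqL
    have := Fintype.ofFinite (G ⧸ K)
    obtain ⟨β, hβ⟩ : ∃ β : Cfsg.IrrCharacter (G ⧸ K), (β : G ⧸ K → ℂ) 1 ≠ 1 := by
      by_contra h
      push Not at h
      obtain ⟨a, b, hab⟩ := hna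
      exact hab (comm_iff_forall_linear.2 h a b)
    set f := Cfsg.charDegree (β : G ⧸ K → ℂ) with hf
    have hf1 : f ≠ 1 := fun e => hβ (by rw [deg_cast β.2, ← hf, e, Nat.cast_one])
    have hfd : f ∣ q ^ k := hk ▸ degree_dvd_card β.2 (deg_cast β.2)
    have hfS : f = m ∨ f = n := by
      rcases hG.quotient K _ β.2 with h | h
      · exact absurd h hf1
      · simpa using h
    have key : ∀ y, 1 < y → f.Coprime y → (y = m ∨ y = n) →
        (∃ χ : G → ℂ, Cfsg.IsIrrCharacter G χ ∧ Cfsg.charDegree χ = y) → False := by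
      rintro y hy hcy hyS ⟨χ, hχ, hd⟩
      obtain ⟨i, -, hi⟩ := (Nat.dvd_prime_pow hq).1 hfd
      have hi0 : i ≠ 0 := by rintro rfl; exact hf1 hi
      have := Fintype.ofFinite K
      have hres : Cfsg.IsIrrCharacter K (fun x : K => χ x) := by
        refine isIrr_res_coprime K hχ ?_
        rw [hd, Subgroup.index_eq_card, hk]
        rw [hi] at hcy
        exact ((Nat.coprime_pow_left_iff (Nat.pos_of_ne_zero hi0) _ _).1 hcy).symm.pow_right k
      have hirr := isIrr_mul_comp_mk' K (isCharacter_of_isIrr hχ) hres β.2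
      have hdeg := deg_of_cast (χ := χ * ((β : G ⧸ K → ℂ) ∘ QuotientGroup.mk)) (d := y * f) (by
        rw [Pi.mul_apply, apply_comp_mk'_one, deg_cast hχ, deg_cast β.2, hd, ← hf]
        push_cast
        rfl)
      have hf2 : 1 < f := by
        rcases hfS with e | e <;> omega
      have hmul : y < y * f := lt_mul_of_one_lt_right (by omega) hf2
      have hmul' : f < y * f := lt_mul_of_one_lt_left (by omega) hy
      rcases hin _ hirr with h | h | h <;> rw [hdeg] at h <;>
        rcases hfS with e | e <;> rcases hyS with e' | e' <;> first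
          | omega
          | (subst e; subst e'; exact absurd ((Nat.coprime_self _).1 hcy) (by omega))
    rcases hfS with e | e
    · exact key n hn (e ▸ hco) (Or.inr rfl) hnn
    · exact key m hm (e ▸ hco.symm) (Or.inl rfl) hnm
  · have := Fact.mk hq
    set N := (commutator (G ⧸ K)).comap (QuotientGroup.mk' K) with hN
    have : N.Normal := (inferInstance : (commutator (G ⧸ K)).Normal).comap _
    have hKN : K ≤ N := fun k hk => by
      rw [hN, Subgroup.mem_comap, QuotientGroup.mk'_apply, (QuotientGroup.eq_one_iff k).2 hk]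
      exact one_mem _
    have := Fintype.ofFinite K
    have := Fintype.ofFinite N
    have hab : ∀ g h : G, g * h * g⁻¹ * h⁻¹ ∈ N := fun g h => by
      rw [hN, Subgroup.mem_comap, commutator_def]
      simp only [map_mul, map_inv]
      exact Subgroup.commutator_mem_commutator (Subgroup.mem_top _) (Subgroup.mem_top _)
    have hNab : ∀ a ∈ N, ∀ b ∈ N, a * b * a⁻¹ * b⁻¹ ∈ K := fun a ha b hb => by
      rw [← QuotientGroup.eq_one_iff]
      have := hAc _ ha _ hb
      simp only [QuotientGroup.mk'_apply] at this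
      simp [this]
    have hne : K ≠ N := by
      intro e
      apply hAne
      rw [eq_bot_iff]
      intro x hx
      obtain ⟨g, rfl⟩ := hπ x
      exact Subgroup.mem_bot.2 ((QuotientGroup.eq_one_iff g).2 (e.ge hx))
    have hKidx : (K.subgroupOf N).index = Nat.card (commutator (G ⧸ K)) := by
      have h1 := Subgroup.relIndex_mul_index hKN
      rw [show N.index = (commutator (G ⧸ K)).index from
        Subgroup.index_comap_of_surjective _ hπ, Subgroup.index_eq_card K,
        ← (commutator (G ⧸ K)).card_mul_index] at h1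
      exact Nat.eq_of_mul_eq_mul_right (Nat.pos_of_ne_zero Subgroup.index_ne_zero_of_finite) h1
    have hNidx : N.index = (commutator (G ⧸ K)).index :=
      Subgroup.index_comap_of_surjective _ hπ
    have hfree : ∀ s : G, s ∉ N → ∀ n ∈ N, ∃ x ∈ N, n⁻¹ * (s * x * s⁻¹ * x⁻¹) ∈ K := by
      intro s hs a ha
      obtain ⟨x, hx, he⟩ := hfr (QuotientGroup.mk' K s) hs _ ha
      obtain ⟨y, rfl⟩ := hπ x
      refine ⟨y, hx, ?_⟩
      rw [← QuotientGroup.eq_one_iff]
      simp only [QuotientGroup.mk'_apply] at he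
      simp [he]
    have hNq : ∃ i, (K.subgroupOf N).index = q ^ i := hKidx ▸ IsPGroup.iff_card.1 hAq
    have hfrob := fun ψ (hψ : Cfsg.IsIrrCharacter N ψ) (hd : ¬ q ∣ Cfsg.charDegree ψ) =>
      frob_degree K N hKN hne hab hNab hNq hfree hψ hd
    -- `[G:N]` is a degree
    set f := N.index with hf
    have hf1 : 1 < f := by
      have h0 : f ≠ 0 := Subgroup.index_ne_zero_of_finite
      rw [hNidx] at h0 ⊢
      omega
    have hfS : f = m ∨ f = n := by
      obtain ⟨χ, hχ, hd⟩ := hfrob (fun _ => 1) isIrrCharacter_one (by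
        rw [deg_of_cast (χ := fun _ : N => (1 : ℂ)) (d := 1) (by simp)]
        exact hq.not_dvd_one)
      rw [deg_of_cast (χ := fun _ : N => (1 : ℂ)) (d := 1) (by simp), mul_one] at hd
      rcases hin χ hχ with h | h | h <;> omega
    obtain ⟨y, hy, hcy, hyS⟩ : ∃ y, 1 < y ∧ f.Coprime y ∧
        ∀ d, d = m ∨ d = n → d = f ∨ d = y := by
      rcases hfS with e | e
      · exact ⟨n, hn, e ▸ hco, fun d hd => by omega⟩
      · exact ⟨m, hm, e ▸ hco.symm, fun d hd => by omega⟩
    have hqf : ¬ q ∣ f := hNidx ▸ hqidx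
    have hNdeg : DegIn N {y} := by
      intro ψ hψ
      rw [Finset.mem_singleton]
      obtain ⟨χ, h0⟩ := exists_irr_over (G := G) N hψ
      obtain ⟨hdvd, hdiv⟩ := deg_dvd_of_over N χ.2 hψ h0
      have hcases : Cfsg.charDegree (χ : G → ℂ) = 1 ∨ Cfsg.charDegree (χ : G → ℂ) = f ∨
          Cfsg.charDegree (χ : G → ℂ) = y := by
        rcases hin χ χ.2 with h | h | h
        · exact Or.inl h
        · exact Or.inr ((hyS m (Or.inl rfl)).imp (h ▸ ·) (h ▸ ·))
        · exact Or.inr ((hyS n (Or.inr rfl)).imp (h ▸ ·) (h ▸ ·))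
      rcases hcases with h | h | h <;> rw [h] at hdvd
      · exact Or.inl (Nat.dvd_one.1 hdvd)
      · have hqd : ¬ q ∣ Cfsg.charDegree ψ := fun hd => hqf (hd.trans hdvd)
        obtain ⟨ξ, hξ, hd⟩ := hfrob ψ hψ hqd
        have hp := deg_pos hψ
        rcases hin ξ hξ with e | e
        · rw [hd] at e
          exact Or.inl (Nat.eq_one_of_mul_eq_one_left e)
        · rw [hd] at e
          rcases hyS _ e with e' | e'
          · exact Or.inl ((mul_eq_left₀ (by omega)).1 e')
          · have : f ∣ y := ⟨_, e'.symm⟩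
            exact absurd (Nat.Coprime.eq_one_of_dvd hcy this) (by omega)
      · rw [h] at hdiv
        have h1 : y / Cfsg.charDegree ψ = 1 :=
          Nat.eq_one_of_dvd_coprimes hcy.symm (Nat.div_dvd_of_dvd hdvd) hdiv
        have := Nat.div_mul_cancel hdvd
        rw [h1, one_mul] at this
        exact Or.inr this
    have h2 : derivedSeries N 2 = ⊥ := derived_two_of_one_degree (by simp) hNdeg
    have h1 : derivedSeries G 1 ≤ (derivedSeries N 0).map N.subtype := by
      rw [← derived_zero_le, derivedSeries_one, commutator_def, Subgroup.commutator_le]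
      intro a _ b _
      exact hab a b
    have h3 := derived_step (derived_step h1)
    rw [h2, Subgroup.map_bot] at h3
    exact le_bot_iff.1 h3

end CfsgLib.ThreeDeg
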