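import Cfsg.Agent.Lib.Char.Product
import Cfsg.Agent.Lib.Char.Restrict
import Cfsg.Agent.Lib.Char.Linear
import Cfsg.Agent.Lib.OddChar.NormalInd
import Mathlib.GroupTheory.RegularWreathProduct
import Mathlib.GroupTheory.SpecificGroups.Cyclic

/-!
# Monomiality of wreath products with groups of prime order, and Dade's embedding

* `exists_monomial_wreath`: if `M` is an M-group and `Q` has prime order, so is `M ≀ᵣ Q`;
* `exists_mgroup_embedding`: every finite solvable group embeds in an M-group.
-/

set_option autoImplicit false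

namespace CfsgLib.Char.Wreath

open scoped ComplexConjugate
open CfsgLib.CharNormal

universe u

/-- Every irreducible character is induced from a linear one. -/
def IsMonomialGroup (M : Type u) [Group M] [Fintype M] : Prop :=
  ∀ χ : M → ℂ, Cfsg.IsIrrCharacter M χ →
    ∃ (H : Subgroup M) (lam : H →* ℂˣ), χ = Cfsg.indFun H (fun h => (lam h : ℂ))

variable {M Q : Type*} [Group M] [Group Q]

/-- The base group. -/
abbrev wbase (M Q : Type*) [Group M] [Group Q] : Subgroup (M ≀ᵣ Q) :=
  (RegularWreathProduct.rightHom : M ≀ᵣ Q →* Q).ker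

theorem wbase_right (b : wbase M Q) : (b : M ≀ᵣ Q).right = 1 := b.2

/-- A coordinate of the base group. -/
def coord (q : Q) : wbase M Q →* M where
  toFun b := (b : M ≀ᵣ Q).left q
  map_one' := rfl
  map_mul' a b := by
    simp [wbase_right a]

/-- The base group as functions. -/
def baseEquiv : wbase M Q ≃ (Q → M) where
  toFun b := (b : M ≀ᵣ Q).left
  invFun y := ⟨⟨y, 1⟩, rfl⟩
  left_inv b := Subtype.ext (RegularWreathProduct.ext rfl (wbase_right b).symm)
  right_inv _ := rfl

theorem sum_base {β : Type*} [AddCommMonoid β] [Fintype (wbase M Q)] [Fintype (Q → M)]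
    (F : (Q → M) → β) : ∑ b : wbase M Q, F (b : M ≀ᵣ Q).left = ∑ y : Q → M, F y :=
  Fintype.sum_equiv baseEquiv _ _ fun _ => rfl

variable [Fintype M] [Fintype Q] [Fintype (M ≀ᵣ Q)] [Fintype (wbase M Q)]

/-- The tensor product of a family of functions. -/
def tens (f : Q → M → ℂ) : wbase M Q → ℂ := fun b => ∏ q, f q ((b : M ≀ᵣ Q).left q)

theorem isCharacter_prod_comp {ι : Type*} (s : Finset ι) (g : ι → (wbase M Q → ℂ))
    (h : ∀ i ∈ s, Cfsg.IsCharacter (wbase M Q) (g i)) :
    Cfsg.IsCharacter (wbase M Q) (∏ i ∈ s, g i) := by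
  classical
  induction s using Finset.induction_on with
  | empty =>
    rw [Finset.prod_empty]
    exact isCharacter_one
  | insert a t ha ih =>
    rw [Finset.prod_insert ha]
    exact isCharacter_mul (h a (Finset.mem_insert_self a t))
      (ih fun i hi => h i (Finset.mem_insert_of_mem hi))

theorem isCharacter_tens {f : Q → M → ℂ} (hf : ∀ q, Cfsg.IsCharacter M (f q)) :
    Cfsg.IsCharacter (wbase M Q) (tens f) := by
  have : tens f = ∏ q, fun b : wbase M Q => f q (coord q b) := by
    funext b
    rw [Finset.prod_apply]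
    rfl
  rw [this]
  exact isCharacter_prod_comp _ _ fun q _ => isCharacter_comp (hf q) (coord q)

theorem classInner_tens (f g : Q → M → ℂ) :
    Cfsg.classInner (tens f) (tens g) = ∏ q, Cfsg.classInner (f q) (g q) := by
  classical
  simp only [classInner_def, tens]
  rw [sum_base fun y => (∏ q, f q (y q)) * conj (∏ q, g q (y q)), Finset.prod_mul_distrib,
    Fintype.prod_sum, Nat.card_congr baseEquiv, Nat.card_fun, Finset.prod_const, Nat.cast_pow,
    Finset.card_univ, ← Nat.card_eq_fintype_card (α := Q), inv_pow]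
  simp only [map_prod, ← Finset.prod_mul_distrib]

theorem isIrr_tens (f : Q → Cfsg.IrrCharacter M) :
    Cfsg.IsIrrCharacter (wbase M Q) (tens fun q => (f q : M → ℂ)) := by
  refine irr_of_norm_one (isCharacter_tens fun q => isCharacter_of_isIrr (f q).2) ?_
  rw [classInner_tens]
  exact Finset.prod_eq_one fun q _ => classInner_irr_self (f q).2

theorem classInner_tens_irr [DecidableEq (Q → Cfsg.IrrCharacter M)] (f g : Q → Cfsg.IrrCharacter M) :
    Cfsg.classInner (tens fun q => (f q : M → ℂ)) (tens fun q => (g q : M → ℂ)) =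
      if f = g then 1 else 0 := by
  classical
  rw [classInner_tens]
  split_ifs with h
  · subst h
    exact Finset.prod_eq_one fun q _ => classInner_irr_self (f q).2
  · obtain ⟨q, hq⟩ := Function.ne_iff.1 h
    exact Finset.prod_eq_zero (Finset.mem_univ q) (by rw [classInner_irrCharacter, if_neg hq])

theorem conjFun_tens {f : Q → M → ℂ} (hf : ∀ q, Cfsg.IsClassFunction M (f q)) (g : M ≀ᵣ Q) :
    conjFun (wbase M Q) g (tens f) = tens fun q => f (g.right * q) := by
  funext b
  rw [conjFun_apply]
  simp only [tens]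
  refine Fintype.prod_equiv (Equiv.mulLeft g.right⁻¹) _ _ fun q => ?_
  have hb : (b : M ≀ᵣ Q).right = 1 := wbase_right b
  simp only [Equiv.coe_mulLeft, mul_inv_cancel_left, RegularWreathProduct.mul_left,
    RegularWreathProduct.mul_right, RegularWreathProduct.inv_left, Pi.mul_apply, Pi.inv_apply, hb,
    mul_one]
  exact hf q _ _

/-- The regular character of the base is a combination of tensor products. -/
theorem exists_tens_constituent {χ : M ≀ᵣ Q → ℂ} (hχ : Cfsg.IsIrrCharacter (M ≀ᵣ Q) χ) :
    ∃ f : Q → Cfsg.IrrCharacter M,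
      Cfsg.classInner (tens fun q => (f q : M → ℂ)) (fun b : wbase M Q => χ b) ≠ 0 := by
  classical
  by_contra hall
  push Not at hall
  set R : wbase M Q → ℂ :=
    ∑ f : Q → Cfsg.IrrCharacter M, (∏ q, (f q : M → ℂ) 1) • tens (fun q => (f q : M → ℂ)) with hR
  have h0 : Cfsg.classInner R (fun b : wbase M Q => χ b) = 0 := by
    rw [hR, classInner_sum_left]
    exact Finset.sum_eq_zero fun f _ => by rw [classInner_smul_left, hall f, mul_zero]
  have hval : ∀ b : wbase M Q, R b = if b = 1 then (Nat.card (wbase M Q) : ℂ) else 0 := by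
    intro b
    rw [hR, Finset.sum_apply]
    simp only [Pi.smul_apply, smul_eq_mul, tens, ← Finset.prod_mul_distrib]
    rw [← Fintype.prod_sum (fun q (φ : Cfsg.IrrCharacter M) =>
      (φ : M → ℂ) 1 * (φ : M → ℂ) ((b : M ≀ᵣ Q).left q))]
    simp only [sum_degree_mul_apply]
    split_ifs with hb
    · subst hb
      rw [Finset.prod_congr rfl fun q _ => if_pos (show ((1 : wbase M Q) : M ≀ᵣ Q).left q = 1 from rfl),
        Nat.card_congr baseEquiv, Nat.card_fun, Finset.prod_const, Finset.card_univ, Nat.cast_pow,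
        ← Nat.card_eq_fintype_card (α := Q)]
    · obtain ⟨q, hq⟩ : ∃ q, (b : M ≀ᵣ Q).left q ≠ 1 := by
        by_contra hq
        push Not at hq
        exact hb (baseEquiv.injective (funext fun q => hq q))
      exact Finset.prod_eq_zero (Finset.mem_univ q) (if_neg hq)
  rw [classInner_def, Finset.sum_eq_single 1 (fun b _ hb => by rw [hval b, if_neg hb, zero_mul])
    (by simp), hval 1, if_pos rfl, inv_mul_cancel_left₀ card_ne_zero', map_eq_zero] at h0
  exact irr_one_ne_zero hχ h0

/-- A tensor product of monomial characters is monomial. -/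
theorem tens_eq_indFun (H : Q → Subgroup M) (lam : ∀ q, H q →* ℂˣ) (K : Subgroup (wbase M Q))
    (hK : ∀ b, b ∈ K ↔ ∀ q, (b : M ≀ᵣ Q).left q ∈ H q) (L : K → ℂ)
    (hL : ∀ b : K, L b = ∏ q, (lam q ⟨(b : M ≀ᵣ Q).left q, (hK b).1 b.2 q⟩ : ℂ)) :
    Cfsg.indFun K L = tens fun q => Cfsg.indFun (H q) fun h => (lam q h : ℂ) := by
  classical
  funext b
  have hext : ∀ c : wbase M Q, Cfsg.extendByZero K L c =
      ∏ q, Cfsg.extendByZero (H q) (fun h => (lam q h : ℂ)) ((c : M ≀ᵣ Q).left q) := by
    intro c
    by_cases hc : c ∈ K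
    · rw [extendByZero_of_mem _ hc, hL]
      exact Finset.prod_congr rfl fun q _ => (extendByZero_of_mem
        (fun h : H q => (lam q h : ℂ)) ((hK c).1 hc q)).symm
    · obtain ⟨q, hq⟩ := not_forall.1 fun h => hc ((hK c).2 h)
      rw [extendByZero_of_notMem _ hc]
      exact (Finset.prod_eq_zero (Finset.mem_univ q)
        (extendByZero_of_notMem (fun h : H q => (lam q h : ℂ)) hq)).symm
  have hcard : Nat.card K = ∏ q, Nat.card (H q) := by
    rw [← Nat.card_pi]
    exact Nat.card_congr
      { toFun := fun c q => ⟨(c : M ≀ᵣ Q).left q, (hK c).1 c.2 q⟩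
        invFun := fun y => ⟨baseEquiv.symm fun q => y q, (hK _).2 fun q => (y q).2⟩
        left_inv := fun c => Subtype.ext (baseEquiv.symm_apply_apply (c : wbase M Q))
        right_inv := fun y => rfl }
  simp only [tens, indFun_apply, hext, Finset.prod_mul_distrib, hcard, Nat.cast_prod,
    Finset.prod_inv_distrib, Fintype.prod_sum]
  congr 1
  have e : ∀ x : wbase M Q, ∀ q,
      ((x⁻¹ * b * x : wbase M Q) : M ≀ᵣ Q).left q =
        ((x : M ≀ᵣ Q).left q)⁻¹ * (b : M ≀ᵣ Q).left q * (x : M ≀ᵣ Q).left q := fun x q => by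
    show coord q (x⁻¹ * b * x) = (coord q x)⁻¹ * coord q b * coord q x
    simp
  simp only [e]
  exact sum_base fun y => ∏ q, Cfsg.extendByZero (H q) (fun h => (lam q h : ℂ))
    ((y q)⁻¹ * (b : M ≀ᵣ Q).left q * y q)

omit [Fintype (wbase M Q)] in
/-- If `M` is an M-group and `Q` has prime order, `M ≀ᵣ Q` is an M-group. -/
theorem exists_monomial_wreath [Fact (Nat.card Q).Prime] (hM : IsMonomialGroup M)
    {χ : M ≀ᵣ Q → ℂ} (hχ : Cfsg.IsIrrCharacter (M ≀ᵣ Q) χ) :
    ∃ (H : Subgroup (M ≀ᵣ Q)) (lam : H →* ℂˣ), χ = Cfsg.indFun H (fun h => (lam h : ℂ)) := by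
  classical
  have : Fintype (wbase M Q) := Fintype.ofFinite _
  have hcl := isClassFunction_of_isIrr hχ
  obtain ⟨f, hf⟩ := exists_tens_constituent hχ
  choose H lam hlam using fun q => hM (f q) (f q).2
  set θ := tens fun q => (f q : M → ℂ) with hθdef
  have hθ : Cfsg.IsIrrCharacter (wbase M Q) θ := isIrr_tens f
  have hconj : ∀ g : M ≀ᵣ Q, conjFun (wbase M Q) g θ = tens fun q => (f (g.right * q) : M → ℂ) :=
    fun g => conjFun_tens (fun q => isClassFunction_of_isIrr (f q).2) g
  have hind : Cfsg.classInner (Cfsg.indFun (wbase M Q) θ) χ ≠ 0 := by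
    rwa [frobenius_reciprocity _ _ hcl]
  by_cases hconst : ∀ q, f q = f 1
  · -- invariant case
    set φ := f 1
    set H₀ := H 1
    set l₀ := lam 1
    have hφ : (φ : M → ℂ) = Cfsg.indFun H₀ (fun h => (l₀ h : ℂ)) := hlam 1
    let L : Subgroup (M ≀ᵣ Q) :=
      { carrier := {w | ∀ q, w.left q ∈ H₀}
        one_mem' := fun q => H₀.one_mem
        mul_mem' := fun {a b} ha hb q => by
          simpa using H₀.mul_mem (ha q) (hb (a.right⁻¹ * q))
        inv_mem' := fun {a} ha q => by simpa using H₀.inv_mem (ha (a.right * q)) }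
    have hmem : ∀ w, w ∈ L ↔ ∀ q, w.left q ∈ H₀ := fun w => Iff.rfl
    let Λ : L →* ℂˣ :=
      { toFun := fun w => ∏ q, l₀ ⟨(w : M ≀ᵣ Q).left q, w.2 q⟩
        map_one' := Finset.prod_eq_one fun q _ => l₀.map_one
        map_mul' := fun a b => by
          have : ∏ q, l₀ ⟨(b : M ≀ᵣ Q).left q, b.2 q⟩ =
              ∏ q, l₀ ⟨(b : M ≀ᵣ Q).left ((a : M ≀ᵣ Q).right⁻¹ * q), b.2 _⟩ :=
            (Fintype.prod_equiv (Equiv.mulLeft (a : M ≀ᵣ Q).right⁻¹) _ _ fun q => rfl).symm
          rw [this, ← Finset.prod_mul_distrib]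
          refine Finset.prod_congr rfl fun q _ => ?_
          rw [← map_mul]
          rfl }
    set X := Cfsg.indFun L (fun w => (Λ w : ℂ)) with hXdef
    have hLcl : Cfsg.IsClassFunction L (fun w => (Λ w : ℂ)) :=
      isClassFunction_of_isIrr (isIrrCharacter_units_hom Λ)
    have hXchar : Cfsg.IsCharacter (M ≀ᵣ Q) X :=
      isCharacter_indFun L (isCharacter_of_isIrr (isIrrCharacter_units_hom Λ))
    have hsplit : ∀ g : M ≀ᵣ Q, ∃ k ∈ wbase M Q, ∃ h ∈ L, g = k * h := fun g =>
      ⟨⟨g.left, 1⟩, rfl, RegularWreathProduct.inl g.right, fun q => H₀.one_mem,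
        RegularWreathProduct.ext (funext fun q => by simp) (by simp)⟩
    have hres : (fun b : wbase M Q => X b) = θ := by
      funext b
      rw [hXdef, indFun_res_of_mul_eq_top L (wbase M Q) hLcl hsplit b,
        tens_eq_indFun (fun _ => H₀) (fun _ => l₀) _ (fun b => Subgroup.mem_subgroupOf) _
          (fun b => by simp [Λ])]
      simp only [← hφ, hθdef, hconst]
    have hXμ : ∀ ν : Q →* ℂˣ, Cfsg.IsIrrCharacter (M ≀ᵣ Q) (fun w => X w * (ν w.right : ℂ)) := by
      intro ν
      refine isIrr_of_comp_isIrr (wbase M Q).subtype (isCharacter_mul hXchar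
        (isCharacter_of_isIrr
          (isIrrCharacter_units_hom (ν.comp RegularWreathProduct.rightHom)))) ?_
      have : (fun b : wbase M Q => X b * (ν (b : M ≀ᵣ Q).right : ℂ)) = θ := by
        funext b
        simp [wbase_right b, ← hres]
      exact this ▸ hθ
    have hQcomm : ∀ a b : Q, a * b = b * a := fun a b => by
      have := isCyclic_of_prime_card (α := Q) rfl
      exact (IsCyclic.commGroup (α := Q)).mul_comm a b
    have hcardB : Nat.card (M ≀ᵣ Q) = Nat.card Q * Nat.card (wbase M Q) := by
      rw [RegularWreathProduct.card, Nat.card_congr baseEquiv, Nat.card_fun]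
      ring
    have hsum : Cfsg.indFun (wbase M Q) θ =
        ∑ ν : Cfsg.IrrCharacter Q, fun w => X w * (ν : Q → ℂ) w.right := by
      have h1 := indFun_mul (wbase M Q) (fun _ => 1) (isClassFunction_of_isCharacter hXchar)
      have h2 : ((fun _ => (1 : ℂ)) * fun b : wbase M Q => X b) = θ := by
        rw [← hres]; funext b; simp
      rw [h2] at h1
      rw [← h1]
      funext w
      rw [Pi.mul_apply, Finset.sum_apply, ← Finset.mul_sum, mul_comm]
      congr 1
      have h3 := sum_degree_mul_apply (G := Q) w.right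
      simp only [fun ν : Cfsg.IrrCharacter Q => irr_one_eq_one_of_comm hQcomm ν.2, one_mul] at h3
      rw [h3, indFun_apply]
      by_cases hw : w.right = 1
      · rw [if_pos hw, Finset.sum_congr rfl fun x _ => extendByZero_of_mem _
          (show x⁻¹ * w * x ∈ wbase M Q from show (x⁻¹ * w * x).right = 1 by simp [hw])]
        simp only [Finset.sum_const, Finset.card_univ, ← Nat.card_eq_fintype_card, nsmul_eq_mul,
          mul_one, hcardB, Nat.cast_mul]
        field_simp [card_subgroup_ne_zero (wbase M Q)]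
        exact div_self (card_subgroup_ne_zero _)
      · rw [if_neg hw, Finset.sum_eq_zero, mul_zero]
        intro x _
        refine extendByZero_of_notMem _ fun hx => hw ?_
        have h4 : (x⁻¹ * w * x).right = 1 := hx
        rw [RegularWreathProduct.mul_right, RegularWreathProduct.mul_right,
          RegularWreathProduct.inv_right, hQcomm, mul_inv_cancel_left] at h4
        exact h4
    rw [hsum, classInner_sum_left] at hind
    obtain ⟨ν, -, hν⟩ := Finset.exists_ne_zero_of_sum_ne_zero hind
    set μ := linearHom (isCharacter_of_isIrr ν.2) (irr_one_eq_one_of_comm hQcomm ν.2)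
    have hμ : ∀ q, (ν : Q → ℂ) q = (μ q : ℂ) := fun q => (linearHom_apply _ _ q).symm
    simp only [hμ] at hν
    have heq : (fun w => X w * (μ w.right : ℂ)) = χ := by
      by_contra hne
      exact hν (classInner_irr_ne (hXμ μ) hχ hne)
    refine ⟨L, Λ * (μ.comp (RegularWreathProduct.rightHom.comp L.subtype)), ?_⟩
    rw [← heq]
    exact indFun_mul L (fun w => (Λ w : ℂ))
      (isClassFunction_of_isIrr (isIrrCharacter_units_hom (μ.comp RegularWreathProduct.rightHom)))
  · -- the inertia group is the base
    have hstab : ∀ c : Q, (fun q => f (c * q)) = f → c = 1 := by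
      intro c hc
      by_contra hc1
      apply hconst
      intro q
      obtain ⟨k, rfl⟩ : q ∈ Subgroup.zpowers c := by
        rw [zpowers_eq_top_of_prime_card rfl hc1]
        trivial
      induction k with
      | zero => simp
      | succ n ih =>
        show f (c ^ ((n : ℤ) + 1)) = f 1
        rw [add_comm, zpow_one_add]
        exact (congrFun hc _).trans ih
      | pred n ih =>
        show f (c ^ (-(n : ℤ) - 1)) = f 1
        rw [← congrFun hc (c ^ (-(n : ℤ) - 1)), ← zpow_one_add]
        simpa using ih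
    have hirr : Cfsg.IsIrrCharacter (M ≀ᵣ Q) (Cfsg.indFun (wbase M Q) θ) := by
      refine irr_of_norm_one (isCharacter_indFun _ (isCharacter_of_isIrr hθ)) ?_
      rw [frobenius_reciprocity' _ _ (isClassFunction_indFun _ _),
        CfsgLib.OddChar.res_indFun_normal, classInner_smul_left, classInner_sum_left]
      simp only [hconj]
      simp only [hθdef]
      rw [Finset.sum_congr rfl fun g _ => classInner_tens_irr (fun q => f (g.right * q)) f]
      rw [← Finset.sum_filter, Finset.sum_const, nsmul_eq_mul, mul_one]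
      have : (Finset.univ.filter fun g : M ≀ᵣ Q => (fun q => f (g.right * q)) = f).card =
          Nat.card (wbase M Q) := by
        rw [Nat.card_eq_fintype_card, Fintype.card_of_subtype]
        intro g
        simp only [Finset.mem_filter, Finset.mem_univ, true_and]
        exact ⟨fun h => hstab g.right h, fun (h : g.right = 1) => by simp [h]⟩
      rw [this, inv_mul_cancel₀ card_ne_zero']
    have heq : Cfsg.indFun (wbase M Q) θ = χ := by
      by_contra hne
      exact hind (classInner_irr_ne hirr hχ hne)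
    let K : Subgroup (wbase M Q) := ⨅ q, (H q).comap (coord q)
    have hK : ∀ b, b ∈ K ↔ ∀ q, (b : M ≀ᵣ Q).left q ∈ H q := fun b => by
      simp [K, Subgroup.mem_iInf, coord]
    let Λ : K →* ℂˣ :=
      { toFun := fun b => ∏ q, lam q ⟨(b : M ≀ᵣ Q).left q, (hK b).1 b.2 q⟩
        map_one' := Finset.prod_eq_one fun q _ => (lam q).map_one
        map_mul' := fun a b => by
          rw [← Finset.prod_mul_distrib]
          refine Finset.prod_congr rfl fun q _ => ?_
          rw [← map_mul]
          exact congrArg (lam q) (Subtype.ext (map_mul (coord q) (a : wbase M Q) b)) }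
    refine ⟨K.map (wbase M Q).subtype, Λ.comp
      (Subgroup.equivMapOfInjective K _ (wbase M Q).subtype_injective).symm.toMonoidHom, ?_⟩
    have hθK : Cfsg.indFun K (fun b => (Λ b : ℂ)) = θ := by
      rw [tens_eq_indFun H lam K hK _ (fun b => by simp [Λ]), hθdef]
      exact congrArg tens (funext fun q => (hlam q).symm)
    rw [← heq, ← hθK]
    exact (indFun_map (wbase M Q) K fun b => (Λ b : ℂ)).symm

/-- The Kaloujnine–Krasner embedding. -/
theorem exists_wreath_embedding {G : Type*} [Group G] (N : Subgroup G) [N.Normal] :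
    ∃ f : G →* N ≀ᵣ (G ⧸ N), Function.Injective f := by
  classical
  have key : ∀ (g : G) (q : G ⧸ N),
      q.out⁻¹ * g * ((g : G ⧸ N)⁻¹ * q).out ∈ N := by
    intro g q
    rw [← QuotientGroup.eq_one_iff]
    simp
  let f : G →* N ≀ᵣ (G ⧸ N) :=
    { toFun := fun g => ⟨fun q => ⟨_, key g q⟩, g⟩
      map_one' := by
        refine RegularWreathProduct.ext (funext fun q => Subtype.ext ?_) rfl
        simp
      map_mul' := fun g h => by
        refine RegularWreathProduct.ext (funext fun q => Subtype.ext ?_) (by simp)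
        simp [mul_assoc] }
  refine ⟨f, (injective_iff_map_eq_one f).2 fun g hg => ?_⟩
  have h1 : (g : G ⧸ N) = 1 := congrArg RegularWreathProduct.right hg
  have h2 : ((f g).left 1 : G) = 1 := by rw [hg]; rfl
  simp only [f, MonoidHom.coe_mk, OneHom.coe_mk, h1, inv_one, one_mul] at h2
  simpa [mul_assoc, inv_mul_eq_one, mul_eq_one_iff_eq_inv] using h2

/-- A nontrivial finite solvable group has a normal subgroup of prime index. -/
theorem exists_normal_prime_index {G : Type*} [Group G] [Finite G] [Nontrivial G]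
    (hG : Group.IsSolvable G) : ∃ N : Subgroup G, N.Normal ∧ N.index.Prime := by
  have hlt := hG.commutator_lt_top_of_nontrivial G
  obtain ⟨N, hN, hle⟩ := (eq_top_or_exists_le_coatom (commutator G)).resolve_left hlt.ne
  have hnorm : N.Normal := ⟨fun n hn g => by
    have h := hle (Subgroup.commutator_mem_commutator (Subgroup.mem_top g) (Subgroup.mem_top n))
    simpa [commutatorElement_def] using N.mul_mem h hn⟩
  refine ⟨N, hnorm, ?_⟩
  have : IsMulCommutative (G ⧸ N) := ⟨⟨fun a b => by
    obtain ⟨a, rfl⟩ := QuotientGroup.mk'_surjective N a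
    obtain ⟨b, rfl⟩ := QuotientGroup.mk'_surjective N b
    rw [← map_mul, ← map_mul]
    refine QuotientGroup.eq.2 (hle ?_)
    have h := Subgroup.commutator_mem_commutator (Subgroup.mem_top b⁻¹) (Subgroup.mem_top a⁻¹)
    rw [← commutator_def] at h
    simpa [commutatorElement_def, mul_assoc] using h⟩⟩
  have : Nontrivial (G ⧸ N) := QuotientGroup.nontrivial_iff.2 hN.1
  have : IsSimpleGroup (G ⧸ N) := ⟨fun K hK => by
    rcases hN.le_iff.1 (QuotientGroup.le_comap_mk' N K) with h | h
    · right
      exact Subgroup.comap_injective (QuotientGroup.mk'_surjective N) (by rw [h, Subgroup.comap_top])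
    · left
      exact Subgroup.comap_injective (QuotientGroup.mk'_surjective N)
        (by rw [h, MonoidHom.comap_bot, QuotientGroup.ker_mk'])⟩
  exact Group.is_simple_iff_prime_card.1 inferInstance

/-- Dade: every finite solvable group embeds in an M-group. -/
theorem exists_mgroup_embedding : ∀ (n : ℕ) (G : Type u) [Group G] [Finite G],
    Nat.card G = n → Group.IsSolvable G →
    ∃ (W : Type u) (_ : Group W) (_ : Fintype W), IsMonomialGroup W ∧
      ∃ f : G →* W, Function.Injective f := by
  intro n
  induction n using Nat.strong_induction_on with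
  | _ n ih =>
  intro G _ _ hn hsolv
  rcases subsingleton_or_nontrivial G with hs | hnt
  · have := Fintype.ofFinite G
    refine ⟨G, inferInstance, this, fun χ hχ => ?_, MonoidHom.id G, fun a b h => h⟩
    have h1 := irr_one_eq_one_of_comm (fun a b => Subsingleton.elim _ _) hχ
    refine ⟨⊤, (linearHom (isCharacter_of_isIrr hχ) h1).comp (⊤ : Subgroup G).subtype, ?_⟩
    conv_lhs => rw [← indFun_top (isClassFunction_of_isIrr hχ)]
    congr 1
  · obtain ⟨N, hN, hp⟩ := exists_normal_prime_index hsolv
    have hlt : Nat.card N < n := by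
      rw [← hn, ← N.index_mul_card]
      exact lt_mul_of_one_lt_left Nat.card_pos hp.one_lt
    obtain ⟨W₀, gW₀, fW₀, hW₀, f₀, hf₀⟩ := ih _ hlt N rfl inferInstance
    obtain ⟨g, hg⟩ := exists_wreath_embedding N
    have := Fintype.ofFinite (G ⧸ N)
    have := Fintype.ofFinite (W₀ ≀ᵣ (G ⧸ N))
    have : Fact (Nat.card (G ⧸ N)).Prime := ⟨hp⟩
    let j : N ≀ᵣ (G ⧸ N) →* W₀ ≀ᵣ (G ⧸ N) :=
      { toFun := fun x => ⟨fun q => f₀ (x.left q), x.right⟩
        map_one' := RegularWreathProduct.ext (funext fun q => f₀.map_one) rfl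
        map_mul' := fun x y => RegularWreathProduct.ext (funext fun q => by simp) rfl }
    refine ⟨W₀ ≀ᵣ (G ⧸ N), inferInstance, inferInstance,
      fun χ hχ => exists_monomial_wreath hW₀ hχ, j.comp g, ?_⟩
    have hj : Function.Injective j := fun x y h => ?_
    · exact hj.comp hg
    exact RegularWreathProduct.ext
      (funext fun q => hf₀ (congrFun (congrArg RegularWreathProduct.left h) q))
      (congrArg RegularWreathProduct.right h :)

end CfsgLib.Char.Wreath
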