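import Cfsg.Prelude.Def_LieExceptional
import Cfsg.Agent.S0878
import Cfsg.Agent.S4252
import Cfsg.Agent.Lib.Solvable.FrobeniusTheorem
import Cfsg.Agent.Lib.Solvable.FrobeniusComplement
import Cfsg.Agent.Lib.Char.PermChar
import Mathlib.GroupTheory.SpecificGroups.ZGroup

/-!
# Zassenhaus groups with a two-point stabiliser of odd order

Counting, the swapping involutions, and (for simple groups) inversion of the two-point stabiliser.
-/

set_option autoImplicit false

namespace CfsgLib.Char.Zassenhaus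

open MulAction

variable {G Ω : Type*} [Group G] [Finite G] [MulAction G Ω] [Fintype Ω]

section Basic

variable (hZ : Cfsg.IsZassenhausGroup G Ω) {a b : Ω} (hab : a ≠ b)

omit [Finite G] [Fintype Ω] in
include hZ in
theorem exists_map {c d c' d' : Ω} (h : c ≠ d) (h' : c' ≠ d') :
    ∃ g : G, g • c = c' ∧ g • d = d' :=
  (MulAction.is_two_pretransitive_iff).mp hZ.2.1 h h'

omit [Finite G] [Fintype Ω] in
include hZ in
theorem eq_one_of_fix {g : G} {c d f : Ω} (h1 : c ≠ d) (h2 : d ≠ f) (h3 : c ≠ f)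
    (hc : g • c = c) (hd : g • d = d) (hf : g • f = f) : g = 1 :=
  hZ.2.2.1 g c d f h1 h2 h3 hc hd hf

omit [Finite G] [Fintype Ω] in
include hZ hab in
theorem exists_ne_one_fix : ∃ x ∈ (stabilizer G a ⊓ stabilizer G b : Subgroup G), x ≠ 1 := by
  obtain ⟨g₀, hg₀, a₀, b₀, hab₀, ha₀, hb₀⟩ := hZ.2.2.2.1
  obtain ⟨t, ht1, ht2⟩ := exists_map hZ hab₀ hab
  refine ⟨t * g₀ * t⁻¹, Subgroup.mem_inf.mpr ⟨?_, ?_⟩, fun e => hg₀ (conj_eq_one_iff.mp e)⟩
  · rw [mem_stabilizer_iff, ← ht1, mul_smul, inv_smul_smul, mul_smul, ha₀]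
  · rw [mem_stabilizer_iff, ← ht2, mul_smul, inv_smul_smul, mul_smul, hb₀]

include hZ hab in
theorem three_le_of_odd (hodd : Odd (Nat.card (stabilizer G a ⊓ stabilizer G b : Subgroup G))) :
    3 ≤ Nat.card (stabilizer G a ⊓ stabilizer G b : Subgroup G) := by
  obtain ⟨x, hx, hx1⟩ := exists_ne_one_fix hZ hab
  have : Nontrivial (stabilizer G a ⊓ stabilizer G b : Subgroup G) :=
    ⟨⟨⟨x, hx⟩, 1, fun h => hx1 (congrArg Subtype.val h)⟩⟩
  have := Finite.one_lt_card (α := (stabilizer G a ⊓ stabilizer G b : Subgroup G))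
  obtain ⟨k, hk⟩ := hodd
  omega

omit [Finite G] in
include hZ hab in
theorem three_le_points : 3 ≤ Fintype.card Ω := by
  classical
  by_contra h
  obtain ⟨g₀, hg₀, a₀, b₀, hab₀, ha₀, hb₀⟩ := hZ.2.2.2.1
  refine hg₀ (hZ.1.eq_of_smul_eq_smul fun c => ?_)
  rw [one_smul]
  have hsub : ({a₀, b₀} : Finset Ω) = Finset.univ := by
    refine Finset.eq_univ_of_card _ ?_
    have := Finset.card_le_univ ({a₀, b₀} : Finset Ω)
    rw [Finset.card_pair hab₀] at this ⊢
    omega
  have := hsub ▸ Finset.mem_univ c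
  simp only [Finset.mem_insert, Finset.mem_singleton] at this
  rcases this with rfl | rfl
  · exact ha₀
  · exact hb₀

omit [Finite G] [Fintype Ω] in
include hZ in
theorem isPretransitive : IsPretransitive G Ω := by
  classical
  refine ⟨fun c d => ?_⟩
  by_cases h : c = d
  · exact ⟨1, by rw [one_smul, h]⟩
  · obtain ⟨g, hg, -⟩ := exists_map hZ h (Ne.symm h)
    exact ⟨g, hg⟩

omit [Finite G] in
include hZ in
/-- An orbit count: the stabiliser of a point has index `|Ω|`. -/
theorem card_stabilizer_mul (c : Ω) : Fintype.card Ω * Nat.card (stabilizer G c) = Nat.card G := by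
  have := isPretransitive hZ
  rw [← Nat.card_eq_fintype_card, ← MulAction.index_stabilizer_of_transitive G c,
    Subgroup.index_mul_card]

include hZ hab in
/-- The order of the group. -/
theorem card_group :
    Fintype.card Ω * (Fintype.card Ω - 1) *
      Nat.card (stabilizer G a ⊓ stabilizer G b : Subgroup G) = Nat.card G := by
  classical
  rw [← card_stabilizer_mul hZ a, mul_assoc]
  congr 1
  let B := stabilizer G a
  have h1 : (stabilizer G b).relIndex B = Fintype.card Ω - 1 := by
    have hset : MulAction.orbit B b = ({a}ᶜ : Set Ω) := by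
      ext c
      constructor
      · rintro ⟨g, rfl⟩ hc
        exact hab (smul_left_cancel (g : G)
          ((mem_stabilizer_iff.mp g.2).trans (Set.mem_singleton_iff.mp hc).symm))
      · intro hc
        obtain ⟨g, hg1, hg2⟩ := exists_map hZ hab (Ne.symm hc : a ≠ c)
        exact ⟨⟨g, hg1⟩, hg2⟩
    have h2 := MulAction.index_stabilizer B b
    rw [hset, Set.ncard_compl, Set.ncard_singleton, Nat.card_eq_fintype_card] at h2
    rw [← h2]
    rfl
  have h3 := Subgroup.card_mul_index ((stabilizer G b).subgroupOf B)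
  rw [show ((stabilizer G b).subgroupOf B).index = (stabilizer G b).relIndex B from rfl, h1] at h3
  rw [← h3, mul_comm]
  congr 1
  rw [← Subgroup.inf_subgroupOf_left]
  exact (Nat.card_congr (Subgroup.subgroupOfEquivOfLe inf_le_left).toEquiv).symm

omit [Finite G] in
include hab in
/-- An element mapping `a, b` to `b, a` lies in the swapping coset. -/
theorem swap_mul_mem {t w : G} (hta : t • a = b) (htb : t • b = a) (hwa : w • a = b) (hwb : w • b = a) :
    t⁻¹ * w ∈ (stabilizer G a ⊓ stabilizer G b : Subgroup G) :=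
  Subgroup.mem_inf.mpr ⟨by rw [mem_stabilizer_iff, mul_smul, hwa, inv_smul_eq_iff, hta],
    by rw [mem_stabilizer_iff, mul_smul, hwb, inv_smul_eq_iff, htb]⟩

include hZ hab in
/-- With an odd two-point stabiliser two points are swapped by an involution. -/
theorem exists_swap (hodd : Odd (Nat.card (stabilizer G a ⊓ stabilizer G b : Subgroup G))) :
    ∃ t : G, orderOf t = 2 ∧ t • a = b ∧ t • b = a := by
  obtain ⟨w, hwa, hwb⟩ := exists_map hZ hab (Ne.symm hab)
  set E : Subgroup G := stabilizer G a ⊓ stabilizer G b with hE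
  have hw2 : w * w ∈ E := Subgroup.mem_inf.mpr
    ⟨by rw [mem_stabilizer_iff, mul_smul, hwa, hwb], by rw [mem_stabilizer_iff, mul_smul, hwb, hwa]⟩
  obtain ⟨k, hk⟩ := hodd
  set t := w ^ Nat.card E with ht
  have hsq : t * t = 1 := by
    rw [ht, ← pow_add, ← two_mul, pow_mul, pow_two]
    exact congrArg Subtype.val (pow_card_eq_one' (x := (⟨w * w, hw2⟩ : E)))
  have hswap : ∀ j : ℕ, w ^ (2 * j + 1) • a = b ∧ w ^ (2 * j + 1) • b = a := by
    intro j
    induction j with
    | zero => simp [hwa, hwb]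
    | succ j ih =>
      rw [show 2 * (j + 1) + 1 = 1 + 1 + (2 * j + 1) by ring, pow_add, pow_add, pow_one]
      simp [mul_smul, ih.1, ih.2, hwa, hwb]
  obtain ⟨hta, htb⟩ : t • a = b ∧ t • b = a := by rw [ht, hk]; exact hswap k
  refine ⟨t, orderOf_eq_prime (by rw [pow_two, hsq]) ?_, hta, htb⟩
  intro h1
  rw [h1, one_smul] at hta
  exact hab hta

omit [Fintype Ω] in
include hZ in
/-- An involution fixes at most one point. -/
theorem fix_unique_of_involution
    (hodd : Odd (Nat.card (stabilizer G a ⊓ stabilizer G b : Subgroup G))) (hab : a ≠ b) {x : G}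
    (hx : orderOf x = 2) {c d : Ω} (hc : x • c = c) (hd : x • d = d) : c = d := by
  by_contra h
  obtain ⟨g, hg1, hg2⟩ := exists_map hZ h hab
  have hmem : g * x * g⁻¹ ∈ (stabilizer G a ⊓ stabilizer G b : Subgroup G) :=
    Subgroup.mem_inf.mpr ⟨by rw [mem_stabilizer_iff, ← hg1, mul_smul, inv_smul_smul, mul_smul, hc],
      by rw [mem_stabilizer_iff, ← hg2, mul_smul, inv_smul_smul, mul_smul, hd]⟩
  have h1 := Subgroup.orderOf_dvd_natCard _ hmem
  rw [← MulAut.conj_apply, MulEquiv.orderOf_eq, hx] at h1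
  exact (Nat.not_even_iff_odd.mpr hodd) (even_iff_two_dvd.mpr h1)

include hZ hab in
/-- The subgroup of the point stabiliser fixing no further point. -/
theorem exists_kernel : ∃ H : Subgroup G, H ≤ stabilizer G a ∧ Nat.card H + 1 = Fintype.card Ω ∧
    ∀ u ∈ H, u ≠ 1 → ∀ c : Ω, u • c = c → c = a := by
  classical
  let B := stabilizer G a
  let X := {c : Ω // c ≠ a}
  letI : MulAction B X :=
    { smul := fun g c => ⟨(g : G) • c.1, fun e => c.2 (smul_left_cancel (g : G)
        (e.trans (mem_stabilizer_iff.mp g.2).symm))⟩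
      one_smul := fun c => Subtype.ext (one_smul G c.1)
      mul_smul := fun g k c => Subtype.ext (mul_smul (g : G) (k : G) c.1) }
  have hn := three_le_points hZ hab
  have hX : Fintype.card X + 1 = Fintype.card Ω := by
    simp only [X, Fintype.card_subtype_compl, Fintype.card_subtype_eq]
    omega
  have htrans : ∀ c d : X, ∃ g : B, g • c = d := fun c d => by
    obtain ⟨g, hg1, hg2⟩ := exists_map hZ (Ne.symm c.2) (Ne.symm d.2)
    exact ⟨⟨g, hg1⟩, Subtype.ext hg2⟩
  have hfix : ∀ g : B, g ≠ 1 → ∀ c d : X, g • c = c → g • d = d → c = d := by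
    intro g hg c d hc hd
    by_contra h
    exact hg (Subtype.ext (eq_one_of_fix hZ (Ne.symm c.2) (fun e => h (Subtype.ext e))
      (Ne.symm d.2) (mem_stabilizer_iff.mp g.2) (congrArg Subtype.val hc) (congrArg Subtype.val hd)))
  obtain ⟨x, hx, hx1⟩ := exists_ne_one_fix hZ hab
  have hnreg : ∃ g : B, g ≠ 1 ∧ ∃ c : X, g • c = c :=
    ⟨⟨x, hx.1⟩, fun h => hx1 (congrArg Subtype.val h), ⟨b, Ne.symm hab⟩,
      Subtype.ext (mem_stabilizer_iff.mp hx.2)⟩
  obtain ⟨hF, hker⟩ := Cfsg.Agent.S4252.result (G := B) (Ω := X) (by omega) htrans hnreg hfix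
    ⟨b, Ne.symm hab⟩
  obtain ⟨N, hN, -, hc⟩ := CfsgLib.Solvable.frobenius_theorem hF
  refine ⟨N.map B.subtype, Subgroup.map_subtype_le _, ?_, ?_⟩
  · rw [Subgroup.card_map_of_injective B.subtype_injective]
    have : IsPretransitive B X := ⟨htrans⟩
    have h1 := hc.card_mul
    have h2 := (stabilizer B (⟨b, Ne.symm hab⟩ : X)).index_mul_card
    rw [MulAction.index_stabilizer_of_transitive, Nat.card_eq_fintype_card] at h2
    rw [← hX, Nat.eq_of_mul_eq_mul_right (Finite.card_pos) (h1.trans h2.symm)]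
  · rintro _ ⟨u, hu, rfl⟩ hu1 c hc'
    by_contra hca
    have h1 : u ∈ Cfsg.frobeniusKernel (stabilizer B (⟨b, Ne.symm hab⟩ : X)) := hN ▸ hu
    rw [hker] at h1
    rcases h1 with rfl | h1
    · exact hu1 rfl
    · exact h1 ⟨c, hca⟩ (Subtype.ext hc')

end Basic

section Kernel

variable (hZ : Cfsg.IsZassenhausGroup G Ω) {a b : Ω} (hab : a ≠ b) {H : Subgroup G}
  (hHa : H ≤ stabilizer G a) (hHcard : Nat.card H + 1 = Fintype.card Ω)
  (hHfix : ∀ u ∈ H, u ≠ 1 → ∀ c : Ω, u • c = c → c = a)

omit [Finite G] [Fintype Ω] in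
include hHfix hab in
theorem eq_one_of_smul_b {u : G} (hu : u ∈ H) (h : u • b = b) : u = 1 := by
  by_contra h1
  exact hab (hHfix u hu h1 b h).symm

include hZ hab hHa hHcard hHfix in
theorem bijective_smul : Function.Bijective
    (fun u : H => (⟨(u : G) • b, fun e => hab.symm (smul_left_cancel (u : G)
      (e.trans (mem_stabilizer_iff.mp (hHa u.2)).symm))⟩ : {c : Ω // c ≠ a})) := by
  classical
  have := Fintype.ofFinite H
  refine (Fintype.bijective_iff_injective_and_card _).mpr ⟨fun u v e => ?_, ?_⟩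
  · have e' : (u : G) • b = (v : G) • b := congrArg Subtype.val e
    have h1 : ((u : G)⁻¹ * v) • b = b := by rw [mul_smul, ← e', inv_smul_smul]
    exact Subtype.ext (inv_mul_eq_one.mp
      (eq_one_of_smul_b hab hHfix (H.mul_mem (H.inv_mem u.2) v.2) h1))
  · have := three_le_points hZ hab
    rw [Nat.card_eq_fintype_card] at hHcard
    rw [Fintype.card_subtype_compl, Fintype.card_subtype_eq]
    omega

include hZ hab hHa hHcard hHfix in
/-- The point stabiliser is the product of the kernel and the two-point stabiliser. -/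
theorem decompose {x : G} (hx : x ∈ stabilizer G a) :
    ∃ u ∈ H, ∃ y ∈ (stabilizer G a ⊓ stabilizer G b : Subgroup G), x = u * y := by
  have hxb : x • b ≠ a := fun e =>
    hab (smul_left_cancel x ((mem_stabilizer_iff.mp hx).trans e.symm))
  obtain ⟨u, hu⟩ := (bijective_smul hZ hab hHa hHcard hHfix).2 ⟨x • b, hxb⟩
  have hu' : (u : G) • b = x • b := congrArg Subtype.val hu
  refine ⟨u, u.2, (u : G)⁻¹ * x, Subgroup.mem_inf.mpr ⟨?_, ?_⟩, by group⟩
  · exact (stabilizer G a).mul_mem ((stabilizer G a).inv_mem (hHa u.2)) hx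
  · rw [mem_stabilizer_iff, mul_smul, ← hu', inv_smul_smul]

include hZ hab hHa hHcard hHfix in
theorem conj_mem_kernel {x u : G} (hx : x ∈ stabilizer G a) (hu : u ∈ H) : x * u * x⁻¹ ∈ H :=
  (Subgroup.mem_normalizer_iff.mp
    ((Cfsg.Agent.S0878.result hZ a H hHa hHcard hHfix).2.ge hx) u).mp hu

include hZ hab hHa hHfix in
theorem fpf : ∀ x ∈ (stabilizer G a ⊓ stabilizer G b : Subgroup G), x ≠ 1 →
    H ⊓ Subgroup.centralizer {x} = ⊥ := by
  intro x hx hx1
  rw [Subgroup.eq_bot_iff_forall]
  rintro u ⟨hu, hux⟩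
  by_contra hu1
  have h := Subgroup.mem_centralizer_singleton_iff.mp hux
  have hub : u • b ≠ b := fun e => hu1 (eq_one_of_smul_b hab hHfix hu e)
  have hua : u • b ≠ a := fun e => hab.symm (smul_left_cancel u
    (e.trans (mem_stabilizer_iff.mp (hHa hu)).symm))
  refine hx1 (eq_one_of_fix hZ hab (Ne.symm hub) (Ne.symm hua) (mem_stabilizer_iff.mp hx.1)
    (mem_stabilizer_iff.mp hx.2) ?_)
  rw [← mul_smul, ← h, mul_smul, mem_stabilizer_iff.mp hx.2]

include hZ hab hHa hHcard hHfix in
/-- An element of the stabiliser outside the kernel fixes a second point, reached from `b` by the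
kernel. -/
theorem exists_conj_mem {x : G} (hx : x ∈ stabilizer G a) (hxH : x ∉ H) :
    ∃ u ∈ H, ∃ y ∈ (stabilizer G a ⊓ stabilizer G b : Subgroup G), y ≠ 1 ∧ x = u * y * u⁻¹ := by
  classical
  set E : Subgroup G := stabilizer G a ⊓ stabilizer G b with hE
  have := Fintype.ofFinite H
  obtain ⟨v, hv, y, hy, rfl⟩ := decompose hZ hab hHa hHcard hHfix hx
  have hy1 : y ≠ 1 := fun e => hxH (by rw [e, mul_one]; exact hv)
  let f : H → H := fun u => ⟨(u : G) * (y * (u : G)⁻¹ * y⁻¹),
    H.mul_mem u.2 (conj_mem_kernel hZ hab hHa hHcard hHfix hy.1 (H.inv_mem u.2))⟩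
  have hf : Function.Injective f := by
    intro u w e
    have e' : (u : G) * (y * (u : G)⁻¹ * y⁻¹) = w * (y * (w : G)⁻¹ * y⁻¹) := congrArg Subtype.val e
    have h1 : (w : G)⁻¹ * u = y * ((w : G)⁻¹ * u) * y⁻¹ := by
      calc (w : G)⁻¹ * u = (w : G)⁻¹ * (u * (y * (u : G)⁻¹ * y⁻¹)) * (y * u * y⁻¹) := by group
        _ = y * ((w : G)⁻¹ * u) * y⁻¹ := by rw [e']; group
    have h2 : (w : G)⁻¹ * u = 1 := CfsgLib.Solvable.eq_one_of_fpf (A := E)
      (fpf hZ hab hHa hHfix) hy hy1 (H.mul_mem (H.inv_mem w.2) u.2) h1.symm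
    exact Subtype.ext (inv_mul_eq_one.mp h2).symm
  obtain ⟨u, hu⟩ := Finite.surjective_of_injective hf ⟨v, hv⟩
  refine ⟨u, u.2, y, hy, hy1, ?_⟩
  rw [← show (u : G) * (y * (u : G)⁻¹ * y⁻¹) = v from congrArg Subtype.val hu]
  group

omit [Fintype Ω] in
include hab hHfix in
theorem conj_injective [FaithfulSMul G Ω] {u v y z : G} (hu : u ∈ H) (hv : v ∈ H)
    (hy : y ∈ (stabilizer G a ⊓ stabilizer G b : Subgroup G))
    (huv : u * y * u⁻¹ = v * z * v⁻¹)
    (hz : ∀ c : Ω, z • c = c → c = a ∨ c = b) (hua : u • b ≠ a) (hva : v • a = a) :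
    u = v ∧ y = z := by
  have h1 : z • ((v⁻¹ * u) • b) = (v⁻¹ * u) • b := by
    rw [← mul_smul, show z * (v⁻¹ * u) = v⁻¹ * u * y by
      calc z * (v⁻¹ * u) = v⁻¹ * (v * z * v⁻¹) * u := by group
        _ = v⁻¹ * u * y := by rw [← huv]; group,
      mul_smul, mem_stabilizer_iff.mp hy.2]
  have h2 : v⁻¹ * u = 1 := by
    refine eq_one_of_smul_b hab hHfix (H.mul_mem (H.inv_mem hv) hu) ((hz _ h1).resolve_left ?_)
    rw [mul_smul, inv_smul_eq_iff, hva]
    exact hua
  obtain rfl := inv_mul_eq_one.mp h2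
  exact ⟨rfl, mul_left_cancel (mul_right_cancel huv)⟩

include hZ hab hHa hHcard hHfix in
/-- The homomorphism of the stabiliser onto the two-point stabiliser. -/
theorem exists_retraction : ∃ π : stabilizer G a →* (stabilizer G a ⊓ stabilizer G b : Subgroup G),
    (∀ (x : stabilizer G a) (hx : (x : G) ∈ (stabilizer G a ⊓ stabilizer G b : Subgroup G)),
      π x = ⟨x, hx⟩) ∧ ∀ x : stabilizer G a, (x : G) ∈ H → π x = 1 := by
  choose u hu y hy he using fun x : stabilizer G a => decompose hZ hab hHa hHcard hHfix x.2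
  have huniq : ∀ (x : stabilizer G a) (v z : G), v ∈ H →
      z ∈ (stabilizer G a ⊓ stabilizer G b : Subgroup G) → (x : G) = v * z → y x = z := by
    intro x v z hv hz hxvz
    have h1 : v⁻¹ * u x = z * (y x)⁻¹ := by
      calc v⁻¹ * u x = v⁻¹ * (u x * y x) * (y x)⁻¹ := by group
        _ = z * (y x)⁻¹ := by rw [← he x, hxvz]; group
    have hm : z * (y x)⁻¹ ∈ (stabilizer G a ⊓ stabilizer G b : Subgroup G) :=
      Subgroup.mul_mem _ hz (Subgroup.inv_mem _ (hy x))
    have h2 : z * (y x)⁻¹ = 1 :=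
      eq_one_of_smul_b hab hHfix (h1 ▸ H.mul_mem (H.inv_mem hv) (hu x)) hm.2
    exact (mul_inv_eq_one.mp h2).symm
  refine ⟨MonoidHom.mk' (fun x => ⟨y x, hy x⟩) fun x x' => Subtype.ext ?_,
    fun x hx => Subtype.ext (huniq x 1 x H.one_mem hx (one_mul _).symm),
    fun x hx => Subtype.ext (huniq x x 1 hx (Subgroup.one_mem _) (mul_one _).symm)⟩
  refine huniq (x * x') (u x * (y x * u x' * (y x)⁻¹)) _
    (H.mul_mem (hu x) (conj_mem_kernel hZ hab hHa hHcard hHfix (hy x).1 (hu x')))
    (Subgroup.mul_mem _ (hy x) (hy x')) ?_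
  rw [Subgroup.coe_mul, he x, he x']
  simp only [Subgroup.coe_mul]
  group

end Kernel

section Transfer

variable {A : Type*} [CommGroup A]

omit [Finite G] in
/-- The monomial transfer along a section. -/
theorem prod_section_indep (c₀ : Ω) (μ : stabilizer G c₀ →* A) {s s' : Ω → G}
    (hs : ∀ c, s c • c₀ = c) (hs' : ∀ c, s' c • c₀ = c) (g : G) :
    ∏ c : Ω, μ ⟨(s (g • c))⁻¹ * g * s c, by
        rw [mem_stabilizer_iff, mul_smul, mul_smul, hs, inv_smul_eq_iff, hs]⟩ =
      ∏ c : Ω, μ ⟨(s' (g • c))⁻¹ * g * s' c, by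
        rw [mem_stabilizer_iff, mul_smul, mul_smul, hs', inv_smul_eq_iff, hs']⟩ := by
  classical
  let δ : Ω → A := fun c => μ ⟨(s c)⁻¹ * s' c, by
    rw [mem_stabilizer_iff, mul_smul, hs', inv_smul_eq_iff, hs]⟩
  have key : ∀ c, μ ⟨(s' (g • c))⁻¹ * g * s' c, by
      rw [mem_stabilizer_iff, mul_smul, mul_smul, hs', inv_smul_eq_iff, hs']⟩ =
      (δ (g • c))⁻¹ * μ ⟨(s (g • c))⁻¹ * g * s c, by
        rw [mem_stabilizer_iff, mul_smul, mul_smul, hs, inv_smul_eq_iff, hs]⟩ * δ c := fun c => by
    simp only [δ, ← map_inv, ← map_mul]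
    congr 1
    refine Subtype.ext ?_
    show (s' (g • c))⁻¹ * g * s' c = ((s (g • c))⁻¹ * s' (g • c))⁻¹ *
      ((s (g • c))⁻¹ * g * s c) * ((s c)⁻¹ * s' c)
    group
  simp only [key, Finset.prod_mul_distrib, Finset.prod_inv_distrib]
  rw [Fintype.prod_equiv (MulAction.toPerm g) (fun c => δ (g • c)) δ fun c => rfl]
  rw [mul_comm ((∏ c, δ c)⁻¹), mul_assoc, inv_mul_cancel, mul_one]

omit [Finite G] in

/-- The monomial transfer of a simple non-abelian group vanishes. -/
theorem prod_section_eq_one [IsSimpleGroup G] (hnc : ∃ x y : G, x * y ≠ y * x) (c₀ : Ω)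
    (μ : stabilizer G c₀ →* A) {s : Ω → G} (hs : ∀ c, s c • c₀ = c) (g : G) :
    ∏ c : Ω, μ ⟨(s (g • c))⁻¹ * g * s c, by
        rw [mem_stabilizer_iff, mul_smul, mul_smul, hs, inv_smul_eq_iff, hs]⟩ = 1 := by
  classical
  let V : G →* A := MonoidHom.mk' (fun g => ∏ c : Ω, μ ⟨(s (g • c))⁻¹ * g * s c, by
      rw [mem_stabilizer_iff, mul_smul, mul_smul, hs, inv_smul_eq_iff, hs]⟩) fun g k => by
    rw [← Fintype.prod_equiv (MulAction.toPerm k)
      (fun c => μ ⟨(s (g • k • c))⁻¹ * g * s (k • c), by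
        rw [mem_stabilizer_iff, mul_smul, mul_smul, hs, inv_smul_eq_iff, hs]⟩)
      (fun c => μ ⟨(s (g • c))⁻¹ * g * s c, by
        rw [mem_stabilizer_iff, mul_smul, mul_smul, hs, inv_smul_eq_iff, hs]⟩) fun c => rfl,
      ← Finset.prod_mul_distrib]
    refine Finset.prod_congr rfl fun c _ => ?_
    rw [← map_mul]
    congr 1
    refine Subtype.ext ?_
    show (s ((g * k) • c))⁻¹ * (g * k) * s c =
      (s (g • k • c))⁻¹ * g * s (k • c) * ((s (k • c))⁻¹ * k * s c)
    rw [mul_smul]
    group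
  obtain ⟨x, y, hxy⟩ := hnc
  rcases (V.normal_ker).eq_bot_or_eq_top with h | h
  · refine absurd ((MonoidHom.ker_eq_bot_iff V).mp h ?_) hxy
    rw [map_mul, map_mul, mul_comm]
  · exact MonoidHom.mem_ker.mp (h.ge (Subgroup.mem_top g))

end Transfer

section Simple

variable [IsSimpleGroup G] (hZ : Cfsg.IsZassenhausGroup G Ω) {a b : Ω} (hab : a ≠ b)

omit [Finite G] [Fintype Ω] in
include hZ hab in
theorem not_comm : ∃ x y : G, x * y ≠ y * x := by
  by_contra h
  push Not at h
  obtain ⟨x, hx, hx1⟩ := exists_ne_one_fix hZ hab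
  have := isPretransitive hZ
  refine hx1 (hZ.1.eq_of_smul_eq_smul fun c => ?_)
  obtain ⟨g, rfl⟩ := MulAction.exists_smul_eq G a c
  rw [one_smul, ← mul_smul, h x g, mul_smul, mem_stabilizer_iff.mp hx.1]

include hZ hab in
/-- The value of a homomorphism of the stabiliser at an element and at its swap. -/
theorem map_mul_map_swap {A : Type*} [CommGroup A] (μ : stabilizer G a →* A) {t : G}
    (hta : t • a = b) (htb : t • b = a) {x : G}
    (hx : x ∈ (stabilizer G a ⊓ stabilizer G b : Subgroup G)) :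
    μ ⟨x, hx.1⟩ * μ ⟨t⁻¹ * x * t, by
      rw [mem_stabilizer_iff, mul_smul, mul_smul, hta, mem_stabilizer_iff.mp hx.2,
        inv_smul_eq_iff, hta]⟩ = 1 := by
  classical
  have hxa := mem_stabilizer_iff.mp hx.1
  have hxb := mem_stabilizer_iff.mp hx.2
  let Z := Subgroup.zpowers x
  let X : Type _ := {c : Ω // c ≠ a ∧ c ≠ b}
  have hZab : ∀ z ∈ Z, z • a = a ∧ z • b = b := fun z hz => by
    have : z ∈ (stabilizer G a ⊓ stabilizer G b : Subgroup G) := Subgroup.zpowers_le.mpr hx hz
    exact ⟨mem_stabilizer_iff.mp this.1, mem_stabilizer_iff.mp this.2⟩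
  letI : MulAction Z X :=
    { smul := fun z c => ⟨(z : G) • c.1,
        fun e => c.2.1 (smul_left_cancel (z : G) (e.trans (hZab z z.2).1.symm)),
        fun e => c.2.2 (smul_left_cancel (z : G) (e.trans (hZab z z.2).2.symm))⟩
      one_smul := fun c => Subtype.ext (one_smul G c.1)
      mul_smul := fun g k c => Subtype.ext (mul_smul (g : G) (k : G) c.1) }
  have hfree : ∀ (z w : Z) (c : X), z • c = w • c → z = w := by
    intro z w c e
    have e' : (z : G) • c.1 = (w : G) • c.1 := congrArg Subtype.val e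
    have h1 : ((w : G)⁻¹ * z) • c.1 = c.1 := by rw [mul_smul, e', inv_smul_smul]
    have hm := hZab _ (Z.mul_mem (Z.inv_mem w.2) z.2)
    exact Subtype.ext (inv_mul_eq_one.mp
      (eq_one_of_fix hZ hab (Ne.symm c.2.2) (Ne.symm c.2.1) hm.1 hm.2 h1)).symm
  let rep : X → X := fun c => (Quotient.mk (MulAction.orbitRel Z X) c).out
  have hrep : ∀ c : X, ∃ z : Z, z • rep c = c := fun c => by
    have h := MulAction.orbitRel_apply.mp (Quotient.mk_out (s := MulAction.orbitRel Z X) c)
    obtain ⟨z, hz⟩ := h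
    exact ⟨z⁻¹, by rw [inv_smul_eq_iff]; exact hz.symm⟩
  choose k hk using hrep
  have hrepx : ∀ (z : Z) (c : X), rep (z • c) = rep c := fun z c => by
    show Quotient.out _ = Quotient.out _
    rw [Quotient.sound (MulAction.orbitRel_apply.mpr ⟨z, rfl⟩ : (MulAction.orbitRel Z X) (z • c) c)]
  have := isPretransitive hZ
  choose s₀ hs₀ using fun c : Ω => MulAction.exists_smul_eq G a c
  let s : Ω → G := fun c =>
    if hca : c = a then 1 else if hcb : c = b then t else
      (k ⟨c, hca, hcb⟩ : G) * s₀ (rep ⟨c, hca, hcb⟩).1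
  have hsX : ∀ c : X, s c.1 = (k c : G) * s₀ (rep c).1 := fun c => by
    simp only [s, dif_neg c.2.1, dif_neg c.2.2]
    rfl
  have hs : ∀ c, s c • a = c := by
    intro c
    by_cases hca : c = a
    · simp [s, hca]
    · by_cases hcb : c = b
      · simp [s, hca, hcb, hab.symm, hta]
      · rw [hsX ⟨c, hca, hcb⟩, mul_smul, hs₀]
        exact congrArg Subtype.val (hk ⟨c, hca, hcb⟩)
  have hprod := prod_section_eq_one (not_comm hZ hab) a μ hs x
  rw [← Finset.prod_subset (Finset.subset_univ ({a, b} : Finset Ω)) (fun c _ hc => ?_),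
    Finset.prod_pair hab] at hprod
  · refine Eq.trans ?_ hprod
    congr 1 <;> congr 1 <;> refine Subtype.ext ?_
    · show x = (s (x • a))⁻¹ * x * s a
      simp [hxa, s]
    · show t⁻¹ * x * t = (s (x • b))⁻¹ * x * s b
      simp [hxb, s, hab.symm]
  · simp only [Finset.mem_insert, Finset.mem_singleton, not_or] at hc
    let z : Z := ⟨x, Subgroup.mem_zpowers x⟩
    let cX : X := ⟨c, hc.1, hc.2⟩
    have hk' : k (z • cX) = z * k cX := by
      refine hfree _ _ (rep cX) ?_
      rw [mul_smul, hk, ← hrepx z cX, hk]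
    have h1 : (⟨(s (x • c))⁻¹ * x * s c, by
        rw [mem_stabilizer_iff, mul_smul, mul_smul, hs, inv_smul_eq_iff, hs]⟩ : stabilizer G a) =
          1 := by
      refine Subtype.ext ?_
      show (s (z • cX).1)⁻¹ * x * s cX.1 = 1
      rw [hsX, hsX, hk', hrepx, Subgroup.coe_mul]
      show (x * (k cX : G) * s₀ (rep cX).1)⁻¹ * x * ((k cX : G) * s₀ (rep cX).1) = 1
      group
    rw [h1, map_one]

include hZ hab in
/-- A swapping involution inverts the two-point stabiliser, which is abelian. -/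
theorem swap_inverts (hodd : Odd (Nat.card (stabilizer G a ⊓ stabilizer G b : Subgroup G))) {t : G}
    (hta : t • a = b) (htb : t • b = a) :
    (∀ x ∈ (stabilizer G a ⊓ stabilizer G b : Subgroup G), t⁻¹ * x * t = x⁻¹) ∧
      ∀ x ∈ (stabilizer G a ⊓ stabilizer G b : Subgroup G),
        ∀ y ∈ (stabilizer G a ⊓ stabilizer G b : Subgroup G), x * y = y * x := by
  classical
  obtain ⟨H, hHa, hHcard, hHfix⟩ := exists_kernel hZ hab
  set E : Subgroup G := stabilizer G a ⊓ stabilizer G b with hE
  obtain ⟨π, hπ, -⟩ : ∃ π : stabilizer G a →* E,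
      (∀ (x : stabilizer G a) (hx : (x : G) ∈ E), π x = ⟨x, hx⟩) ∧
        ∀ x : stabilizer G a, (x : G) ∈ H → π x = 1 :=
    exists_retraction hZ hab hHa hHcard hHfix
  have hn := three_le_points hZ hab
  have hH : H ≠ ⊥ := fun h => by rw [h, Subgroup.card_bot] at hHcard; omega
  have hEH : E ≤ Subgroup.normalizer (H : Set G) :=
    inf_le_left.trans (Cfsg.Agent.S0878.result hZ a H hHa hHcard hHfix).2.ge
  have : IsZGroup E := by
    refine ⟨fun q hq P => ?_⟩
    have : Fact q.Prime := ⟨hq⟩
    have hP' : IsPGroup q ((P : Subgroup E).map E.subtype) := P.2.map _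
    rcases CfsgLib.Solvable.isCyclic_or_quaternion hP' (fun x y hx hy =>
      CfsgLib.Solvable.mem_zpowers_of_fpf_pGroup hH ((Subgroup.map_subtype_le _).trans hEH)
        (CfsgLib.Solvable.fpf_mono (Subgroup.map_subtype_le _) (fpf hZ hab hHa hHfix))
        hP' hx hy) with h | ⟨rfl, n, -⟩
    · exact isCyclic_of_surjective _
        ((P : Subgroup E).equivMapOfInjective _ E.subtype_injective).symm.surjective
    · have : Subsingleton P := (Nat.card_eq_one_iff_unique.1 (by
        rw [P.card_eq_multiplicity, Nat.factorization_eq_zero_of_not_dvd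
          (fun h => (Nat.not_even_iff_odd.mpr hodd) (even_iff_two_dvd.mpr h)), pow_zero])).1
      infer_instance
  have htE : ∀ x ∈ E, t⁻¹ * x * t ∈ E := fun x hx => Subgroup.mem_inf.mpr
    ⟨by rw [mem_stabilizer_iff, mul_smul, mul_smul, hta, mem_stabilizer_iff.mp hx.2,
        inv_smul_eq_iff, hta],
      by rw [mem_stabilizer_iff, mul_smul, mul_smul, htb, mem_stabilizer_iff.mp hx.1,
        inv_smul_eq_iff, htb]⟩
  let σ : E →* E := MonoidHom.mk' (fun x => ⟨t⁻¹ * x * t, htE x x.2⟩) fun x y =>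
    Subtype.ext (by simp [mul_assoc])
  -- inversion modulo the commutator subgroup
  have hmod : ∀ x : E, x * σ x ∈ commutator E := by
    intro x
    have h := map_mul_map_swap hZ hab (Abelianization.of.comp π) hta htb x.2
    rw [MonoidHom.comp_apply, MonoidHom.comp_apply, hπ _ x.2, hπ _ (htE x x.2), ← map_mul,
      ← MonoidHom.mem_ker, Abelianization.ker_of] at h
    exact h
  -- the commutator subgroup is central
  have : IsCyclic (commutator E) := IsZGroup.isCyclic_commutator E
  have hcent : commutator E ≤ Subgroup.center E := by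
    intro c hc
    rw [Subgroup.mem_center_iff]
    intro x
    let ρx : commutator E →* commutator E := MonoidHom.mk'
      (fun d => ⟨x * d * x⁻¹, (inferInstance : (commutator E).Normal).conj_mem d d.2 x⟩)
      fun d d' => Subtype.ext (by simp [mul_assoc])
    obtain ⟨m, hm⟩ := ρx.map_cyclic
    have hCcomm : ∀ d ∈ commutator E, ∀ d' ∈ commutator E, d * d' = d' * d := fun d hd d' hd' => by
      letI := IsCyclic.commGroup (α := commutator E)
      exact congrArg Subtype.val (mul_comm (⟨d, hd⟩ : commutator E) ⟨d', hd'⟩)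
    have hσC : ∀ d ∈ commutator E, σ d ∈ commutator E := fun d hd => by
      have h := hmod d
      exact (Subgroup.mul_mem_cancel_left _ hd).mp h
    have hpow : ∀ d (hd : d ∈ commutator E), x * d * x⁻¹ = d ^ m := fun d hd => by
      have := congrArg Subtype.val (hm ⟨d, hd⟩)
      simpa [ρx] using this
    obtain ⟨c', hc', rfl⟩ : ∃ c' ∈ commutator E, σ c' = c := by
      let σC : commutator E → commutator E := fun d => ⟨σ d, hσC d d.2⟩
      have hinj : Function.Injective σC := fun d d' e => by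
        have e1 : t⁻¹ * ((d : E) : G) * t = t⁻¹ * ((d' : E) : G) * t :=
          congrArg (fun z : commutator E => ((z : E) : G)) e
        exact Subtype.ext (Subtype.ext (mul_left_cancel (mul_right_cancel e1)))
      obtain ⟨d, hd⟩ := Finite.surjective_of_injective hinj ⟨c, hc⟩
      exact ⟨d, d.2, congrArg Subtype.val hd⟩
    set a' := x * σ x with ha'
    have e1 : σ x * σ c' * (σ x)⁻¹ = σ c' ^ m := by
      rw [← map_inv, ← map_mul, ← map_mul, hpow c' hc', map_zpow]
    have e2 : σ x * σ c' * (σ x)⁻¹ = x⁻¹ * σ c' * x := by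
      have hσx : σ x = x⁻¹ * a' := by rw [ha', inv_mul_cancel_left]
      rw [hσx, mul_inv_rev, inv_inv]
      calc x⁻¹ * a' * σ c' * (a'⁻¹ * x) = x⁻¹ * (a' * σ c' * a'⁻¹) * x := by group
        _ = x⁻¹ * σ c' * x := by
            rw [hCcomm _ (hmod x) _ (hσC c' hc'), mul_inv_cancel_right]
    have e3 : x * σ c' * x⁻¹ = x⁻¹ * σ c' * x := by rw [hpow _ (hσC c' hc'), ← e1, e2]
    have e4 : Commute (x ^ 2) (σ c') := by
      show x ^ 2 * σ c' = σ c' * x ^ 2
      calc x ^ 2 * σ c' = x * (x * σ c' * x⁻¹) * x := by rw [pow_two]; group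
        _ = σ c' * x ^ 2 := by rw [e3, pow_two]; group
    obtain ⟨j, hj⟩ : Odd (orderOf x) := hodd.of_dvd_nat (orderOf_dvd_natCard x)
    have e5 : x = (x ^ 2) ^ (j + 1) := by
      rw [← pow_mul, show 2 * (j + 1) = orderOf x + 1 by omega, pow_succ, pow_orderOf_eq_one,
        one_mul]
    have e6 := (e4.pow_left (j + 1)).eq
    rw [← e5] at e6
    exact e6
  have : Group.IsNilpotent E := by
    have : IsMulCommutative (E ⧸ Subgroup.center E) := ⟨⟨fun q r => by
      induction q using QuotientGroup.induction_on with | H x =>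
      induction r using QuotientGroup.induction_on with | H y =>
      rw [← QuotientGroup.mk_mul, ← QuotientGroup.mk_mul, QuotientGroup.eq]
      have h := hcent (Subgroup.commutator_mem_commutator (Subgroup.mem_top y⁻¹)
        (Subgroup.mem_top x⁻¹))
      simpa [commutatorElement_def, mul_assoc] using h⟩⟩
    refine Group.of_quotient_center_nilpotent ?_
    letI : CommGroup (E ⧸ Subgroup.center E) :=
      { (inferInstance : Group (E ⧸ Subgroup.center E)) with mul_comm := mul_comm' }
    exact CommGroup.isNilpotent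
  have hcomm : ∀ x y : E, x * y = y * x := fun x y => by
    letI := IsCyclic.commGroup (α := E)
    exact mul_comm x y
  refine ⟨fun x hx => ?_, fun x hx y hy => congrArg Subtype.val (hcomm ⟨x, hx⟩ ⟨y, hy⟩)⟩
  have h := hmod ⟨x, hx⟩
  rw [show commutator E = ⊥ from (Subgroup.commutator_eq_bot_iff_le_centralizer).mpr
    fun x _ => Subgroup.mem_centralizer_iff.mpr fun y _ => hcomm y x, Subgroup.mem_bot] at h
  exact eq_inv_of_mul_eq_one_right (congrArg Subtype.val h)

include hZ hab in
/-- All involutions are conjugate to a swapping one. -/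
theorem conj_swap (hodd : Odd (Nat.card (stabilizer G a ⊓ stabilizer G b : Subgroup G))) {t x : G}
    (hta : t • a = b) (htb : t • b = a) (hx : orderOf x = 2) : IsConj x t := by
  obtain ⟨c, hc⟩ : ∃ c : Ω, x • c ≠ c := by
    by_contra h
    push Not at h
    have : x = 1 := hZ.1.eq_of_smul_eq_smul fun c => by rw [one_smul, h c]
    rw [this, orderOf_one] at hx
    exact absurd hx (by norm_num)
  have hxx : x * x = 1 := by rw [← pow_two, ← hx, pow_orderOf_eq_one]
  obtain ⟨g, hg1, hg2⟩ := exists_map hZ (Ne.symm hc) hab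
  set w := g * x * g⁻¹ with hw
  have hwa : w • a = b := by rw [hw, ← hg1, mul_smul, inv_smul_smul, mul_smul, hg2]
  have hwb : w • b = a := by
    rw [hw, ← hg2, mul_smul, inv_smul_smul, mul_smul, ← mul_smul x x, hxx, one_smul, hg1]
  obtain ⟨hinv, -⟩ := swap_inverts hZ hab hodd hta htb
  set y := t⁻¹ * w with hy
  have hyE : y ∈ (stabilizer G a ⊓ stabilizer G b : Subgroup G) := swap_mul_mem hab hta htb hwa hwb
  obtain ⟨j, hj⟩ : Odd (orderOf y) := hodd.of_dvd_nat (Subgroup.orderOf_dvd_natCard _ hyE)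
  set r := y ^ (j + 1) with hr
  have hr2 : r * r = y := by
    rw [hr, ← pow_add, show j + 1 + (j + 1) = orderOf y + 1 by omega, pow_succ, pow_orderOf_eq_one,
      one_mul]
  have h1 : t⁻¹ * r⁻¹ * t = r := by rw [hinv _ (Subgroup.inv_mem _ (Subgroup.pow_mem _ hyE _)), inv_inv]
  have hwt : IsConj t w := isConj_iff.mpr ⟨r⁻¹, by
    calc r⁻¹ * t * r⁻¹⁻¹ = t * (t⁻¹ * r⁻¹ * t) * r := by group
      _ = w := by rw [h1, mul_assoc, hr2, hy, mul_inv_cancel_left]⟩
  exact (isConj_iff.mpr ⟨g, rfl⟩).trans hwt.symm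

include hZ hab in
/-- Every element swapping the two points is an involution. -/
theorem swap_involution (hodd : Odd (Nat.card (stabilizer G a ⊓ stabilizer G b : Subgroup G))) {w : G}
    (hwa : w • a = b) (hwb : w • b = a) : orderOf w = 2 := by
  obtain ⟨t, ht, hta, htb⟩ := exists_swap hZ hab hodd
  obtain ⟨hinv, -⟩ := swap_inverts hZ hab hodd hta htb
  have hyE := swap_mul_mem hab hta htb hwa hwb
  have ht' : t * t = 1 := by rw [← pow_two, ← ht, pow_orderOf_eq_one]
  refine orderOf_eq_prime ?_ fun h => hab (by rw [h, one_smul] at hwa; exact hwa)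
  have h := hinv _ hyE
  rw [mul_inv_rev, inv_inv] at h
  calc w ^ 2 = t * t * (t⁻¹ * (t⁻¹ * w) * t * (t⁻¹ * w)) := by rw [pow_two]; group
    _ = w⁻¹ * t * (t⁻¹ * w) := by rw [ht', one_mul, h]
    _ = 1 := by group

include hZ hab in
/-- Counting the pairs (involution, moved point). -/
theorem card_involution_moved [DecidableEq G] [DecidableEq Ω] [Fintype G]
    (hodd : Odd (Nat.card (stabilizer G a ⊓ stabilizer G b : Subgroup G))) :
    ∑ x ∈ Finset.univ.filter (fun x : G => orderOf x = 2),
        (Finset.univ.filter fun c : Ω => x • c ≠ c).card =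
      Fintype.card Ω * (Fintype.card Ω - 1) *
        Nat.card (stabilizer G a ⊓ stabilizer G b : Subgroup G) := by
  classical
  simp only [Finset.card_filter]
  rw [Finset.sum_comm]
  simp only [← Finset.card_filter, Finset.filter_filter]
  have key : ∀ c : Ω, (Finset.univ.filter fun x : G => orderOf x = 2 ∧ x • c ≠ c).card =
      (Fintype.card Ω - 1) * Nat.card (stabilizer G a ⊓ stabilizer G b : Subgroup G) := by
    intro c
    rw [Finset.card_eq_sum_card_fiberwise (f := fun x => x • c) (t := Finset.univ.erase c)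
      (fun x hx => by
        simp only [Finset.coe_filter, Finset.mem_univ, true_and, Set.mem_setOf_eq] at hx
        simp [hx.2])]
    rw [Finset.sum_congr rfl
      (g := fun _ => Nat.card (stabilizer G a ⊓ stabilizer G b : Subgroup G)) fun d hd => ?_,
      Finset.sum_const, Finset.card_erase_of_mem (Finset.mem_univ _), Finset.card_univ, smul_eq_mul]
    have hdc : d ≠ c := Finset.ne_of_mem_erase hd
    obtain ⟨g, hg1, hg2⟩ := exists_map hZ hab (Ne.symm hdc)
    obtain ⟨t, ht, hta, htb⟩ := exists_swap hZ hab hodd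
    rw [← Fintype.card_coe, ← Nat.card_eq_fintype_card]
    refine (Nat.card_congr (Equiv.ofBijective
      (fun y : (stabilizer G a ⊓ stabilizer G b : Subgroup G) =>
        (⟨g * (t * y) * g⁻¹, ?_⟩ : {x // x ∈ _})) ⟨fun y z e => ?_, fun x => ?_⟩)).symm
    · have hwa : (t * (y : G)) • a = b := by rw [mul_smul, mem_stabilizer_iff.mp y.2.1, hta]
      have hwb : (t * (y : G)) • b = a := by rw [mul_smul, mem_stabilizer_iff.mp y.2.2, htb]
      simp only [Finset.mem_filter, Finset.mem_univ, true_and]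
      have hmv : (g * (t * (y : G)) * g⁻¹) • c = d := by
        rw [← hg1, mul_smul, inv_smul_smul, mul_smul, hwa, hg2]
      refine ⟨⟨?_, by rw [hmv]; exact hdc⟩, hmv⟩
      rw [← MulAut.conj_apply, MulEquiv.orderOf_eq]
      exact swap_involution hZ hab hodd hwa hwb
    · exact Subtype.ext (mul_left_cancel (mul_left_cancel (mul_right_cancel
        (congrArg Subtype.val e))))
    · obtain ⟨x, hx⟩ := x
      simp only [Finset.mem_filter, Finset.mem_univ, true_and] at hx
      obtain ⟨⟨hx2, -⟩, hxd⟩ := hx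
      have hxx : x * x = 1 := by rw [← pow_two, ← hx2, pow_orderOf_eq_one]
      have hxdc : x • d = c := by rw [← hxd, ← mul_smul, hxx, one_smul]
      refine ⟨⟨t⁻¹ * (g⁻¹ * x * g), swap_mul_mem hab hta htb
        (by rw [mul_smul, mul_smul, hg1, hxd, inv_smul_eq_iff, hg2])
        (by rw [mul_smul, mul_smul, hg2, hxdc, inv_smul_eq_iff, hg1])⟩, Subtype.ext ?_⟩
      show g * (t * (t⁻¹ * (g⁻¹ * x * g))) * g⁻¹ = x
      group
  rw [Finset.sum_congr rfl fun c _ => key c, Finset.sum_const, Finset.card_univ, smul_eq_mul,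
    mul_assoc]

include hZ hab in
/-- The number of involutions and the fixed points of an involution. -/
theorem card_involution {h e : ℕ} (hh : Fintype.card Ω = h + 1)
    (he : Nat.card (stabilizer G a ⊓ stabilizer G b : Subgroup G) = e) (hodd : Odd e) :
    Nat.card {x : G // orderOf x = 2} = (if Even h then e * (h + 1) else e * h) ∧
      ∀ x : G, orderOf x = 2 →
        Nat.card {c : Ω // x • c = c} = (if Even h then 1 else 0) := by
  classical
  have := Fintype.ofFinite G
  subst he
  obtain ⟨t, ht, hta, htb⟩ := exists_swap hZ hab hodd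
  have hfix : ∀ x : G, orderOf x = 2 →
      (Finset.univ.filter fun c : Ω => x • c ≠ c).card = if Even h then h else h + 1 := by
    intro x hx
    set F := (Finset.univ.filter fun c : Ω => x • c = c).card
    set M := (Finset.univ.filter fun c : Ω => x • c ≠ c).card with hM
    have hle : F ≤ 1 := Finset.card_le_one.mpr fun c hc d hd => by
      simp only [Finset.mem_filter, Finset.mem_univ, true_and] at hc hd
      exact fix_unique_of_involution hZ hodd hab hx hc hd
    have hFM : F + M = h + 1 := by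
      rw [Finset.card_filter_add_card_filter_not, Finset.card_univ, hh]
    have heven : Even M := by
      have hxx : x * x = 1 := by rw [← pow_two, ← hx, pow_orderOf_eq_one]
      have hcongr := (IsPGroup.of_card (G := Subgroup.zpowers x) (p := 2) (n := 1)
        (by rw [Nat.card_zpowers, hx, pow_one])).card_modEq_card_fixedPoints Ω
      have hFP : Nat.card (MulAction.fixedPoints (Subgroup.zpowers x) Ω) = F := by
        show _ = (Finset.univ.filter fun c : Ω => x • c = c).card
        rw [← Fintype.card_subtype, ← Nat.card_eq_fintype_card]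
        refine Nat.card_congr (Equiv.subtypeEquivRight fun c => ?_)
        exact ⟨fun hc => hc ⟨x, Subgroup.mem_zpowers x⟩, fun hc z => by
          have : (z : G) ∈ stabilizer G c := Subgroup.zpowers_le.mpr hc z.2
          exact this⟩
      rw [hFP, Nat.card_eq_fintype_card, hh, ← hFM] at hcongr
      rw [Nat.even_iff]
      have := hcongr
      unfold Nat.ModEq at this
      omega
    rw [Nat.even_iff] at heven
    by_cases hev : Even h
    · rw [if_pos hev]; rw [Nat.even_iff] at hev; omega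
    · rw [if_neg hev]; rw [Nat.even_iff] at hev; omega
  constructor
  · have hsum := card_involution_moved hZ hab hodd
    rw [Finset.sum_congr rfl fun x hx => hfix x (Finset.mem_filter.mp hx).2, Finset.sum_const,
      smul_eq_mul, hh, Nat.add_sub_cancel] at hsum
    have h0 : 0 < h := by have := three_le_points hZ hab; omega
    rw [Nat.card_eq_fintype_card, Fintype.card_subtype]
    split_ifs with hev
    · rw [if_pos hev] at hsum
      exact Nat.eq_of_mul_eq_mul_right h0 (hsum.trans (by ring))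
    · rw [if_neg hev] at hsum
      exact Nat.eq_of_mul_eq_mul_right (Nat.succ_pos h) (hsum.trans (by rw [Nat.succ_eq_add_one]; ring))
  · intro x hx
    have h1 := hfix x hx
    rw [Nat.card_eq_fintype_card, Fintype.card_subtype]
    have h2 := Finset.card_filter_add_card_filter_not (s := (Finset.univ : Finset Ω))
      (p := fun c : Ω => x • c = c)
    rw [Finset.card_univ, hh] at h2
    change _ + (Finset.univ.filter fun c : Ω => x • c ≠ c).card = _ at h2
    split_ifs with hev
    · rw [if_pos hev] at h1; omega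
    · rw [if_neg hev] at h1; omega

end Simple

end CfsgLib.Char.Zassenhaus
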